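import Cfsg.Agent.M12Uniq.CharsTens

/-!
# A character of degree 11, and the degrees modulo 11
-/

set_option autoImplicit false
set_option linter.unusedSectionVars false

namespace Cfsg.Agent.M12Uniq

open Subgroup
open Cfsg.Agent.SmallGroups
open Cfsg.Agent.SmallGroups.SelfCent.Setup (deg deg_spec triv deg_triv)

universe u

theorem charDegree_eq_deg {G : Type u} [Group G] [Fintype G] (χ : Cfsg.IrrCharacter G) :
    Cfsg.charDegree (χ : G → ℂ) = deg χ := by
  rw [Cfsg.charDegree, (deg_spec χ).2.2]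
  simp

private theorem z_block : ∀ a ∈ ([-2, 2] : List ℤ), ∀ c ∈ ([-3, 1, 5] : List ℤ),
    ∀ f ∈ ([-8, 0, 8] : List ℤ), ∀ e ∈ ([-4, 0, 4] : List ℤ),
    1 - a + c - f + 0 - e = 0 →
    720 - 72 * a ^ 2 + 16 * c ^ 2 - 6 * f ^ 2 + 5 * 0 ^ 2 - 12 * e ^ 2 = 0 →
      a = 2 ∧ c = -3 ∧ f = -8 ∧ e = 4 := by
  decide +kernel

section

variable {G : Type u} [Group G] [Fintype G]

theorem degree_mod_of_block (B : Block G) (χ : Cfsg.IrrCharacter G) :
    deg χ % 11 ∈ ({0, 1, 5, 6, 10} : Finset ℕ) := by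
  by_cases h : χ ∈ triv :: B.f₁ :: B.f₂ :: B.cs
  · simp only [List.mem_cons] at h
    rcases h with rfl | rfl | rfl | h
    · rw [deg_triv]; decide
    · rw [B.deg_f₁, B.exc_mod]; split_ifs <;> decide
    · rw [B.deg_f₂, B.exc_mod]; split_ifs <;> decide
    · have := B.small _ (List.mem_map_of_mem h)
      simp only [smallDegs, List.mem_cons, List.not_mem_nil, or_false] at this
      rcases this with e | e | e | e | e | e | e <;> rw [e] <;> decide
  · rw [Nat.mod_eq_zero_of_dvd (B.outside χ h)]; decide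

set_option maxHeartbeats 4000000 in
theorem exists_deg_eleven (hc : Counts G) (e : EData G) (B : Block G) :
    ∃ χ : Cfsg.IrrCharacter G, deg χ = 11 := by
  classical
  by_contra hno
  push_neg at hno
  obtain ⟨q, vq, hq, hvq, hqv, hqn, hqd⟩ := exists_q hc
  obtain ⟨x, vx, vz, hx, hxC, hvx, hvz, hxv, hzv, hzb, hxn, hxd, hzn, hxz⟩ := exists_xz hc e
  have ho11 : ∀ {g : G} {n : ℕ}, orderOf g = n → n ≠ 11 → orderOf g ≠ 11 :=
    fun h hn h' => hn (h.symm.trans h')
  obtain ⟨a, b, c, d, hcs⟩ : ∃ a b c d, B.cs = [a, b, c, d] :=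
    match h : B.cs, B.length_cs with
    | [a, b, c, d], _ => ⟨a, b, c, d, rfl⟩
  have hds : B.cs.map deg = [deg a, deg b, deg c, deg d] := by rw [hcs]; rfl
  have hnd := B.nodup
  rw [hcs] at hnd
  set L : Finset (Cfsg.IrrCharacter G) := [triv, B.f₁, B.f₂, a, b, c, d].toFinset with hL
  set rest := Finset.univ \ L with hrest
  have hsplit : ∀ A : Cfsg.IrrCharacter G → ℤ, ∑ χ, A χ =
      A triv + A B.f₁ + A B.f₂ + A a + A b + A c + A d + ∑ χ ∈ rest, A χ := by
    intro A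
    rw [← Finset.sum_sdiff (Finset.subset_univ L), hL, List.sum_toFinset A hnd]
    simp only [List.map_cons, List.map_nil, List.sum_cons, List.sum_nil]
    ring
  have hmemrest : ∀ χ ∈ rest, χ ∉ triv :: B.f₁ :: B.f₂ :: B.cs := fun χ hχ => by
    rw [hrest, hL, Finset.mem_sdiff, List.mem_toFinset] at hχ
    rw [hcs]
    exact hχ.2
  have htriv : vq triv = 1 ∧ vx triv = 1 ∧ vz triv = 1 := by
    refine ⟨?_, ?_, ?_⟩ <;>
      [have h := hvq triv; have h := hvx triv; have h := hvz triv] <;>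
      simp only [triv, Pi.one_apply] at h <;> exact_mod_cast h.symm
  have hf₂ : vq B.f₂ = vq B.f₁ ∧ vx B.f₂ = vx B.f₁ ∧ vz B.f₂ = vz B.f₁ := by
    refine ⟨?_, ?_, ?_⟩ <;> apply Int.cast_injective (α := ℂ)
    · rw [← hvq, ← hvq]; exact B.eq_f q (ho11 hq (by norm_num))
    · rw [← hvx, ← hvx]; exact B.eq_f x (ho11 hx (by norm_num))
    · rw [← hvz, ← hvz]; exact B.eq_f e.z (ho11 e.orderOf_z (by norm_num))
  have hne : ∀ χ, χ ∈ [B.f₁, B.f₂, a, b, c, d] → χ ≠ triv := fun χ hχ e' =>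
    (List.nodup_cons.mp hnd).1 (e' ▸ hχ)
  -- the block columns
  have hcol : ∀ {g : G} {v : Cfsg.IrrCharacter G → ℤ} {N : ℤ} {F : ℕ → List ℤ},
      orderOf g ≠ 11 → (∀ χ : Cfsg.IrrCharacter G, (χ : G → ℂ) g = v χ) → ∑ χ, v χ ^ 2 = N →
      (∀ χ, χ ≠ triv → v χ ∈ F (deg χ)) → v triv = 1 → v B.f₂ = v B.f₁ →
      [v B.f₁, v a, v b, v c, v d] ∈ blockSols F N (B.cs.map deg) := by
    intro g v N F hg hv hN hF h1 h2
    refine mem_blockSols ?_ ⟨?_, ?_⟩
    · rw [hds]
      refine List.Forall₂.cons ?_ (.cons ?_ (.cons ?_ (.cons ?_ (.cons ?_ .nil))))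
      · rw [← hds, ← B.deg_f₁]; exact hF _ (hne _ (by simp))
      all_goals exact hF _ (hne _ (by simp))
    · have h := hsplit fun χ => v χ ^ 2
      simp only [hN, h1, h2] at h
      have hpos : 0 ≤ ∑ χ ∈ rest, v χ ^ 2 := Finset.sum_nonneg fun χ _ => sq_nonneg _
      simp only [List.map_cons, List.map_nil, List.sum_cons, List.sum_nil]
      linarith
    · have h := B.rel g hg
      rw [hds] at h ⊢
      rw [hcs] at h
      simp only [List.map_cons, List.map_nil, List.sum_cons, List.sum_nil, hv] at h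
      simp only [List.zipWith_cons_cons, List.zipWith_nil_left, List.sum_cons, List.sum_nil]
      apply Int.cast_injective (α := ℂ)
      push_cast
      linear_combination h
  have hlq := hcol (ho11 hq (by norm_num)) hvq hqn (fun χ _ => hqv χ) htriv.1 hf₂.1
  have hlx := hcol (ho11 hx (by norm_num)) hvx hxn hxv htriv.2.1 hf₂.2.1
  have hsqdeg : ∑ χ : Cfsg.IrrCharacter G, (deg χ : ℤ) ^ 2 = 95040 := by
    have h := CharCore.sum_degree_sq (G := G)
    simp only [(deg_spec _).2.2, hc.card] at h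
    exact_mod_cast h
  have hnorm : 1 + 2 * excDeg (B.cs.map deg) ^ 2 +
      ((B.cs.map deg).map fun d => d ^ 2).sum ≤ 95040 := by
    have h := hsplit fun χ => (deg χ : ℤ) ^ 2
    simp only [hsqdeg, B.deg_f₁, B.deg_f₂, deg_triv] at h
    have hpos : 0 ≤ ∑ χ ∈ rest, (deg χ : ℤ) ^ 2 := Finset.sum_nonneg fun χ _ => sq_nonneg _
    rw [hds] at h ⊢
    simp only [List.map_cons, List.map_nil, List.sum_cons, List.sum_nil]
    push_cast at h
    zify
    linarith
  obtain ⟨cse, hcase, hdseq, hlq', hlx'⟩ := block_cases (by simp [B.length_cs]) B.sorted B.small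
    B.exc_mem B.exc_mod hnorm hlq hlx
  -- the characters outside the block
  have hk : ∀ χ ∈ rest, ∃ k, deg χ = 11 * k ∧ 2 ≤ k ∧ k ≤ 28 ∧ k ∣ 8640 := by
    intro χ hχ
    obtain ⟨k, hk⟩ := B.outside χ (hmemrest χ hχ)
    have hpos := (deg_spec χ).1
    have hdvd : deg χ ∣ 95040 := hc.card ▸ (deg_spec χ).2.1
    have hle : (deg χ : ℤ) ^ 2 ≤ 95040 := hsqdeg ▸
      Finset.single_le_sum (f := fun y => (deg y : ℤ) ^ 2) (fun y _ => sq_nonneg _)
        (Finset.mem_univ χ)
    refine ⟨k, hk, ?_, ?_, ?_⟩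
    · have := hno χ
      omega
    · by_contra h
      have : (319 : ℤ) ≤ deg χ := by omega
      nlinarith
    · rw [hk, show (95040 : ℕ) = 11 * 8640 by norm_num] at hdvd
      exact Nat.dvd_of_mul_dvd_mul_left (by norm_num) hdvd
  choose! k hkd hk2 hk28 hk8 using hk
  set item : Cfsg.IrrCharacter G → Item := fun χ => (k χ, vq χ, vx χ) with hitem
  set M : Multiset Item := rest.val.map item with hM
  have hrne : ∀ χ ∈ rest, χ ≠ triv := fun χ hχ e' =>
    hmemrest χ hχ (List.mem_cons.mpr (Or.inl e'))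
  have hMitems : ∀ t ∈ M, t ∈ items := by
    intro t ht
    obtain ⟨χ, hχ, rfl⟩ := Multiset.mem_map.mp ht
    have hχ' : χ ∈ rest := hχ
    exact mem_items (hk2 χ hχ') (hk28 χ hχ') (hk8 χ hχ') (hkd χ hχ' ▸ hqv χ)
      (hkd χ hχ' ▸ hxv χ (hrne χ hχ'))
  have hM8 : 8 ≤ M.card := by
    rw [hM, Multiset.card_map, ← Finset.card_def, hrest, Finset.card_sdiff_of_subset
      (Finset.subset_univ _), Finset.card_univ]
    have := fifteen_le hc e
    have : L.card ≤ 7 := (List.toFinset_card_of_nodup hnd).le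
    omega
  have hisum : ∀ {α : Type} [AddCommMonoid α] (F : Item → α),
      isum F M = ∑ χ ∈ rest, F (item χ) := fun F => by
    rw [isum, hM, Multiset.map_map]; rfl
  have s1 : ((isum (fun t => t.1 * t.1) M : ℕ) : ℤ) * 121 = ∑ χ ∈ rest, (deg χ : ℤ) ^ 2 := by
    rw [hisum, Nat.cast_sum, Finset.sum_mul]
    refine Finset.sum_congr rfl fun χ hχ => ?_
    rw [hkd χ hχ]; simp only [hitem]; push_cast; ring
  have s2 : ((isum (fun t => t.2.1.natAbs * t.2.1.natAbs) M : ℕ) : ℤ) =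
      ∑ χ ∈ rest, vq χ ^ 2 := by
    rw [hisum, Nat.cast_sum]
    refine Finset.sum_congr rfl fun χ hχ => ?_
    simp only [hitem]
    rw [Nat.cast_mul, Int.natAbs_mul_self' , sq]
  have s3 : ((isum (fun t => t.2.2.natAbs * t.2.2.natAbs) M : ℕ) : ℤ) =
      ∑ χ ∈ rest, vx χ ^ 2 := by
    rw [hisum, Nat.cast_sum]
    refine Finset.sum_congr rfl fun χ hχ => ?_
    simp only [hitem]
    rw [Nat.cast_mul, Int.natAbs_mul_self' , sq]
  have s4 : isum (fun t => (t.1 : ℤ) * t.2.1) M * 11 = ∑ χ ∈ rest, (deg χ : ℤ) * vq χ := by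
    rw [hisum, Finset.sum_mul]
    refine Finset.sum_congr rfl fun χ hχ => ?_
    rw [hkd χ hχ]; simp only [hitem]; push_cast; ring
  have s5 : isum (fun t => (t.1 : ℤ) * t.2.2) M * 11 = ∑ χ ∈ rest, (deg χ : ℤ) * vx χ := by
    rw [hisum, Finset.sum_mul]
    refine Finset.sum_congr rfl fun χ hχ => ?_
    rw [hkd χ hχ]; simp only [hitem]; push_cast; ring
  have p1 := hsplit fun χ => (deg χ : ℤ) ^ 2
  have p2 := hsplit fun χ => vq χ ^ 2
  have p3 := hsplit fun χ => vx χ ^ 2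
  have p4 := hsplit fun χ => (deg χ : ℤ) * vq χ
  have p5 := hsplit fun χ => (deg χ : ℤ) * vx χ
  simp only [hsqdeg, hqn, hxn, hqd, hxd, htriv, hf₂, deg_triv, B.deg_f₁, B.deg_f₂,
    ← s1, ← s2, ← s3, ← s4, ← s5] at p1 p2 p3 p4 p5
  -- the six cases
  rw [hds] at p1 p4 p5 hdseq
  simp only [blockCases, List.mem_cons, List.not_mem_nil, or_false] at hcase
  rcases hcase with rfl | rfl | rfl | rfl | rfl | rfl <;>
    simp only [List.mem_cons, List.not_mem_nil, or_false, List.cons.injEq, and_true] at hdseq hlq' hlx'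
  all_goals obtain ⟨da, db, dc, dd⟩ := hdseq
  all_goals obtain ⟨qf, qa, qb, qc, qd⟩ := hlq'
  all_goals obtain ⟨xf, xa, xb, xc, xd⟩ := hlx'
  all_goals simp only [← da, ← db, ← dc, ← dd, qf, qa, qb, qc, qd, xf, xa, xb, xc, xd] at p1 p2 p3 p4 p5
  all_goals norm_num [excDeg, degSum, sgn] at p1 p2 p3 p4 p5
  · -- three tens
    refine false_of_three_tens hc hq (S := {a, b, c}) ?_ ?_
    · simp only [List.nodup_cons, List.mem_cons, not_or] at hnd
      rw [Finset.card_insert_of_notMem (by simp [hnd.2.2.2.1.1, hnd.2.2.2.1.2.1]),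
        Finset.card_pair hnd.2.2.2.2.1.1]
    · intro χ hχ
      simp only [Finset.mem_insert, Finset.mem_singleton] at hχ
      rcases hχ with rfl | rfl | rfl
      · exact ⟨da.symm, by rw [hvq, qa]; norm_num⟩
      · exact ⟨db.symm, by rw [hvq, qb]; norm_num⟩
      · exact ⟨dc.symm, by rw [hvq, qc]; norm_num⟩
  · exact no_rest hMitems hM8 (by
      simp only [sums, List.mem_cons, Prod.mk.injEq, List.not_mem_nil, or_false]; omega)
  · -- one of degree 55 with value 1
    have hb : sums M = (418, 8, 25, 13, -1) := by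
      simp only [sums, Prod.mk.injEq]; omega
    obtain ⟨χ₀, hχ₀, hχ₀'⟩ := Multiset.mem_map.mp (item55_mem hMitems hM8 hb)
    have hχ0 : χ₀ ∈ rest := hχ₀
    simp only [hitem, Prod.mk.injEq] at hχ₀'
    obtain ⟨hk5, -, hv5⟩ := hχ₀'
    have hne4 : ∀ χ, χ ∈ [B.f₁, a, b, c, d] → χ ≠ triv := fun χ hχ => hne χ (by
      simp only [List.mem_cons, List.not_mem_nil, or_false] at hχ ⊢; tauto)
    obtain ⟨a4, al, au, ad⟩ := hzv a (hne4 a (by simp))
    obtain ⟨c4, cl, cu, cd⟩ := hzv b (hne4 b (by simp))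
    obtain ⟨f4, fl, fu, fd⟩ := hzv c (hne4 c (by simp))
    obtain ⟨g4, gl, gu, gd⟩ := hzv d (hne4 d (by simp))
    obtain ⟨e4, el, eu, ed⟩ := hzv B.f₁ (hne4 B.f₁ (by simp))
    have ba := hzb a
    have bc := hzb b
    have be := hzb B.f₁
    have hde : (deg B.f₁ : ℤ) = 60 := by
      rw [B.deg_f₁, hds, ← da, ← db, ← dc, ← dd]
      norm_num [excDeg, degSum, sgn]
    simp only [← da, ← db, ← dc, ← dd, hde, xa, xb, xc, xd, xf] at a4 al au ad c4 cl cu cd f4 fl fu fd g4 gl gu gd e4 el eu ed ba bc be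
    push_cast at a4 al au ad c4 cl cu cd f4 fl fu fd g4 gl gu gd e4 el eu ed ba bc be
    have hsz : ∀ χ, vz χ ^ 2 ≤ 192 := fun χ => hzn ▸
      Finset.single_le_sum (f := fun y => vz y ^ 2) (fun y _ => sq_nonneg _) (Finset.mem_univ χ)
    have b14 : ∀ χ, -14 < vz χ ∧ vz χ < 14 := fun χ =>
      abs_lt_of_sq_lt_sq' (show vz χ ^ 2 < (14 : ℤ) ^ 2 by linarith [hsz χ]) (by norm_num)
    have hA : vz a = -2 ∨ vz a = 2 := by omega
    have hC : vz b = -3 ∨ vz b = 1 ∨ vz b = 5 := by omega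
    have hF : vz c = -8 ∨ vz c = 0 ∨ vz c = 8 := by have := b14 c; omega
    have hG : vz d = 0 := by have := b14 d; omega
    have hE : vz B.f₁ = -4 ∨ vz B.f₁ = 0 ∨ vz B.f₁ = 4 := by omega
    have hr1 := B.rel e.z (ho11 e.orderOf_z (by norm_num))
    have hr2 := B.rel_sq e.z e.orderOf_z
    rw [hds, hcs] at hr1 hr2
    have hdeC : (deg B.f₁ : ℂ) = 60 := by exact_mod_cast hde
    simp only [List.map_cons, List.map_nil, List.sum_cons, List.sum_nil, hvz, ← da, ← db, ← dc,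
      ← dd, hdeC] at hr1 hr2
    norm_num [excSign, degSum, sgn, hG] at hr1 hr2
    obtain ⟨va, vb, vc, vf⟩ := z_block (vz a) (by simp; omega) (vz b) (by simp; omega)
      (vz c) (by simp; omega) (vz B.f₁) (by simp; omega)
      (by apply Int.cast_injective (α := ℂ); push_cast; linear_combination hr1)
      (by apply Int.cast_injective (α := ℂ); push_cast; linear_combination 720 * hr2)
    have q1 := hsplit fun χ => vz χ ^ 2
    have q2 := hsplit fun χ => vx χ * vz χ
    simp only [hzn, hxz, htriv, hf₂, va, vb, vc, vf, hG, xa, xb, xc, xd, xf] at q1 q2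
    norm_num at q1 q2
    have h25 : ∑ χ ∈ rest, (5 * vz χ - 9 * vx χ) ^ 2 = 25 := by
      have hb3 : ((isum (fun t => t.2.2.natAbs * t.2.2.natAbs) M : ℕ) : ℤ) = 25 := by omega
      rw [hb3] at s3
      have : ∀ χ ∈ rest, (5 * vz χ - 9 * vx χ) ^ 2 =
          25 * vz χ ^ 2 - 90 * (vx χ * vz χ) + 81 * vx χ ^ 2 := fun χ _ => by ring
      rw [Finset.sum_congr rfl this, Finset.sum_add_distrib, Finset.sum_sub_distrib,
        ← Finset.mul_sum, ← Finset.mul_sum, ← Finset.mul_sum, ← s3]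
      linarith
    have h36 : 36 ≤ (5 * vz χ₀ - 9 * vx χ₀) ^ 2 := by
      obtain ⟨h4, -, -, -⟩ := hzv χ₀ (hrne χ₀ hχ0)
      rw [hkd χ₀ hχ0, hk5] at h4
      rw [hv5]
      rcases le_or_gt (vz χ₀) (-1) with h | h
      · nlinarith
      · have : 3 ≤ vz χ₀ := by omega
        nlinarith
    have := Finset.single_le_sum (f := fun χ => (5 * vz χ - 9 * vx χ) ^ 2)
      (fun χ _ => sq_nonneg _) hχ0
    linarith
  · exact no_rest hMitems hM8 (by
      simp only [sums, List.mem_cons, Prod.mk.injEq, List.not_mem_nil, or_false]; omega)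
  · -- three 45s and a 120
    obtain ⟨e4, el, eu, ed⟩ := hzv B.f₁ (hne B.f₁ (by simp))
    obtain ⟨f4, fl, fu, fd⟩ := hzv d (hne d (by simp))
    have hde : (deg B.f₁ : ℤ) = 16 := by
      rw [B.deg_f₁, hds, ← da, ← db, ← dc, ← dd]
      norm_num [excDeg, degSum, sgn]
    rw [hde] at e4 el eu ed
    rw [← dd] at f4 fd
    push_cast at f4 fd
    have he0 : vz B.f₁ = 0 := by omega
    have hd8 : (8 : ℤ) ∣ vz d := by omega
    have hd14 : -14 < vz d ∧ vz d < 14 := by
      have h1 : vz d ^ 2 ≤ 192 := hzn ▸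
        Finset.single_le_sum (f := fun y => vz y ^ 2) (fun y _ => sq_nonneg _) (Finset.mem_univ d)
      exact abs_lt_of_sq_lt_sq' (show vz d ^ 2 < (14 : ℤ) ^ 2 by linarith) (by norm_num)
    have hd64 : vz d ^ 2 ≤ 64 := by
      have : -8 ≤ vz d ∧ vz d ≤ 8 := by omega
      nlinarith
    have hr2 := B.rel_sq e.z e.orderOf_z
    rw [hds, hcs] at hr2
    simp only [List.map_cons, List.map_nil, List.sum_cons, List.sum_nil, hvz, ← da, ← db, ← dc,
      ← dd, he0] at hr2
    norm_num [excSign, degSum, sgn] at hr2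
    have : 360 + 8 * (vz a ^ 2 + vz b ^ 2 + vz c ^ 2) - 3 * vz d ^ 2 = (0 : ℤ) := by
      apply Int.cast_injective (α := ℂ)
      push_cast; linear_combination 360 * hr2
    nlinarith [sq_nonneg (vz a), sq_nonneg (vz b), sq_nonneg (vz c)]
  · exact no_rest hMitems hM8 (by
      simp only [sums, List.mem_cons, Prod.mk.injEq, List.not_mem_nil, or_false]; omega)

end

/-- The facts on characters used in the identification. -/
theorem charFacts {G : Type u} [Group G] [Finite G] (hc : Counts G) (e : EData G) :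
    CharFacts G := by
  have := Fintype.ofFinite G
  obtain ⟨B⟩ := exists_block hc
  refine ⟨?_, fun χ => ?_⟩
  · obtain ⟨χ, hχ⟩ := exists_deg_eleven hc e B
    exact ⟨χ, by rw [charDegree_eq_deg, hχ]⟩
  · rw [charDegree_eq_deg]
    exact degree_mod_of_block B χ

end Cfsg.Agent.M12Uniq
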