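import Cfsg.Agent.M12Uniq.Defs

/-!
# Intermediate data for deriving `Counts` (see `PLAN-Counts.md` in this folder)
-/

set_option autoImplicit false

namespace Cfsg.Agent.M12Uniq

open Subgroup

universe u

/-- The number of elements of order `n`. -/
noncomputable def sN (G : Type u) [Group G] (n : ℕ) : ℕ := Nat.card {g : G // orderOf g = n}

/-- What follows at once from the numbers of elements of each order. -/
structure Pre (G : Type u) [Group G] : Prop where
  card : Nat.card G = 95040
  simple : IsSimpleGroup G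
  spec : ∀ g : G, orderOf g ∈ ({1, 2, 3, 4, 5, 6, 8, 10, 11} : Finset ℕ)
  s2 : sN G 2 = 891
  s3 : sN G 3 = 4400
  s4 : sN G 4 = 5940 ∨ sN G 4 = 23760
  s48 : sN G 4 + sN G 8 = 29700
  s5 : sN G 5 = 9504
  s6 : sN G 6 = 23760
  s10 : sN G 10 = 9504
  s11 : sN G 11 = 17280
  sylow11 : ∀ P : Subgroup G, Nat.card P = 11 → Nat.card (normalizer (P : Set G)) = 55
  five : ∀ q : G, orderOf q = 5 → cC q = 10
  five_norm : ∀ Q : Subgroup G, Nat.card Q = 5 → Nat.card (normalizer (Q : Set G)) = 40

/-- The centralizers of the involutions commuting with elements of order five. -/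
structure UFacts (G : Type u) [Group G] : Prop where
  cC_u : ∀ q u : G, orderOf q = 5 → orderOf u = 2 → q * u = u * q → cC u = 240
  three : ∀ u x : G, orderOf u = 2 → cC u = 240 → orderOf x = 3 → u * x = x * u →
    Nat.card ↥(centralizer ({u} : Set G) ⊓ centralizer ({x} : Set G)) = 12
  four : ∀ u : G, orderOf u = 2 → cC u = 240 → ∃ g : G, orderOf g = 4 ∧ u * g = g * u

end Cfsg.Agent.M12Uniq
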