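import Mathlib
import Cfsg.Agent.M12Uniq.CountsDefs

/-!
# The involutions commuting with elements of order five (piece U of `PLAN-Counts.md`)
-/

set_option autoImplicit false
set_option linter.unusedSectionVars false

namespace Cfsg.Agent.M12Uniq.CU

open Subgroup MulAction

universe u

variable {G : Type u} [Group G] [Finite G]

theorem mem_cent {g a : G} : g ∈ centralizer ({a} : Set G) ↔ a * g = g * a := by
  simp [Subgroup.mem_centralizer_iff]

theorem mem_norm_conj {S : Subgroup G} {g : G} (hg : g ∈ normalizer (S : Set G)) {a : G}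
    (ha : a ∈ S) : g * a * g⁻¹ ∈ S :=
  (Subgroup.mem_normalizer_iff.mp hg a).mp ha

theorem conj_comm (g : G) {a b : G} (h : a * b = b * a) :
    (g * a * g⁻¹) * (g * b * g⁻¹) = (g * b * g⁻¹) * (g * a * g⁻¹) := by
  rw [show (g * a * g⁻¹) * (g * b * g⁻¹) = g * (a * b) * g⁻¹ by group, h]
  group

theorem orderOf_conj (g a : G) : orderOf (g * a * g⁻¹) = orderOf a :=
  (MulAut.conj g).orderOf_eq a

theorem mem_zpowers_of_mem_of_prime {p : ℕ} [Fact p.Prime] {q a : G} (hq : orderOf q = p)
    (ha : a ∈ zpowers q) (hne : a ≠ 1) : q ∈ zpowers a := by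
  have hle : zpowers a ≤ zpowers q := zpowers_le.mpr ha
  have hc : Nat.card (zpowers a) = p := by
    rw [Nat.card_zpowers]
    have h1 : orderOf a ∣ p := by
      have := Subgroup.card_dvd_of_le hle
      rwa [Nat.card_zpowers, Nat.card_zpowers, hq] at this
    rcases (Nat.dvd_prime Fact.out).mp h1 with h | h
    · exact absurd (orderOf_eq_one_iff.mp h) hne
    · exact h
  have := Subgroup.eq_of_le_of_card_ge hle (by rw [Nat.card_zpowers, hq, hc])
  rw [this]
  exact mem_zpowers q

theorem comm_of_mem_zpowers {a b t : G} (hb : b ∈ zpowers a) (h : a * t = t * a) :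
    b * t = t * b := by
  obtain ⟨k, rfl⟩ := Subgroup.mem_zpowers_iff.mp hb
  exact (Commute.zpow_left h k : _)

theorem zmod_five_ten : ∀ x : ZMod 5, x ^ 10 = 1 → x ^ 2 = 1 := by decide

theorem zmod_five_sq : ∀ x : ZMod 5, x * x = 1 → x = 1 ∨ x = -1 := by decide

theorem zmod_three_five : ∀ x : ZMod 3, x ^ 5 = 1 → x = 1 := by decide

theorem zmod_three_ne : ∀ x : ZMod 3, x ≠ 0 → x = 1 ∨ x = -1 := by decide

omit [Group G] [Finite G] in
theorem end_pow {α : Type*} (τ : Equiv.Perm α) (k : ℕ) :
    (show Function.End α from ⇑τ) ^ k = ⇑(τ ^ k) := by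
  induction k with
  | zero => rfl
  | succ k ih =>
    rw [pow_succ (show Function.End α from ⇑τ) k, ih, pow_succ]
    rfl

omit [Group G] [Finite G] in
theorem fac_one {p n : ℕ} (hp : p.Prime) (hdvd : p ∣ n) (h : ¬ p ^ 2 ∣ n) :
    n.factorization p = 1 := by
  have hn : n ≠ 0 := fun h0 => h (h0 ▸ dvd_zero _)
  have h1 : 1 ≤ n.factorization p := hp.factorization_pos_of_dvd hn hdvd
  by_contra hne
  exact h ((hp.pow_dvd_iff_le_factorization hn).mpr (by omega))

/-- A group with a subgroup of order `p` whose normalizer in it is known. -/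
theorem card_sylow_prime {p : ℕ} [hp : Fact p.Prime] (K P : Subgroup G) (hPK : P ≤ K)
    (hP : Nat.card P = p) (hK : ¬ p ^ 2 ∣ Nat.card K) :
    ∃ n : ℕ, Nat.card K = Nat.card ↥(normalizer (P : Set G) ⊓ K) * n ∧ n % p = 1 := by
  have hcard : Nat.card (P.subgroupOf K) = p := by
    rw [Nat.card_congr (Subgroup.subgroupOfEquivOfLe hPK).toEquiv, hP]
  have hfac : (Nat.card K).factorization p = 1 := by
    have hdvd : p ∣ Nat.card K := hP ▸ Subgroup.card_dvd_of_le hPK
    have h1 : 1 ≤ (Nat.card K).factorization p :=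
      hp.out.factorization_pos_of_dvd Nat.card_pos.ne' hdvd
    exact fac_one hp.out hdvd hK
  let S : Sylow p K := Sylow.ofCard (P.subgroupOf K) (by rw [hcard, hfac, pow_one])
  refine ⟨Nat.card (Sylow p K), ?_, ?_⟩
  · rw [Sylow.card_eq_index_normalizer S]
    have hN : Nat.card (normalizer ((S : Subgroup K) : Set K)) =
        Nat.card ↥(normalizer (P : Set G) ⊓ K) := by
      rw [show ((S : Subgroup K)) = P.subgroupOf K from Sylow.coe_ofCard _ _,
        ← subgroupOf_normalizer_eq hPK]
      rw [← Subgroup.inf_subgroupOf_right (normalizer (P : Set G)) K]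
      exact Nat.card_congr (Subgroup.subgroupOfEquivOfLe inf_le_right).toEquiv
    rw [← hN]
    exact (Subgroup.card_mul_index (normalizer ((S : Subgroup K) : Set K))).symm
  · have := card_sylow_modEq_one p K
    rw [Nat.ModEq, Nat.one_mod_eq_one.mpr hp.out.ne_one] at this
    exact this

section FiveU

variable {q u : G} (hp : Pre G) (hq : orderOf q = 5) (hu : orderOf u = 2) (hqu : q * u = u * q)

include hp hq hu hqu

theorem comm_unique {t : G} (ht : orderOf t = 2) (hqt : q * t = t * q) : t = u := by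
  have h10 : orderOf (q * u) = 10 := by
    rw [Commute.orderOf_mul_eq_mul_orderOf_of_coprime hqu (by rw [hq, hu]; decide), hq, hu]
  have hle : zpowers (q * u) ≤ centralizer ({q} : Set G) := by
    rw [zpowers_le, mem_cent]
    exact Commute.mul_right (Commute.refl q) hqu
  have heq : zpowers (q * u) = centralizer ({q} : Set G) := by
    refine Subgroup.eq_of_le_of_card_ge hle ?_
    rw [Nat.card_zpowers, h10]
    exact (hp.five q hq).le
  have htm : t ∈ zpowers (q * u) := by rw [heq, mem_cent, hqt]
  classical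
  obtain ⟨k, hk, rfl⟩ := Finset.mem_image.mp
    ((IsOfFinOrder.mem_zpowers_iff_mem_range_orderOf (isOfFinOrder_of_finite (q * u))).mp htm)
  rw [Finset.mem_range, h10] at hk
  have h5 : (q * u) ^ 5 = u := by
    have h1 : q ^ 5 = 1 := hq ▸ pow_orderOf_eq_one q
    have h2 : u ^ 2 = 1 := hu ▸ pow_orderOf_eq_one u
    rw [Commute.mul_pow hqu, h1, one_mul, show 5 = 2 * 2 + 1 by rfl, pow_succ, pow_mul, h2,
      one_pow, one_mul]
  have hd : (10 : ℕ) ∣ k * 2 := by
    rw [← h10]
    refine orderOf_dvd_of_pow_eq_one ?_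
    rw [pow_mul]
    exact ht ▸ pow_orderOf_eq_one _
  have hk' : k = 0 ∨ k = 5 := by omega
  rcases hk' with rfl | rfl
  · simp at ht
  · exact h5

theorem conj_u {g : G} (hg : g * q * g⁻¹ ∈ zpowers q) : g * u * g⁻¹ = u := by
  have : Fact (Nat.Prime 5) := ⟨by norm_num⟩
  refine comm_unique hp hq hu hqu (by rw [orderOf_conj, hu]) ?_
  have hne : g * q * g⁻¹ ≠ 1 := by
    intro h
    have := congrArg orderOf h
    rw [orderOf_conj, hq, orderOf_one] at this
    omega
  exact comm_of_mem_zpowers (mem_zpowers_of_mem_of_prime hq hg hne) (conj_comm g hqu)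

theorem norm_le : normalizer (zpowers q : Set G) ≤ centralizer ({u} : Set G) := fun g hg => by
  rw [mem_cent]
  have := conj_u hp hq hu hqu (mem_norm_conj hg (mem_zpowers q))
  rw [mul_inv_eq_iff_eq_mul] at this
  exact this.symm

theorem card_norm_inf {K : Subgroup G} (hK : normalizer (zpowers q : Set G) ≤ K) :
    ∃ n : ℕ, Nat.card K = 40 * n ∧ n % 5 = 1 := by
  have : Fact (Nat.Prime 5) := ⟨by norm_num⟩
  have h25 : ¬ 5 ^ 2 ∣ Nat.card K := fun h => by
    have := h.trans K.card_subgroup_dvd_card
    rw [hp.card] at this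
    norm_num at this
  obtain ⟨n, hn, hn'⟩ := card_sylow_prime K (zpowers q) (le_normalizer.trans hK)
    (by rw [Nat.card_zpowers, hq]) h25
  rw [inf_eq_left.mpr hK, hp.five_norm _ (by rw [Nat.card_zpowers, hq])] at hn
  exact ⟨n, hn, hn'⟩

theorem not_eleven : ¬ 11 ∣ Nat.card (centralizer ({u} : Set G)) := fun h => by
  have : Fact (Nat.Prime 11) := ⟨by norm_num⟩
  obtain ⟨⟨a, ha⟩, hord⟩ := exists_prime_orderOf_dvd_card' 11 h
  rw [Subgroup.orderOf_mk] at hord
  have hc : u * a = a * u := mem_cent.mp ha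
  have h22 : orderOf (u * a) = 22 := by
    rw [Commute.orderOf_mul_eq_mul_orderOf_of_coprime hc (by rw [hu, hord]; decide), hu, hord]
  have := hp.spec (u * a)
  rw [h22] at this
  simp at this

omit hq hqu in
theorem index_le : (centralizer ({u} : Set G)).index ≤ 891 := by
  rw [← hp.s2, Subgroup.index, sN]
  have hf : ∀ g h : G, g⁻¹ * h ∈ centralizer ({u} : Set G) → g * u * g⁻¹ = h * u * h⁻¹ := by
    intro g h hgh
    have hc := mem_cent.mp hgh
    calc g * u * g⁻¹ = g * (u * (g⁻¹ * h)) * h⁻¹ := by group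
      _ = g * ((g⁻¹ * h) * u) * h⁻¹ := by rw [hc]
      _ = h * u * h⁻¹ := by group
  refine Nat.card_le_card_of_injective
    (fun x : G ⧸ centralizer ({u} : Set G) =>
      (⟨Quotient.liftOn' x (fun g => g * u * g⁻¹)
        (fun g h hgh => hf g h (QuotientGroup.leftRel_apply.mp hgh)),
        Quotient.inductionOn' x fun g => by simpa using (orderOf_conj g u).trans hu⟩ :
          {g : G // orderOf g = 2})) ?_
  intro x y
  induction x using Quotient.inductionOn' with
  | h g =>
    induction y using Quotient.inductionOn' with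
    | h h =>
      intro hxy
      have e : g * u * g⁻¹ = h * u * h⁻¹ := congrArg Subtype.val hxy
      refine Quotient.sound' (QuotientGroup.leftRel_apply.mpr (mem_cent.mpr ?_))
      calc u * (g⁻¹ * h) = g⁻¹ * (g * u * g⁻¹) * h := by group
        _ = g⁻¹ * (h * u * h⁻¹) * h := by rw [e]
        _ = g⁻¹ * h * u := by group

theorem not_index_eleven : (centralizer ({u} : Set G)).index ≠ 11 := by
  intro h11
  classical
  set H := centralizer ({u} : Set G) with hH
  have : Fintype (G ⧸ H) := Fintype.ofFinite _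
  have := hp.simple
  set φ : G →* Equiv.Perm (G ⧸ H) := MulAction.toPermHom G (G ⧸ H) with hφ
  have hker : φ.ker = ⊥ := by
    rcases IsSimpleGroup.eq_bot_or_eq_top_of_normal φ.ker inferInstance with h | h
    · exact h
    · exfalso
      have hle : φ.ker ≤ H := by
        intro g hg
        have h1 : φ g ((1 : G) : G ⧸ H) = ((1 : G) : G ⧸ H) := by
          rw [show φ g = 1 from hg]; rfl
        simp only [hφ, MulAction.toPermHom_apply, MulAction.toPerm_apply,
          MulAction.Quotient.smul_coe, smul_eq_mul, mul_one, QuotientGroup.eq,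
          inv_one, one_mul] at h1
        simpa using h1
      rw [h, top_le_iff] at hle
      rw [hle, index_top] at h11
      omega
  have hinj : Function.Injective φ := (MonoidHom.ker_eq_bot_iff φ).mp hker
  have hsign : ∀ g : G, Equiv.Perm.sign (φ g) = 1 := by
    intro g
    have := hp.simple
    rcases IsSimpleGroup.eq_bot_or_eq_top_of_normal (Equiv.Perm.sign.comp φ).ker inferInstance
      with h | h
    · exfalso
      have hi := (MonoidHom.ker_eq_bot_iff _).mp h
      have := Nat.card_le_card_of_injective _ hi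
      rw [hp.card, Nat.card_eq_fintype_card, Fintype.card_units_int] at this
      omega
    · have : g ∈ (Equiv.Perm.sign.comp φ).ker := by rw [h]; exact mem_top g
      exact this
  set π := φ q with hπ
  set σ := φ u with hσ
  set o : G ⧸ H := ((1 : G) : G ⧸ H) with ho
  have hπfix : ∀ x, π x = x → x = o := by
    intro x
    induction x using QuotientGroup.induction_on with
    | _ g =>
      intro hx
      simp only [hπ, hφ, MulAction.toPermHom_apply, MulAction.toPerm_apply,
        MulAction.Quotient.smul_coe, smul_eq_mul, QuotientGroup.eq] at hx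
      rw [ho, QuotientGroup.eq, mul_one, inv_mem_iff, hH]
      have hcm : u * ((q * g)⁻¹ * g) = ((q * g)⁻¹ * g) * u := mem_cent.mp hx
      have hgu : g * u * g⁻¹ = u := by
        refine comm_unique hp hq hu hqu (by rw [orderOf_conj, hu]) ?_
        calc q * (g * u * g⁻¹) = q * g * (u * ((q * g)⁻¹ * g)) * g⁻¹ * q := by group
          _ = q * g * (((q * g)⁻¹ * g) * u) * g⁻¹ * q := by rw [hcm]
          _ = g * u * g⁻¹ * q := by group
      rw [mem_cent]
      rw [mul_inv_eq_iff_eq_mul] at hgu
      exact hgu.symm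
  have hσo : σ o = o := by
    simp only [hσ, hφ, ho, MulAction.toPermHom_apply, MulAction.toPerm_apply,
      MulAction.Quotient.smul_coe, smul_eq_mul, QuotientGroup.eq, mul_one]
    exact inv_mem (mem_cent.mpr rfl)
  have hπσ : Commute π σ := by
    rw [hπ, hσ]
    exact (Commute.map (hqu : Commute q u) φ)
  have hσ2 : orderOf σ = 2 := by rw [hσ, orderOf_injective φ hinj, hu]
  -- the support of `σ` is invariant under `π`
  have hinv : ∀ x, x ∈ σ.support ↔ π x ∈ σ.support := by
    intro x
    rw [Equiv.Perm.mem_support, Equiv.Perm.mem_support, not_iff_not]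
    have e : σ (π x) = π (σ x) := by
      rw [← Equiv.Perm.mul_apply, ← Equiv.Perm.mul_apply, hπσ.eq]
    rw [e]
    exact ⟨fun h => by rw [h], fun h => π.injective h⟩
  have h5 : 5 ∣ σ.support.card := by
    have : Fact (Nat.Prime 5) := ⟨by norm_num⟩
    let τ : Equiv.Perm {x // x ∈ σ.support} := π.subtypePerm (fun x => (hinv x).symm)
    have hτ : τ ^ 5 ^ 1 = 1 := by
      ext x
      have : π ^ 5 = 1 := by rw [hπ, ← map_pow, ← hq, pow_orderOf_eq_one, map_one]
      simp [τ, Equiv.Perm.subtypePerm_pow, this]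
    have := Equiv.Perm.card_fixedPoints_modEq (f := (⇑τ : Function.End _)) (p := 5) (n := 1)
      ((end_pow τ _).trans (congrArg DFunLike.coe hτ))
    rw [Fintype.card_coe] at this
    have h0 : Fintype.card (Function.fixedPoints (⇑τ : Function.End _)) = 0 := by
      rw [Fintype.card_eq_zero_iff]
      refine ⟨fun x => ?_⟩
      have hx : π x.1.1 = x.1.1 := congrArg Subtype.val x.2
      have := hπfix _ hx
      exact (Equiv.Perm.mem_support.mp x.1.2) (by rw [this, hσo])
    rw [h0] at this
    exact (Nat.modEq_zero_iff_dvd.mp this)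
  obtain ⟨n, hn⟩ := Equiv.Perm.cycleType_prime_order (σ := σ) (by rw [hσ2]; norm_num)
  rw [hσ2] at hn
  have hsum := σ.sum_cycleType
  rw [hn, Multiset.sum_replicate, smul_eq_mul] at hsum
  have hle : σ.support.card ≤ 10 := by
    have hsub : σ.support ⊆ Finset.univ.erase o := fun x hx => Finset.mem_erase.mpr
      ⟨fun h => Equiv.Perm.mem_support.mp hx (h ▸ hσo), Finset.mem_univ x⟩
    have := Finset.card_le_card hsub
    rw [Finset.card_erase_of_mem (Finset.mem_univ o), Finset.card_univ,
      ← Nat.card_eq_fintype_card] at this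
    rw [Subgroup.index] at h11
    omega
  have hn4 : n = 4 := by omega
  have hs := hsign u
  rw [← hσ, Equiv.Perm.sign_of_cycleType, hn, hn4] at hs
  revert hs
  decide

theorem cC_u_of (h1440 : cC u ≠ 1440) : cC u = 240 := by
  obtain ⟨n, hn, hn5⟩ := card_norm_inf hp hq hu hqu (norm_le hp hq hu hqu)
  have h11 := not_eleven hp hq hu hqu
  have hle := index_le hp hu
  have hne := not_index_eleven hp hq hu hqu
  have hmul := (centralizer ({u} : Set G)).card_mul_index
  rw [hp.card, hn] at hmul
  unfold cC at h1440 ⊢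
  rw [hn] at h11 h1440 ⊢
  set i := (centralizer ({u} : Set G)).index
  have hdvd : n ∣ 2376 := ⟨i, by nlinarith⟩
  have hnot : ¬ 11 ∣ n := fun h => h11 (dvd_mul_of_dvd_right h 40)
  have key : ∀ m ∈ Nat.divisors 2376, m % 5 = 1 → ¬ 11 ∣ m →
      m = 1 ∨ m = 6 ∨ m = 36 ∨ m = 216 := by decide +kernel
  rcases key n (Nat.mem_divisors.mpr ⟨hdvd, by norm_num⟩) hn5 hnot with rfl | rfl | rfl | rfl
  · omega
  · rfl
  · omega
  · omega

theorem exists_four : ∃ g : G, orderOf g = 4 ∧ u * g = g * u := by
  have : Fact (Nat.Prime 5) := ⟨by norm_num⟩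
  set Q := zpowers q with hQ
  set N := normalizer (Q : Set G) with hN
  -- an element of the normalizer squaring to neither `±1` on `Q`
  by_contra hno
  push Not at hno
  have hsub : N ≤ centralizer ({u} : Set G) := norm_le hp hq hu hqu
  have hsq : ∀ g ∈ N, g * g * q * (g * g)⁻¹ = q := by
    intro g hg
    have hspec := hp.spec g
    have hcu : u * g = g * u := mem_cent.mp (hsub hg)
    simp only [Finset.mem_insert, Finset.mem_singleton] at hspec
    have hd : orderOf g ∣ 40 := by
      rw [← hp.five_norm Q (by rw [hQ, Nat.card_zpowers, hq])]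
      exact (Subgroup.orderOf_dvd_natCard _ (x := g) hg)
    have h4 : orderOf g ≠ 4 := fun h => hno g h hcu
    have h8 : orderOf g ≠ 8 := fun h => by
      refine hno (g ^ 2) ?_ ?_
      · rw [orderOf_pow' g (by norm_num), h]; rfl
      · exact (Commute.pow_right hcu 2 : _)
    obtain ⟨i, hi⟩ := Subgroup.mem_zpowers_iff.mp (mem_norm_conj hg (mem_zpowers q))
    have h10 : orderOf g ∣ 10 := by
      rcases hspec with h | h | h | h | h | h | h | h | h <;> rw [h] at hd h4 h8 ⊢ <;>
        first | norm_num at hd h4 h8 ⊢ | omega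
    have hg10 : g ^ 10 = 1 := orderOf_dvd_iff_pow_eq_one.mp h10
    have hconj : ∀ k : ℕ, g ^ k * q * (g ^ k)⁻¹ = q ^ (i ^ k) := by
      intro k
      induction k with
      | zero => simp
      | succ k ih =>
        rw [pow_succ' g k, show g * g ^ k * q * (g * g ^ k)⁻¹ = g * (g ^ k * q * (g ^ k)⁻¹) * g⁻¹
          by group, ih, ← conj_zpow, ← hi, ← zpow_mul, pow_succ']
    have h1 : q ^ (i ^ 10) = q ^ (1 : ℤ) := by rw [← hconj 10, hg10]; simp
    rw [zpow_eq_zpow_iff_modEq, hq, ← (ZMod.intCast_eq_intCast_iff _ _ 5)] at h1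
    push_cast at h1
    rw [← pow_two g, hconj 2]
    conv_rhs => rw [← zpow_one q]
    rw [zpow_eq_zpow_iff_modEq, hq, ← (ZMod.intCast_eq_intCast_iff _ _ 5)]
    push_cast
    exact zmod_five_ten _ h1
  -- all squares centralise `q`, so the normalizer has too small order
  have hcard : Nat.card N = 40 := hp.five_norm Q (by rw [hQ, Nat.card_zpowers, hq])
  let C := (centralizer ({q} : Set G)).subgroupOf N
  have hC : Nat.card C ≤ 10 := by
    rw [← hp.five q hq]
    exact Nat.card_le_card_of_injective (fun x => ⟨x.1.1, x.2⟩)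
      fun a b h => Subtype.ext (Subtype.ext (congrArg
        (fun z : (centralizer ({q} : Set G) : Subgroup G) => (z : G)) h))
  -- `g ↦ g q g⁻¹` takes at most two values
  have hval : ∀ g ∈ N, g * q * g⁻¹ = q ∨ g * q * g⁻¹ = q⁻¹ := by
    intro g hg
    obtain ⟨i, hi⟩ := Subgroup.mem_zpowers_iff.mp (mem_norm_conj hg (mem_zpowers q))
    have h2 := hsq g hg
    rw [show g * g * q * (g * g)⁻¹ = g * (g * q * g⁻¹) * g⁻¹ by group, ← hi, ← conj_zpow, ← hi,
      ← zpow_mul] at h2
    conv_rhs at h2 => rw [← zpow_one q]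
    rw [zpow_eq_zpow_iff_modEq, hq, ← (ZMod.intCast_eq_intCast_iff _ _ 5)] at h2
    rw [← hi]
    conv => enter [1, 2]; rw [← zpow_one q]
    conv => enter [2, 2]; rw [← zpow_neg_one q]
    simp only [zpow_eq_zpow_iff_modEq, hq, ← (ZMod.intCast_eq_intCast_iff _ _ 5)]
    push_cast at h2 ⊢
    exact zmod_five_sq _ h2
  have hidx : C.index ≤ 2 := by
    rw [Subgroup.index]
    refine le_trans (Nat.card_le_card_of_injective (β := ({q, q⁻¹} : Set G))
      (fun x : N ⧸ C => ⟨(x.out : G) * q * (x.out : G)⁻¹, by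
        rcases hval _ x.out.2 with h | h <;> simp [h]⟩) ?_) ?_
    · intro x y h
      have e : (x.out : G) * q * (x.out : G)⁻¹ = (y.out : G) * q * (y.out : G)⁻¹ :=
        congrArg Subtype.val h
      rw [← x.out_eq, ← y.out_eq]
      refine Quotient.sound' (QuotientGroup.leftRel_apply.mpr ?_)
      refine Subgroup.mem_subgroupOf.mpr (mem_cent.mpr ?_)
      push_cast
      calc q * ((x.out : G)⁻¹ * (y.out : G))
          = (x.out : G)⁻¹ * ((x.out : G) * q * (x.out : G)⁻¹) * (y.out : G) := by group
        _ = (x.out : G)⁻¹ * ((y.out : G) * q * (y.out : G)⁻¹) * (y.out : G) := by rw [e]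
        _ = (x.out : G)⁻¹ * (y.out : G) * q := by group
    · rw [Nat.card_coe_set_eq]
      exact (Set.ncard_insert_le _ _).trans (by simp)
  have := C.card_mul_index
  rw [hcard] at this
  nlinarith

end FiveU

theorem three_of (hp : Pre G) {q u x : G} (hq : orderOf q = 5) (hu : orderOf u = 2)
    (hqu : q * u = u * q) (h240 : cC u = 240) (hx : orderOf x = 3) (hux : u * x = x * u) :
    Nat.card ↥(centralizer ({u} : Set G) ⊓ centralizer ({x} : Set G)) = 12 := by
  have f3 : Fact (Nat.Prime 3) := ⟨by norm_num⟩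
  have f5 : Fact (Nat.Prime 5) := ⟨by norm_num⟩
  set H := centralizer ({u} : Set G) with hH
  set P := zpowers x with hP
  have hH240 : Nat.card H = 240 := h240
  have hxH : x ∈ H := mem_cent.mpr hux
  have hPH : P ≤ H := zpowers_le.mpr hxH
  have hPc : Nat.card P = 3 := by rw [hP, Nat.card_zpowers, hx]
  set M := normalizer (P : Set G) ⊓ H with hM
  set C := H ⊓ centralizer ({x} : Set G) with hC
  have hCM : C ≤ M := by
    rintro g ⟨hg, hgx⟩
    refine ⟨?_, hg⟩
    refine (centralizer_le_normalizer (P : Set G)) ?_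
    rw [Subgroup.mem_centralizer_iff]
    rintro a ha
    exact comm_of_mem_zpowers ha (mem_cent.mp hgx)
  -- no element of order five normalises `P`
  have h5 : ¬ 5 ∣ Nat.card M := by
    intro h
    obtain ⟨⟨a, ha⟩, hord⟩ := exists_prime_orderOf_dvd_card' 5 h
    rw [Subgroup.orderOf_mk] at hord
    obtain ⟨i, hi⟩ := Subgroup.mem_zpowers_iff.mp (mem_norm_conj ha.1 (mem_zpowers x))
    have hconj : ∀ k : ℕ, a ^ k * x * (a ^ k)⁻¹ = x ^ (i ^ k) := by
      intro k
      induction k with
      | zero => simp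
      | succ k ih =>
        rw [pow_succ' a k, show a * a ^ k * x * (a * a ^ k)⁻¹ = a * (a ^ k * x * (a ^ k)⁻¹) * a⁻¹
          by group, ih, ← conj_zpow, ← hi, ← zpow_mul, pow_succ']
    have h1 : x ^ (i ^ 5) = x ^ (1 : ℤ) := by
      rw [← hconj 5, show a ^ 5 = 1 from hord ▸ pow_orderOf_eq_one a]; simp
    rw [zpow_eq_zpow_iff_modEq, hx, ← (ZMod.intCast_eq_intCast_iff _ _ 3)] at h1
    have h2 : (i : ZMod 3) = 1 := by
      push_cast at h1
      exact zmod_three_five _ h1
    have hax : a * x * a⁻¹ = x := by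
      rw [← hi]
      conv_rhs => rw [← zpow_one x]
      rw [zpow_eq_zpow_iff_modEq, hx, ← (ZMod.intCast_eq_intCast_iff _ _ 3)]
      push_cast
      exact h2
    rw [mul_inv_eq_iff_eq_mul] at hax
    have h15 : orderOf (a * x) = 15 := by
      rw [Commute.orderOf_mul_eq_mul_orderOf_of_coprime hax (by rw [hord, hx]; decide), hord, hx]
    have := hp.spec (a * x)
    rw [h15] at this
    simp at this
  have h6 : 6 ∣ Nat.card C := by
    have h : orderOf (u * x) = 6 := by
      rw [Commute.orderOf_mul_eq_mul_orderOf_of_coprime hux (by rw [hu, hx]; decide), hu, hx]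
    rw [← h]
    refine Subgroup.orderOf_dvd_natCard _ ?_
    exact ⟨mul_mem (mem_cent.mpr rfl) hxH,
      mul_mem (mem_cent.mpr hux.symm) (mem_cent.mpr rfl)⟩
  obtain ⟨n, hn, hn3⟩ := card_sylow_prime H P hPH hPc (by rw [hH240]; norm_num)
  rw [← hM, hH240] at hn
  have hCdM := Subgroup.card_dvd_of_le hCM
  have hidx : Nat.card M ≤ 2 * Nat.card C := by
    have hval : ∀ g ∈ M, g * x * g⁻¹ = x ∨ g * x * g⁻¹ = x⁻¹ := by
      intro g hg
      obtain ⟨i, hi⟩ := Subgroup.mem_zpowers_iff.mp (mem_norm_conj hg.1 (mem_zpowers x))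
      have hi0 : (i : ZMod 3) ≠ 0 := by
        intro h0
        have h1 : x ^ i = x ^ (0 : ℤ) := by
          rw [zpow_eq_zpow_iff_modEq, hx, ← (ZMod.intCast_eq_intCast_iff _ _ 3)]
          simpa using h0
        rw [zpow_zero, hi] at h1
        have := congrArg orderOf h1
        rw [orderOf_conj, hx, orderOf_one] at this
        omega
      rw [← hi]
      conv => enter [1, 2]; rw [← zpow_one x]
      conv => enter [2, 2]; rw [← zpow_neg_one x]
      simp only [zpow_eq_zpow_iff_modEq, hx, ← (ZMod.intCast_eq_intCast_iff _ _ 3)]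
      push_cast
      exact zmod_three_ne _ hi0
    let C' := C.subgroupOf M
    have hC' : Nat.card C' = Nat.card C :=
      Nat.card_congr (Subgroup.subgroupOfEquivOfLe hCM).toEquiv
    have hle : C'.index ≤ 2 := by
      rw [Subgroup.index]
      refine le_trans (Nat.card_le_card_of_injective (β := ({x, x⁻¹} : Set G))
        (fun y : M ⧸ C' => ⟨(y.out : G) * x * (y.out : G)⁻¹, by
          rcases hval _ y.out.2 with h | h <;> simp [h]⟩) ?_) ?_
      · intro y z h
        have e : (y.out : G) * x * (y.out : G)⁻¹ = (z.out : G) * x * (z.out : G)⁻¹ :=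
          congrArg Subtype.val h
        rw [← y.out_eq, ← z.out_eq]
        refine Quotient.sound' (QuotientGroup.leftRel_apply.mpr ?_)
        refine Subgroup.mem_subgroupOf.mpr ⟨?_, mem_cent.mpr ?_⟩
        · exact H.mul_mem (H.inv_mem (Subgroup.mem_inf.mp y.out.2).2) (Subgroup.mem_inf.mp z.out.2).2
        · push_cast
          calc x * ((y.out : G)⁻¹ * (z.out : G))
              = (y.out : G)⁻¹ * ((y.out : G) * x * (y.out : G)⁻¹) * (z.out : G) := by group
            _ = (y.out : G)⁻¹ * ((z.out : G) * x * (z.out : G)⁻¹) * (z.out : G) := by rw [e]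
            _ = (y.out : G)⁻¹ * (z.out : G) * x := by group
      · rw [Nat.card_coe_set_eq]
        exact (Set.ncard_insert_le _ _).trans (by simp)
    rw [← C'.card_mul_index, hC']
    nlinarith
  -- `P` is not central in its normalizer (Burnside)
  have hne : M ≠ C := by
    intro heq
    let S : Sylow 3 H := Sylow.ofCard (P.subgroupOf H) (by
      rw [Nat.card_congr (Subgroup.subgroupOfEquivOfLe hPH).toEquiv, hPc, hH240]
      rw [fac_one (by norm_num) (by norm_num) (by norm_num), pow_one])
    have hS : normalizer ((S : Subgroup H) : Set H) ≤ centralizer ((S : Subgroup H) : Set H) := by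
      rw [show ((S : Subgroup H)) = P.subgroupOf H from Sylow.coe_ofCard _ _,
        ← subgroupOf_normalizer_eq hPH]
      intro g hg
      have hgM : (g : G) ∈ M := ⟨hg, g.2⟩
      rw [heq] at hgM
      rw [Subgroup.mem_centralizer_iff]
      intro a ha
      exact Subtype.ext (comm_of_mem_zpowers ha (mem_cent.mp hgM.2))
    set L := (MonoidHom.transferSylow S hS).ker with hL
    have hLi : L.index = 3 := by
      rw [(MonoidHom.ker_transferSylow_isComplement' S hS).symm.index_eq_card,
        show ((S : Subgroup H)) = P.subgroupOf H from Sylow.coe_ofCard _ _,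
        Nat.card_congr (Subgroup.subgroupOfEquivOfLe hPH).toEquiv, hPc]
    have hL80 : Nat.card (L.map H.subtype) = 80 := by
      rw [Subgroup.card_subtype]
      have := L.card_mul_index
      rw [hLi, hH240] at this
      omega
    have hNL : normalizer (zpowers q : Set G) ≤ L.map H.subtype := by
      intro g hg
      have hgH : g ∈ H := norm_le hp hq hu hqu hg
      refine ⟨⟨g, hgH⟩, ?_, rfl⟩
      rw [SetLike.mem_coe, ← QuotientGroup.eq_one_iff, ← orderOf_eq_one_iff]
      have h1 : orderOf ((⟨g, hgH⟩ : H) : H ⧸ L) ∣ 40 := by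
        refine (orderOf_map_dvd (QuotientGroup.mk' L) _).trans ?_
        rw [Subgroup.orderOf_mk, ← hp.five_norm (zpowers q) (by rw [Nat.card_zpowers, hq])]
        exact Subgroup.orderOf_dvd_natCard _ hg
      have h2 : orderOf ((⟨g, hgH⟩ : H) : H ⧸ L) ∣ 3 := by
        exact (show orderOf ((⟨g, hgH⟩ : H) : H ⧸ L) ∣ L.index from
          _root_.orderOf_dvd_natCard _).trans (dvd_of_eq hLi)
      exact Nat.dvd_one.mp (by simpa using Nat.dvd_gcd h1 h2)
    obtain ⟨m, hm, hm5⟩ := card_norm_inf hp hq hu hqu hNL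
    rw [hL80] at hm
    omega
  have hlt : Nat.card C < Nat.card M :=
    lt_of_le_of_ne (Nat.le_of_dvd Nat.card_pos hCdM)
      fun h => hne (Subgroup.eq_of_le_of_card_ge hCM h.ge).symm
  obtain ⟨c, hc⟩ := h6
  obtain ⟨d, hd⟩ := hCdM
  have hM240 : Nat.card M ∣ 240 := ⟨n, hn⟩
  have hd2 : d = 2 := by
    rcases Nat.lt_or_ge d 2 with h | h
    · interval_cases d <;> simp at hd <;> omega
    · by_contra hd'
      have : Nat.card C * 3 ≤ Nat.card C * d := Nat.mul_le_mul_left _ (by omega)
      omega
  subst hd2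
  have key : ∀ a ∈ Nat.divisors 240, ¬ 5 ∣ a → 12 ∣ a → (240 / a) % 3 = 1 → a = 24 := by
    decide +kernel
  have h24 : Nat.card M = 24 := by
    refine key _ (Nat.mem_divisors.mpr ⟨hM240, by norm_num⟩) h5 ⟨c, by omega⟩ ?_
    rw [hn, Nat.mul_div_cancel_left _ Nat.card_pos]
    exact hn3
  change Nat.card C = 12
  omega

omit [Finite G] in
/-- `UFacts` from the element counts, modulo the case `1440`. -/
theorem uFacts_of [Finite G] (hp : Pre G)
    (h1440 : ∀ q u : G, orderOf q = 5 → orderOf u = 2 → q * u = u * q → cC u ≠ 1440) :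
    UFacts G where
  cC_u q u hq hu hqu := cC_u_of hp hq hu hqu (h1440 q u hq hu hqu)
  three u x hu h240 hx hux := by
    obtain ⟨q, hq, hqu⟩ := exists_five hu h240
    exact three_of hp hq hu hqu h240 hx hux
  four u hu h240 := by
    obtain ⟨q, hq, hqu⟩ := exists_five hu h240
    exact exists_four hp hq hu hqu
where
  exists_five {u : G} (_hu : orderOf u = 2) (h : cC u = 240) :
      ∃ q : G, orderOf q = 5 ∧ q * u = u * q := by
    have : Fact (Nat.Prime 5) := ⟨by norm_num⟩
    obtain ⟨⟨q, hq⟩, hord⟩ := exists_prime_orderOf_dvd_card'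
      (G := centralizer ({u} : Set G)) 5 (by rw [show Nat.card _ = 240 from h]; norm_num)
    rw [Subgroup.orderOf_mk] at hord
    exact ⟨q, hord, (mem_cent.mp hq).symm⟩

end Cfsg.Agent.M12Uniq.CU
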