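import Cfsg.Agent.M12Uniq.CountsZCases
import Cfsg.Agent.Lib.Coprime.Generation
import Cfsg.Agent.Lib.Fitting.Minimal
import Cfsg.Agent.Lib.CharCore.Burnside

/-!
# No involution centralizer of order divisible by 64 and 9 (see `PLAN-Counts.md`, §C)
-/

set_option autoImplicit false

open Subgroup

namespace Cfsg.Agent.M12Uniq

namespace Z3

universe u

variable {G : Type u} [Group G] [Finite G]

theorem cC_dvd (hp : Pre G) (hf : UFacts G) {t : G} (ht : orderOf t = 2) (h64 : 64 ∣ cC t) :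
    cC t ∣ 1728 := by
  have h : cC t ∣ 1728 * 55 := by
    have := card_subgroup_dvd_card (centralizer ({t} : Set G))
    rw [hp.card] at this
    exact this
  refine Nat.Coprime.dvd_of_dvd_mul_right ?_ h
  rw [show (55 : ℕ) = 5 * 11 by norm_num]
  refine Nat.Coprime.mul_right ?_ ?_
  · refine ((Nat.Prime.coprime_iff_not_dvd (by norm_num)).mpr fun hd => ?_).symm
    have : Fact (Nat.Prime 5) := ⟨by norm_num⟩
    obtain ⟨⟨q, hqC⟩, hq⟩ := exists_prime_orderOf_dvd_card'
      (G := ↥(centralizer ({t} : Set G))) 5 hd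
    rw [Subgroup.orderOf_mk] at hq
    rw [hf.cC_u q t hq ht (Loc.mem_centralizer_singleton.mp hqC).symm] at h64
    norm_num at h64
  · refine ((Nat.Prime.coprime_iff_not_dvd (by norm_num)).mpr fun hd => ?_).symm
    have : Fact (Nat.Prime 11) := ⟨by norm_num⟩
    obtain ⟨⟨q, hqC⟩, hq⟩ := exists_prime_orderOf_dvd_card'
      (G := ↥(centralizer ({t} : Set G))) 11 hd
    rw [Subgroup.orderOf_mk] at hq
    have h := hp.spec (t * q)
    rw [Commute.orderOf_mul_eq_mul_orderOf_of_coprime (Loc.mem_centralizer_singleton.mp hqC)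
      (by rw [hq, ht]; norm_num), hq, ht] at h
    simp at h

/-- A faithful action of a group of order 9 on a 2-group of order at most 64 whose fixed point
subgroups are elementary abelian and contain a common involution. -/
theorem false_of_faithful (hp : Pre G) (hf : UFacts G) (F W : Subgroup G) (t : G)
    (hF : Nat.card F = 9) (hFW : ∀ x ∈ F, ∀ w ∈ W, x * w * x⁻¹ ∈ W) (hW : IsPGroup 2 W)
    (ht : orderOf t = 2) (htW : t ∈ W) (htF : ∀ x ∈ F, t * x = x * t)
    (hfaith : ∀ x ∈ F, (∀ w ∈ W, x * w = w * x) → x = 1) : False := by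
  classical
  have : Fact (Nat.Prime 2) := ⟨Nat.prime_two⟩
  have : Fact (Nat.Prime 3) := ⟨Nat.prime_three⟩
  have hF3 : ∀ x ∈ F, x ^ 3 = 1 := fun x hx => cube_one hp (by
    rw [show (27 : ℕ) = 9 * 3 by norm_num, pow_mul, pow_card_one hF hx, one_pow])
  have hFcomm : IsMulCommutative F :=
    IsPGroup.isMulCommutative_of_card_eq_prime_sq (p := 3) (by rw [hF]; norm_num)
  have hFc : ∀ a ∈ F, ∀ b ∈ F, a * b = b * a := fun a ha b hb =>
    congrArg Subtype.val (hFcomm.is_comm.comm (⟨a, ha⟩ : F) ⟨b, hb⟩)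
  have hFncyc : ¬ IsCyclic F := by
    intro hc
    obtain ⟨g, hg⟩ := hc.exists_generator
    have h1 := orderOf_eq_card_of_forall_mem_zpowers hg
    have h2 : orderOf g ∣ 3 := orderOf_dvd_of_pow_eq_one (Subtype.ext (hF3 g g.2))
    rw [h1, hF] at h2
    norm_num at h2
  obtain ⟨w, hw⟩ := IsPGroup.iff_card.mp hW
  have hw6 : w ≤ 6 := by
    have h : 2 ^ w ∣ 2 ^ 6 * 1485 := by
      rw [← hw, ← card_eq hp]; exact card_subgroup_dvd_card W
    exact (Nat.pow_dvd_pow_iff_le_right (by norm_num : 1 < 2)).mp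
      ((Nat.Coprime.pow_left w (by norm_num : Nat.Coprime 2 1485)).dvd_of_dvd_mul_right h)
  set C0 := W ⊓ centralizer (F : Set G) with hC0
  have hC0mem : ∀ c, c ∈ C0 ↔ c ∈ W ∧ ∀ x ∈ F, x * c = c * x := fun c => by
    rw [hC0, mem_inf, mem_centralizer_iff]; rfl
  let A : G → Subgroup G := fun x => W ⊓ centralizer ({x} : Set G)
  have hAmem : ∀ x a, a ∈ A x ↔ a ∈ W ∧ x * a = a * x := fun x a => by
    simp only [A, mem_inf, Loc.mem_centralizer_singleton]
  have hAsq : ∀ x ∈ F, x ≠ 1 → ∀ a ∈ A x, a * a = 1 := fun x hx hx1 a ha =>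
    sq_one_of_two_group hp hW ((hAmem x a).mp ha).1 (Loc.orderOf_three (hF3 x hx) hx1)
      ((hAmem x a).mp ha).2.symm
  have hC0A : ∀ x ∈ F, C0 ≤ A x := fun x hx c hc =>
    (hAmem x c).mpr ⟨((hC0mem c).mp hc).1, ((hC0mem c).mp hc).2 x hx⟩
  have hAinv : ∀ x ∈ F, ∀ y ∈ F, ∀ a ∈ A x, y * a * y⁻¹ ∈ A x := by
    intro x hx y hy a ha
    obtain ⟨haW, hxa⟩ := (hAmem x a).mp ha
    refine (hAmem x _).mpr ⟨hFW y hy a haW, ?_⟩
    have h := (Loc.fix_of_comm hxa).map y
    rw [show y * x * y⁻¹ = x by rw [hFc y hy x hx, mul_inv_cancel_right]] at h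
    exact h.comm
  have hsqC0 : ∀ c ∈ C0, c * c = 1 := fun c hc => by
    obtain ⟨x, hx, hx1⟩ : ∃ x ∈ F, x ≠ 1 := by
      by_contra h
      push Not at h
      rw [(Subgroup.eq_bot_iff_forall F).mpr h, card_bot] at hF
      norm_num at hF
    exact hAsq x hx hx1 c (hC0A x hx hc)
  -- generation by the fixed points
  have hgen : ∀ L : Subgroup G, (∀ e ∈ F, e ≠ 1 → A e ≤ L) → W ≤ L := fun L hL =>
    Coprime.le_of_centralizer_le F W L hFncyc
      (fun x hx => mem_normalizer_of_conj fun v hv => hFW x hx v hv)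
      (by rw [hF, hw]; exact Nat.Coprime.pow_right _ (by norm_num)) hL
  -- an invariant subgroup not fixed by `F`
  have hbig : ∀ x ∈ F, x ≠ 1 → ∀ L : Subgroup G, L ≤ A x → C0 ≤ L →
      (∀ y ∈ F, ∀ a ∈ L, y * a * y⁻¹ ∈ L) → ¬ L ≤ C0 → 4 ≤ C0.relIndex L := by
    intro x hx hx1 L hLA hCL hinv hne
    obtain ⟨a, haL, ha0⟩ := SetLike.not_le_iff_exists.mp hne
    have haW := ((hAmem x a).mp (hLA haL)).1
    obtain ⟨y, hy, hya⟩ : ∃ y ∈ F, y * a * y⁻¹ ≠ a := by
      by_contra hcon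
      push Not at hcon
      exact ha0 ((hC0mem a).mpr ⟨haW, fun y hy => mul_inv_eq_iff_eq_mul.mp (hcon y hy)⟩)
    set a1 := y * a * y⁻¹ with ha1
    set a2 := y * a1 * y⁻¹ with ha2
    have hy3 : y * y * y = 1 := by rw [← pow_two, ← pow_succ]; exact hF3 y hy
    have ha3 : y * a2 * y⁻¹ = a := by
      rw [ha2, ha1, show y * (y * (y * a * y⁻¹) * y⁻¹) * y⁻¹ = y * y * y * a * (y * y * y)⁻¹ by
        group, hy3]
      group
    have hfix : ∀ c ∈ C0, y * c * y⁻¹ = c := fun c hc =>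
      mul_inv_eq_iff_eq_mul.mpr (((hC0mem c).mp hc).2 y hy)
    have hne1 : ∀ c ∈ C0, a1 ≠ a * c := by
      intro c hc e
      have e2 : a2 = a * c * c := by rw [ha2, e, ← conj_mul, hfix c hc, ← ha1, e]
      rw [mul_assoc, hsqC0 c hc, mul_one] at e2
      exact hya (by rw [e2] at ha3; exact ha3)
    have hne01 : a1 ∉ C0 := fun h => ha0 (by
      have h' : a1 = a := mul_left_cancel (mul_right_cancel ((hfix a1 h).trans ha1))
      rwa [h'] at h)
    have hne02 : a2 ∉ C0 := fun h => ha0 (by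
      have := hfix a2 h
      rw [ha3] at this
      rwa [this])
    have hne12 : a1⁻¹ * a2 ∉ C0 := fun h => by
      have e : a⁻¹ * a1 = a1⁻¹ * a2 := by
        have := hfix _ h
        refine mul_left_cancel (mul_right_cancel (?_ : y * (a⁻¹ * a1) * y⁻¹ = y * (a1⁻¹ * a2) * y⁻¹))
        rw [this, ← conj_mul, ← conj_inv, ← ha1, ← ha2]
      exact hne1 _ h (by rw [← e, mul_inv_cancel_left])
    have hne02' : a⁻¹ * a2 ∉ C0 := fun h => by
      have h1 := hfix _ h
      rw [← conj_mul, ← conj_inv, ← ha1, ha3] at h1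
      refine hne1 _ (inv_mem h) ?_
      calc a1 = a * (a1⁻¹ * a)⁻¹ := by group
        _ = a * (a⁻¹ * a2)⁻¹ := by rw [h1]
    have hne1' : a⁻¹ * a1 ∉ C0 := fun h => hne1 _ h (mul_inv_cancel_left a a1).symm
    let p : Fin 4 → L :=
      ![1, ⟨a, haL⟩, ⟨a1, hinv y hy a haL⟩, ⟨a2, hinv y hy a1 (hinv y hy a haL)⟩]
    let q : Fin 4 → L ⧸ C0.subgroupOf L := fun i => (p i : L ⧸ C0.subgroupOf L)
    have hq : Function.Injective q := by
      have hinv' : ∀ g h : G, g⁻¹ * h ∈ C0 → h⁻¹ * g ∈ C0 := fun g h hm => by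
        have := inv_mem hm
        rwa [mul_inv_rev, inv_inv] at this
      intro i j e
      simp only [q, QuotientGroup.eq, mem_subgroupOf] at e
      push_cast at e
      fin_cases i <;> fin_cases j <;> simp [p] at e ⊢
      · exact ha0 e
      · exact hne01 e
      · exact hne02 e
      · exact ha0 e
      · exact hne1' e
      · exact hne02' e
      · exact hne01 e
      · exact hne1' (hinv' _ _ e)
      · exact hne12 e
      · exact hne02 e
      · exact hne02' (hinv' _ _ e)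
      · exact hne12 (hinv' _ _ e)
    have := Nat.card_le_card_of_injective q hq
    rwa [Nat.card_fin] at this
  -- two lines with moved fixed points
  have hnoA : ∀ x ∈ F, x ≠ 1 → ¬ W ≤ A x := fun x hx hx1 h =>
    hx1 (hfaith x hx fun v hv => ((hAmem x v).mp (h hv)).2)
  obtain ⟨x, hx, hx1, hxA⟩ : ∃ x ∈ F, x ≠ 1 ∧ ¬ A x ≤ C0 := by
    by_contra hcon
    push Not at hcon
    have h := hgen C0 hcon
    obtain ⟨x, hx, hx1⟩ : ∃ x ∈ F, x ≠ 1 := by
      by_contra h'
      push Not at h'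
      rw [(Subgroup.eq_bot_iff_forall F).mpr h', card_bot] at hF
      norm_num at hF
    exact hnoA x hx hx1 (h.trans (hC0A x hx))
  obtain ⟨y, hy, hyx, hyA⟩ : ∃ y ∈ F, y ∉ zpowers x ∧ ¬ A y ≤ C0 := by
    by_contra hcon
    push Not at hcon
    refine hnoA x hx hx1 (hgen _ fun e he he1 => ?_)
    by_cases hex : e ∈ zpowers x
    · obtain ⟨n, -, rfl⟩ := (Loc.zpowers_iff (hF3 x hx)).mp hex
      intro v hv
      obtain ⟨hvW, hev⟩ := (hAmem _ v).mp hv
      refine (hAmem x v).mpr ⟨hvW, ?_⟩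
      rcases Loc.eq_of_pow_three_cases (hF3 x hx) (rfl : x ^ n = x ^ n) with h | h | h
      · exact absurd h he1
      · rwa [h] at hev
      · rw [h] at hev
        have := (Loc.fix_of_comm hev).inv_left
        rw [inv_inv] at this
        exact this.comm
    · exact (hcon e he hex).trans (hC0A x hx)
  have hy1 : y ≠ 1 := fun e => hyx (e ▸ one_mem _)
  have hFeq : Loc.pairGrp x y = F := Loc.eq_of_le_card (Loc.pairGrp_le hx hy)
    (by rw [Loc.card_pairGrp (hFc x hx y hy) (hF3 x hx) hx1 (hF3 y hy) hyx, hF])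
  have hAB : ∀ v, v ∈ A x → v ∈ A y → v ∈ C0 := fun v hvx hvy => by
    refine (hC0mem v).mpr ⟨((hAmem x v).mp hvx).1, fun z hz => ?_⟩
    rw [← hFeq, Loc.mem_pairGrp_iff (hFc x hx y hy) (hF3 x hx) (hF3 y hy)] at hz
    obtain ⟨i, -, j, -, rfl⟩ := hz
    have c1 : Commute x v := ((hAmem x v).mp hvx).2
    have c2 : Commute y v := ((hAmem y v).mp hvy).2
    exact ((c1.pow_left i).mul_left (c2.pow_left j)).eq
  -- counting
  obtain ⟨c, hc⟩ := IsPGroup.iff_card.mp (hW.to_le (inf_le_left : C0 ≤ W))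
  have hc1 : 1 ≤ c := by
    have : 2 ∣ 2 ^ c := by
      rw [← hc, ← ht]
      exact Subgroup.orderOf_dvd_natCard C0 ((hC0mem t).mpr ⟨htW, fun z hz => (htF z hz).symm⟩)
    by_contra h
    rw [show c = 0 by omega] at this
    norm_num at this
  have hmod : 2 ^ w ≡ 2 ^ c [MOD 3] := by
    let _ : MulAction F W :=
      { smul := fun z v => ⟨(z : G) * v * (z : G)⁻¹, hFW z z.2 v v.2⟩
        one_smul := fun v => Subtype.ext (by
          show ((1 : F) : G) * v * ((1 : F) : G)⁻¹ = v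
          simp)
        mul_smul := fun a b v => Subtype.ext (by
          show ((a * b : F) : G) * v * ((a * b : F) : G)⁻¹ =
            (a : G) * ((b : G) * v * (b : G)⁻¹) * (a : G)⁻¹
          push_cast; group) }
    have hFp : IsPGroup 3 F := IsPGroup.of_card (n := 2) (by rw [hF]; norm_num)
    have h := hFp.card_modEq_card_fixedPoints W
    have e : Nat.card (MulAction.fixedPoints F W) = Nat.card C0 := Nat.card_congr
      { toFun := fun v => ⟨v.1, (hC0mem _).mpr ⟨v.1.2, fun z hz =>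
          mul_inv_eq_iff_eq_mul.mp (congrArg Subtype.val (v.2 ⟨z, hz⟩))⟩⟩
        invFun := fun v => ⟨⟨v.1, ((hC0mem _).mp v.2).1⟩, fun z => Subtype.ext
          (mul_inv_eq_iff_eq_mul.mpr (((hC0mem _).mp v.2).2 z z.2))⟩
        left_inv := fun _ => rfl
        right_inv := fun _ => rfl }
    rwa [e, hw, hc] at h
  have hA4 := hbig x hx hx1 (A x) le_rfl (hC0A x hx) (fun z hz a ha => hAinv x hx z hz a ha) hxA
  have hB4 := hbig y hy hy1 (A y) le_rfl (hC0A y hy) (fun z hz a ha => hAinv y hy z hz a ha) hyA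
  -- products
  have hprod : ∀ x' y' : G, (∀ v, v ∈ A x' → v ∈ A y' → v ∈ C0) → C0 ≤ A y' →
      C0.relIndex (A x') * (2 ^ c * C0.relIndex (A y')) ≤ 2 ^ w ∧
      (C0.relIndex (A x') * (2 ^ c * C0.relIndex (A y')) = 2 ^ w →
        ∀ v ∈ W, ∃ a ∈ A x', ∃ b ∈ A y', v = a * b) := by
    intro x' y' hI hle
    let f : (A x' ⧸ C0.subgroupOf (A x')) × A y' → W := fun p =>
      ⟨(p.1.out : G) * p.2, mul_mem ((hAmem _ _).mp p.1.out.2).1 ((hAmem _ _).mp p.2.2).1⟩
    have hinj : Function.Injective f := by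
      rintro ⟨q, b⟩ ⟨q', b'⟩ e
      have e' : (q.out : G) * b = (q'.out : G) * b' := congrArg Subtype.val e
      have hm : (q.out : G)⁻¹ * q'.out ∈ C0 := by
        refine hI _ (mul_mem (inv_mem q.out.2) q'.out.2) ?_
        rw [show (q.out : G)⁻¹ * q'.out = b * (b' : G)⁻¹ by
          calc (q.out : G)⁻¹ * q'.out =
              (q.out : G)⁻¹ * ((q'.out : G) * b') * (b' : G)⁻¹ := by group
            _ = _ := by rw [← e']; group]
        exact mul_mem b.2 (inv_mem b'.2)
      have hq : q = q' := (QuotientGroup.out_eq' q).symm.trans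
        ((QuotientGroup.eq.mpr (mem_subgroupOf.mpr (by push_cast; exact hm))).trans
          (QuotientGroup.out_eq' q'))
      subst hq
      exact Prod.ext rfl (Subtype.ext (mul_left_cancel e'))
    have hcard : Nat.card ((A x' ⧸ C0.subgroupOf (A x')) × A y') =
        C0.relIndex (A x') * (2 ^ c * C0.relIndex (A y')) := by
      rw [Nat.card_prod, ← hc]
      congr 1
      rw [← Nat.card_congr (Subgroup.subgroupOfEquivOfLe hle).toEquiv]
      exact ((C0.subgroupOf (A y')).card_mul_index).symm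
    refine ⟨?_, fun heq v hv => ?_⟩
    · rw [← hcard, ← hw]; exact Nat.card_le_card_of_injective f hinj
    · obtain ⟨⟨q, b⟩, hqb⟩ :=
        (hinj.bijective_of_nat_card_le (by rw [hcard, hw, heq])).2 ⟨v, hv⟩
      exact ⟨q.out, q.out.2, b, b.2, (congrArg Subtype.val hqb).symm⟩
  have hxy := hprod x y hAB (hC0A y hy)
  have hyx' := hprod y x (fun v a b => hAB v b a) (hC0A x hx)
  set i := C0.relIndex (A x) with hi
  set j := C0.relIndex (A y) with hj
  have h16 : 2 ^ c * 16 ≤ i * (2 ^ c * j) :=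
    calc 2 ^ c * 16 = 4 * (2 ^ c * 4) := by ring
      _ ≤ i * (2 ^ c * j) := Nat.mul_le_mul hA4 (Nat.mul_le_mul_left _ hB4)
  have hle := hxy.1
  have hwc : w = c + 4 := by
    have h1 : 2 ^ (c + 4) ≤ 2 ^ w := by
      rw [pow_add]; norm_num; omega
    have h2 := (Nat.pow_le_pow_iff_right (by norm_num : 1 < 2)).mp h1
    by_contra hne
    have : c = 1 ∧ w = 6 := by omega
    rw [this.1, this.2] at hmod
    norm_num [Nat.ModEq] at hmod
  have heq : i * (2 ^ c * j) = 2 ^ w := le_antisymm hle (by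
    rw [hwc, pow_add]; norm_num; omega)
  have hij : i = 4 ∧ j = 4 := by
    rw [hwc, pow_add] at heq
    have h2c : 0 < 2 ^ c := Nat.two_pow_pos c
    have hij : i * j = 16 := Nat.eq_of_mul_eq_mul_left h2c (by rw [← mul_left_comm, heq]; norm_num)
    have : i ≤ 4 := by nlinarith
    have : j ≤ 4 := by nlinarith
    omega
  have hcov := hxy.2 heq
  have hcov' := hyx'.2 (by rw [← heq]; ring)
  -- each of the two subgroups normalizes the other
  have hnorm : ∀ x' y' : G, x' ∈ F → x' ≠ 1 → y' ∈ F → y' ≠ 1 →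
      C0.relIndex (A x') = 4 → C0.relIndex (A y') = 4 →
      (∀ v ∈ W, ∃ a ∈ A x', ∃ b ∈ A y', v = a * b) →
      ∀ b ∈ A y', ∀ a ∈ A x', b * a * b⁻¹ ∈ A x' := by
    intro x' y' hx' hx1' hy' hy1' hix hiy hcov b hb a ha
    have hAW : A x' ≤ W := inf_le_left
    have hAcard : Nat.card (A x') = 2 ^ (c + 2) := by
      rw [← (C0.subgroupOf (A x')).card_mul_index,
        Nat.card_congr (Subgroup.subgroupOfEquivOfLe (hC0A x' hx')).toEquiv, hc]
      show 2 ^ c * C0.relIndex (A x') = _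
      rw [hix, pow_add]; norm_num
    set N := A y' ⊓ normalizer (A x' : Set G) with hN
    suffices h : A y' ≤ N from (mem_normalizer_iff.mp (h hb).2 a).mp ha
    have hcomm := (exponent_two (hAsq x' hx' hx1')).2
    have hCN : C0 ≤ N := fun z hz => ⟨hC0A y' hy' hz, mem_normalizer_of_conj fun v hv => by
      rw [hcomm z (hC0A x' hx' hz) v hv, mul_inv_cancel_right]; exact hv⟩
    have hNinv : ∀ z ∈ F, ∀ n ∈ N, z * n * z⁻¹ ∈ N := fun z hz n hn =>
      ⟨hAinv y' hy' z hz n hn.1, mem_normalizer_of_conj fun v hv => by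
        have h1 := hAinv x' hx' z⁻¹ (inv_mem hz) v hv
        rw [inv_inv] at h1
        have h2 := hAinv x' hx' z hz _ ((mem_normalizer_iff.mp hn.2 _).mp h1)
        rwa [show z * (n * (z⁻¹ * v * z) * n⁻¹) * z⁻¹ = z * n * z⁻¹ * v * (z * n * z⁻¹)⁻¹ by
          group] at h2⟩
    have hNne : ¬ N ≤ C0 := by
      have h2 : 2 ^ (c + 2 + 1) ∣ Nat.card ↥(normalizer (((A x').subgroupOf W) : Set W)) :=
        Sylow.prime_pow_dvd_card_normalizer (by rw [hw, hwc]; exact pow_dvd_pow 2 (by omega))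
          (by rw [Nat.card_congr (Subgroup.subgroupOfEquivOfLe hAW).toEquiv, hAcard])
      intro hle
      have hsub : normalizer (((A x').subgroupOf W) : Set W) ≤ (A x').subgroupOf W := by
        intro v hv
        obtain ⟨a', ha', b', hb', hvab⟩ := hcov v v.2
        have hvN : (v : G) ∈ normalizer (A x' : Set G) := mem_normalizer_of_conj fun u hu => by
          have h := (mem_normalizer_iff.mp hv ⟨u, hAW hu⟩).mp (mem_subgroupOf.mpr hu)
          exact mem_subgroupOf.mp h
        have hb'N : b' ∈ N := Subgroup.mem_inf.mpr ⟨hb', by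
          have : b' = a'⁻¹ * v := by rw [hvab]; group
          rw [this]; exact mul_mem (inv_mem (le_normalizer ha')) hvN⟩
        rw [mem_subgroupOf, hvab]
        exact mul_mem ha' (hC0A x' hx' (hle hb'N))
      have h3 := Nat.le_of_dvd Nat.card_pos (h2.trans (card_dvd_of_le hsub))
      rw [Nat.card_congr (Subgroup.subgroupOfEquivOfLe hAW).toEquiv, hAcard] at h3
      have := (Nat.pow_le_pow_iff_right (by norm_num : 1 < 2)).mp h3
      omega
    have h4 := hbig y' hy' hy1' N inf_le_left hCN hNinv hNne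
    refine (Loc.eq_of_le_card inf_le_left ?_).ge
    rw [← (C0.subgroupOf (A y')).card_mul_index,
      Nat.card_congr (Subgroup.subgroupOfEquivOfLe (hC0A y' hy')).toEquiv,
      ← (C0.subgroupOf N).card_mul_index,
      Nat.card_congr (Subgroup.subgroupOfEquivOfLe hCN).toEquiv]
    show Nat.card C0 * C0.relIndex (A y') ≤ Nat.card C0 * C0.relIndex N
    rw [hiy]
    exact Nat.mul_le_mul_left _ h4
  have hBA := hnorm x y hx hx1 hy hy1 hij.1 hij.2 hcov
  have hAB' := hnorm y x hy hy1 hx hx1 hij.2 hij.1 hcov'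
  -- the two subgroups commute
  have hcommAB : ∀ a ∈ A x, ∀ b ∈ A y, a * b = b * a := by
    intro a ha b hb
    set k := a * b * a⁻¹ * b⁻¹ with hk
    have hkC : k ∈ C0 := hAB k
      (by rw [hk, show a * b * a⁻¹ * b⁻¹ = a * (b * a⁻¹ * b⁻¹) by group]
          exact mul_mem ha (hBA b hb _ (inv_mem ha)))
      (mul_mem (hAB' a ha b hb) (inv_mem hb))
    have hcB := (exponent_two (hAsq y hy hy1)).2
    have hcA := (exponent_two (hAsq x hx hx1)).2
    set b1 := x * b * x⁻¹ with hb1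
    set b2 := x * b1 * x⁻¹ with hb2
    have hb1B := hAinv y hy x hx b hb
    have hb2B := hAinv y hy x hx b1 hb1B
    have hconj : ∀ v ∈ A y, a * v * a⁻¹ = k * v → a * (x * v * x⁻¹) * a⁻¹ = k * (x * v * x⁻¹) := by
      intro v _ hv
      have hxa : x * a * x⁻¹ = a := mul_inv_eq_iff_eq_mul.mpr ((hAmem x a).mp ha).2
      have hxk : x * k * x⁻¹ = k := mul_inv_eq_iff_eq_mul.mpr (((hC0mem k).mp hkC).2 x hx)
      calc a * (x * v * x⁻¹) * a⁻¹
          = x * a * x⁻¹ * (x * v * x⁻¹) * (x * a * x⁻¹)⁻¹ := by rw [hxa]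
        _ = x * (a * v * a⁻¹) * x⁻¹ := by group
        _ = x * k * x⁻¹ * (x * v * x⁻¹) := by rw [hv, conj_mul]
        _ = k * (x * v * x⁻¹) := by rw [hxk]
    have e0 : a * b * a⁻¹ = k * b := by rw [hk, inv_mul_cancel_right]
    have e1 := hconj b hb e0
    have e2 := hconj b1 hb1B e1
    have hs : b * b1 * b2 ∈ C0 := by
      refine hAB _ ((hAmem x _).mpr ⟨mul_mem (mul_mem ((hAmem y b).mp hb).1
        ((hAmem y b1).mp hb1B).1) ((hAmem y b2).mp hb2B).1, ?_⟩) (mul_mem (mul_mem hb hb1B) hb2B)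
      have hx3 : x * x * x = 1 := by rw [← pow_two, ← pow_succ]; exact hF3 x hx
      have hxb2 : x * b2 * x⁻¹ = b := by
        rw [hb2, hb1, show x * (x * (x * b * x⁻¹) * x⁻¹) * x⁻¹ = x * x * x * b * (x * x * x)⁻¹ by
          group, hx3]
        group
      refine mul_inv_eq_iff_eq_mul.mp ?_
      rw [show x * (b * b1 * b2) * x⁻¹ = x * b * x⁻¹ * (x * b1 * x⁻¹) * (x * b2 * x⁻¹) by group,
        hxb2, ← hb1, ← hb2]
      rw [hcB _ (mul_mem hb1B hb2B) b hb, ← mul_assoc]
    have hkb : Commute k b := hcB k (hC0A y hy hkC) b hb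
    have hkb1 : Commute k b1 := hcB k (hC0A y hy hkC) b1 hb1B
    have h3 : b * b1 * b2 = k * (b * b1 * b2) := by
      calc b * b1 * b2 = a * (b * b1 * b2) * a⁻¹ := by
            rw [hcA a ha _ (hC0A x hx hs), mul_inv_cancel_right]
        _ = a * b * a⁻¹ * (a * b1 * a⁻¹) * (a * b2 * a⁻¹) := by group
        _ = k * b * (k * b1) * (k * b2) := by rw [e0, e1, e2]
        _ = k * (k * k) * (b * b1 * b2) := by
          rw [show k * b * (k * b1) * (k * b2) = k * (b * k) * (b1 * k) * b2 by group,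
            ← hkb.eq, ← hkb1.eq]
          rw [show k * (k * b) * (k * b1) * b2 = k * k * (b * k) * b1 * b2 by group, ← hkb.eq]
          group
        _ = k * (b * b1 * b2) := by rw [hsqC0 k hkC, mul_one]
    have hk1 : k = 1 := (mul_eq_right.mp h3.symm)
    rw [hk1, one_mul] at e0
    exact mul_inv_eq_iff_eq_mul.mp e0
  -- so `W` is elementary abelian
  have hWsq : ∀ v ∈ W, v * v = 1 := by
    intro v hv
    obtain ⟨a, ha, b, hb, rfl⟩ := hcov v hv
    rw [show a * b * (a * b) = a * (b * a) * b by group, ← hcommAB a ha b hb,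
      show a * (a * b) * b = a * a * (b * b) by group, hAsq x hx hx1 a ha, hAsq y hy hy1 b hb,
      mul_one]
  have h16' := Nat.le_of_dvd (by norm_num) (card_elem_le hp hf hWsq)
  rw [hw, show (16 : ℕ) = 2 ^ 4 by norm_num] at h16'
  have := (Nat.pow_le_pow_iff_right (by norm_num : 1 < 2)).mp h16'
  omega

end Z3

universe v

open Z3 in
/-- **No involution has a centralizer of order divisible by 64 and by 9.** -/
theorem no_three_nine {G : Type v} [Group G] [Finite G] (hp : Pre G) (hf : UFacts G) (t : G)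
    (ht : orderOf t = 2) (h64 : 64 ∣ cC t) (h9 : 9 ∣ cC t) : False := by
  classical
  have : Fact (Nat.Prime 2) := ⟨Nat.prime_two⟩
  have : Fact (Nat.Prime 3) := ⟨Nat.prime_three⟩
  set C := centralizer ({t} : Set G) with hC
  have hdvd := cC_dvd hp hf ht h64
  obtain ⟨j, hj⟩ := h64
  have hj27 : j ∣ 3 ^ 3 := by
    rw [hj] at hdvd
    exact (Nat.mul_dvd_mul_iff_left (by norm_num : 0 < 64)).mp hdvd
  obtain ⟨b, hb3, rfl⟩ := (Nat.dvd_prime_pow Nat.prime_three).mp hj27
  have hCcard : Nat.card C = 2 ^ 6 * 3 ^ b := by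
    show cC t = _
    rw [hj]; norm_num
  have hsol : Group.IsSolvable C :=
    CharCore.isSolvable_of_card_eq_prime_pow_mul Nat.prime_two Nat.prime_three _ C 6 b hCcard rfl
  -- a Sylow 2-subgroup of `G` centralizing `t`
  obtain ⟨S0, hS0⟩ := Sylow.exists_subgroup_card_pow_prime 2 (G := C) (n := 6)
    (by rw [hCcard]; exact dvd_mul_right _ _)
  have hS0' : Nat.card ↥(S0.map C.subtype) = 64 := by
    rw [← Nat.card_congr (equivMapOfInjective S0 _ (subtype_injective _)).toEquiv, hS0]; norm_num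
  let S : Sylow 2 G := Sylow.ofCard (S0.map C.subtype) (by
    rw [hS0', hp.card, show (95040 : ℕ) = 2 ^ 6 * 1485 by norm_num,
      Nat.factorization_mul (by norm_num) (by norm_num), Finsupp.add_apply,
      Nat.prime_two.factorization_pow,
      Nat.factorization_eq_zero_of_not_dvd (by norm_num : ¬ 2 ∣ 1485)]
    simp)
  have hSC : ∀ s ∈ (S : Subgroup G), s ∈ C := fun s hs => map_subtype_le S0 hs
  by_cases hR : Cfsg.pCore 3 C = ⊥
  · -- the 2-core contains its centralizer
    set W := Cfsg.pCore 2 C with hW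
    have hfit : Cfsg.fittingSubgroup C ≤ W := by
      rw [Fitting.fitting_eq_iSup_pCore, iSup_le_iff]
      intro p
      by_cases h2 : (p : ℕ) = 2
      · rw [h2]
      by_cases h3 : (p : ℕ) = 3
      · rw [h3, hR]; exact bot_le
      have : Fact (p : ℕ).Prime := ⟨p.2⟩
      have hbot : Cfsg.pCore (p : ℕ) C = ⊥ := by
        obtain ⟨n, hn⟩ := IsPGroup.iff_card.mp (Fitting.pCore_isPGroup (G := C) (p : ℕ))
        rw [← card_eq_one]
        refine Nat.eq_one_of_dvd_coprimes ?_ dvd_rfl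
          (hCcard ▸ card_subgroup_dvd_card (Cfsg.pCore (p : ℕ) C))
        rw [hn]
        exact Nat.Coprime.mul_right
          (Nat.Coprime.pow _ _ ((Nat.coprime_primes p.2 Nat.prime_two).mpr h2))
          (Nat.Coprime.pow _ _ ((Nat.coprime_primes p.2 Nat.prime_three).mpr h3))
      rw [hbot]; exact bot_le
    have hcW : centralizer (W : Set C) ≤ W :=
      (centralizer_le (SetLike.coe_subset_coe.mpr hfit)).trans
        (Fitting.centralizer_fitting_le.trans hfit)
    have htC : t ∈ C := Loc.mem_centralizer_singleton.mpr rfl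
    have htW : (⟨t, htC⟩ : C) ∈ W := by
      have hn : (zpowers (⟨t, htC⟩ : C)).Normal := by
        refine ⟨fun n hn g => ?_⟩
        obtain ⟨m, rfl⟩ := mem_zpowers_iff.mp hn
        have h1 : g * (⟨t, htC⟩ : C) ^ m * g⁻¹ = (⟨t, htC⟩ : C) ^ m := mul_inv_eq_iff_eq_mul.mpr
          (Commute.zpow_right (show Commute g ⟨t, htC⟩ from Subtype.ext
            (Loc.mem_centralizer_singleton.mp g.2).symm) m).eq
        rw [h1]; exact hn
      exact Fitting.le_pCore hn (IsPGroup.of_card (n := 1) (by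
        rw [Nat.card_zpowers, Subgroup.orderOf_mk, ht, pow_one])) (mem_zpowers _)
    obtain ⟨F, hF⟩ := Sylow.exists_subgroup_card_pow_prime 3 (G := C) (n := 2) (by
      show 3 ^ 2 ∣ cC t
      simpa using h9)
    have hFc : Nat.card ↥(F.map C.subtype) = 9 := by
      rw [← Nat.card_congr (equivMapOfInjective F _ (subtype_injective _)).toEquiv, hF]; norm_num
    refine false_of_faithful hp hf (F.map C.subtype) (W.map C.subtype) t hFc ?_
      ((Fitting.pCore_isPGroup 2).map _) ht ⟨⟨t, htC⟩, htW, rfl⟩ ?_ ?_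
    · rintro _ ⟨f, -, rfl⟩ _ ⟨v, hv, rfl⟩
      exact ⟨f * v * f⁻¹, (Fitting.pCore_normal 2).conj_mem v hv f, rfl⟩
    · rintro _ ⟨f, -, rfl⟩
      exact (Loc.mem_centralizer_singleton.mp f.2)
    · rintro _ ⟨f, hf', rfl⟩ hcomm
      have hfW : f ∈ W := hcW (mem_centralizer_iff.mpr fun v hv =>
        Subtype.ext (hcomm _ ⟨v, hv, rfl⟩).symm)
      have h1 : orderOf f ∣ 2 ^ 6 * 1 := by
        obtain ⟨k, hk⟩ := IsPGroup.iff_card.mp (Fitting.pCore_isPGroup (G := C) 2)
        have h2 : orderOf f ∣ 2 ^ k := hk ▸ Subgroup.orderOf_dvd_natCard W hfW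
        have h3 : 2 ^ k ∣ 2 ^ 6 * 3 ^ b := hk ▸ hCcard ▸ card_subgroup_dvd_card _
        rw [mul_one]
        exact h2.trans ((Nat.Coprime.pow _ _ (by norm_num : Nat.Coprime 2 3)).dvd_of_dvd_mul_right h3)
      have h9' : orderOf f ∣ 3 ^ 2 := hF ▸ Subgroup.orderOf_dvd_natCard F hf'
      have hone := Nat.eq_one_of_dvd_coprimes (by norm_num : Nat.Coprime (2 ^ 6 * 1) (3 ^ 2)) h1 h9'
      rw [orderOf_eq_one_iff] at hone
      subst hone
      rfl
  · -- the centre of the 3-core
    set R := Cfsg.pCore 3 C with hRdef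
    have : Nontrivial R := (Subgroup.nontrivial_iff_ne_bot R).mpr hR
    have hcen := (Fitting.pCore_isPGroup (G := C) 3).center_nontrivial
    set Z := ((center R).map R.subtype).map C.subtype with hZ
    have hZc : Nat.card Z = Nat.card (center R) := by
      rw [hZ, ← Nat.card_congr (equivMapOfInjective _ _ (subtype_injective _)).toEquiv,
        ← Nat.card_congr (equivMapOfInjective _ _ (subtype_injective _)).toEquiv]
    obtain ⟨k, hk⟩ := IsPGroup.iff_card.mp ((Fitting.pCore_isPGroup (G := C) 3).to_subgroup (center R))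
    have hk1 : 1 ≤ k := by
      by_contra h
      rw [show k = 0 by omega, pow_zero] at hk
      exact (Finite.one_lt_card_iff_nontrivial.mpr hcen).ne' hk
    have hk3 : k ≤ 3 := by
      have h1 : 3 ^ k ∣ 2 ^ 6 * 3 ^ 3 := hk ▸ (card_subgroup_dvd_card _).trans
        ((card_subgroup_dvd_card R).trans
          (by rw [hCcard]; exact Nat.mul_dvd_mul_left _ (pow_dvd_pow 3 hb3)))
      exact (Nat.pow_dvd_pow_iff_le_right (by norm_num : 1 < 3)).mp
        ((Nat.Coprime.pow _ _ (by norm_num : Nat.Coprime 3 2)).dvd_of_dvd_mul_left h1)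
    have hcube : ∀ z ∈ Z, z ^ 3 = 1 := fun z hz => cube_one hp (by
      have h1 := pow_card_one (hZc.trans hk) hz
      exact orderOf_dvd_iff_pow_eq_one.mp ((orderOf_dvd_of_pow_eq_one h1).trans
        ((pow_dvd_pow 3 hk3).trans (dvd_of_eq (by norm_num)))))
    have hnorm : ∀ s ∈ (S : Subgroup G), ∀ z ∈ Z, s * z * s⁻¹ ∈ Z := by
      rintro s hs _ ⟨_, ⟨r, hr, rfl⟩, rfl⟩
      set s' : C := ⟨s, hSC s hs⟩
      have hmem : ∀ g : C, ∀ q : C, q ∈ R → g * q * g⁻¹ ∈ R := fun g q hq =>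
        (Fitting.pCore_normal 3).conj_mem q hq g
      refine ⟨s' * r * s'⁻¹, ⟨⟨s' * r * s'⁻¹, hmem _ _ r.2⟩, ?_, rfl⟩, rfl⟩
      rw [SetLike.mem_coe, mem_center_iff]
      intro q
      apply Subtype.ext
      have h := congrArg Subtype.val
        (mem_center_iff.mp hr ⟨s'⁻¹ * q * s', by simpa using hmem s'⁻¹ q q.2⟩)
      push_cast at h ⊢
      calc (q : C) * (s' * r * s'⁻¹) = s' * (s'⁻¹ * q * s' * r) * s'⁻¹ := by group
        _ = s' * (r * (s'⁻¹ * q * s')) * s'⁻¹ := by rw [h]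
        _ = s' * r * s'⁻¹ * q := by group
    have h4 := four_dvd_card_sub_one hp hf S hcube hnorm
    rw [hZc, hk] at h4
    have hk2 : k = 2 := by
      interval_cases k <;> first | rfl | (norm_num at h4)
    refine Conf.contra
      { hp := hp, hf := hf, S := S, V := Z
        card_V := by rw [hZc, hk, hk2]; norm_num
        comm_V := ?_
        cube_V := hcube
        S_V := hnorm }
    rintro _ ⟨_, ⟨r, hr, rfl⟩, rfl⟩ _ ⟨_, ⟨r', -, rfl⟩, rfl⟩
    rw [← map_mul, ← map_mul, ← map_mul, ← map_mul, (mem_center_iff.mp hr r').symm]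

end Cfsg.Agent.M12Uniq
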