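import Cfsg.Agent.M12Uniq.CountsClassesDefs
import Cfsg.Agent.M12Uniq.CountsU
import Cfsg.Agent.M12Uniq.CountsZ
import Cfsg.Agent.Lib.Involution.Counting

/-!
# The classes of involutions from the counts (`PLAN-Counts.md`, part D1)
-/

set_option autoImplicit false

namespace Cfsg.Agent.M12Uniq

open Subgroup

universe u

namespace CI

variable {G : Type u} [Group G] [Finite G]

/-- Conjugate elements have equal orders. -/
theorem orderOf_of_isConj {a b : G} (h : IsConj a b) : orderOf a = orderOf b := by
  obtain ⟨g, rfl⟩ := isConj_iff.mp h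
  exact (CU.orderOf_conj g a).symm

/-- Class equation in the form used here. -/
theorem card_class_mul (x : G) : Nat.card {y : G // IsConj x y} * cC x = Nat.card G :=
  Involution.card_isConj_mul_card_centralizer x

theorem cC_of_isConj {a b : G} (h : IsConj a b) : cC a = cC b := by
  have hclass : Nat.card {y : G // IsConj a y} = Nat.card {y : G // IsConj b y} :=
    Nat.card_congr (Equiv.subtypeEquivRight fun y => ⟨fun hy => h.symm.trans hy, fun hy => h.trans hy⟩)
  have ha := card_class_mul a
  have hb := card_class_mul b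
  rw [hclass, ← hb] at ha
  refine Nat.eq_of_mul_eq_mul_left (Nat.pos_of_ne_zero fun h0 => ?_) ha
  rw [h0, zero_mul] at hb
  exact Nat.card_pos.ne hb

variable (hp : Pre G) (hf : UFacts G)

include hp in
theorem exists_five_of_240 {t : G} (h : cC t = 240) : ∃ q : G, orderOf q = 5 ∧ q * t = t * q := by
  have : Fact (Nat.Prime 5) := ⟨by norm_num⟩
  have _ := hp.card
  obtain ⟨⟨q, hq⟩, hord⟩ := exists_prime_orderOf_dvd_card'
    (G := centralizer ({t} : Set G)) 5 (by rw [show Nat.card _ = 240 from h]; norm_num)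
  rw [Subgroup.orderOf_mk] at hord
  exact ⟨q, hord, (CU.mem_cent.mp hq).symm⟩

include hp in
/-- Some involution commutes with an element of order five. -/
theorem exists_five_invol : ∃ q v : G, orderOf q = 5 ∧ orderOf v = 2 ∧ q * v = v * q := by
  have : Fact (Nat.Prime 5) := ⟨by norm_num⟩
  have : Fact (Nat.Prime 2) := ⟨Nat.prime_two⟩
  obtain ⟨q, hq⟩ := exists_prime_orderOf_dvd_card' (G := G) 5 (by rw [hp.card]; norm_num)
  obtain ⟨⟨v, hv⟩, hord⟩ := exists_prime_orderOf_dvd_card'
    (G := centralizer ({q} : Set G)) 2 (by rw [show Nat.card _ = 10 from hp.five q hq]; norm_num)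
  rw [Subgroup.orderOf_mk] at hord
  exact ⟨q, v, hq, hord, CU.mem_cent.mp hv⟩

include hp in
/-- The involutions commuting with elements of order five form one class. -/
theorem conj_of_five {q q' v v' : G} (hq : orderOf q = 5) (hq' : orderOf q' = 5)
    (hv : orderOf v = 2) (hv' : orderOf v' = 2) (h : q * v = v * q) (h' : q' * v' = v' * q') :
    IsConj v v' := by
  have : Fact (Nat.Prime 5) := ⟨by norm_num⟩
  have hfac : (Nat.card G).factorization 5 = 1 :=
    CU.fac_one (by norm_num) (by rw [hp.card]; norm_num) (by rw [hp.card]; norm_num)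
  let P : Sylow 5 G := Sylow.ofCard (zpowers q) (by rw [Nat.card_zpowers, hq, hfac]; rfl)
  let P' : Sylow 5 G := Sylow.ofCard (zpowers q') (by rw [Nat.card_zpowers, hq', hfac]; rfl)
  obtain ⟨g, hg⟩ := MulAction.exists_smul_eq G P P'
  have hmem : g * q * g⁻¹ ∈ zpowers q' := by
    rw [show zpowers q' = ((g • P : Sylow 5 G) : Subgroup G) by rw [hg]; exact (Sylow.coe_ofCard _ _).symm]
    exact ⟨q, by rw [show ((P : Subgroup G) : Set G) = zpowers q from rfl]; exact mem_zpowers q, rfl⟩
  have hne : g * q * g⁻¹ ≠ 1 := by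
    intro h1
    have := congrArg orderOf h1
    rw [CU.orderOf_conj, hq, orderOf_one] at this
    omega
  refine isConj_iff.mpr ⟨g, CU.comm_unique hp hq' hv' h' (by rw [CU.orderOf_conj, hv]) ?_⟩
  exact CU.comm_of_mem_zpowers (CU.mem_zpowers_of_mem_of_prime hq' hmem hne) (CU.conj_comm g h)

include hp hf in
/-- An involution commuting with no element of order five centralises no element of order five or
eleven. -/
theorem cC_dvd_of_not_five {t : G} (ht : orderOf t = 2) (h : cC t ≠ 240) : cC t ∣ 1728 := by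
  have hd : cC t ∣ 1728 * 55 := by
    have := card_subgroup_dvd_card (centralizer ({t} : Set G))
    rw [hp.card] at this
    exact this
  refine Nat.Coprime.dvd_of_dvd_mul_right ?_ hd
  rw [show (55 : ℕ) = 5 * 11 by norm_num]
  refine Nat.Coprime.mul_right ?_ ?_
  · refine ((Nat.Prime.coprime_iff_not_dvd (by norm_num)).mpr fun hd5 => h ?_).symm
    have : Fact (Nat.Prime 5) := ⟨by norm_num⟩
    obtain ⟨⟨q, hqC⟩, hq⟩ := exists_prime_orderOf_dvd_card'
      (G := ↥(centralizer ({t} : Set G))) 5 hd5
    rw [Subgroup.orderOf_mk] at hq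
    exact hf.cC_u q t hq ht (CU.mem_cent.mp hqC).symm
  · refine ((Nat.Prime.coprime_iff_not_dvd (by norm_num)).mpr fun hd11 => ?_).symm
    have : Fact (Nat.Prime 11) := ⟨by norm_num⟩
    obtain ⟨⟨a, haC⟩, ha⟩ := exists_prime_orderOf_dvd_card'
      (G := ↥(centralizer ({t} : Set G))) 11 hd11
    rw [Subgroup.orderOf_mk] at ha
    have h22 := hp.spec (t * a)
    rw [Commute.orderOf_mul_eq_mul_orderOf_of_coprime (CU.mem_cent.mp haC)
      (by rw [ha, ht]; norm_num), ha, ht] at h22
    simp at h22

include hp in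
theorem card_other {v : G} (hv : orderOf v = 2) (h240 : cC v = 240)
    (hconj : ∀ t : G, orderOf t = 2 → cC t = 240 → IsConj v t) :
    Nat.card {t : G // orderOf t = 2 ∧ cC t ≠ 240} = 495 := by
  classical
  have := Fintype.ofFinite G
  have hK : Nat.card {y : G // IsConj v y} = 396 := by
    have h := card_class_mul v
    rw [h240, hp.card] at h
    omega
  have h2 := hp.s2
  rw [sN, Nat.card_eq_fintype_card, Fintype.card_subtype] at h2
  rw [Nat.card_eq_fintype_card, Fintype.card_subtype] at hK ⊢
  have hsplit := Finset.card_filter_add_card_filter_not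
    (s := Finset.univ.filter fun t : G => orderOf t = 2) (fun t => cC t = 240)
  rw [Finset.filter_filter, Finset.filter_filter, h2] at hsplit
  have e : (Finset.univ.filter fun t : G => orderOf t = 2 ∧ cC t = 240) =
      Finset.univ.filter fun y : G => IsConj v y := by
    ext t
    simp only [Finset.mem_filter, Finset.mem_univ, true_and]
    exact ⟨fun ht => hconj t ht.1 ht.2, fun ht =>
      ⟨(orderOf_of_isConj ht).symm.trans hv, (cC_of_isConj ht).symm.trans h240⟩⟩
  rw [e, hK] at hsplit
  have hgoal := hsplit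
  simp only [ne_eq] at hgoal ⊢
  omega

include hp hf in
/-- The remaining involutions form one class, with centralisers of order 192. -/
theorem other_class (hX : Nat.card {t : G // orderOf t = 2 ∧ cC t ≠ 240} = 495) :
    ∃ z : G, orderOf z = 2 ∧ cC z = 192 ∧
      ∀ t : G, orderOf t = 2 → cC t ≠ 240 → IsConj z t := by
  classical
  have : Fact (Nat.Prime 2) := ⟨Nat.prime_two⟩
  let S : Sylow 2 G := default
  have hS : Nat.card (S : Subgroup G) = 64 := Z3.card_sylow hp S
  let Y := {t : G // orderOf t = 2 ∧ cC t ≠ 240}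
  letI : MulAction (S : Subgroup G) Y :=
    { smul := fun s y => ⟨(s : G) * y.1 * (s : G)⁻¹, (CU.orderOf_conj _ _).trans y.2.1,
        fun h => y.2.2 ((cC_of_isConj (isConj_iff.mpr ⟨(s : G), rfl⟩)).trans h)⟩
      one_smul := fun y => Subtype.ext (by
        show ((1 : (S : Subgroup G)) : G) * y.1 * ((1 : (S : Subgroup G)) : G)⁻¹ = y.1
        simp)
      mul_smul := fun a b y => Subtype.ext (by
        show ((a * b : (S : Subgroup G)) : G) * y.1 * ((a * b : (S : Subgroup G)) : G)⁻¹ = _
        show (a : G) * (b : G) * y.1 * ((a : G) * (b : G))⁻¹ =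
          (a : G) * ((b : G) * y.1 * (b : G)⁻¹) * (a : G)⁻¹
        group) }
  have hne : (MulAction.fixedPoints (S : Subgroup G) Y).Nonempty := by
    refine S.2.nonempty_fixed_point_of_prime_not_dvd_card Y ?_
    rw [hX]
    norm_num
  obtain ⟨⟨z, hz, hz240⟩, hfix⟩ := hne
  have h64 : 64 ∣ cC z := by
    rw [← hS]
    refine Subgroup.card_dvd_of_le fun s hs => CU.mem_cent.mpr ?_
    have := congrArg Subtype.val (hfix ⟨s, hs⟩)
    change s * z * s⁻¹ = z at this
    calc z * s = s * z * s⁻¹ * s := by rw [this]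
      _ = s * z := by group
  have hdvd := cC_dvd_of_not_five hp hf hz hz240
  have hcl := card_class_mul z
  rw [hp.card] at hcl
  have hsub : Nat.card {y : G // IsConj z y} ≤ 495 := by
    rw [← hX]
    exact Nat.card_le_card_of_injective
      (fun y => (⟨y.1, (orderOf_of_isConj y.2).symm.trans hz,
        fun h => hz240 ((cC_of_isConj y.2).trans h)⟩ : Y))
      (fun a b h => Subtype.ext (congrArg (fun y : Y => y.1) h))
  have h192 : cC z = 192 := by
    have key : ∀ m ∈ Nat.divisors 1728, 64 ∣ m → ¬ 9 ∣ m → m = 64 ∨ m = 192 := by decide +kernel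
    rcases key _ (Nat.mem_divisors.mpr ⟨hdvd, by norm_num⟩) h64
      (fun h9 => no_three_nine hp hf z hz h64 h9) with h | h
    · rw [h] at hcl
      omega
    · exact h
  refine ⟨z, hz, h192, fun t ht ht240 => ?_⟩
  have hcard : Nat.card {y : G // IsConj z y} = Nat.card Y := by
    rw [h192] at hcl
    rw [hX]
    omega
  have hbij : Function.Bijective fun y : {y : G // IsConj z y} =>
      (⟨y.1, (orderOf_of_isConj y.2).symm.trans hz,
        fun h => hz240 ((cC_of_isConj y.2).trans h)⟩ : Y) :=
    (Nat.bijective_iff_injective_and_card _).mpr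
      ⟨fun a b h => Subtype.ext (congrArg (fun y : Y => y.1) h), hcard⟩
  obtain ⟨⟨y, hy⟩, hy'⟩ := hbij.2 ⟨t, ht, ht240⟩
  have he : y = t := congrArg (fun y : Y => y.1) hy'
  exact he ▸ hy

end CI

open CI in
/-- The classes of involutions. -/
theorem invols {G : Type u} [Group G] [Finite G] (hp : Pre G) (hf : UFacts G) : Invols G := by
  obtain ⟨q, v, hq, hv, hqv⟩ := exists_five_invol hp
  have h240 := hf.cC_u q v hq hv hqv
  have hK : ∀ t : G, orderOf t = 2 → cC t = 240 → IsConj v t := by
    intro t ht h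
    obtain ⟨q', hq', hqt⟩ := exists_five_of_240 hp h
    exact conj_of_five hp hq hq' hv ht hqv hqt
  obtain ⟨z, hz, h192, hzc⟩ := other_class hp hf (card_other hp hv h240 hK)
  refine ⟨fun t ht => ?_, ⟨z, hz, h192⟩, ⟨v, hv, h240⟩, fun s t hs ht hst => ?_,
    fun q t hq ht hqt => hf.cC_u q t hq ht hqt⟩
  · rcases eq_or_ne (cC t) 240 with h | h
    · exact Or.inr h
    · exact Or.inl ((cC_of_isConj (hzc t ht h)).symm.trans h192)
  · rcases eq_or_ne (cC s) 240 with h | h
    · exact (hK s hs h).symm.trans (hK t ht (hst ▸ h))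
    · exact (hzc s hs h).symm.trans (hzc t ht (hst ▸ h))

end Cfsg.Agent.M12Uniq
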