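import Cfsg.Agent.M12Uniq.CountsClassesDefs
import Cfsg.Agent.M12Uniq.CountsInvol

/-!
# The numbers of elements of orders four and eight (`PLAN-Counts.md`, part D3)

If there were only 5940 elements of order eight, an involution `z` with centralizer of order 192
would have exactly twelve fourth roots, each commuting with exactly eight of them; this is
impossible for three cyclic subgroups.
-/

set_option autoImplicit false

namespace Cfsg.Agent.M12Uniq

open Subgroup

universe u

namespace CF

variable {G : Type u} [Group G] [Finite G]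

/-- The fourth roots of `t`. -/
noncomputable def roots (t : G) : Finset G :=
  letI := Fintype.ofFinite G
  letI := Classical.decEq G
  Finset.univ.filter fun x => x ^ 4 = t

theorem mem_roots {t x : G} : x ∈ roots t ↔ x ^ 4 = t := by
  simp [roots]

omit [Finite G] in
theorem orderOf_eight {t x : G} (ht : orderOf t = 2) (hx : x ^ 4 = t) : orderOf x = 8 := by
  have : Fact (Nat.Prime 2) := ⟨Nat.prime_two⟩
  refine orderOf_eq_prime_pow (p := 2) (n := 2) ?_ ?_
  · rw [show (2 : ℕ) ^ 2 = 4 by norm_num, hx]
    intro h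
    rw [h, orderOf_one] at ht
    omega
  · rw [show (2 : ℕ) ^ (2 + 1) = 4 * 2 by norm_num, pow_mul, hx, ← ht, pow_orderOf_eq_one]

omit [Finite G] in
theorem orderOf_fourth {x : G} (hx : orderOf x = 8) : orderOf (x ^ 4) = 2 := by
  rw [orderOf_pow' x (by norm_num), hx]
  norm_num

omit [Finite G] in
theorem pow_mod_eight {x : G} (hx : orderOf x = 8) (n : ℕ) : x ^ n = x ^ (n % 8) := by
  rw [← hx, pow_mod_orderOf]

/-- The generators of the cyclic group spanned by `x`. -/
noncomputable def gens (x : G) : Finset G :=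
  letI := Classical.decEq G
  {x, x ^ 3, x ^ 5, x ^ 7}

omit [Finite G] in
theorem mem_gens {x y : G} : y ∈ gens x ↔ y = x ∨ y = x ^ 3 ∨ y = x ^ 5 ∨ y = x ^ 7 := by
  simp [gens]

omit [Finite G] in
theorem self_mem_gens (x : G) : x ∈ gens x := mem_gens.mpr (Or.inl rfl)

omit [Finite G] in
theorem gens_pow_four {t x y : G} (hx8 : orderOf x = 8) (hx : x ^ 4 = t) (hy : y ∈ gens x) :
    y ^ 4 = t := by
  rcases mem_gens.mp hy with rfl | rfl | rfl | rfl
  · exact hx
  all_goals rw [← pow_mul, pow_mod_eight hx8, ← hx]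

omit [Finite G] in
theorem comm_of_mem_gens {a x y : G} (h : Commute a x) (hy : y ∈ gens x) : Commute a y := by
  rcases mem_gens.mp hy with rfl | rfl | rfl | rfl
  · exact h
  all_goals exact h.pow_right _

omit [Finite G] in
theorem card_gens {x : G} (hx : orderOf x = 8) : (gens x).card = 4 := by
  classical
  have hinj : Set.InjOn (fun n : ℕ => x ^ n) (({1, 3, 5, 7} : Finset ℕ) : Set ℕ) := by
    refine (pow_injOn_Iio_orderOf (x := x)).mono ?_
    rw [hx]
    intro n hn
    simp only [Finset.coe_insert, Finset.coe_singleton, Set.mem_insert_iff,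
      Set.mem_singleton_iff] at hn
    simp only [Set.mem_Iio]
    omega
  have he : gens x = ({1, 3, 5, 7} : Finset ℕ).image (fun n : ℕ => x ^ n) := by
    ext y
    simp [mem_gens, Finset.image_insert]
  rw [he, Finset.card_image_of_injOn hinj]
  rfl

omit [Finite G] in
theorem mem_gens_symm {x y : G} (hx : orderOf x = 8) (hy : y ∈ gens x) : x ∈ gens y := by
  rcases mem_gens.mp hy with rfl | rfl | rfl | rfl
  · exact hy
  · refine mem_gens.mpr (Or.inr (Or.inl ?_))
    rw [← pow_mul, pow_mod_eight hx]; simp
  · refine mem_gens.mpr (Or.inr (Or.inr (Or.inl ?_)))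
    rw [← pow_mul, pow_mod_eight hx]; simp
  · refine mem_gens.mpr (Or.inr (Or.inr (Or.inr ?_)))
    rw [← pow_mul, pow_mod_eight hx]; simp

omit [Finite G] in
theorem gens_trans {x y z : G} (hx : orderOf x = 8) (hy : y ∈ gens x) (hz : z ∈ gens y) :
    z ∈ gens x := by
  rcases mem_gens.mp hy with rfl | rfl | rfl | rfl
  · exact hz
  all_goals
    rcases mem_gens.mp hz with rfl | rfl | rfl | rfl
    · exact hy
    all_goals
      rw [← pow_mul, pow_mod_eight hx]
      simp [mem_gens]

theorem four_dvd_roots {t : G} (ht : orderOf t = 2) : 4 ∣ (roots t).card := by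
  classical
  rw [Finset.card_eq_sum_card_fiberwise (f := gens) (t := (roots t).image gens)
    (fun x hx => Finset.mem_image_of_mem _ hx)]
  refine Finset.dvd_sum fun B hB => dvd_of_eq ?_
  obtain ⟨x, hx, rfl⟩ := Finset.mem_image.mp hB
  have hx8 := orderOf_eight ht (mem_roots.mp hx)
  rw [← card_gens hx8]
  congr 1
  ext y
  simp only [Finset.mem_filter, mem_roots]
  constructor
  · intro hy
    have hy4 := gens_pow_four hx8 (mem_roots.mp hx) hy
    refine ⟨hy4, Finset.ext fun w => ⟨fun hw => gens_trans hx8 hy hw, fun hw => ?_⟩⟩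
    exact gens_trans (orderOf_eight ht hy4) (mem_gens_symm hx8 hy) hw
  · intro h
    rw [← h.2]
    exact self_mem_gens y

theorem card_roots_of_isConj {s t : G} (h : IsConj s t) : (roots s).card = (roots t).card := by
  obtain ⟨k, rfl⟩ := isConj_iff.mp h
  refine Finset.card_bij (fun x _ => k * x * k⁻¹) (fun x hx => ?_) (fun a _ b _ e => ?_)
    (fun y hy => ⟨k⁻¹ * y * k, ?_, by group⟩)
  · rw [mem_roots, conj_pow, mem_roots.mp hx]
  · exact mul_left_cancel (mul_right_cancel e)
  · have h4 := mem_roots.mp hy
    rw [mem_roots]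
    calc (k⁻¹ * y * k) ^ 4 = k⁻¹ * y ^ 4 * k⁻¹⁻¹ := by
          conv_lhs => rw [show k⁻¹ * y * k = k⁻¹ * y * k⁻¹⁻¹ by rw [inv_inv], conj_pow]
      _ = s := by rw [h4]; group

/-- Every element of order eight has a fourth power that is an involution of the large class,
which then has twelve fourth roots. -/
theorem roots_count (hp : Pre G) (hi : Invols G) (h8 : sN G 8 = 5940) :
    ∀ t : G, orderOf t = 2 →
      (cC t = 240 → (roots t).card = 0) ∧ (cC t = 192 → (roots t).card = 12) := by
  classical
  let := Fintype.ofFinite G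
  obtain ⟨u, hu, hu240⟩ := hi.exists_u
  obtain ⟨z, hz, hz192⟩ := hi.exists_z
  set I := Finset.univ.filter fun t : G => orderOf t = 2 with hI
  have hsum : ∑ t ∈ I, (roots t).card = 5940 := by
    have h := h8
    rw [sN, Nat.card_eq_fintype_card, Fintype.card_subtype,
      Finset.card_eq_sum_card_fiberwise (f := fun x : G => x ^ 4) (t := I)
        (fun x hx => Finset.mem_filter.mpr ⟨Finset.mem_univ _,
          orderOf_fourth (Finset.mem_filter.mp hx).2⟩)] at h
    rw [← h]
    refine Finset.sum_congr rfl fun t ht => congrArg Finset.card ?_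
    have ht2 := (Finset.mem_filter.mp ht).2
    ext x
    simp only [Finset.mem_filter, Finset.mem_univ, true_and, mem_roots]
    exact ⟨fun h => ⟨orderOf_eight ht2 h, h⟩, fun h => h.2⟩
  have hclass : ∀ {v : G} {n : ℕ}, orderOf v = 2 → cC v = n →
      (I.filter fun t => cC t = n).card * n = 95040 := by
    intro v n hv hn
    have he : (I.filter fun t => cC t = n) = Finset.univ.filter fun y : G => IsConj v y := by
      ext t
      simp only [hI, Finset.mem_filter, Finset.mem_univ, true_and]
      exact ⟨fun ht => hi.invol_conj v t hv ht.1 (hn.trans ht.2.symm), fun ht =>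
        ⟨(CI.orderOf_of_isConj ht).symm.trans hv, (CI.cC_of_isConj ht).symm.trans hn⟩⟩
    have h := CI.card_class_mul v
    rw [Nat.card_eq_fintype_card, Fintype.card_subtype, hn, hp.card] at h
    rw [he]
    exact h
  have h396 := hclass hu hu240
  have h495 := hclass hz hz192
  have hpart : ∀ {v : G} {n : ℕ}, orderOf v = 2 → cC v = n →
      ∑ t ∈ I.filter (fun t => cC t = n), (roots t).card =
        (I.filter fun t => cC t = n).card * (roots v).card := by
    intro v n hv hn
    refine Finset.sum_const_nat fun t ht => ?_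
    obtain ⟨htI, htn⟩ := Finset.mem_filter.mp ht
    exact (card_roots_of_isConj (hi.invol_conj v t hv (Finset.mem_filter.mp htI).2
      (hn.trans htn.symm))).symm
  rw [← Finset.sum_filter_add_sum_filter_not I (fun t => cC t = 240)] at hsum
  have hnot : I.filter (fun t => ¬ cC t = 240) = I.filter (fun t => cC t = 192) := by
    refine Finset.filter_congr fun t ht => ?_
    rcases hi.invol t (Finset.mem_filter.mp ht).2 with h | h <;> simp [h]
  rw [hnot, hpart hu hu240, hpart hz hz192] at hsum
  have e1 : (I.filter fun t => cC t = 240).card = 396 := by omega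
  have e2 : (I.filter fun t => cC t = 192).card = 495 := by omega
  rw [e1, e2] at hsum
  have d1 := four_dvd_roots hu
  have d2 := four_dvd_roots hz
  intro t ht
  refine ⟨fun h => ?_, fun h => ?_⟩
  · rw [← card_roots_of_isConj (hi.invol_conj u t hu ht (hu240.trans h.symm))]
    omega
  · rw [← card_roots_of_isConj (hi.invol_conj z t hz ht (hz192.trans h.symm))]
    omega

/-- A subgroup `K` of `C(g)` of order 16 or 32 containing `g` contains exactly `|K|/2` fourth
roots of `g ^ 4`. -/
theorem two_mul_card_roots (hp : Pre G) {g : G} (hg : orderOf g = 8) {K : Subgroup G}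
    (hgK : g ∈ K) (hK : ∀ y ∈ K, g * y = y * g) {n : ℕ} (hn : Nat.card K = n)
    (hn' : n = 16 ∨ n = 32) [DecidablePred (· ∈ K)] :
    2 * ((roots (g ^ 4)).filter (· ∈ K)).card = n := by
  classical
  let := Fintype.ofFinite G
  have hz : orderOf (g ^ 4) = 2 := orderOf_fourth hg
  set Z : Subgroup K := zpowers ⟨g, hgK⟩ with hZ
  have hZn : Z.Normal := ⟨fun a ha k => by
    obtain ⟨i, rfl⟩ := mem_zpowers_iff.mp ha
    have hc : Commute k (⟨g, hgK⟩ : K) := Subtype.ext (hK k k.2).symm
    rw [(hc.zpow_right i).eq, mul_inv_cancel_right]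
    exact ha⟩
  have hidx : Z.index ∣ 4 := by
    have h := Z.index_mul_card
    rw [hZ, Nat.card_zpowers, Subgroup.orderOf_mk, hg, hn] at h
    rcases hn' with rfl | rfl
    · rw [show Z.index = 2 by rw [hZ]; omega]; norm_num
    · rw [show Z.index = 4 by rw [hZ]; omega]
  have hcases : ∀ y ∈ K, y ^ 4 = 1 ∨ y ^ 4 = g ^ 4 := by
    intro y hy
    obtain ⟨m, hm⟩ := hidx
    have h4 : (⟨y, hy⟩ : K) ^ 4 ∈ Z := by
      rw [hm, pow_mul]
      exact pow_mem (Subgroup.pow_index_mem Z _) m
    obtain ⟨i, hi⟩ := mem_zpowers_iff.mp h4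
    have hi' : g ^ i = y ^ 4 := congrArg Subtype.val hi
    have h8 : y ^ 8 = 1 := by
      refine orderOf_dvd_iff_pow_eq_one.mp ?_
      have hd : orderOf y ∣ n := hn ▸ Subgroup.orderOf_dvd_natCard K hy
      have hs := hp.spec y
      simp only [Finset.mem_insert, Finset.mem_singleton] at hs
      rcases hn' with rfl | rfl <;>
        rcases hs with e | e | e | e | e | e | e | e | e <;> rw [e] at hd ⊢ <;> omega
    have h2 : g ^ (i * 2) = 1 := by
      rw [zpow_mul, hi', zpow_ofNat, ← pow_mul]
      exact h8
    have hdi : (8 : ℤ) ∣ i * 2 := by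
      have := orderOf_dvd_iff_zpow_eq_one.mpr h2
      rwa [hg] at this
    obtain ⟨j, rfl⟩ : (4 : ℤ) ∣ i := by omega
    rw [zpow_mul, zpow_ofNat] at hi'
    rw [← hi', zpow_eq_mod_orderOf_two hz]
    rcases Int.emod_two_eq j with e | e <;> simp [e]
  set Kf := Finset.univ.filter (· ∈ K) with hKf
  have hKc : Kf.card = n := by
    rw [hKf, ← Fintype.card_subtype, ← Nat.card_eq_fintype_card, ← hn]
  have hA : (roots (g ^ 4)).filter (· ∈ K) = Kf.filter fun y => y ^ 4 = g ^ 4 := by
    ext y
    simp only [Finset.mem_filter, mem_roots, hKf, Finset.mem_univ, true_and]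
    exact and_comm
  have hB : (Kf.filter fun y => ¬ y ^ 4 = g ^ 4).card =
      (Kf.filter fun y => y ^ 4 = g ^ 4).card := by
    refine Finset.card_bij (fun y _ => g * y) (fun y hy => ?_)
      (fun a _ b _ e => mul_left_cancel e) (fun x hx => ⟨g⁻¹ * x, ?_, by group⟩)
    · simp only [hKf, Finset.mem_filter, Finset.mem_univ, true_and] at hy ⊢
      refine ⟨mul_mem hgK hy.1, ?_⟩
      rw [(show Commute g y from hK y hy.1).mul_pow, (hcases y hy.1).resolve_right hy.2, mul_one]
    · simp only [hKf, Finset.mem_filter, Finset.mem_univ, true_and] at hx ⊢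
      refine ⟨mul_mem (inv_mem hgK) hx.1, fun h => ?_⟩
      rw [(show Commute g x from hK x hx.1).inv_left.mul_pow, hx.2, inv_pow,
        inv_mul_cancel] at h
      rw [← h, orderOf_one] at hz
      omega
  have hsplit := Finset.card_filter_add_card_filter_not (s := Kf) (fun y => y ^ 4 = g ^ 4)
  rw [hA]
  omega
where
  zpow_eq_mod_orderOf_two {t : G} (ht : orderOf t = 2) {j : ℤ} : t ^ j = t ^ (j % 2) := by
    conv_lhs => rw [← zpow_mod_orderOf, ht]
    rfl

/-- With only 5940 elements of order eight, an element of order eight commutes with exactly eight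
fourth roots of its fourth power. -/
theorem commuting_roots (hp : Pre G) (hi : Invols G) (h8 : sN G 8 = 5940) {g : G}
    (hg : orderOf g = 8) [DecidablePred fun y : G => g * y = y * g] :
    cC (g ^ 4) = 192 ∧ ((roots (g ^ 4)).filter fun y => g * y = y * g).card = 8 := by
  classical
  let := Fintype.ofFinite G
  have hz : orderOf (g ^ 4) = 2 := orderOf_fourth hg
  have hz192 : cC (g ^ 4) = 192 := by
    rcases hi.invol _ hz with h | h
    · exact h
    · have := (roots_count hp hi h8 _ hz).1 h
      rw [Finset.card_eq_zero] at this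
      exact absurd (mem_roots.mpr rfl : g ∈ roots (g ^ 4)) (this ▸ Finset.notMem_empty g)
  refine ⟨hz192, ?_⟩
  have h16 : 16 ≤ cC g := by
    have hcl := CI.card_class_mul g
    rw [hp.card] at hcl
    have hle : Nat.card {y : G // IsConj g y} ≤ 5940 := by
      rw [← h8, sN]
      exact Nat.card_le_card_of_injective
        (fun y => ⟨y.1, (CI.orderOf_of_isConj y.2).symm.trans hg⟩)
        (fun a b e => Subtype.ext (congrArg (fun y : {y : G // orderOf y = 8} => y.1) e))
    nlinarith
  have hd : cC g ∣ 64 * 3 := by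
    rw [show (64 * 3 : ℕ) = 192 by norm_num, ← hz192]
    refine Subgroup.card_dvd_of_le fun y hy => ?_
    rw [Loc.mem_centralizer_singleton] at hy ⊢
    exact (show Commute g y from hy).pow_left 4
  have h3 : ¬ 3 ∣ cC g := by
    intro h3
    have : Fact (Nat.Prime 3) := ⟨Nat.prime_three⟩
    obtain ⟨⟨x, hxC⟩, hx⟩ := exists_prime_orderOf_dvd_card'
      (G := ↥(centralizer ({g} : Set G))) 3 h3
    rw [Subgroup.orderOf_mk] at hx
    have h := Z3.sq_one_of_comm_three hp hx (Loc.mem_centralizer_singleton.mp hxC)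
      (by rw [hg]; norm_num)
    rw [← pow_two] at h
    have := orderOf_dvd_of_pow_eq_one h
    rw [hg] at this
    norm_num at this
  have hd64 : cC g ∣ 64 :=
    Nat.Coprime.dvd_of_dvd_mul_right
      ((Nat.Prime.coprime_iff_not_dvd Nat.prime_three).mpr h3).symm hd
  have h12 := (roots_count hp hi h8 _ hz).2 hz192
  have key : ∀ m ∈ Nat.divisors 64, 16 ≤ m → m = 16 ∨ 32 ∣ m := by decide +kernel
  rcases key _ (Nat.mem_divisors.mpr ⟨hd64, by norm_num⟩) h16 with hc | hc
  · have h := two_mul_card_roots hp hg (Loc.mem_centralizer_singleton.mpr rfl)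
      (fun y hy => Loc.mem_centralizer_singleton.mp hy) hc (Or.inl rfl)
    have he : ((roots (g ^ 4)).filter fun y => g * y = y * g) =
        (roots (g ^ 4)).filter (· ∈ centralizer ({g} : Set G)) :=
      Finset.filter_congr fun y _ => Loc.mem_centralizer_singleton.symm
    rw [he]
    omega
  · exfalso
    have : Fact (Nat.Prime 2) := ⟨Nat.prime_two⟩
    set C := centralizer ({g} : Set G) with hC
    have hgC : g ∈ C := Loc.mem_centralizer_singleton.mpr rfl
    obtain ⟨K, hK, hgK⟩ := Sylow.exists_subgroup_card_pow_prime_le 2 (G := C) (m := 5) (n := 3)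
      (show 2 ^ 5 ∣ Nat.card C from hc) (zpowers (⟨g, hgC⟩ : C))
      (by rw [Nat.card_zpowers, Subgroup.orderOf_mk, hg]; norm_num) (by norm_num)
    have hKc : Nat.card ↥(K.map C.subtype) = 32 := by
      rw [← Nat.card_congr (K.equivMapOfInjective _ (Subgroup.subtype_injective _)).toEquiv, hK]
      norm_num
    have h := two_mul_card_roots hp hg (K := K.map C.subtype)
      ⟨⟨g, hgC⟩, hgK (mem_zpowers _), rfl⟩
      (fun y hy => Loc.mem_centralizer_singleton.mp (map_subtype_le _ hy)) hKc (Or.inr rfl)
    have := Finset.card_filter_le (roots (g ^ 4)) (· ∈ K.map C.subtype)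
    omega

theorem not_5940 (hp : Pre G) (hi : Invols G) (h8 : sN G 8 = 5940) : False := by
  classical
  obtain ⟨⟨g, hg⟩⟩ : Nonempty {g : G // orderOf g = 8} :=
    (Nat.card_pos_iff.mp (by rw [sN] at h8; omega)).1
  obtain ⟨hz, hA⟩ := commuting_roots hp hi h8 hg
  set z := g ^ 4 with hzdef
  have hz2 : orderOf z = 2 := orderOf_fourth hg
  have h12 := (roots_count hp hi h8 z hz2).2 hz
  set A := (roots z).filter fun y => g * y = y * g with hAdef
  set B := (roots z).filter fun y => ¬ g * y = y * g with hBdef
  have hB : B.card = 4 := by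
    have h := Finset.card_filter_add_card_filter_not (s := roots z) (fun y => g * y = y * g)
    rw [← hAdef, ← hBdef, hA, h12] at h
    omega
  obtain ⟨g', hg'⟩ : B.Nonempty := Finset.card_pos.mp (by omega)
  obtain ⟨hg'r, hgg'⟩ := Finset.mem_filter.mp hg'
  have hg'4 := mem_roots.mp hg'r
  have hg'8 : orderOf g' = 8 := orderOf_eight hz2 hg'4
  have hA' := (commuting_roots hp hi h8 hg'8).2
  rw [hg'4] at hA'
  -- some fourth root commutes with both
  obtain ⟨x, hx, hgx, hg'x⟩ : ∃ x ∈ roots z, g * x = x * g ∧ g' * x = x * g' := by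
    by_contra hcon
    have hsub : ((roots z).filter fun y => g' * y = y * g') ⊆ B := fun y hy => by
      obtain ⟨hy, hy'⟩ := Finset.mem_filter.mp hy
      exact Finset.mem_filter.mpr ⟨hy, fun h => hcon ⟨y, hy, h, hy'⟩⟩
    have := Finset.card_le_card hsub
    omega
  have hx8 : orderOf x = 8 := orderOf_eight hz2 (mem_roots.mp hx)
  have hX := (commuting_roots hp hi h8 hx8).2
  rw [mem_roots.mp hx] at hX
  have hsub : gens g ∪ gens g' ∪ {x} ⊆ (roots z).filter fun y => x * y = y * x := by
    intro y hy
    refine Finset.mem_filter.mpr ?_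
    simp only [Finset.mem_union, Finset.mem_singleton] at hy
    rcases hy with (hy | hy) | rfl
    · exact ⟨mem_roots.mpr (gens_pow_four hg rfl hy),
        comm_of_mem_gens (show Commute x g from hgx.symm) hy⟩
    · exact ⟨mem_roots.mpr (gens_pow_four hg'8 hg'4 hy),
        comm_of_mem_gens (show Commute x g' from hg'x.symm) hy⟩
    · exact ⟨hx, rfl⟩
  have hd : Disjoint (gens g) (gens g') := by
    rw [Finset.disjoint_left]
    intro y hy hy'
    exact hgg' (comm_of_mem_gens (Commute.refl g)
      (gens_trans hg hy (mem_gens_symm hg'8 hy')))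
  have hxg : x ∉ gens g ∪ gens g' := by
    rw [Finset.mem_union]
    rintro (h | h)
    · exact hgg' (comm_of_mem_gens (show Commute g' x from hg'x) (mem_gens_symm hg h)).symm
    · exact hgg' (comm_of_mem_gens (show Commute g x from hgx) (mem_gens_symm hg'8 h))
  have h9 : (gens g ∪ gens g' ∪ {x}).card = 9 := by
    rw [Finset.card_union_of_disjoint (Finset.disjoint_singleton_right.mpr hxg),
      Finset.card_union_of_disjoint hd, card_gens hg, card_gens hg'8, Finset.card_singleton]
  have := Finset.card_le_card hsub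
  omega

end CF

/-- The numbers of elements of orders four and eight. -/
theorem count_four_eight {G : Type u} [Group G] [Finite G] (hp : Pre G) (_hf : UFacts G)
    (hi : Invols G) (_ht : Threes G) : sN G 4 = 5940 ∧ sN G 8 = 23760 := by
  rcases hp.s4 with h | h
  · have := hp.s48
    omega
  · exact absurd (by have := hp.s48; omega) (fun h8 => CF.not_5940 hp hi h8)

end Cfsg.Agent.M12Uniq
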