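import Cfsg.Agent.M12Uniq.CountsDefs
import Cfsg.Agent.M22Nse38.Arith
import Cfsg.Agent.Lib.Solvable.FrobeniusCount

/-!
# The numbers of elements of each order from the set of these numbers
-/

set_option autoImplicit false

namespace Cfsg.Agent.M12Uniq

open Finset

/-- The set of numbers of elements of given order of `M₁₂`. -/
def nseVals : List ℕ := [1, 891, 4400, 5940, 9504, 17280, 23760]

universe u

variable {G : Type u} [Group G] [Finite G]

theorem sN_pos {n : ℕ} : 0 < sN G n ↔ ∃ g : G, orderOf g = n := M22Nse38.sn_pos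

theorem sN_pos_of_dvd {n m : ℕ} (hm : m ∣ n) (h : 0 < sN G n) : 0 < sN G m :=
  M22Nse38.sn_pos_of_dvd hm h

theorem sN_one : sN G 1 = 1 := M22Nse38.sn_one

theorem totient_dvd_sN (n : ℕ) : Nat.totient n ∣ sN G n :=
  Solvable.totient_dvd_card (G := G) (e := n) (fun d => d = n) fun _ h => h ▸ dvd_rfl

theorem sum_sN {n : ℕ} (hn : n ≠ 0) :
    Nat.card {x : G // x ^ n = 1} = ∑ d ∈ n.divisors, sN G d :=
  M22Nse38.card_pow_eq_one hn

theorem dvd_sum_sN {n : ℕ} (hn : n ≠ 0) (hd : n ∣ Nat.card G) :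
    n ∣ ∑ d ∈ n.divisors, sN G d :=
  sum_sN (G := G) hn ▸ Solvable.frobenius_dvd_card hd

theorem sN_eq_zero_of_not_dvd {n : ℕ} (h : ¬ n ∣ Nat.card G) : sN G n = 0 := by
  by_contra h0
  obtain ⟨g, rfl⟩ := sN_pos.1 (Nat.pos_of_ne_zero h0)
  exact h (orderOf_dvd_natCard g)

/-- The numbers of elements of each order. -/
structure Spec (G : Type u) [Group G] : Prop where
  spec : ∀ g : G, orderOf g ∈ ({1, 2, 3, 4, 5, 6, 8, 10, 11} : Finset ℕ)
  s2 : sN G 2 = 891
  s3 : sN G 3 = 4400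
  s4 : sN G 4 = 5940 ∨ sN G 4 = 23760
  s48 : sN G 4 + sN G 8 = 29700
  s5 : sN G 5 = 9504
  s6 : sN G 6 = 23760
  s10 : sN G 10 = 9504
  s11 : sN G 11 = 17280

section Nse

variable (hcard : Nat.card G = 95040)
  (hnse : {c : ℕ | 0 < c ∧ ∃ n : ℕ, c = sN G n} = {c | c ∈ nseVals})
include hnse

theorem sN_mem (n : ℕ) : sN G n ∈ ([0, 1, 891, 4400, 5940, 9504, 17280, 23760] : List ℕ) := by
  rcases Nat.eq_zero_or_pos (sN G n) with h | h
  · simp [h]
  · exact List.mem_cons_of_mem _ ((Set.ext_iff.1 hnse _).1 ⟨h, n, rfl⟩)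

theorem exists_sN {v : ℕ} (hv : v ∈ nseVals) : ∃ n, sN G n = v := by
  obtain ⟨-, n, hn⟩ := (Set.ext_iff.1 hnse v).2 hv
  exact ⟨n, hn.symm⟩

theorem sN_cases (n : ℕ) (hn : 2 < n) :
    sN G n = 0 ∨ sN G n = 4400 ∨ sN G n = 5940 ∨ sN G n = 9504 ∨ sN G n = 17280 ∨
      sN G n = 23760 := by
  have h2 := (even_iff_two_dvd.1 (Nat.totient_even hn)).trans (totient_dvd_sN (G := G) n)
  have := sN_mem hnse n
  simp only [List.mem_cons, List.not_mem_nil, or_false] at this
  omega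

theorem sN_dvd_cases (n : ℕ) : Nat.totient n ∣ sN G n ∧
    (sN G n = 0 ∨ sN G n = 1 ∨ sN G n = 891 ∨ sN G n = 4400 ∨ sN G n = 5940 ∨ sN G n = 9504 ∨
      sN G n = 17280 ∨ sN G n = 23760) := by
  have := sN_mem hnse n
  simp only [List.mem_cons, List.not_mem_nil, or_false] at this
  exact ⟨totient_dvd_sN n, this⟩

include hcard

theorem frob_prime {p : ℕ} (hp : p.Prime) (hd : p ∣ 95040) : 0 < sN G p ∧ p ∣ 1 + sN G p := by
  have : Fact p.Prime := ⟨hp⟩
  obtain ⟨g, hg⟩ := exists_prime_orderOf_dvd_card' (G := G) p (hcard ▸ hd)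
  refine ⟨sN_pos.2 ⟨g, hg⟩, ?_⟩
  have h := dvd_sum_sN (G := G) hp.ne_zero (hcard ▸ hd)
  rwa [hp.sum_divisors, add_comm, sN_one] at h

theorem s_two : sN G 2 = 891 := by
  obtain ⟨-, h2⟩ := frob_prime hcard hnse Nat.prime_two (by norm_num)
  obtain ⟨n, hn⟩ := exists_sN hnse (v := 891) (by simp [nseVals])
  rcases le_or_gt n 2 with h | h
  · interval_cases n
    · have : sN G 0 = 0 := sN_eq_zero_of_not_dvd (by rw [hcard]; norm_num)
      omega
    · rw [sN_one] at hn; omega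
    · exact hn
  · have := sN_cases hnse n h
    omega

theorem s_three : sN G 3 = 4400 := by
  obtain ⟨h0, h1⟩ := frob_prime hcard hnse Nat.prime_three (by norm_num)
  have := sN_cases hnse 3 (by norm_num)
  omega

theorem s_five : sN G 5 = 9504 := by
  obtain ⟨h0, h1⟩ := frob_prime hcard hnse (p := 5) (by norm_num) (by norm_num)
  have := sN_cases hnse 5 (by norm_num)
  omega

theorem s_eleven : sN G 11 = 17280 := by
  obtain ⟨h0, h1⟩ := frob_prime hcard hnse (p := 11) (by norm_num) (by norm_num)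
  have := sN_cases hnse 11 (by norm_num)
  omega

theorem s_ten : sN G 10 = 9504 := by
  have h := dvd_sum_sN (G := G) (n := 10) (by norm_num) (by rw [hcard]; norm_num)
  rw [show (10 : ℕ).divisors = {1, 2, 5, 10} by decide +kernel] at h
  simp only [sum_insert, mem_insert, mem_singleton, sum_singleton, Nat.reduceEqDiff, or_self,
    not_false_eq_true, sN_one, s_two hcard hnse, s_five hcard hnse] at h
  have := sN_cases hnse 10 (by norm_num)
  omega

end Nse

end Cfsg.Agent.M12Uniq
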