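import Cfsg.Agent.M12Uniq.CountsThreeLocal
import Cfsg.Agent.M12Uniq.CountsInvol
import Cfsg.Agent.M12Uniq.CountsArith

/-!
# The classes of elements of order three from the counts (`PLAN-Counts.md`, part D2)
-/

set_option autoImplicit false

namespace Cfsg.Agent.M12Uniq

open Subgroup

universe u

namespace CT

variable {G : Type u} [Group G] [Finite G]

/-- The intersection of the centralizers of `a` and `b`, seen inside the centralizer of `a`. -/
theorem card_inner_centralizer {a b : G} (hb : b ∈ centralizer ({a} : Set G)) :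
    Nat.card (centralizer ({(⟨b, hb⟩ : centralizer ({a} : Set G))} :
        Set (centralizer ({a} : Set G)))) =
      Nat.card ↥(centralizer ({a} : Set G) ⊓ centralizer ({b} : Set G)) :=
  Nat.card_congr
    { toFun := fun y => ⟨y.1.1, y.1.2, CU.mem_cent.mpr (congrArg Subtype.val (CU.mem_cent.mp y.2))⟩
      invFun := fun y => ⟨⟨y.1, (Subgroup.mem_inf.mp y.2).1⟩, CU.mem_cent.mpr
        (Subtype.ext (CU.mem_cent.mp (Subgroup.mem_inf.mp y.2).2))⟩
      left_inv := fun _ => rfl
      right_inv := fun _ => rfl }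

/-- Elements of order six correspond to commuting pairs of elements of orders two and three. -/
theorem sN_six : sN G 6 =
    ∑ᶠ t : {t : G // orderOf t = 2}, sN (centralizer ({t.1} : Set G)) 3 := by
  classical
  have := Fintype.ofFinite G
  have e : {g : G // orderOf g = 6} ≃
      (t : {t : G // orderOf t = 2}) × {y : centralizer ({t.1} : Set G) // orderOf y = 3} :=
    { toFun := fun g => ⟨⟨g.1 ^ 3, by rw [orderOf_pow' _ (by norm_num), g.2]; rfl⟩,
        ⟨⟨g.1 ^ 4, CU.mem_cent.mpr (((Commute.refl g.1).pow_pow 3 4).eq)⟩, by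
          rw [Subgroup.orderOf_mk, orderOf_pow' _ (by norm_num), g.2]; rfl⟩⟩
      invFun := fun y => ⟨y.1.1 * y.2.1.1, by
        rw [Commute.orderOf_mul_eq_mul_orderOf_of_coprime (CU.mem_cent.mp y.2.1.2)
          (by rw [y.1.2, Subgroup.orderOf_coe, y.2.2]; norm_num), y.1.2, Subgroup.orderOf_coe,
          y.2.2]⟩
      left_inv := fun g => Subtype.ext (by
        show g.1 ^ 3 * g.1 ^ 4 = g.1
        rw [← pow_add, show 3 + 4 = 6 + 1 by rfl, pow_succ,
          orderOf_dvd_iff_pow_eq_one.mp g.2.dvd, one_mul])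
      right_inv := by
        rintro ⟨⟨t, ht⟩, ⟨⟨y, hy⟩, hy3⟩⟩
        rw [Subgroup.orderOf_mk] at hy3
        have hc : Commute t y := CU.mem_cent.mp hy
        have ht2 : t ^ 2 = 1 := ht ▸ pow_orderOf_eq_one t
        have hy' : y ^ 3 = 1 := hy3 ▸ pow_orderOf_eq_one y
        have h3 : (t * y) ^ 3 = t := by rw [hc.mul_pow, hy', mul_one, pow_succ, ht2, one_mul]
        have h4 : (t * y) ^ 4 = y := by
          rw [hc.mul_pow, show (4 : ℕ) = 2 * 2 by rfl, pow_mul, ht2, one_pow, one_mul,
            show 2 * 2 = 3 + 1 by rfl, pow_succ, hy', one_mul]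
        have gen : ∀ (a b : {t : G // orderOf t = 2})
            (y : {w : centralizer ({a.1} : Set G) // orderOf w = 3})
            (y' : {w : centralizer ({b.1} : Set G) // orderOf w = 3}),
            a = b → (y.1.1 = y'.1.1) →
            (⟨a, y⟩ : (t : {t : G // orderOf t = 2}) ×
              {w : centralizer ({t.1} : Set G) // orderOf w = 3}) = ⟨b, y'⟩ := by
          rintro a _ y y' rfl e
          exact Sigma.ext rfl (heq_of_eq (Subtype.ext (Subtype.ext e)))
        exact gen _ _ _ _ (Subtype.ext h3) h4 }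
  rw [sN, Nat.card_congr e, Nat.card_sigma, finsum_eq_sum_of_fintype]
  rfl

theorem not_nine_dvd {t : G} (hi : Invols G) (ht : orderOf t = 2) : ¬ 9 ∣ cC t := by
  rcases hi.invol t ht with h | h <;> rw [h] <;> norm_num

theorem not_nine_dvd_card {t : G} (hi : Invols G) (ht : orderOf t = 2) :
    ¬ 9 ∣ Nat.card (centralizer ({t} : Set G)) := not_nine_dvd hi ht

theorem sN_three_eq_of_isConj {s t : G} (h : IsConj s t) :
    sN (centralizer ({s} : Set G)) 3 = sN (centralizer ({t} : Set G)) 3 := by
  obtain ⟨g, rfl⟩ := isConj_iff.mp h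
  refine Nat.card_congr
    { toFun := fun y => ⟨⟨g * y.1.1 * g⁻¹, CU.mem_cent.mpr
        (CU.conj_comm g (CU.mem_cent.mp y.1.2))⟩, by
          rw [Subgroup.orderOf_mk, CU.orderOf_conj, Subgroup.orderOf_coe]; exact y.2⟩
      invFun := fun y => ⟨⟨g⁻¹ * y.1.1 * g, CU.mem_cent.mpr (by
          have := CU.conj_comm g⁻¹ (CU.mem_cent.mp y.1.2)
          simpa [mul_assoc] using this)⟩, by
          rw [Subgroup.orderOf_mk]
          have := CU.orderOf_conj g⁻¹ y.1.1
          rw [inv_inv] at this
          rw [this, Subgroup.orderOf_coe]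
          exact y.2⟩
      left_inv := fun y => Subtype.ext (Subtype.ext (by
        show g⁻¹ * (g * y.1.1 * g⁻¹) * g = y.1.1
        group))
      right_inv := fun y => Subtype.ext (Subtype.ext (by
        show g * (g⁻¹ * y.1.1 * g) * g⁻¹ = y.1.1
        group)) }

variable (hp : Pre G) (hf : UFacts G) (hi : Invols G)

include hi in
theorem exists_three {t : G} (ht : orderOf t = 2) :
    ∃ h : G, orderOf h = 3 ∧ t * h = h * t := by
  have : Fact (Nat.Prime 3) := ⟨by norm_num⟩
  obtain ⟨⟨h, hh⟩, hord⟩ := exists_prime_orderOf_dvd_card' (G := centralizer ({t} : Set G)) 3 (by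
    rcases hi.invol t ht with e | e <;> rw [show Nat.card _ = _ from e] <;> norm_num)
  rw [Subgroup.orderOf_mk] at hord
  exact ⟨h, hord, CU.mem_cent.mp hh⟩

include hf hi in
/-- A centralizer of order 240 has 20 elements of order three. -/
theorem sN_three_u {u : G} (hu : orderOf u = 2) (h240 : cC u = 240) :
    sN (centralizer ({u} : Set G)) 3 = 20 := by
  obtain ⟨h, hh, huh⟩ := exists_three hi hu
  obtain ⟨s, hs, hn⟩ := card_three (H := centralizer ({u} : Set G)) (not_nine_dvd_card hi hu)
    (h := ⟨h, CU.mem_cent.mpr huh⟩) (by rw [Subgroup.orderOf_mk]; exact hh)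
  rw [card_inner_centralizer, hf.three u h hu h240 hh huh,
    show Nat.card (centralizer ({u} : Set G)) = 240 from h240] at hs
  have hd : 3 ∣ ∑ d ∈ Nat.divisors 3, sN (centralizer ({u} : Set G)) d :=
    dvd_sum_sN (by norm_num) (by rw [show Nat.card _ = 240 from h240]; norm_num)
  rw [(by norm_num : (3 : ℕ).Prime).sum_divisors, sN_one] at hd
  unfold sN at hd ⊢
  omega

include hp hf hi in
/-- A centralizer of order 192 has 32 elements of order three. -/
theorem sN_three_z {z : G} (hz : orderOf z = 2) (h192 : cC z = 192) :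
    sN (centralizer ({z} : Set G)) 3 = 32 := by
  classical
  have := Fintype.ofFinite G
  obtain ⟨v, hv, h240⟩ := hi.exists_u
  have h495 : Nat.card {t : G // orderOf t = 2 ∧ cC t ≠ 240} = 495 :=
    CI.card_other hp hv h240 fun t ht h => hi.invol_conj v t hv ht (h240.trans h.symm)
  have hK : Nat.card {t : G // orderOf t = 2 ∧ cC t = 240} = 396 := by
    have h2 := hp.s2
    rw [sN, Nat.card_eq_fintype_card, Fintype.card_subtype] at h2
    rw [Nat.card_eq_fintype_card, Fintype.card_subtype] at h495 ⊢
    have hsplit := Finset.card_filter_add_card_filter_not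
      (s := Finset.univ.filter fun t : G => orderOf t = 2) (fun t => cC t = 240)
    rw [Finset.filter_filter, Finset.filter_filter, h2] at hsplit
    simp only [ne_eq] at h495
    omega
  have hsum : sN G 6 = ∑ t ∈ Finset.univ.filter (fun t : G => orderOf t = 2),
      sN (centralizer ({t} : Set G)) 3 := by
    rw [sN_six, finsum_eq_sum_of_fintype]
    exact (Finset.sum_subtype (p := fun t : G => orderOf t = 2) _ (fun x => by simp)
      (fun t : G => sN (centralizer ({t} : Set G)) 3)).symm
  rw [hp.s6, ← Finset.sum_filter_add_sum_filter_not _ (fun t : G => cC t = 240),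
    Finset.filter_filter, Finset.filter_filter,
    Finset.sum_congr rfl (fun t ht => sN_three_u hf hi (Finset.mem_filter.mp ht).2.1
      (Finset.mem_filter.mp ht).2.2),
    Finset.sum_congr (s₁ := Finset.univ.filter fun t : G => orderOf t = 2 ∧ ¬ cC t = 240) rfl
      (fun t ht => (sN_three_eq_of_isConj (hi.invol_conj z t hz (Finset.mem_filter.mp ht).2.1
        (h192.trans ((hi.invol t (Finset.mem_filter.mp ht).2.1).resolve_right
          (Finset.mem_filter.mp ht).2.2).symm))).symm),
    Finset.sum_const, Finset.sum_const, smul_eq_mul, smul_eq_mul] at hsum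
  rw [Nat.card_eq_fintype_card, Fintype.card_subtype] at hK h495
  simp only [ne_eq] at h495
  rw [hK, h495] at hsum
  omega

include hp hf hi in
/-- The common centralizer of commuting elements of orders two and three. -/
theorem card_two_three {t h : G} (ht : orderOf t = 2) (hh : orderOf h = 3) (hth : t * h = h * t) :
    Nat.card ↥(centralizer ({t} : Set G) ⊓ centralizer ({h} : Set G)) = 6 ∨
      Nat.card ↥(centralizer ({t} : Set G) ⊓ centralizer ({h} : Set G)) = 12 := by
  rcases hi.invol t ht with e | e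
  · obtain ⟨s, hs, hn⟩ := card_three (H := centralizer ({t} : Set G)) (not_nine_dvd_card hi ht)
      (h := ⟨h, CU.mem_cent.mpr hth⟩) (by rw [Subgroup.orderOf_mk]; exact hh)
    rw [card_inner_centralizer, show Nat.card (centralizer ({t} : Set G)) = 192 from e] at hs
    have h32 := sN_three_z hp hf hi ht e
    unfold sN at h32
    rw [h32] at hn
    rcases hn with rfl | hn <;>
      [left; right]
    · omega
    · obtain rfl : s = 16 := by omega
      omega
  · exact Or.inr (hf.three t h ht e hh hth)

include hp in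
/-- The order of the centralizer of an element of order three divides `1728`. -/
theorem cC_three_dvd {x : G} (hx : orderOf x = 3) : cC x ∣ 1728 := by
  have hd : cC x ∣ 1728 * 55 := by
    have := card_subgroup_dvd_card (centralizer ({x} : Set G))
    rw [hp.card] at this
    exact this
  refine Nat.Coprime.dvd_of_dvd_mul_right ?_ hd
  rw [show (55 : ℕ) = 5 * 11 by norm_num]
  have hno : ∀ p : ℕ, p.Prime → (p = 5 ∨ p = 11) → ¬ p ∣ cC x := by
    intro p hpp hp5 hdp
    have : Fact p.Prime := ⟨hpp⟩
    obtain ⟨⟨a, haC⟩, ha⟩ := exists_prime_orderOf_dvd_card'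
      (G := ↥(centralizer ({x} : Set G))) p hdp
    rw [Subgroup.orderOf_mk] at ha
    have h15 := hp.spec (x * a)
    rw [Commute.orderOf_mul_eq_mul_orderOf_of_coprime (CU.mem_cent.mp haC)
      (by rcases hp5 with rfl | rfl <;> rw [ha, hx] <;> norm_num), hx, ha] at h15
    rcases hp5 with rfl | rfl <;> simp at h15
  exact Nat.Coprime.mul_right
    ((Nat.Prime.coprime_iff_not_dvd (by norm_num)).mpr (hno 5 (by norm_num) (Or.inl rfl))).symm
    ((Nat.Prime.coprime_iff_not_dvd (by norm_num)).mpr (hno 11 (by norm_num) (Or.inr rfl))).symm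

include hp in
/-- No element commuting with an element of order three has order four or eight. -/
theorem no_four {x g : G} (hx : orderOf x = 3) (hg : x * g = g * x) :
    orderOf g ≠ 4 ∧ orderOf g ≠ 8 := by
  constructor <;> intro e <;>
    (have h := hp.spec (x * g)
     rw [Commute.orderOf_mul_eq_mul_orderOf_of_coprime hg (by rw [e, hx]; norm_num), hx, e] at h
     simp at h)

include hp hf hi in
/-- The 2-part of the centralizer of an element of order three divides four. -/
theorem not_eight_dvd {x : G} (hx : orderOf x = 3) : ¬ 8 ∣ cC x := by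
  intro h8
  have : Fact (Nat.Prime 2) := ⟨Nat.prime_two⟩
  obtain ⟨S, hS⟩ := Sylow.exists_subgroup_card_pow_prime (G := centralizer ({x} : Set G)) 2
    (n := 3) h8
  have hsq : ∀ a ∈ S, a * a = 1 := by
    intro a ha
    have hd : orderOf a ∣ 2 ^ 3 := hS ▸ Subgroup.orderOf_dvd_natCard _ ha
    obtain ⟨k, hk, hk'⟩ := (Nat.dvd_prime_pow Nat.prime_two).mp hd
    have h4 := no_four hp hx (CU.mem_cent.mp a.2)
    rw [Subgroup.orderOf_coe] at h4
    rw [← pow_two]
    refine orderOf_dvd_iff_pow_eq_one.mp ?_
    interval_cases k <;> norm_num at hk' <;>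
      first | exact absurd hk' h4.1 | exact absurd hk' h4.2 | norm_num [hk']
  have hcomm : ∀ a ∈ S, ∀ b ∈ S, a * b = b * a := by
    intro a ha b hb
    calc a * b = a⁻¹ * b⁻¹ := by
          rw [inv_eq_of_mul_eq_one_right (hsq a ha), inv_eq_of_mul_eq_one_right (hsq b hb)]
      _ = (b * a)⁻¹ := (mul_inv_rev b a).symm
      _ = b * a := inv_eq_of_mul_eq_one_right (hsq _ (mul_mem hb ha))
  obtain ⟨⟨t, htS⟩, ht⟩ := exists_prime_orderOf_dvd_card' (G := S) 2 (by rw [hS]; norm_num)
  rw [Subgroup.orderOf_mk, ← Subgroup.orderOf_coe] at ht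
  have hle : S.map (centralizer ({x} : Set G)).subtype ≤
      centralizer ({(t : G)} : Set G) ⊓ centralizer ({x} : Set G) := by
    rintro _ ⟨a, ha, rfl⟩
    exact ⟨CU.mem_cent.mpr (congrArg Subtype.val (hcomm t htS a ha)), a.2⟩
  have h := Subgroup.card_dvd_of_le hle
  rw [Subgroup.card_subtype, hS] at h
  rcases card_two_three hp hf hi ht hx (CU.mem_cent.mp t.2).symm with e | e <;> rw [e] at h <;>
    norm_num at h

include hp in
/-- Classes of elements of order three have at most 4400 elements. -/
theorem class_mul {x : G} (hx : orderOf x = 3) :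
    Nat.card {y : G // IsConj x y} * cC x = 95040 ∧ Nat.card {y : G // IsConj x y} ≤ 4400 := by
  refine ⟨(CI.card_class_mul x).trans hp.card, ?_⟩
  rw [← hp.s3]
  exact Nat.card_le_card_of_injective
    (fun y => (⟨y.1, (CI.orderOf_of_isConj y.2).symm.trans hx⟩ : {g : G // orderOf g = 3}))
    (fun a b e => Subtype.ext (congrArg Subtype.val e :))

include hp hf hi in
/-- If four divides the order of the centralizer, its order is 36 and its involutions are
conjugate. -/
theorem four_dvd {x : G} (hx : orderOf x = 3) (h4 : 4 ∣ cC x) :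
    cC x = 36 ∧ ∀ s t : G, orderOf s = 2 → orderOf t = 2 → x * s = s * x → x * t = t * x →
      IsConj s t := by
  have h3 : 3 ∣ cC x := by
    have h := Subgroup.orderOf_dvd_natCard (centralizer ({x} : Set G))
      (CU.mem_cent.mpr (rfl : x * x = x * x))
    rwa [hx] at h
  obtain ⟨hm, hle⟩ := class_mul hp hx
  have key : ∀ m ∈ Nat.divisors 1728, 4 ∣ m → 3 ∣ m → ¬ 8 ∣ m → m = 12 ∨ m = 36 ∨ m = 108 := by
    decide +kernel
  have hcases := key _ (Nat.mem_divisors.mpr ⟨cC_three_dvd hp hx, by norm_num⟩) h4 h3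
    (not_eight_dvd hp hf hi hx)
  have hne : cC x ≠ 12 := fun e => by rw [e] at hm; omega
  obtain ⟨i, hi23, hcard⟩ : ∃ i, (i = 2 ∨ i = 3) ∧
      Nat.card (centralizer ({x} : Set G)) = 4 * 3 ^ i := by
    rcases hcases with e | e | e
    · exact absurd e hne
    · exact ⟨2, Or.inl rfl, e⟩
    · exact ⟨3, Or.inr rfl, e⟩
  set H := centralizer ({x} : Set G)
  have hinv : ∀ t : H, orderOf t = 2 → Nat.card (centralizer ({t} : Set H)) = 12 := by
    intro t ht
    have hxt : x * (t : G) = t * x := CU.mem_cent.mp t.2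
    have e := card_inner_centralizer (a := x) (b := (t : G)) t.2
    rw [inf_comm] at e
    change Nat.card (centralizer ({t} : Set H)) = _ at e
    rcases card_two_three hp hf hi ((Subgroup.orderOf_coe t).trans ht) hx hxt.symm with e' | e' <;>
      rw [e'] at e
    · exfalso
      -- the centralizer contains a Sylow 2-subgroup
      have : Fact (Nat.Prime 2) := ⟨Nat.prime_two⟩
      obtain ⟨T, hT⟩ := (IsPGroup.of_card (p := 2) (n := 1)
        (by rw [Nat.card_zpowers, ht, pow_one] : Nat.card (zpowers t) = 2 ^ 1)).exists_le_sylow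
      have hT4 : 4 ∣ Nat.card (T : Subgroup H) :=
        T.pow_dvd_card_of_pow_dvd_card (n := 2) (by rw [hcard]; exact Dvd.intro _ rfl)
      have hsq : ∀ a ∈ (T : Subgroup H), a * a = 1 := by
        intro a ha
        obtain ⟨k, hk⟩ := IsPGroup.iff_orderOf.mp T.isPGroup' ⟨a, ha⟩
        rw [Subgroup.orderOf_mk] at hk
        have h48 := no_four hp hx (CU.mem_cent.mp a.2)
        rw [Subgroup.orderOf_coe] at h48
        have hspec := hp.spec (a : G)
        rw [Subgroup.orderOf_coe] at hspec
        have hk1 : k ≤ 1 := by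
          by_contra hcon
          have h4' : 2 ^ 2 ∣ orderOf a := hk ▸ pow_dvd_pow 2 (by omega)
          simp only [Finset.mem_insert, Finset.mem_singleton] at hspec
          omega
        rw [← pow_two]
        exact orderOf_dvd_iff_pow_eq_one.mp (hk ▸ (pow_dvd_pow 2 hk1))
      have hTle : (T : Subgroup H) ≤ centralizer ({t} : Set H) := fun a ha => by
        have htT := hT (mem_zpowers t)
        refine CU.mem_cent.mpr ?_
        calc t * a = t⁻¹ * a⁻¹ := by
              rw [inv_eq_of_mul_eq_one_right (hsq t htT), inv_eq_of_mul_eq_one_right (hsq a ha)]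
          _ = (a * t)⁻¹ := (mul_inv_rev a t).symm
          _ = a * t := inv_eq_of_mul_eq_one_right (hsq _ (mul_mem ha htT))
      have := hT4.trans (Subgroup.card_dvd_of_le hTle)
      rw [e] at this
      norm_num at this
    · exact e
  obtain ⟨rfl, hconj⟩ := four_sylow (H := H) (x := ⟨x, CU.mem_cent.mpr rfl⟩)
    (by rw [Subgroup.orderOf_mk]; exact hx) (fun g => Subtype.ext (CU.mem_cent.mp g.2)) hinv
    (fun g hg => (no_four hp hx (CU.mem_cent.mp g.2)).1 ((Subgroup.orderOf_coe g).trans hg))
    hi23 hcard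
  refine ⟨hcard, fun s t hs ht hxs hxt => ?_⟩
  have h := hconj ⟨s, CU.mem_cent.mpr hxs⟩ ⟨t, CU.mem_cent.mpr hxt⟩
    (by rw [Subgroup.orderOf_mk]; exact hs) (by rw [Subgroup.orderOf_mk]; exact ht)
  obtain ⟨g, hg⟩ := isConj_iff.mp h
  exact isConj_iff.mpr ⟨g, congrArg Subtype.val hg⟩

end CT

open CT in
/-- The classes of elements of order three. -/
theorem threes {G : Type u} [Group G] [Finite G] (hp : Pre G) (hf : UFacts G) (hi : Invols G) :
    Threes G := by
  classical
  obtain ⟨v, hv, h240⟩ := hi.exists_u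
  obtain ⟨y, hy, hvy⟩ := exists_three hi hv
  have hy4 : 4 ∣ cC y := by
    have h : 12 ∣ cC y := hf.three v y hv h240 hy hvy ▸ card_dvd_of_le inf_le_right
    exact dvd_trans (by norm_num) h
  obtain ⟨hy36, hyconj⟩ := four_dvd hp hf hi hy hy4
  -- the remaining elements of order three
  have hrest : ∀ x : G, orderOf x = 3 → ¬ IsConj y x →
      cC x = 54 ∧ ∀ w : G, orderOf w = 3 → ¬ IsConj y w → IsConj x w := by
    intro x hx hxy
    have := Fintype.ofFinite G
    obtain ⟨hmx, -⟩ := class_mul hp hx
    obtain ⟨hmy, -⟩ := class_mul hp hy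
    rw [hy36] at hmy
    have h3 := hp.s3
    simp only [sN, Nat.card_eq_fintype_card, Fintype.card_subtype] at h3 hmx hmy
    set O := Finset.univ.filter fun g : G => orderOf g = 3
    set A := Finset.univ.filter fun g : G => IsConj y g
    set B := Finset.univ.filter fun g : G => IsConj x g
    have hsub : B ⊆ O \ A := fun g hg => by
      simp only [B, O, A, Finset.mem_sdiff, Finset.mem_filter, Finset.mem_univ, true_and] at hg ⊢
      exact ⟨(CI.orderOf_of_isConj hg).symm.trans hx, fun h => hxy (h.trans hg.symm)⟩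
    have hOA : (O \ A).card = 1760 := by
      rw [Finset.card_sdiff_of_subset]
      · omega
      · intro g hg
        simp only [O, A, Finset.mem_filter, Finset.mem_univ, true_and] at hg ⊢
        exact (CI.orderOf_of_isConj hg).symm.trans hy
    have hB := Finset.card_le_card hsub
    rw [hOA] at hB
    have h4 : ¬ 4 ∣ cC x := fun h => by
      rw [(four_dvd hp hf hi hx h).1] at hmx
      omega
    have h54 : 54 ≤ cC x := by
      by_contra hcon
      have : B.card * cC x ≤ 1760 * 53 := Nat.mul_le_mul hB (by omega)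
      omega
    have key : ∀ m ∈ Nat.divisors 1728, ¬ 4 ∣ m → 54 ≤ m → m = 54 := by decide +kernel
    have hx54 := key _ (Nat.mem_divisors.mpr ⟨cC_three_dvd hp hx, by norm_num⟩) h4 h54
    rw [hx54] at hmx
    have heq : B = O \ A := Finset.eq_of_subset_of_card_le hsub (by omega)
    refine ⟨hx54, fun w hw hwy => ?_⟩
    have : w ∈ B := by
      rw [heq]
      simp only [O, A, Finset.mem_sdiff, Finset.mem_filter, Finset.mem_univ, true_and]
      exact ⟨hw, hwy⟩
    simpa [B] using this
  have h36 : ∀ x : G, IsConj y x → cC x = 36 := fun x h => (CI.cC_of_isConj h).symm.trans hy36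
  -- the involutions commuting with conjugates of `y`
  have hu36 : ∀ x t : G, IsConj y x → orderOf t = 2 → x * t = t * x → cC t = 240 := by
    intro x t hx ht hxt
    obtain ⟨g, rfl⟩ := isConj_iff.mp hx
    have h := CU.conj_comm g⁻¹ hxt
    rw [show g⁻¹ * (g * y * g⁻¹) * g⁻¹⁻¹ = y by group] at h
    have hc := hyconj v (g⁻¹ * t * g⁻¹⁻¹) hv ((CU.orderOf_conj _ _).trans ht) hvy.symm h
    rw [CI.cC_of_isConj (isConj_iff.mpr ⟨g⁻¹, rfl⟩ : IsConj t _), ← CI.cC_of_isConj hc, h240]
  have h54 : ∀ x t : G, orderOf x = 3 → ¬ IsConj y x → orderOf t = 2 → x * t = t * x →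
      cC t = 192 := by
    intro x t hx hxy ht hxt
    refine (hi.invol t ht).resolve_right fun e => ?_
    have h : 12 ∣ cC x := hf.three t x ht e hx hxt.symm ▸ card_dvd_of_le inf_le_right
    rw [(hrest x hx hxy).1] at h
    norm_num at h
  obtain ⟨z, hz, h192⟩ := hi.exists_z
  obtain ⟨x0, hx0, hzx0⟩ := exists_three hi hz
  have hx0y : ¬ IsConj y x0 := fun h => by
    have := hu36 x0 z h hz hzx0.symm
    omega
  refine ⟨fun x hx => ?_, ⟨x0, hx0, (hrest x0 hx0 hx0y).1⟩, ⟨y, hy, hy36⟩,
    fun a b ha hb hab => ?_, fun x t hx h ht hxt => ?_, fun x t hx h ht hxt => ?_,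
    fun z' h hz' h192' hh hzh => ?_⟩
  · by_cases h : IsConj y x
    · exact Or.inr (h36 x h)
    · exact Or.inl (hrest x hx h).1
  · by_cases h : IsConj y a
    · by_cases h' : IsConj y b
      · exact h.symm.trans h'
      · rw [h36 a h, (hrest b hb h').1] at hab
        omega
    · by_cases h' : IsConj y b
      · rw [h36 b h', (hrest a ha h).1] at hab
        omega
      · exact (hrest a ha h).2 b hb h'
  · exact h54 x t hx (fun e => by have := h36 x e; omega) ht hxt
  · exact hu36 x t (by
      by_contra e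
      have := (hrest x hx e).1
      omega) ht hxt
  · rcases card_two_three hp hf hi hz' hh hzh with e | e
    · exact e
    · exfalso
      have h12 : 12 ∣ cC h := e ▸ card_dvd_of_le inf_le_right
      have hne : ¬ IsConj y h := fun c => by
        have := hu36 h z' c hz' hzh.symm
        omega
      rw [(hrest h hh hne).1] at h12
      norm_num at h12

end Cfsg.Agent.M12Uniq
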