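import Cfsg.Agent.Classification.SimpleOrder360
import Cfsg.Agent.Classification.SimpleOrder720

/-!
# Groups of order 720 with thirty-six self-centralizing subgroups of order five (helper68)

Such a group has ten Sylow 3-subgroups, and no involution centralizes one of them.
-/

set_option autoImplicit false

open Subgroup

namespace Cfsg.Agent.M12Uniq.K66

universe u

set_option linter.unusedSectionVars false

variable {X : Type u} [Group X] [Finite X]

/-- The data of the quotient: an element of order five generating its own centralizer. -/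
structure Five (q : X) : Prop where
  card : Nat.card X = 720
  ord : orderOf q = 5
  cent : ∀ x : X, x * q = q * x → x ∈ zpowers q
  sylow : Nat.card (Sylow 5 X) = 36

variable {q : X}

theorem Five.card_zpowers (h : Five q) : Nat.card (zpowers q) = 5 := by
  rw [Nat.card_zpowers, h.ord]

/-- The automorphism induced by an element normalizing a subgroup. -/
theorem exists_aut (h : Five q) {H : Subgroup X} (hq : q ∈ normalizer (H : Set X)) :
    ∃ φ : MulAut H, IsPGroup 5 (zpowers φ) ∧ ∀ x : H, (((φ x : H)) : X) = q * (x : X) * q⁻¹ := by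
  refine ⟨H.normalizerMonoidHom ⟨q, hq⟩, ?_, fun x => rfl⟩
  have h5 : (H.normalizerMonoidHom ⟨q, hq⟩) ^ 5 = 1 := by
    rw [← map_pow]
    have : (⟨q, hq⟩ : normalizer (H : Set X)) ^ 5 = 1 :=
      Subtype.ext (by rw [SubmonoidClass.coe_pow, OneMemClass.coe_one, ← h.ord, pow_orderOf_eq_one])
    rw [this, map_one]
  obtain ⟨j, -, hj⟩ := (Nat.dvd_prime_pow Nat.prime_five).mp
    (show orderOf (H.normalizerMonoidHom ⟨q, hq⟩) ∣ 5 ^ 1 by
      rw [pow_one]; exact orderOf_dvd_of_pow_eq_one h5)
  exact IsPGroup.of_card (n := j) (by rw [Nat.card_zpowers, hj])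

/-- A subgroup of order prime to five normalized by `q` has order `1` modulo five. -/
theorem inv_card (h : Five q) {H : Subgroup X} (hq : q ∈ normalizer (H : Set X))
    (h5 : ¬ 5 ∣ Nat.card H) : Nat.card H % 5 = 1 := by
  have : Fact (Nat.Prime 5) := ⟨Nat.prime_five⟩
  obtain ⟨φ, hφ, hφx⟩ := exists_aut h hq
  have hm := hφ.card_modEq_card_fixedPoints H
  have hone : MulAction.fixedPoints (zpowers φ) H = {1} := by
    ext x
    refine ⟨fun hx => ?_, ?_⟩
    · have hx' : (((φ x : H)) : X) = (x : X) :=
        congrArg Subtype.val (hx ⟨φ, mem_zpowers φ⟩ : φ x = x)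
      rw [hφx, mul_inv_eq_iff_eq_mul] at hx'
      have hmem := h.cent (x : X) hx'.symm
      by_contra hne
      have hne' : (x : X) ≠ 1 := fun e => hne (Subtype.ext e)
      have hd : orderOf (x : X) ∣ 5 := h.card_zpowers ▸ Subgroup.orderOf_dvd_natCard _ hmem
      rcases (Nat.dvd_prime Nat.prime_five).mp hd with h1 | h1
      · exact hne' (orderOf_eq_one_iff.mp h1)
      · exact h5 (h1 ▸ Subgroup.orderOf_dvd_natCard H x.2)
    · intro hx
      rw [Set.mem_singleton_iff] at hx
      subst hx
      exact fun a => smul_one a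
  rw [hone] at hm
  simpa [Nat.ModEq] using hm

/-- A subgroup of order `6` or `36` normalized by `q` is impossible. -/
theorem not_six (h : Five q) {H : Subgroup X} (hq : q ∈ normalizer (H : Set X))
    (hc : Nat.card H = 6 ∨ Nat.card H = 36) : False := by
  have : Fact (Nat.Prime 5) := ⟨Nat.prime_five⟩
  have : Fact (Nat.Prime 3) := ⟨Nat.prime_three⟩
  obtain ⟨φ, hφ, hφx⟩ := exists_aut h hq
  have hn : ¬ 5 ∣ Nat.card (Sylow 3 H) := fun hd => by
    obtain ⟨P⟩ := (inferInstance : Nonempty (Sylow 3 H))
    have := (hd.trans P.card_dvd_index).trans (Subgroup.index_dvd_card _)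
    rcases hc with hc | hc <;> rw [hc] at this <;> norm_num at this
  obtain ⟨P, hP⟩ := hφ.nonempty_fixed_point_of_prime_not_dvd_card (Sylow 3 H) hn
  have hcard : Nat.card (P : Subgroup H) = 3 ∨ Nat.card (P : Subgroup H) = 9 := by
    rcases hc with hc | hc
    · exact Or.inl (by rw [SmallGroups.card_sylow_eq
        (show Nat.card H = 3 ^ 1 * 2 by rw [hc]; rfl) (by norm_num) P]; norm_num)
    · exact Or.inr (by rw [SmallGroups.card_sylow_eq
        (show Nat.card H = 3 ^ 2 * 4 by rw [hc]; rfl) (by norm_num) P]; norm_num)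
  set Q := (P : Subgroup H).map H.subtype with hQ
  have hQc : Nat.card Q = Nat.card (P : Subgroup H) :=
    Subgroup.card_map_of_injective H.subtype_injective
  have hqQ : q ∈ normalizer (Q : Set X) := by
    refine Subgroup.mem_normalizer_fintype ?_
    rintro _ ⟨x, hx, rfl⟩
    refine ⟨φ x, ?_, hφx x⟩
    have h1 : φ • P = P := hP ⟨φ, mem_zpowers φ⟩
    rw [← h1]
    exact ⟨x, hx, rfl⟩
  have h5 : ¬ 5 ∣ Nat.card Q := by rw [hQc]; rcases hcard with e | e <;> rw [e] <;> norm_num
  have := inv_card h hqQ h5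
  rw [hQc] at this
  omega

theorem card_normalizer (h : Five q) (S : Sylow 5 X) :
    Nat.card (normalizer ((S : Subgroup X) : Set X)) = 20 :=
  have : Fact (Nat.Prime 5) := ⟨Nat.prime_five⟩
  SmallGroups.normalizer_conj_eq_card S h.sylow (by rw [h.card])

theorem five_sylow (h : Five q) : ∃ S : Sylow 5 X, (S : Subgroup X) = zpowers q := by
  have : Fact (Nat.Prime 5) := ⟨Nat.prime_five⟩
  refine ⟨Sylow.ofCard (zpowers q) ?_, rfl⟩
  rw [h.card_zpowers, h.card, show (720 : ℕ) = 5 ^ 1 * 144 by norm_num,
    Nat.factorization_mul (by norm_num) (by norm_num), Finsupp.add_apply,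
    Nat.Prime.factorization_pow Nat.prime_five, Finsupp.single_eq_same,
    Nat.factorization_eq_zero_of_not_dvd (by norm_num : ¬ 5 ∣ 144)]
  norm_num

/-- In a subgroup containing all conjugates of `q` the index of `K` and the normalizer agree. -/
theorem index_mul_card_inf (h : Five q) {M K : Subgroup X} (hKM : K ≤ M)
    (hMK : M ≤ normalizer (K : Set X)) (hqK : q ∈ K) :
    ∃ d : ℕ, 5 ∣ d ∧ K.relIndex M * d = Nat.card ↥(M ⊓ normalizer (zpowers q : Set X)) := by
  have : Fact (Nat.Prime 5) := ⟨Nat.prime_five⟩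
  have : (K.subgroupOf M).Normal := normal_subgroupOf_of_le_normalizer hMK
  set N := M ⊓ normalizer (zpowers q : Set X) with hN
  let f : N →* M ⧸ K.subgroupOf M :=
    (QuotientGroup.mk' (K.subgroupOf M)).comp (Subgroup.inclusion inf_le_left)
  obtain ⟨S, hS⟩ := five_sylow h
  have hSK : (S : Subgroup X) ≤ K := by rw [hS, zpowers_le]; exact hqK
  have hsurj : Function.Surjective f := by
    intro m'
    obtain ⟨m, rfl⟩ := QuotientGroup.mk'_surjective (K.subgroupOf M) m'
    have hmS : ((m : X) • S : Sylow 5 X) ≤ K := by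
      rw [Sylow.coe_subgroup_smul]
      rintro _ ⟨x, hx, rfl⟩
      exact (mem_normalizer_iff.mp (hMK m.2) x).mp (hSK hx)
    obtain ⟨k, hk⟩ := MulAction.exists_smul_eq K (S.subtype hSK) (((m : X) • S).subtype hmS)
    rw [Sylow.smul_subtype] at hk
    have hk' : (k : X) • S = (m : X) • S := Sylow.subtype_injective hk
    have hn : (k : X)⁻¹ * (m : X) ∈ normalizer (zpowers q : Set X) := by
      rw [← hS]
      refine Sylow.smul_eq_iff_mem_normalizer.mp ?_
      rw [mul_smul, ← hk', inv_smul_smul]
    refine ⟨⟨(k : X)⁻¹ * m, M.mul_mem (M.inv_mem (hKM k.2)) m.2, hn⟩, ?_⟩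
    refine (QuotientGroup.eq).mpr ?_
    have hmem : ((k : X)⁻¹ * (m : X))⁻¹ * (m : X) ∈ K := by
      rw [mul_inv_rev, inv_inv]
      exact (mem_normalizer_iff''.mp (hMK m.2) k).mp k.2
    exact hmem
  have hq5 : orderOf (⟨q, hKM hqK, le_normalizer (mem_zpowers q)⟩ : N) = 5 := by
    rw [← Subgroup.orderOf_coe]
    exact h.ord
  refine ⟨Nat.card f.ker, ?_, ?_⟩
  · rw [← hq5]
    refine Subgroup.orderOf_dvd_natCard _ ?_
    rw [MonoidHom.mem_ker]
    exact (QuotientGroup.eq_one_iff _).mpr hqK
  · rw [← f.ker.card_mul_index, Subgroup.index_ker f, f.range_eq_top.mpr hsurj, card_top, mul_comm,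
      relIndex, index_eq_card]

/-- A subgroup of order 180 containing `q` is impossible. -/
theorem not_oneEighty (h : Five q) {K : Subgroup X} (hqK : q ∈ K) (hK : Nat.card K = 180) :
    False := by
  have : Fact (Nat.Prime 5) := ⟨Nat.prime_five⟩
  obtain ⟨S, hS⟩ := five_sylow h
  have hSK : (S : Subgroup X) ≤ K := by rw [hS, zpowers_le]; exact hqK
  set S' := S.subtype hSK
  have hS'c : Nat.card (S' : Subgroup K) = 5 :=
    SmallGroups.card_sylow_eq (show Nat.card K = 5 ^ 1 * 36 by rw [hK]; rfl) (by norm_num) S'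
  have hmap : (normalizer ((S' : Subgroup K) : Set K)).map K.subtype ≤
      normalizer ((S : Subgroup X) : Set X) := by
    refine (Subgroup.le_normalizer_map _).trans ?_
    rw [Sylow.coe_subtype, subgroupOf_map_subtype, inf_of_le_left hSK]
  have hdvd := card_dvd_of_le hmap
  rw [card_normalizer h, card_map_of_injective K.subtype_injective] at hdvd
  have hmul := SmallGroups.card_normalizer_mul S'
  rw [hK] at hmul
  have hn := SmallGroups.card_sylow_mem_list (p := 5) (a := 1) (m := 36)
    (show Nat.card K = 5 ^ 1 * 36 by rw [hK]; rfl) (by norm_num)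
  rw [show (36 : ℕ).divisors.filter (fun d => d % 5 = 1) = {1, 6, 36} by decide] at hn
  simp only [Finset.mem_insert, Finset.mem_singleton] at hn
  have hN5 : Nat.card (normalizer ((S' : Subgroup K) : Set K)) = 5 := by
    rcases hn with e | e | e <;> rw [e] at hmul
    · rw [mul_one] at hmul; rw [hmul] at hdvd; norm_num at hdvd
    · rw [show (180 : ℕ) = 30 * 6 by norm_num] at hmul
      rw [Nat.eq_of_mul_eq_mul_right (by norm_num) hmul] at hdvd
      norm_num at hdvd
    · omega
  have hNeq : normalizer ((S' : Subgroup K) : Set K) = (S' : Subgroup K) :=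
    (eq_of_le_of_card_ge le_normalizer (by rw [hN5, hS'c])).symm
  have hcomm : normalizer ((S' : Subgroup K) : Set K) ≤ centralizer ((S' : Subgroup K) : Set K) := by
    rw [hNeq]
    have : IsCyclic (S' : Subgroup K) := isCyclic_of_prime_card hS'c
    exact le_centralizer_iff_isMulCommutative.mpr inferInstance
  have hc := MonoidHom.ker_transferSylow_isComplement' S' hcomm
  set C := (MonoidHom.transferSylow S' hcomm).ker
  have hC : Nat.card C = 36 := by
    have := hc.card_mul
    rw [hS'c, hK] at this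
    omega
  refine not_six h (H := C.map K.subtype) ?_
    (Or.inr (by rw [card_map_of_injective K.subtype_injective, hC]))
  refine Subgroup.le_normalizer_map _ ⟨⟨q, hqK⟩, ?_, rfl⟩
  rw [normalizer_eq_top]
  exact mem_top _

/-- A subgroup of order prime to five normalized by `q` is trivial or of order 16. -/
theorem card_prime_to (h : Five q) {H : Subgroup X} (hq : q ∈ normalizer (H : Set X))
    (h5 : ¬ 5 ∣ Nat.card H) : Nat.card H = 1 ∨ Nat.card H = 16 := by
  have hd : Nat.card H ∣ 5 * 144 := by
    have := H.card_subgroup_dvd_card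
    rwa [h.card] at this
  have hd' : Nat.card H ∈ (144 : ℕ).divisors := Nat.mem_divisors.mpr
    ⟨((Nat.prime_five.coprime_iff_not_dvd.mpr h5).symm).dvd_of_dvd_mul_left hd, by norm_num⟩
  have hm := inv_card h hq h5
  have hmem : Nat.card H ∈ (144 : ℕ).divisors.filter (fun d => d % 5 = 1) :=
    Finset.mem_filter.mpr ⟨hd', hm⟩
  rw [show (144 : ℕ).divisors.filter (fun d => d % 5 = 1) = {1, 6, 16, 36} by decide] at hmem
  simp only [Finset.mem_insert, Finset.mem_singleton] at hmem
  rcases hmem with e | e | e | e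
  · exact Or.inl e
  · exact (not_six h hq (Or.inl e)).elim
  · exact Or.inr e
  · exact (not_six h hq (Or.inr e)).elim

theorem q_mem_of_dvd (h : Five q) {M : Subgroup X} (hM : M.Normal) (h5 : 5 ∣ Nat.card M) :
    q ∈ M := by
  have : Fact (Nat.Prime 5) := ⟨Nat.prime_five⟩
  obtain ⟨⟨r, hr⟩, hro⟩ := exists_prime_orderOf_dvd_card' (G := M) 5 h5
  rw [Subgroup.orderOf_mk] at hro
  obtain ⟨S, hS⟩ := five_sylow h
  obtain ⟨R, hR⟩ := (IsPGroup.of_card (n := 1)
    (show Nat.card (zpowers r) = 5 ^ 1 by rw [Nat.card_zpowers, hro, pow_one])).exists_le_sylow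
  have hRc : Nat.card (R : Subgroup X) = 5 :=
    SmallGroups.card_sylow_eq (show Nat.card X = 5 ^ 1 * 144 by rw [h.card]; rfl)
      (by norm_num) R
  have hRM : (R : Subgroup X) ≤ M := by
    rw [← eq_of_le_of_card_ge hR (by rw [hRc, Nat.card_zpowers, hro]), zpowers_le]
    exact hr
  obtain ⟨g, hg⟩ := MulAction.exists_smul_eq X R S
  have hSg : (S : Subgroup X) ≤ M := by
    rw [← hg, Sylow.coe_subgroup_smul]
    rintro _ ⟨x, hx, rfl⟩
    exact hM.conj_mem x (hRM hx) g
  exact hSg (by rw [hS]; exact mem_zpowers q)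

/-- There is a simple normal subgroup of order 360 containing `q`. -/
theorem exists_simple (h : Five q) :
    ∃ M : Subgroup X, M.Normal ∧ IsSimpleGroup M ∧ Nat.card M = 360 ∧ q ∈ M := by
  have : Fact (Nat.Prime 5) := ⟨Nat.prime_five⟩
  obtain ⟨S, hS⟩ := five_sylow h
  have hns : ¬ IsSimpleGroup X := fun hs => Classification.Order720.card_ne_720 h.card
  have hnt : Nontrivial X := Finite.one_lt_card_iff_nontrivial.mp (by rw [h.card]; norm_num)
  obtain ⟨M, hMn, hMb, hMt⟩ : ∃ M : Subgroup X, M.Normal ∧ M ≠ ⊥ ∧ M ≠ ⊤ := by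
    by_contra hc
    push Not at hc
    exact hns ⟨fun M hM => (em (M = ⊥)).imp_right fun e => hc M hM e⟩
  have hcard20 : Nat.card ↥((⊤ : Subgroup X) ⊓ normalizer (zpowers q : Set X)) = 20 := by
    rw [top_inf_eq, ← hS]; exact card_normalizer h S
  have hq : q ∈ M := by
    refine q_mem_of_dvd h hMn ?_
    by_contra h5
    rcases card_prime_to h (by rw [normalizer_eq_top]; exact mem_top q) h5 with e | e
    · exact hMb (Subgroup.card_eq_one.mp e)
    -- the image of the normalizer of `q` in a quotient of order 45 would have order 20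
    set N := normalizer ((S : Subgroup X) : Set X)
    have hint : M ⊓ N = ⊥ := by
      refine (eq_bot_iff_forall _).mpr fun x hx => ?_
      have hxq : x * q * x⁻¹ * q⁻¹ ∈ M ⊓ zpowers q := by
        refine ⟨?_, ?_⟩
        · rw [show x * q * x⁻¹ * q⁻¹ = x * (q * x⁻¹ * q⁻¹) by group]
          exact M.mul_mem hx.1 (hMn.conj_mem _ (M.inv_mem hx.1) q)
        · exact (zpowers q).mul_mem (by
            rw [← hS]
            exact (mem_normalizer_iff.mp hx.2 q).mp (by rw [hS]; exact mem_zpowers q))
            ((zpowers q).inv_mem (mem_zpowers q))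
      have hb : M ⊓ zpowers q = ⊥ := inf_eq_bot_of_coprime (by
        rw [e, h.card_zpowers]; norm_num)
      rw [hb, mem_bot, mul_inv_eq_one, mul_inv_eq_iff_eq_mul] at hxq
      have hx5 : x ∈ M ⊓ zpowers q := ⟨hx.1, h.cent x hxq⟩
      rwa [hb, mem_bot] at hx5
    have hcd : Nat.card (N.map (QuotientGroup.mk' M)) ∣ Nat.card (X ⧸ M) :=
      Subgroup.card_subgroup_dvd_card _
    have hinj : Function.Injective ((QuotientGroup.mk' M).comp N.subtype) := by
      rw [← MonoidHom.ker_eq_bot_iff]
      refine (eq_bot_iff_forall _).mpr fun x hx => ?_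
      have : (x : X) ∈ M ⊓ N := ⟨(QuotientGroup.eq_one_iff _).mp hx, x.2⟩
      rw [hint, mem_bot] at this
      exact Subtype.ext this
    have h20 : Nat.card N ∣ Nat.card (X ⧸ M) := card_dvd_of_injective _ hinj
    have hq45 := M.index_mul_card
    rw [e, h.card, index_eq_card] at hq45
    rw [card_normalizer h, show Nat.card (X ⧸ M) = 45 by omega] at h20
    norm_num at h20
  obtain ⟨d, hd5, hd⟩ := index_mul_card_inf h (M := ⊤) (K := M) le_top
    (by rw [normalizer_eq_top]) hq
  rw [relIndex_top_right, hcard20] at hd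
  have hidx : M.index = 2 := by
    have h1 : M.index ≠ 1 := fun e => hMt (index_eq_one.mp e)
    have h4 : M.index ∣ 4 := by
      obtain ⟨d', rfl⟩ := hd5
      exact ⟨d', by nlinarith⟩
    have h4' := (Nat.dvd_prime_pow Nat.prime_two (m := 2)).mp h4
    obtain ⟨i, hi, hi'⟩ := h4'
    interval_cases i
    · exact absurd hi' h1
    · simpa using hi'
    · exfalso
      refine not_oneEighty h hq ?_
      have := M.index_mul_card
      rw [hi', h.card] at this
      omega
  have hMc : Nat.card M = 360 := by
    have := M.index_mul_card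
    rw [hidx, h.card] at this
    omega
  have hMnt : Nontrivial M := Finite.one_lt_card_iff_nontrivial.mp (by rw [hMc]; norm_num)
  refine ⟨M, hMn, ⟨fun K hK => ?_⟩, hMc, hq⟩
  by_contra hc
  push Not at hc
  set K' := K.map M.subtype
  have hKc : Nat.card K' = Nat.card K := card_map_of_injective M.subtype_injective
  have hKdvd : Nat.card K ∣ 360 := hMc ▸ K.card_subgroup_dvd_card
  have hK1 : Nat.card K ≠ 1 := fun e => hc.1 (Subgroup.card_eq_one.mp e)
  have hK360 : Nat.card K ≠ 360 := fun e => hc.2 (eq_top_of_card_eq K (by rw [e, hMc]))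
  have hMK : M ≤ normalizer (K' : Set X) := by
    intro m hm
    exact Subgroup.le_normalizer_map _ ⟨⟨m, hm⟩, by rw [normalizer_eq_top]; exact mem_top _, rfl⟩
  by_cases h5 : 5 ∣ Nat.card K
  · -- `q` lies in `K`
    have hqK : q ∈ K' := by
      have hMS : (S : Subgroup X) ≤ M := by rw [hS, zpowers_le]; exact hq
      obtain ⟨⟨r, hr⟩, hro⟩ := exists_prime_orderOf_dvd_card' (G := K) 5 h5
      rw [Subgroup.orderOf_mk] at hro
      obtain ⟨R, hR⟩ := (IsPGroup.of_card (n := 1)
        (show Nat.card (zpowers r) = 5 ^ 1 by rw [Nat.card_zpowers, hro, pow_one])).exists_le_sylow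
      have hRc : Nat.card (R : Subgroup M) = 5 :=
        SmallGroups.card_sylow_eq (show Nat.card M = 5 ^ 1 * 72 by rw [hMc]; rfl)
          (by norm_num) R
      have hRK : (R : Subgroup M) ≤ K := by
        rw [← eq_of_le_of_card_ge hR (by rw [hRc, Nat.card_zpowers, hro]), zpowers_le]
        exact hr
      obtain ⟨g, hg⟩ := MulAction.exists_smul_eq M R (S.subtype hMS)
      have hSK : ((S.subtype hMS : Sylow 5 M) : Subgroup M) ≤ K := by
        rw [← hg, Sylow.coe_subgroup_smul]
        rintro _ ⟨x, hx, rfl⟩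
        exact hK.conj_mem x (hRK hx) g
      refine ⟨⟨q, hq⟩, hSK ?_, rfl⟩
      rw [Sylow.coe_subtype, mem_subgroupOf, hS]
      exact mem_zpowers q
    obtain ⟨d, hd5, hd⟩ := index_mul_card_inf h (M := M) (K := K')
      (map_subtype_le K) hMK hqK
    obtain ⟨d', hd', hd2⟩ := index_mul_card_inf h (M := ⊤) (K := M) le_top
      (by rw [normalizer_eq_top]) hq
    rw [relIndex_top_right, hidx, hcard20] at hd2
    have h10 : Nat.card ↥(M ⊓ normalizer (zpowers q : Set X)) ∣ 20 := by
      rw [← hcard20]
      exact card_dvd_of_le (inf_le_inf_right _ le_top)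
    have hne20 : Nat.card ↥(M ⊓ normalizer (zpowers q : Set X)) ≠ 20 := by
      intro e
      have hle : normalizer (zpowers q : Set X) ≤ M := by
        have := eq_of_le_of_card_ge (inf_le_right (a := M) (b := normalizer (zpowers q : Set X)))
          (by rw [e, ← hcard20, top_inf_eq])
        exact this ▸ inf_le_left
      have htop : M = ⊤ := by
        have hsup := Sylow.normalizer_sup_eq_top' (N := M) S (by rw [hS, zpowers_le]; exact hq)
        have hle' : normalizer ((S : Subgroup X) : Set X) ≤ M := by rw [hS]; exact hle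
        exact (sup_eq_right.mpr hle').symm.trans hsup
      exact hMt htop
    have hrel : K'.relIndex M * Nat.card K = 360 := by
      rw [← hKc, ← hMc, ← Nat.card_congr (Subgroup.subgroupOfEquivOfLe (map_subtype_le K)).toEquiv,
        relIndex, index_mul_card]
    obtain ⟨e, rfl⟩ := hd5
    have hle : K'.relIndex M * e ∣ 4 := by
      refine Nat.dvd_of_mul_dvd_mul_left (k := 5) (by norm_num) ?_
      rw [show 5 * (K'.relIndex M * e) = K'.relIndex M * (5 * e) by ring, hd]
      exact h10
    have hne4 : K'.relIndex M * e ≠ 4 := fun e4 => hne20 (by rw [← hd]; nlinarith)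
    have h2 : K'.relIndex M = 2 := by
      have hd1 : K'.relIndex M ∣ 4 := dvd_of_mul_right_dvd hle
      have h1 : K'.relIndex M ≠ 1 := fun e1 => hK360 (by rw [e1, one_mul] at hrel; exact hrel)
      have h4 : K'.relIndex M ≠ 4 := fun e4 => by
        rw [e4] at hle
        have := Nat.le_of_dvd (by norm_num) hle
        have : e ≠ 0 := fun e0 => by
          rw [e0, mul_zero, mul_zero] at hd
          exact Nat.card_pos.ne hd
        exact hne4 (by rw [e4]; omega)
      have := Nat.le_of_dvd (by norm_num) hd1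
      interval_cases hh : K'.relIndex M <;> omega
    refine not_oneEighty h hqK ?_
    rw [hKc]
    rw [h2] at hrel
    omega
  · have hqn : q ∈ normalizer (K' : Set X) := hMK hq
    rcases card_prime_to h hqn (by rwa [hKc]) with e | e <;> rw [hKc] at e
    · exact hK1 e
    · rw [e] at hKdvd
      norm_num at hKdvd

/-- There are ten Sylow 3-subgroups and no involution centralizes one of them. -/
theorem sylow_three (h : Five q) :
    Nat.card (Sylow 3 X) = 10 ∧ ∀ (P : Sylow 3 X) (c : X), c * c = 1 →
      (∀ x ∈ (P : Subgroup X), c * x = x * c) → c = 1 := by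
  have : Fact (Nat.Prime 3) := ⟨Nat.prime_three⟩
  obtain ⟨M, hMn, hMs, hMc, hqM⟩ := exists_simple h
  have hX3 : Nat.card X = 3 ^ 2 * 80 := by rw [h.card]; rfl
  have hPc : ∀ P : Sylow 3 X, Nat.card (P : Subgroup X) = 3 ^ 2 :=
    fun P => SmallGroups.card_sylow_eq hX3 (by norm_num) P
  have hPM : ∀ P : Sylow 3 X, (P : Subgroup X) ≤ M := by
    intro P x hx
    have hidx : M.index = 2 := by
      have := M.index_mul_card
      rw [hMc, h.card] at this
      omega
    rcases (Nat.dvd_prime_pow Nat.prime_three (m := 2)).mp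
      (hPc P ▸ Subgroup.orderOf_dvd_natCard _ hx) with ⟨i, -, hi⟩
    have hodd : Odd (orderOf x) := hi ▸ (by decide : Odd 3).pow
    obtain ⟨k, hk⟩ := hodd
    have hx' : x = (x ^ (k + 1)) * (x ^ (k + 1)) := by
      rw [← pow_add, show k + 1 + (k + 1) = (2 * k + 1) + 1 by ring, pow_succ, ← hk,
        pow_orderOf_eq_one, one_mul]
    rw [hx']
    exact Subgroup.mul_self_mem_of_index_two hidx _
  have hti : ∀ P R : Sylow 3 X, P ≠ R → ∀ x, x ∈ (P : Subgroup X) → x ∈ (R : Subgroup X) → x = 1 := by
    intro P R hne x hxP hxR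
    have := Classification.sylow_three_ti hMc (P := P.subtype (hPM P)) (R := R.subtype (hPM R))
      (fun e => hne (Sylow.subtype_injective e)) (x := ⟨x, hPM P hxP⟩) hxP hxR
    exact congrArg Subtype.val this
  have h1 : Nat.card (Sylow 3 X) ≠ 1 := by
    intro e
    obtain ⟨P⟩ := (inferInstance : Nonempty (Sylow 3 X))
    have hn := SmallGroups.normal_of_card_sylow_eq_one e P
    have := inv_card h (H := (P : Subgroup X)) (by rw [normalizer_eq_top]; exact mem_top q)
      (by rw [hPc]; norm_num)
    rw [hPc] at this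
    norm_num at this
  have h10 : Nat.card (Sylow 3 X) = 10 := by
    have hmod : Nat.card (Sylow 3 X) ≡ 1 [MOD 3 ^ 2] := by
      by_contra hmod
      obtain ⟨P, R, hPR, hidx⟩ := SmallGroups.exists_small_index_inter 2 hmod
      have hbot : (R : Subgroup X).subgroupOf (P : Subgroup X) = ⊥ :=
        (eq_bot_iff_forall _).mpr fun x hx => Subtype.ext (hti P R hPR x x.2 hx)
      rw [hbot, index_bot, hPc P] at hidx
      norm_num at hidx
    have hm := SmallGroups.card_sylow_mem_list hX3 (by norm_num)
    rw [show (Nat.divisors 80).filter (fun d => d % 3 = 1) = {1, 4, 10, 16, 40} by decide] at hm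
    simp only [Finset.mem_insert, Finset.mem_singleton] at hm
    unfold Nat.ModEq at hmod
    omega
  refine ⟨h10, fun P c hc2 hcP => ?_⟩
  have hfree : ∀ R : Sylow 3 X, R ≠ P → ∀ x ∈ (P : Subgroup X), x • R = R → x = 1 := by
    intro R hR x hx hxR
    have h2 : x ∈ (P : Subgroup X) ⊓ normalizer ((R : Subgroup X) : Set X) :=
      ⟨hx, Sylow.smul_eq_iff_mem_normalizer.mp hxR⟩
    have h3 : (P : Subgroup X) ⊓ normalizer ((R : Subgroup X) : Set X) =
        (P : Subgroup X) ⊓ (R : Subgroup X) := P.2.inf_normalizer_sylow R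
    rw [h3] at h2
    exact hti P R (Ne.symm hR) x hx h2.2
  have hpfix : ∀ x ∈ (P : Subgroup X), x • P = P := fun x hx =>
    Sylow.smul_eq_iff_mem_normalizer.mpr (le_normalizer hx)
  have hcfix : c • P = P := by
    refine Sylow.smul_eq_iff_mem_normalizer.mpr (Subgroup.mem_normalizer_fintype fun x hx => ?_)
    rw [hcP x hx, mul_inv_cancel_right]
    exact hx
  have hall : ∀ R : Sylow 3 X, c • R = R := by
    intro R
    by_cases hR : R = P
    · subst hR; exact hcfix
    let f : ↥(P : Subgroup X) → {S : Sylow 3 X // S ≠ P} := fun x =>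
      ⟨(x : X) • R, fun e => hR (smul_left_cancel (x : X) (e.trans (hpfix x x.2).symm))⟩
    have hf : Function.Injective f := by
      intro a b hab
      have hab' : (a : X) • R = (b : X) • R := congrArg Subtype.val hab
      have := hfree R hR ((b : X)⁻¹ * a) (mul_mem (inv_mem b.2) a.2)
        (by rw [mul_smul, hab', inv_smul_smul])
      exact Subtype.ext (inv_mul_eq_one.mp this).symm
    have hb : Function.Bijective f := by
      refine (Nat.bijective_iff_injective_and_card f).mpr ⟨hf, ?_⟩
      rw [hPc P]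
      have h2 := Set.ncard_add_ncard_compl ({P} : Set (Sylow 3 X))
      rw [Set.ncard_singleton, h10] at h2
      rw [show Nat.card {S : Sylow 3 X // S ≠ P} = ({P} : Set (Sylow 3 X))ᶜ.ncard from rfl]
      omega
    obtain ⟨g, hg⟩ := hb.2 ⟨c • R, fun e => hR (smul_left_cancel c (e.trans hcfix.symm))⟩
    have hg' : (g : X) • R = c • R := congrArg Subtype.val hg
    have h2 : ((g : X) * g) • R = R := by
      calc ((g : X) * g) • R = (g : X) • c • R := by rw [mul_smul, hg']
        _ = ((g : X) * c) • R := (mul_smul _ _ _).symm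
        _ = (c * (g : X)) • R := by rw [hcP g g.2]
        _ = c • c • R := by rw [mul_smul, hg']
        _ = R := by rw [← mul_smul, hc2, one_smul]
    have hgg := hfree R hR _ (mul_mem g.2 g.2) h2
    have hg1 : (g : X) = 1 := by
      rw [← orderOf_eq_one_iff]
      have hd2 : orderOf (g : X) ∣ 2 := orderOf_dvd_of_pow_eq_one (by rw [pow_two]; exact hgg)
      have hd9 : orderOf (g : X) ∣ 3 ^ 2 := hPc P ▸ Subgroup.orderOf_dvd_natCard _ g.2
      exact Nat.eq_one_of_dvd_coprimes (by norm_num : Nat.Coprime 2 (3 ^ 2)) hd2 hd9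
    rw [← hg', hg1, one_smul]
  -- the kernel of the action centralizes the simple subgroup
  set K := (MulAction.toPermHom X (Sylow 3 X)).ker with hK
  have hcK : c ∈ K := Equiv.ext hall
  have hKn : K.Normal := MonoidHom.normal_ker _
  have hbot : K ⊓ M = ⊥ := by
    rcases (hMs.eq_bot_or_eq_top_of_normal ((K ⊓ M).subgroupOf M) inferInstance) with e | e
    · have := congrArg (Subgroup.map M.subtype) e
      rwa [subgroupOf_map_subtype, inf_right_idem, Subgroup.map_bot] at this
    · exfalso
      have hMK : M ≤ K := le_trans (subgroupOf_eq_top.mp e) inf_le_left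
      apply h1
      have : Subsingleton (Sylow 3 X) := ⟨fun A B => by
        by_contra hAB
        obtain ⟨x, hx, hx1⟩ : ∃ x ∈ (A : Subgroup X), x ≠ 1 := by
          by_contra hc
          push Not at hc
          have e0 : (A : Subgroup X) = ⊥ := (eq_bot_iff_forall _).mpr hc
          have := hPc A
          rw [e0, card_bot] at this
          norm_num at this
        have hxB : x • B = B := Equiv.ext_iff.mp (hMK (hPM A hx)) B
        have h2 : x ∈ (A : Subgroup X) ⊓ normalizer ((B : Subgroup X) : Set X) :=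
          ⟨hx, Sylow.smul_eq_iff_mem_normalizer.mp hxB⟩
        have h3 : (A : Subgroup X) ⊓ normalizer ((B : Subgroup X) : Set X) =
            (A : Subgroup X) ⊓ (B : Subgroup X) := A.2.inf_normalizer_sylow B
        rw [h3] at h2
        exact hx1 (hti A B hAB x hx h2.2)⟩
      exact Nat.card_eq_one_iff_unique.mpr ⟨this, inferInstance⟩
  have hcq : c * q = q * c :=
    commute_of_normal_of_disjoint K M hKn hMn (disjoint_iff.mpr hbot) c q hcK hqM
  have hcz := h.cent c hcq
  have hd2 : orderOf c ∣ 2 := orderOf_dvd_of_pow_eq_one (by rw [pow_two, hc2])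
  have hd5 : orderOf c ∣ 5 := h.card_zpowers ▸ Subgroup.orderOf_dvd_natCard _ hcz
  exact orderOf_eq_one_iff.mp
    (Nat.eq_one_of_dvd_coprimes (by norm_num : Nat.Coprime 2 5) hd2 hd5)

end Cfsg.Agent.M12Uniq.K66
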