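import Cfsg.Agent.M12Uniq.Defs
import Cfsg.Agent.Lib.SmallGroups.Basic
import Cfsg.Agent.Lib.SmallGroups.Counting
import Cfsg.Agent.Lib.SmallGroups.Action

/-!
# Local analysis for `M₁₂`: elements inverted or fixed by an element, and the group generated by
two commuting elements of order 3 (helper46)
-/

set_option autoImplicit false

open Subgroup

namespace Cfsg.Agent.M12Uniq.Loc

universe u

variable {G : Type u} [Group G]

/-- `g` inverts `a`. -/
def Inv (g a : G) : Prop := g * a * g⁻¹ = a⁻¹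

/-- `g` fixes `a`. -/
def Fix (g a : G) : Prop := g * a * g⁻¹ = a

theorem fix_iff {g a : G} : Fix g a ↔ g * a = a * g := mul_inv_eq_iff_eq_mul

theorem Fix.comm {g a : G} (h : Fix g a) : g * a = a * g := fix_iff.mp h

theorem Fix.symm {g a : G} (h : Fix g a) : Fix a g := fix_iff.mpr h.comm.symm

theorem fix_of_comm {g a : G} (h : g * a = a * g) : Fix g a := fix_iff.mpr h

theorem fix_self (g : G) : Fix g g := fix_iff.mpr rfl

theorem Fix.one (g : G) : Fix g 1 := by simp [Fix]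

theorem Inv.one (g : G) : Inv g 1 := by simp [Inv]

theorem Fix.mul {g a b : G} (ha : Fix g a) (hb : Fix g b) : Fix g (a * b) := by
  rw [Fix] at *
  rw [← conj_mul, ha, hb]

theorem Fix.inv {g a : G} (ha : Fix g a) : Fix g a⁻¹ := by
  rw [Fix] at *
  rw [← conj_inv, ha]

theorem Fix.pow {g a : G} (ha : Fix g a) (n : ℕ) : Fix g (a ^ n) := by
  rw [Fix] at *
  rw [← conj_pow, ha]

theorem Fix.mul_left {g g' a : G} (h : Fix g a) (h' : Fix g' a) : Fix (g * g') a :=
  (h.symm.mul h'.symm).symm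

theorem Fix.inv_left {g a : G} (h : Fix g a) : Fix g⁻¹ a := h.symm.inv.symm

theorem Inv.pow {g a : G} (ha : Inv g a) (n : ℕ) : Inv g (a ^ n) := by
  rw [Inv] at *
  rw [← conj_pow, ha, inv_pow]

theorem Inv.inv {g a : G} (ha : Inv g a) : Inv g a⁻¹ := by
  rw [Inv] at *
  rw [← conj_inv, ha]

theorem Inv.mul {g a b : G} (ha : Inv g a) (hb : Inv g b) (hc : a * b = b * a) :
    Inv g (a * b) := by
  rw [Inv] at *
  rw [← conj_mul, ha, hb, ← mul_inv_rev, hc]

theorem Inv.mul_left_inv {g g' a : G} (h : Inv g a) (h' : Inv g' a) : Fix (g * g') a := by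
  rw [Inv] at *
  rw [Fix, show g * g' * a * (g * g')⁻¹ = g * (g' * a * g'⁻¹) * g⁻¹ by group, h', ← conj_inv, h,
    inv_inv]

theorem Inv.mul_left_fix {g g' a : G} (h : Inv g a) (h' : Fix g' a) : Inv (g * g') a := by
  rw [Fix] at h'
  rw [Inv] at *
  rw [show g * g' * a * (g * g')⁻¹ = g * (g' * a * g'⁻¹) * g⁻¹ by group, h', h]

theorem Fix.mul_left_inv {g g' a : G} (h : Fix g a) (h' : Inv g' a) : Inv (g * g') a := by
  rw [Fix] at h
  rw [Inv] at *
  rw [show g * g' * a * (g * g')⁻¹ = g * (g' * a * g'⁻¹) * g⁻¹ by group, h', ← conj_inv, h]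

theorem Inv.map {g a : G} (h : Inv g a) (k : G) : Inv (k * g * k⁻¹) (k * a * k⁻¹) := by
  rw [Inv] at *
  rw [show k * g * k⁻¹ * (k * a * k⁻¹) * (k * g * k⁻¹)⁻¹ = k * (g * a * g⁻¹) * k⁻¹ by group, h]
  group

theorem Fix.map {g a : G} (h : Fix g a) (k : G) : Fix (k * g * k⁻¹) (k * a * k⁻¹) := by
  rw [Fix] at *
  conv_rhs => rw [← h]
  group

theorem cube_inv {a : G} (h : a ^ 3 = 1) : a⁻¹ = a ^ 2 :=
  inv_eq_of_mul_eq_one_right (by rw [← h, pow_succ' a 2])

theorem eq_one_of_sq_cube {a : G} (h2 : a = a⁻¹) (h3 : a ^ 3 = 1) : a = 1 := by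
  have h : a * a = 1 := by nth_rw 2 [h2]; exact mul_inv_cancel a
  calc a = a ^ 3 := by rw [pow_succ, pow_two, h, one_mul]
    _ = 1 := h3

theorem eq_one_of_inv_fix {g a : G} (h : Inv g a) (h' : Fix g a) (h3 : a ^ 3 = 1) : a = 1 :=
  eq_one_of_sq_cube (by rw [← h, h']) h3

theorem not_inv_of_fix {g a : G} (h' : Fix g a) (h3 : a ^ 3 = 1) (hne : a ≠ 1) : ¬ Inv g a :=
  fun h => hne (eq_one_of_inv_fix h h' h3)

theorem pow_mod_three {a : G} (h3 : a ^ 3 = 1) (n : ℕ) : a ^ n = a ^ (n % 3) :=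
  pow_eq_pow_mod n h3

theorem eq_of_pow_three_cases {a b : G} (ha : a ^ 3 = 1) {n : ℕ} (h : b = a ^ n) :
    b = 1 ∨ b = a ∨ b = a⁻¹ := by
  rw [pow_mod_three ha] at h
  have := Nat.mod_lt n (show 0 < 3 by norm_num)
  interval_cases hn : n % 3
  · exact Or.inl (by simpa using h)
  · exact Or.inr (Or.inl (by simpa using h))
  · exact Or.inr (Or.inr (by rw [cube_inv ha]; exact h))

theorem cube_of_orderOf {a : G} (h : orderOf a = 3) : a ^ 3 = 1 := h ▸ pow_orderOf_eq_one a

theorem orderOf_three {a : G} (h : a ^ 3 = 1) (hne : a ≠ 1) : orderOf a = 3 :=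
  orderOf_eq_prime h hne

theorem ne_one_of_orderOf {a : G} {n : ℕ} (h : orderOf a = n) (hn : n ≠ 1) : a ≠ 1 :=
  fun h1 => hn (by rw [← h, h1, orderOf_one])

theorem sq_of_orderOf {a : G} (h : orderOf a = 2) : a * a = 1 := by
  rw [← pow_two, ← h, pow_orderOf_eq_one]

theorem inv_of_orderOf {a : G} (h : orderOf a = 2) : a⁻¹ = a :=
  inv_eq_of_mul_eq_one_right (sq_of_orderOf h)

theorem orderOf_conj (g a : G) : orderOf (g * a * g⁻¹) = orderOf a :=
  (MulAut.conj g).orderOf_eq a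

theorem mem_centralizer_singleton {g a : G} : g ∈ centralizer ({a} : Set G) ↔ a * g = g * a := by
  simp [Subgroup.mem_centralizer_iff]

theorem fix_of_mem_centralizer {g a : G} (h : g ∈ centralizer ({a} : Set G)) : Fix g a :=
  fix_of_comm (mem_centralizer_singleton.mp h).symm

theorem mem_centralizer_of_fix {g a : G} (h : Fix g a) : g ∈ centralizer ({a} : Set G) :=
  mem_centralizer_singleton.mpr h.comm.symm

theorem cC_inv (g : G) : cC g⁻¹ = cC g := by
  unfold cC
  congr 1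
  have : centralizer ({g⁻¹} : Set G) = centralizer {g} := by
    ext a
    simp only [mem_centralizer_singleton]
    constructor
    · intro h; exact (Commute.inv_left_iff.mp h : Commute g a)
    · intro h; exact (Commute.inv_left_iff.mpr h : Commute g⁻¹ a)
  rw [this]

theorem cC_conj (k g : G) : cC (k * g * k⁻¹) = cC g := by
  unfold cC
  refine (Nat.card_congr ((MulEquiv.subgroupMap (MulAut.conj k)
    (centralizer ({g} : Set G))).toEquiv.trans (Equiv.setCongr ?_))).symm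
  ext a
  simp only [SetLike.mem_coe]
  refine Subgroup.mem_map_equiv.trans ?_
  simp only [mem_centralizer_singleton, MulAut.conj_symm_apply]
  constructor
  · intro h
    calc k * g * k⁻¹ * a = k * (g * (k⁻¹ * a * k)) * k⁻¹ := by group
      _ = k * ((k⁻¹ * a * k) * g) * k⁻¹ := by rw [h]
      _ = a * (k * g * k⁻¹) := by group
  · intro h
    calc g * (k⁻¹ * a * k) = k⁻¹ * (k * g * k⁻¹ * a) * k := by group
      _ = k⁻¹ * (a * (k * g * k⁻¹)) * k := by rw [h]
      _ = k⁻¹ * a * k * g := by group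

theorem card_dvd_of_le {H K : Subgroup G} (h : H ≤ K) : Nat.card H ∣ Nat.card K :=
  Subgroup.card_dvd_of_le h

theorem eq_of_le_card [Finite G] {H K : Subgroup G} (h : H ≤ K)
    (hc : Nat.card K ≤ Nat.card H) : H = K :=
  Subgroup.eq_of_le_of_card_ge h hc

section Pair

/-- The subgroup generated by two elements. -/
def pairGrp (x a : G) : Subgroup G := closure {x, a}

theorem left_mem_pairGrp (x a : G) : x ∈ pairGrp x a := subset_closure (by simp)

theorem right_mem_pairGrp (x a : G) : a ∈ pairGrp x a := subset_closure (by simp)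

theorem pow_mul_pow_mem (x a : G) (i j : ℕ) : x ^ i * a ^ j ∈ pairGrp x a :=
  mul_mem (pow_mem (left_mem_pairGrp x a) i) (pow_mem (right_mem_pairGrp x a) j)

theorem pairGrp_le {x a : G} {K : Subgroup G} (hx : x ∈ K) (ha : a ∈ K) : pairGrp x a ≤ K := by
  rw [pairGrp, closure_le]
  rintro g (rfl | rfl) <;> assumption

theorem mem_pairGrp_iff {x a : G} (hc : x * a = a * x) (hx : x ^ 3 = 1) (ha : a ^ 3 = 1)
    {g : G} : g ∈ pairGrp x a ↔ ∃ i < 3, ∃ j < 3, g = x ^ i * a ^ j := by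
  constructor
  · intro h
    suffices ∃ i j : ℕ, g = x ^ i * a ^ j by
      obtain ⟨i, j, rfl⟩ := this
      exact ⟨i % 3, Nat.mod_lt _ (by norm_num), j % 3, Nat.mod_lt _ (by norm_num),
        by rw [← pow_mod_three hx, ← pow_mod_three ha]⟩
    induction h using closure_induction with
    | mem g hg =>
      rcases hg with rfl | rfl
      · exact ⟨1, 0, by simp⟩
      · exact ⟨0, 1, by simp⟩
    | one => exact ⟨0, 0, by simp⟩
    | mul g g' _ _ ih ih' =>
      obtain ⟨i, j, rfl⟩ := ih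
      obtain ⟨i', j', rfl⟩ := ih'
      refine ⟨i + i', j + j', ?_⟩
      have h := (Commute.pow_pow (show Commute x a from hc) i' j).eq
      calc x ^ i * a ^ j * (x ^ i' * a ^ j')
          = x ^ i * (a ^ j * x ^ i') * a ^ j' := by group
        _ = x ^ i * (x ^ i' * a ^ j) * a ^ j' := by rw [h]
        _ = x ^ (i + i') * a ^ (j + j') := by group
    | inv g _ ih =>
      obtain ⟨i, j, rfl⟩ := ih
      refine ⟨2 * i, 2 * j, ?_⟩
      have h := (Commute.pow_pow (show Commute x a from hc) (2 * i) (2 * j)).eq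
      rw [mul_inv_rev, ← inv_pow, ← inv_pow, cube_inv hx, cube_inv ha, ← pow_mul, ← pow_mul, h]
  · rintro ⟨i, _, j, _, rfl⟩
    exact pow_mul_pow_mem x a i j

theorem pairGrp_comm {x a : G} (hc : x * a = a * x) (hx : x ^ 3 = 1) (ha : a ^ 3 = 1) {g g' : G}
    (hg : g ∈ pairGrp x a) (hg' : g' ∈ pairGrp x a) : g * g' = g' * g := by
  obtain ⟨i, -, j, -, rfl⟩ := (mem_pairGrp_iff hc hx ha).mp hg
  obtain ⟨i', -, j', -, rfl⟩ := (mem_pairGrp_iff hc hx ha).mp hg'
  have c : Commute x a := hc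
  exact (((Commute.refl x).pow_pow i i').mul_right (c.pow_pow i j')).mul_left
    ((c.symm.pow_pow j i').mul_right ((Commute.refl a).pow_pow j j'))

theorem pairGrp_cube {x a : G} (hc : x * a = a * x) (hx : x ^ 3 = 1) (ha : a ^ 3 = 1) {g : G}
    (hg : g ∈ pairGrp x a) : g ^ 3 = 1 := by
  obtain ⟨i, -, j, -, rfl⟩ := (mem_pairGrp_iff hc hx ha).mp hg
  rw [(Commute.pow_pow (show Commute x a from hc) i j).mul_pow, ← pow_mul, ← pow_mul,
    mul_comm i, mul_comm j, pow_mul, pow_mul, hx, ha, one_pow, one_pow, one_mul]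

theorem zpowers_iff {a : G} (ha : a ^ 3 = 1) {g : G} :
    g ∈ zpowers a ↔ ∃ i < 3, g = a ^ i := by
  constructor
  · intro h
    have hp := mem_pairGrp_iff (x := a) (a := a) (g := g) rfl ha ha
    obtain ⟨i, -, j, -, rfl⟩ := hp.mp (zpowers_le.mpr (left_mem_pairGrp a a) h)
    exact ⟨(i + j) % 3, Nat.mod_lt _ (by norm_num), by rw [← pow_mod_three ha, pow_add]⟩
  · rintro ⟨i, _, rfl⟩
    exact pow_mem (mem_zpowers a) i

/-- Exponents modulo 3 in `⟨x, a⟩` are unique. -/
theorem pow_mul_pow_inj {x a : G} (hx : x ^ 3 = 1) (hx1 : x ≠ 1) (ha : a ^ 3 = 1)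
    (hna : a ∉ zpowers x) {i j i' j' : ℕ} (h : x ^ i * a ^ j = x ^ i' * a ^ j') :
    i % 3 = i' % 3 ∧ j % 3 = j' % 3 := by
  have key : ∀ n : ℕ, a ^ n ∈ zpowers x → n % 3 = 0 := by
    intro n hn
    by_contra hn0
    have hn' : n % 3 = 1 ∨ n % 3 = 2 := by omega
    rw [pow_mod_three ha] at hn
    rcases hn' with h1 | h1 <;> rw [h1] at hn
    · exact hna (by simpa using hn)
    · rw [← cube_inv ha] at hn
      exact hna ((zpowers x).inv_mem_iff.mp hn)
  have hj : j % 3 = j' % 3 := by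
    have h1 : a ^ (j + 2 * j') ∈ zpowers x := by
      have : a ^ (j + 2 * j') = (x ^ i)⁻¹ * x ^ i' := by
        rw [pow_add, pow_mul, ← cube_inv ha, inv_pow, eq_inv_mul_iff_mul_eq, ← mul_assoc, h,
          mul_assoc, mul_inv_cancel, mul_one]
      rw [this]
      exact mul_mem (inv_mem (pow_mem (mem_zpowers x) i)) (pow_mem (mem_zpowers x) i')
    have := key _ h1
    omega
  refine ⟨?_, hj⟩
  rw [pow_mod_three ha j, hj, ← pow_mod_three ha j'] at h
  have h2 := pow_inj_mod.mp (mul_right_cancel h)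
  rwa [orderOf_three hx hx1] at h2

theorem card_pairGrp {x a : G} (hc : x * a = a * x) (hx : x ^ 3 = 1) (hx1 : x ≠ 1)
    (ha : a ^ 3 = 1) (hna : a ∉ zpowers x) : Nat.card (pairGrp x a) = 9 := by
  let f : Fin 3 × Fin 3 → pairGrp x a :=
    fun p => ⟨x ^ p.1.val * a ^ p.2.val, pow_mul_pow_mem x a _ _⟩
  have hf : Function.Bijective f := by
    constructor
    · intro p q hpq
      have h := pow_mul_pow_inj hx hx1 ha hna (congrArg Subtype.val hpq)
      rw [Nat.mod_eq_of_lt p.1.isLt, Nat.mod_eq_of_lt q.1.isLt, Nat.mod_eq_of_lt p.2.isLt,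
        Nat.mod_eq_of_lt q.2.isLt] at h
      exact Prod.ext (Fin.ext h.1) (Fin.ext h.2)
    · rintro ⟨g, hg⟩
      obtain ⟨i, hi, j, hj, rfl⟩ := (mem_pairGrp_iff hc hx ha).mp hg
      exact ⟨(⟨i, hi⟩, ⟨j, hj⟩), rfl⟩
  rw [← Nat.card_eq_of_bijective f hf]
  simp [Nat.card_eq_fintype_card]

end Pair

end Cfsg.Agent.M12Uniq.Loc
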