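import Cfsg.Agent.M12Uniq.CountsDefs
import Cfsg.Agent.M12Uniq.CountsK66Quot
import Cfsg.Agent.M12Uniq.LocalBasic
import Cfsg.Agent.Lib.SmallGroups.Action

/-!
# No involution centralizer of order 1440 (helper68)

In a group with the numbers of `CountsDefs.Pre` an involution commuting with an element of order
five does not have centralizer of order 1440.
-/

set_option autoImplicit false
set_option linter.unusedSectionVars false

open Subgroup

namespace Cfsg.Agent.M12Uniq.K66

universe u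

variable {G : Type u} [Group G] [Finite G]

/-- Two elements of odd exponent agreeing up to the involution `u` are equal. -/
theorem lift {n : ℕ} (hn : Odd n) {a b u : G} (hu : orderOf u = 2) (hb : b * u = u * b)
    (ha : a ^ n = 1) (hbn : b ^ n = 1) (h : a = b ∨ a = b * u) : a = b := by
  rcases h with h | h
  · exact h
  exfalso
  rw [h, (show Commute b u from hb).mul_pow, hbn, one_mul] at ha
  have h2 : 2 ∣ n := hu ▸ orderOf_dvd_of_pow_eq_one ha
  exact (Nat.not_even_iff_odd.mpr hn) (even_iff_two_dvd.mpr h2)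

/-- The orders of commuting elements of coprime order multiply inside the spectrum. -/
theorem spec_mul (hp : Pre G) {a b : G} (hab : a * b = b * a)
    (hc : (orderOf a).Coprime (orderOf b)) :
    orderOf a * orderOf b ∈ ({1, 2, 3, 4, 5, 6, 8, 10, 11} : Finset ℕ) := by
  rw [← (show Commute a b from hab).orderOf_mul_eq_mul_orderOf_of_coprime hc]
  exact hp.spec _

theorem not_twelve (hp : Pre G) {a b : G} (ha : orderOf a = 3) (hb : orderOf b = 4)
    (hab : a * b = b * a) : False := by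
  have := spec_mul hp hab (by rw [ha, hb]; norm_num)
  rw [ha, hb] at this
  revert this
  decide

/-- A map whose fibres are cosets of `{1, u}` bounds the order. -/
theorem card_le_of_fibres {β : Type} [Fintype β] (Y : Subgroup G) (f : Y → β) (u : G)
    (hf : ∀ a b : Y, f a = f b → ((a : G) * (b : G) = 1 ∨ (a : G) * (b : G) = u))
    (hsq : ∀ a : Y, (a : G) * (a : G) = 1) : Nat.card Y ≤ 2 * Fintype.card β := by
  classical
  have := Fintype.ofFinite Y
  rw [Nat.card_eq_fintype_card]
  refine Finset.card_le_mul_card_image_of_maps_to (f := f) (fun a _ => Finset.mem_univ _) 2 ?_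
  intro v _
  by_cases hv : ∃ a0 : Y, f a0 = v
  · obtain ⟨a0, ha0⟩ := hv
    have hsub : (Finset.univ.filter fun a => f a = v).image (Subtype.val : Y → G) ⊆
        {(a0 : G), (a0 : G) * u} := by
      intro g hg
      obtain ⟨a, ha, rfl⟩ := Finset.mem_image.mp hg
      rw [Finset.mem_filter] at ha
      have hinv : ((a0 : G))⁻¹ = a0 := inv_eq_of_mul_eq_one_right (hsq a0)
      rcases hf a0 a (ha0.trans ha.2.symm) with h | h
      · refine Finset.mem_insert.mpr (Or.inl ?_)
        rw [← inv_eq_of_mul_eq_one_right h, hinv]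
      · refine Finset.mem_insert.mpr (Or.inr (Finset.mem_singleton.mpr ?_))
        rw [← h, ← mul_assoc, hsq a0, one_mul]
    have h2 := (Finset.card_le_card hsub).trans Finset.card_le_two
    rwa [Finset.card_image_of_injective _ Subtype.val_injective] at h2
  · rw [Finset.filter_eq_empty_iff.mpr fun a _ h => hv ⟨a, h⟩]
    simp

/-- An elementary group of order 16 containing `u` acts on a group of order nine with more
kernel than `{1, u}`. -/
theorem not_elementary {P Y : Subgroup G} {u : G} (hP9 : Nat.card P = 9)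
    (hPc : ∀ x ∈ P, ∀ y ∈ P, x * y = y * x) (hP3 : ∀ x ∈ P, x ^ 3 = 1)
    (hY : Nat.card Y = 16) (hYP : ∀ a ∈ Y, ∀ x ∈ P, a * x * a⁻¹ ∈ P)
    (hsq : ∀ a ∈ Y, a * a = 1)
    (hker : ∀ c ∈ Y, (∀ x ∈ P, c * x * c⁻¹ = x) → c = 1 ∨ c = u) : False := by
  classical
  have : Fact (Nat.Prime 3) := ⟨Nat.prime_three⟩
  have hinv : ∀ a ∈ Y, a⁻¹ = a := fun a ha => inv_eq_of_mul_eq_one_right (hsq a ha)
  have hYc : ∀ a ∈ Y, ∀ b ∈ Y, a * b = b * a := fun a ha b hb => by
    rw [← hinv _ (Y.mul_mem ha hb), mul_inv_rev, hinv a ha, hinv b hb]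
  have hconj : ∀ a b x : G, a * b * x * (a * b)⁻¹ = a * (b * x * b⁻¹) * a⁻¹ := fun a b x => by group
  have hsq' : ∀ a ∈ Y, ∀ x : G, a * (a * x * a⁻¹) * a⁻¹ = x := fun a ha x => by
    rw [← hconj, hsq a ha]; group
  by_cases hall : ∀ a ∈ Y, (∀ x ∈ P, a * x * a⁻¹ = x) ∨ (∀ x ∈ P, a * x * a⁻¹ = x⁻¹)
  · have h4 := card_le_of_fibres Y (fun a : Y => decide (∀ x ∈ P, (a : G) * x * (a : G)⁻¹ = x)) u
      (fun a b hab => hker _ (Y.mul_mem a.2 b.2) fun x hx => ?_) fun a => hsq a a.2
    · rw [hY, Fintype.card_bool] at h4; omega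
    rw [hconj]
    simp only [decide_eq_decide] at hab
    by_cases hfa : ∀ x ∈ P, (a : G) * x * (a : G)⁻¹ = x
    · rw [(hab.mp hfa) x hx, hfa x hx]
    · have hb' := (hall b b.2).resolve_left fun hb => hfa (hab.mpr hb)
      have ha' := (hall a a.2).resolve_left hfa
      rw [hb' x hx, ha' _ (P.inv_mem hx), inv_inv]
  push Not at hall
  obtain ⟨a, haY, ⟨z, hz, hza⟩, ⟨x, hx, hxa⟩⟩ := hall
  set l := x * (a * x * a⁻¹) with hl
  set m := z⁻¹ * (a * z * a⁻¹) with hm
  have hlP : l ∈ P := P.mul_mem hx (hYP a haY x hx)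
  have hmP : m ∈ P := P.mul_mem (P.inv_mem hz) (hYP a haY z hz)
  have hl1 : l ≠ 1 := fun e => hxa (inv_eq_of_mul_eq_one_right e).symm
  have hm1 : m ≠ 1 := fun e => hza (inv_mul_eq_one.mp e).symm
  have hlf : a * l * a⁻¹ = l := by
    rw [hl, show a * (x * (a * x * a⁻¹)) * a⁻¹ = a * x * a⁻¹ * (a * (a * x * a⁻¹) * a⁻¹) by group,
      hsq' a haY, hPc _ (hYP a haY x hx) _ hx]
  have hmi : a * m * a⁻¹ = m⁻¹ := by
    rw [hm, show a * (z⁻¹ * (a * z * a⁻¹)) * a⁻¹ = (a * z * a⁻¹)⁻¹ * (a * (a * z * a⁻¹) * a⁻¹) by group,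
      hsq' a haY, mul_inv_rev z⁻¹, inv_inv]
  have hne : ∀ w ∈ P, w = w⁻¹ → w = 1 := fun w hw e => by
    have h2 : w * w = 1 := by nth_rw 2 [e]; exact mul_inv_cancel w
    have h3 := hP3 w hw
    rw [pow_succ, pow_two, h2, one_mul] at h3
    exact h3
  -- the fixed and the inverted subgroup
  let F : Subgroup G :=
    { carrier := {w | w ∈ P ∧ a * w * a⁻¹ = w}
      mul_mem' := fun {s t} hs ht => ⟨P.mul_mem hs.1 ht.1, by rw [← conj_mul, hs.2, ht.2]⟩
      one_mem' := ⟨P.one_mem, by group⟩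
      inv_mem' := fun {s} hs => ⟨P.inv_mem hs.1, by rw [← conj_inv, hs.2]⟩ }
  let I : Subgroup G :=
    { carrier := {w | w ∈ P ∧ a * w * a⁻¹ = w⁻¹}
      mul_mem' := fun {s t} hs ht => ⟨P.mul_mem hs.1 ht.1, by
        rw [← conj_mul, hs.2, ht.2, ← mul_inv_rev, hPc _ ht.1 _ hs.1]⟩
      one_mem' := ⟨P.one_mem, by group⟩
      inv_mem' := fun {s} hs => ⟨P.inv_mem hs.1, by rw [← conj_inv, hs.2]⟩ }
  have hFI : ∀ w, w ∈ F → w ∈ I → w = 1 := fun w hwF hwI => hne w hwF.1 (hwF.2.symm.trans hwI.2)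
  have hone : ∀ (K : Subgroup G) (k : G), K ≤ P → (∃ e ∈ P, e ∉ K) → k ∈ K → k ≠ 1 →
      ∀ w ∈ K, w = 1 ∨ w = k ∨ w = k⁻¹ := by
    rintro K k hKP ⟨e, heP, heK⟩ hk hk1 w hw
    have hd : Nat.card K ∣ 3 ^ 2 := by
      have := card_dvd_of_le hKP
      rwa [hP9] at this
    have hk3 : orderOf k = 3 := orderOf_eq_prime (hP3 k (hKP hk)) hk1
    have hne9 : Nat.card K ≠ 9 := fun h9 =>
      heK ((eq_of_le_of_card_ge hKP (by rw [hP9, h9])).symm ▸ heP)
    obtain ⟨i, hi, hi'⟩ := (Nat.dvd_prime_pow Nat.prime_three).mp hd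
    have h3K : 3 ∣ Nat.card K := hk3 ▸ Subgroup.orderOf_dvd_natCard K hk
    have hK3 : Nat.card K = 3 := by
      interval_cases i
      · rw [hi', pow_zero] at h3K; norm_num at h3K
      · rw [hi', pow_one]
      · exact absurd (hi'.trans (by norm_num)) hne9
    have hz : zpowers k = K :=
      eq_of_le_of_card_ge (zpowers_le.mpr hk) (by rw [Nat.card_zpowers, hk3, hK3])
    rw [← hz] at hw
    exact (Loc.zpowers_iff (hP3 k (hKP hk))).mp hw |> fun ⟨j, _, hj⟩ =>
      Loc.eq_of_pow_three_cases (hP3 k (hKP hk)) hj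
  have hmF : m ∉ F := fun hh => hm1 (hne m hmP (hh.2.symm.trans hmi))
  have hlI : l ∉ I := fun hh => hl1 (hne l hlP (hlf.symm.trans hh.2))
  have hbl : ∀ b ∈ Y, b * l * b⁻¹ = l ∨ b * l * b⁻¹ = l⁻¹ := by
    intro b hb
    have hmem : b * l * b⁻¹ ∈ F := ⟨hYP b hb l hlP, by
      rw [← hconj, hYc a haY b hb, hconj, hlf]⟩
    rcases hone F l (fun w hw => hw.1) ⟨m, hmP, hmF⟩ ⟨hlP, hlf⟩ hl1 _ hmem with e | e | e
    · exact absurd (mul_inv_eq_one.mp e) (by intro e'; exact hl1 (by simpa using e'))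
    · exact Or.inl e
    · exact Or.inr e
  have hbm : ∀ b ∈ Y, b * m * b⁻¹ = m ∨ b * m * b⁻¹ = m⁻¹ := by
    intro b hb
    have hmem : b * m * b⁻¹ ∈ I := ⟨hYP b hb m hmP, by
      rw [← hconj, hYc a haY b hb, hconj, hmi, conj_inv]⟩
    rcases hone I m (fun w hw => hw.1) ⟨l, hlP, hlI⟩ ⟨hmP, hmi⟩ hm1 _ hmem with e | e | e
    · exact absurd (mul_inv_eq_one.mp e) (by intro e'; exact hm1 (by simpa using e'))
    · exact Or.inl e
    · exact Or.inr e
  have hgen : P ≤ closure {l, m} := by
    have hle : closure {l, m} ≤ P := by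
      rw [closure_le]
      rintro w (rfl | rfl) <;> assumption
    have hc := Loc.card_pairGrp (hPc l hlP m hmP) (hP3 l hlP) hl1 (hP3 m hmP) (fun hmz => by
      obtain ⟨j, _, hj⟩ := (Loc.zpowers_iff (hP3 l hlP)).mp hmz
      exact hmF ⟨hmP, by rw [hj, ← conj_pow, hlf]⟩)
    exact (eq_of_le_of_card_ge hle (by rw [hP9]; exact hc.symm.le)).ge
  have h8 := card_le_of_fibres Y
    (fun b : Y => (decide ((b : G) * l * (b : G)⁻¹ = l), decide ((b : G) * m * (b : G)⁻¹ = m))) u
    (fun b c hbc => hker _ (Y.mul_mem b.2 c.2) fun w hw => ?_) fun b => hsq b b.2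
  · rw [hY, Fintype.card_prod, Fintype.card_bool] at h8; omega
  simp only [Prod.mk.injEq, decide_eq_decide] at hbc
  have key : ∀ k, (∀ d ∈ Y, d * k * d⁻¹ = k ∨ d * k * d⁻¹ = k⁻¹) →
      ((b : G) * k * (b : G)⁻¹ = k ↔ (c : G) * k * (c : G)⁻¹ = k) →
      (b : G) * (c : G) * k * ((b : G) * (c : G))⁻¹ = k := by
    intro k hk hiff
    rw [hconj]
    rcases hk c c.2 with e | e
    · rw [e]; exact hiff.mpr e
    · by_cases e1 : (b : G) * k * (b : G)⁻¹ = k
      · rw [hiff.mp e1]; exact e1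
      · rw [e, ← conj_inv, (hk b b.2).resolve_left e1, inv_inv]
  have hkl := key l hbl hbc.1
  have hkm := key m hbm hbc.2
  have hfix : closure {l, m} ≤ centralizer {(b : G) * (c : G)} := by
    rw [closure_le]
    rintro k (rfl | rfl) <;> rw [SetLike.mem_coe, mem_centralizer_singleton_iff]
    · exact (mul_inv_eq_iff_eq_mul.mp hkl).symm
    · exact (mul_inv_eq_iff_eq_mul.mp hkm).symm
  rw [mul_inv_eq_iff_eq_mul]
  exact (mem_centralizer_singleton_iff.mp (hfix (hgen hw))).symm

/-- The transported data of a centralizer of order 1440: a Sylow 3-subgroup which only `u`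
centralizes, and a subgroup of order 144 normalizing it. -/
theorem exists_local (hp : Pre G) {q u : G} (hq : orderOf q = 5) (hu : orderOf u = 2)
    (hqu : q * u = u * q) (h : cC u = 1440) :
    ∃ P H : Subgroup G, Nat.card P = 9 ∧ P ≤ centralizer {u} ∧ Nat.card H = 144 ∧
      H ≤ centralizer {u} ∧ (∀ a ∈ H, ∀ x ∈ P, a * x * a⁻¹ ∈ P) ∧
      ∀ c : G, c * u = u * c → c * c = 1 → (∀ x ∈ P, c * x = x * c) → c = 1 ∨ c = u := by
  have : Fact (Nat.Prime 5) := ⟨Nat.prime_five⟩
  have : Fact (Nat.Prime 3) := ⟨Nat.prime_three⟩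
  have h5 : q ^ 5 = 1 := hq ▸ pow_orderOf_eq_one q
  have hu2 : u * u = 1 := Loc.sq_of_orderOf hu
  set B := centralizer ({u} : Set G) with hB
  have hBm : ∀ b : B, (b : G) * u = u * (b : G) := fun b =>
    (Loc.mem_centralizer_singleton.mp b.2).symm
  have huB : u ∈ B := Loc.mem_centralizer_singleton.mpr rfl
  have hqB : q ∈ B := Loc.mem_centralizer_singleton.mpr hqu.symm
  set U : Subgroup B := zpowers ⟨u, huB⟩ with hU
  have hUn : U.Normal := ⟨fun n hn g => by
    obtain ⟨k, rfl⟩ := mem_zpowers_iff.mp hn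
    have hc : Commute g (⟨u, huB⟩ : B) := Subtype.ext (hBm g)
    rw [(hc.zpow_right k).eq, mul_inv_cancel_right]
    exact hn⟩
  have hUc : Nat.card U = 2 := by rw [hU, Nat.card_zpowers, Subgroup.orderOf_mk, hu]
  set π := QuotientGroup.mk' U with hπ
  have hπeq : ∀ a b : B, π a = π b → (a : G) = b ∨ (a : G) = (b : G) * u := by
    intro a b hab
    have hmem : b⁻¹ * a ∈ U := QuotientGroup.eq.mp (show (b : B ⧸ U) = a from hab.symm)
    obtain ⟨k, hk⟩ := mem_zpowers_iff.mp hmem
    have hk' : (b : G)⁻¹ * (a : G) = u ^ k := (congrArg Subtype.val hk).symm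
    have hu' : u ^ (2 : ℤ) = 1 := by rw [zpow_two, hu2]
    rcases Int.even_or_odd' k with ⟨j, rfl | rfl⟩
    · rw [zpow_mul, hu', one_zpow, inv_mul_eq_one] at hk'
      exact Or.inl hk'.symm
    · rw [zpow_add, zpow_mul, hu', one_zpow, one_mul, zpow_one, inv_mul_eq_iff_eq_mul] at hk'
      exact Or.inr hk'
  have hXc : Nat.card (B ⧸ U) = 720 := by
    have hmul := U.index_mul_card
    rw [hUc, index_eq_card] at hmul
    have : Nat.card B = 1440 := h
    omega
  -- the centralizer of `q`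
  have hqu10 : orderOf (q * u) = 10 := by
    rw [(show Commute q u from hqu).orderOf_mul_eq_mul_orderOf_of_coprime (by rw [hq, hu]; norm_num),
      hq, hu]
  have hCq : centralizer ({q} : Set G) = zpowers (q * u) := by
    refine (eq_of_le_of_card_ge (zpowers_le.mpr (Loc.mem_centralizer_singleton.mpr ?_)) ?_).symm
    · rw [← mul_assoc, mul_assoc q u q, ← hqu, mul_assoc]
    · rw [Nat.card_zpowers, hqu10]; exact (hp.five q hq).le
  have hNu : normalizer (zpowers q : Set G) ≤ B := by
    intro n hn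
    have hc : n * u * n⁻¹ * q = q * (n * u * n⁻¹) := by
      have hm : n⁻¹ * q * n ∈ zpowers q := (mem_normalizer_iff''.mp hn q).mp (mem_zpowers q)
      obtain ⟨k, hk⟩ := mem_zpowers_iff.mp hm
      have hcu : Commute u (n⁻¹ * q * n) := hk ▸ ((show Commute u q from hqu.symm).zpow_right k)
      calc n * u * n⁻¹ * q = n * (u * (n⁻¹ * q * n)) * n⁻¹ := by group
        _ = n * ((n⁻¹ * q * n) * u) * n⁻¹ := by rw [hcu.eq]
        _ = q * (n * u * n⁻¹) := by group
    have hmem : n * u * n⁻¹ ∈ zpowers (q * u) := by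
      rw [← hCq]; exact Loc.mem_centralizer_singleton.mpr hc.symm
    classical
    obtain ⟨k, -, hk⟩ := Finset.mem_image.mp
      ((IsOfFinOrder.mem_zpowers_iff_mem_range_orderOf (isOfFinOrder_of_finite _)).mp hmem)
    have hn2 : (n * u * n⁻¹) ^ 2 = 1 := by rw [conj_pow, pow_two, hu2]; group
    have hk' : (q * u) ^ k = n * u * n⁻¹ := hk
    have h10 : 10 ∣ k * 2 := hqu10 ▸ orderOf_dvd_of_pow_eq_one (by rw [pow_mul, hk', hn2])
    have h5k : 5 ∣ k := by omega
    obtain ⟨j, rfl⟩ := h5k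
    rw [pow_mul, (show Commute q u from hqu).mul_pow, h5, one_mul,
      show u ^ 5 = u by rw [← pow_mod_orderOf, hu]; norm_num] at hk'
    have hj : j % 2 = 1 := by
      by_contra hj
      have he : u ^ j = 1 := orderOf_dvd_iff_pow_eq_one.mp (hu ▸ by omega)
      rw [he] at hk'
      have : u = 1 := by
        have := mul_inv_eq_one.mp hk'.symm
        simpa using this
      rw [this, orderOf_one] at hu
      exact absurd hu (by norm_num)
    obtain ⟨i, rfl⟩ : ∃ i, j = 2 * i + 1 := ⟨j / 2, by omega⟩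
    rw [pow_succ, pow_mul, pow_two, hu2, one_pow, one_mul] at hk'
    exact Loc.mem_centralizer_singleton.mpr (mul_inv_eq_iff_eq_mul.mp hk'.symm).symm
  set q' : B := ⟨q, hqB⟩ with hq'
  have hq'5 : π q' ^ 5 = 1 := by
    rw [← map_pow, show q' ^ 5 = 1 from Subtype.ext h5, map_one]
  have hq'1 : π q' ≠ 1 := by
    intro e
    rcases hπeq q' 1 (by rw [e, map_one]) with e' | e'
    · have : q = 1 := e'
      rw [this, orderOf_one] at hq; norm_num at hq
    · have : q = u := by simpa using e'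
      rw [this, hu] at hq; norm_num at hq
  have hordq : orderOf (π q') = 5 := orderOf_eq_prime hq'5 hq'1
  -- the normalizer of the image of `q`
  have hcomap : (normalizer (zpowers (π q') : Set (B ⧸ U))).comap π =
      (normalizer (zpowers q : Set G)).subgroupOf B := by
    ext b
    rw [mem_comap, mem_subgroupOf]
    constructor
    · intro hb
      refine Subgroup.mem_normalizer_fintype fun x hx => ?_
      obtain ⟨k, rfl⟩ := mem_zpowers_iff.mp hx
      have hbk := (mem_normalizer_iff.mp hb (π q' ^ k)).mp (zpow_mem (mem_zpowers _) k)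
      obtain ⟨j, hj⟩ := mem_zpowers_iff.mp hbk
      have he : π (b * q' ^ k * b⁻¹) = π (q' ^ j) := by
        rw [map_zpow, hj, map_mul, map_mul, map_inv, map_zpow]
      have hl := lift (n := 5) (by decide) hu (a := ((b * q' ^ k * b⁻¹ : B) : G))
        (b := ((q' ^ j : B) : G)) (hBm _) ?_ ?_ (hπeq _ _ he)
      · have hl' : (b : G) * q ^ k * (b : G)⁻¹ = q ^ j := hl
        rw [hl']
        exact zpow_mem (mem_zpowers q) j
      · show ((b : G) * q ^ k * (b : G)⁻¹) ^ 5 = 1
        rw [conj_pow, ← zpow_natCast (q ^ k) 5, ← zpow_mul, mul_comm, zpow_mul, zpow_natCast, h5,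
          one_zpow]; group
      · show (q ^ j) ^ 5 = 1
        rw [← zpow_natCast (q ^ j) 5, ← zpow_mul, mul_comm, zpow_mul, zpow_natCast, h5, one_zpow]
    · intro hb
      refine Subgroup.mem_normalizer_fintype fun x hx => ?_
      obtain ⟨k, rfl⟩ := mem_zpowers_iff.mp hx
      obtain ⟨j, hj⟩ := mem_zpowers_iff.mp
        ((mem_normalizer_iff.mp hb (q ^ k)).mp (zpow_mem (mem_zpowers q) k))
      have e : b * q' ^ k * b⁻¹ = q' ^ j := Subtype.ext hj.symm
      rw [← map_zpow, ← map_inv, ← map_mul, ← map_mul, e, map_zpow]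
      exact zpow_mem (mem_zpowers _) j
  have hN20 : Nat.card (normalizer (zpowers (π q') : Set (B ⧸ U))) = 20 := by
    have hi : ((normalizer (zpowers (π q') : Set (B ⧸ U))).comap π).index =
        (normalizer (zpowers (π q') : Set (B ⧸ U))).index :=
      index_comap_of_surjective _ (QuotientGroup.mk'_surjective U)
    rw [hcomap] at hi
    have h40 : Nat.card ((normalizer (zpowers q : Set G)).subgroupOf B) = 40 := by
      rw [Nat.card_congr (subgroupOfEquivOfLe hNu).toEquiv]
      exact hp.five_norm _ (by rw [Nat.card_zpowers, hq])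
    have e1 := ((normalizer (zpowers q : Set G)).subgroupOf B).index_mul_card
    have e2 := (normalizer (zpowers (π q') : Set (B ⧸ U))).index_mul_card
    rw [h40] at e1
    rw [← hi, hXc] at e2
    have hB' : Nat.card B = 1440 := h
    rw [hB'] at e1
    have hidx : ((normalizer (zpowers q : Set G)).subgroupOf B).index = 36 := by omega
    rw [hidx] at e2
    omega
  have five : Five (π q') := by
    refine ⟨hXc, hordq, ?_, ?_⟩
    · intro x hx
      obtain ⟨b, rfl⟩ := QuotientGroup.mk'_surjective U x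
      have he : π (b * q' * b⁻¹) = π q' := by
        rw [map_mul, map_mul, map_inv, mul_inv_eq_iff_eq_mul]; exact hx
      have hl := lift (n := 5) (by decide) hu (a := ((b * q' * b⁻¹ : B) : G)) (b := q) hqu
        (by show ((b : G) * q * (b : G)⁻¹) ^ 5 = 1; rw [conj_pow, h5]; group) h5 (hπeq _ _ he)
      have hl' : (b : G) * q * (b : G)⁻¹ = q := hl
      have hbq : (b : G) ∈ zpowers (q * u) := by
        rw [← hCq]
        exact Loc.mem_centralizer_singleton.mpr (mul_inv_eq_iff_eq_mul.mp hl').symm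
      obtain ⟨k, hk⟩ := mem_zpowers_iff.mp hbq
      have hb' : b = (q' * ⟨u, huB⟩) ^ k := Subtype.ext hk.symm
      rw [hb', map_zpow, map_mul,
        show π ⟨u, huB⟩ = 1 from (QuotientGroup.eq_one_iff _).mpr (mem_zpowers _), mul_one]
      exact zpow_mem (mem_zpowers _) k
    · let S : Sylow 5 (B ⧸ U) := Sylow.ofCard (zpowers (π q')) (by
        rw [Nat.card_zpowers, hordq, hXc, show (720 : ℕ) = 5 ^ 1 * 144 by norm_num,
          Nat.factorization_mul (by norm_num) (by norm_num), Finsupp.add_apply,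
          Nat.Prime.factorization_pow Nat.prime_five, Finsupp.single_eq_same,
          Nat.factorization_eq_zero_of_not_dvd (by norm_num : ¬ 5 ∣ 144)]
        norm_num)
      have hmul := SmallGroups.card_normalizer_mul S
      rw [show ((S : Subgroup (B ⧸ U)) : Set (B ⧸ U)) = (zpowers (π q') : Set (B ⧸ U)) from rfl,
        hN20, hXc] at hmul
      omega
  obtain ⟨h10, hfree⟩ := sylow_three five
  obtain ⟨P⟩ := (inferInstance : Nonempty (Sylow 3 B))
  have hBc : Nat.card B = 3 ^ 2 * 160 := h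
  have hPc : Nat.card (P : Subgroup B) = 9 := by
    rw [SmallGroups.card_sylow_eq hBc (by norm_num) P]; norm_num
  set P' := P.mapSurjective (QuotientGroup.mk'_surjective U) with hP'
  have hN72 : Nat.card (normalizer ((P' : Subgroup (B ⧸ U)) : Set (B ⧸ U))) = 72 :=
    SmallGroups.normalizer_conj_eq_card P' h10 (by rw [hXc])
  set H0 := (normalizer ((P' : Subgroup (B ⧸ U)) : Set (B ⧸ U))).comap π with hH0
  have hH0c : Nat.card H0 = 144 := by
    have hi : H0.index = (normalizer ((P' : Subgroup (B ⧸ U)) : Set (B ⧸ U))).index :=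
      index_comap_of_surjective _ (QuotientGroup.mk'_surjective U)
    have e1 := H0.index_mul_card
    have e2 := (normalizer ((P' : Subgroup (B ⧸ U)) : Set (B ⧸ U))).index_mul_card
    rw [hN72, ← hi, hXc] at e2
    rw [show Nat.card B = 1440 from h] at e1
    have : H0.index = 10 := by omega
    rw [this] at e1
    omega
  have hP9 : ∀ x ∈ (P : Subgroup B), (x : G) ^ 9 = 1 := by
    intro x hx
    have h9 := Subgroup.orderOf_dvd_natCard _ hx
    rw [hPc] at h9
    have hx9 := congrArg Subtype.val (orderOf_dvd_iff_pow_eq_one.mp h9)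
    simpa using hx9
  refine ⟨(P : Subgroup B).map B.subtype, H0.map B.subtype, ?_, map_subtype_le _, ?_,
    map_subtype_le _, ?_, ?_⟩
  · rw [card_map_of_injective B.subtype_injective, hPc]
  · rw [card_map_of_injective B.subtype_injective, hH0c]
  · rintro _ ⟨a, ha, rfl⟩ _ ⟨x, hx, rfl⟩
    have hmem : π a * π x * (π a)⁻¹ ∈ (P' : Subgroup (B ⧸ U)) :=
      (mem_normalizer_iff.mp ha (π x)).mp (mem_map_of_mem π hx)
    obtain ⟨y, hy, hye⟩ := hmem
    have he : π (a * x * a⁻¹) = π y := by rw [map_mul, map_mul, map_inv]; exact hye.symm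
    have hl := lift (n := 9) (by decide) hu (a := ((a * x * a⁻¹ : B) : G)) (b := (y : G)) (hBm y)
      (by show ((a : G) * (x : G) * (a : G)⁻¹) ^ 9 = 1; rw [conj_pow, hP9 x hx]; group)
      (hP9 y hy) (hπeq _ _ he)
    exact ⟨y, hy, hl.symm⟩
  · intro c hcu hc2 hcP
    have hcB : c ∈ B := Loc.mem_centralizer_singleton.mpr hcu.symm
    have h1 : π ⟨c, hcB⟩ = 1 := by
      refine hfree P' (π ⟨c, hcB⟩) ?_ ?_
      · rw [← map_mul, show (⟨c, hcB⟩ : B) * ⟨c, hcB⟩ = 1 from Subtype.ext hc2, map_one]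
      · rintro _ ⟨x, hx, rfl⟩
        rw [← map_mul, ← map_mul]
        exact congrArg π (Subtype.ext (hcP x ⟨x, hx, rfl⟩))
    rcases hπeq ⟨c, hcB⟩ 1 (by rw [h1, map_one]) with e | e
    · exact Or.inl e
    · exact Or.inr (by simpa using e)

/-- The subgroup of order nine centralizes a second conjugate of `u`. -/
theorem exists_conj (hp : Pre G) {u : G} {P : Subgroup G} (hu : orderOf u = 2)
    (h : cC u = 1440) (hP : Nat.card P = 9) (hPu : P ≤ centralizer {u}) :
    ∃ w : G, w ≠ u ∧ orderOf w = 2 ∧ ∀ x ∈ P, x * w = w * x := by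
  have : Fact (Nat.Prime 3) := ⟨Nat.prime_three⟩
  set O := MulAction.orbit (ConjAct G) u with hO
  have hOc : Nat.card O = 66 := by
    have h1 := SmallGroups.card_conj_mul_centralizer u
    rw [hp.card, show Nat.card (centralizer ({u} : Set G)) = 1440 from h] at h1
    have h2 : Nat.card {g : G // IsConj u g} = Nat.card O := by
      refine Nat.card_congr (Equiv.subtypeEquivRight fun g => ?_)
      rw [hO, ConjAct.mem_orbit_conjAct]
      exact isConj_comm
    omega
  let P1 : Subgroup (ConjAct G) := P.map ConjAct.toConjAct.toMonoidHom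
  have hP1 : IsPGroup 3 P1 := IsPGroup.of_card (n := 2) (by
    rw [show (3 : ℕ) ^ 2 = 9 by norm_num, ← hP]
    exact card_map_of_injective ConjAct.toConjAct.injective)
  have hm := hP1.card_modEq_card_fixedPoints O
  rw [hOc] at hm
  have hu0 : (⟨u, MulAction.mem_orbit_self u⟩ : O) ∈ MulAction.fixedPoints P1 O := by
    rintro ⟨_, x, hx, rfl⟩
    refine Subtype.ext ?_
    show ConjAct.toConjAct x • u = u
    rw [ConjAct.toConjAct_smul, mul_inv_eq_iff_eq_mul]
    exact (Loc.mem_centralizer_singleton.mp (hPu hx)).symm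
  have hone : 1 < Nat.card (MulAction.fixedPoints P1 O) := by
    have hpos : 0 < Nat.card (MulAction.fixedPoints P1 O) :=
      Nat.card_pos_iff.mpr ⟨⟨⟨_, hu0⟩⟩, inferInstance⟩
    unfold Nat.ModEq at hm
    omega
  have : Nontrivial (MulAction.fixedPoints P1 O) := Finite.one_lt_card_iff_nontrivial.mp hone
  obtain ⟨⟨⟨w, hwO⟩, hw⟩, hne⟩ :=
    exists_ne (⟨⟨u, MulAction.mem_orbit_self u⟩, hu0⟩ : MulAction.fixedPoints P1 O)
  refine ⟨w, fun e => hne (Subtype.ext (Subtype.ext e)), ?_, ?_⟩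
  · obtain ⟨g, rfl⟩ := hwO
    show orderOf (g • u) = 2
    rw [ConjAct.smul_def, Loc.orderOf_conj, hu]
  · intro x hx
    have h1 : ConjAct.toConjAct x • w = w :=
      congrArg Subtype.val (hw ⟨ConjAct.toConjAct x, x, hx, rfl⟩)
    rw [ConjAct.toConjAct_smul, mul_inv_eq_iff_eq_mul] at h1
    exact h1

end K66

open K66 in
/-- No involution commuting with an element of order five has centralizer of order 1440. -/
theorem no_centralizer_1440 {G : Type*} [Group G] [Finite G] (hp : Pre G) (q u : G)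
    (hq : orderOf q = 5) (hu : orderOf u = 2) (hqu : q * u = u * q) (h : cC u = 1440) : False := by
  have : Fact (Nat.Prime 3) := ⟨Nat.prime_three⟩
  have : Fact (Nat.Prime 2) := ⟨Nat.prime_two⟩
  obtain ⟨P, H, hP9, hPu, hH, hHu, hHP, hfree⟩ := exists_local hp hq hu hqu h
  obtain ⟨w, hwu, hw, hPw⟩ := exists_conj hp hu h hP9 hPu
  have hu2 : u * u = 1 := Loc.sq_of_orderOf hu
  have hw2 : w * w = 1 := Loc.sq_of_orderOf hw
  have hui : u⁻¹ = u := Loc.inv_of_orderOf hu
  have hu1 : u ≠ 1 := Loc.ne_one_of_orderOf hu (by norm_num)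
  have hPx : ∀ x ∈ P, x * u = u * x := fun x hx =>
    (Loc.mem_centralizer_singleton.mp (hPu hx)).symm
  have hP3 : ∀ x ∈ P, x ^ 3 = 1 := by
    intro x hx
    have h9 : orderOf x ∣ 9 := hP9 ▸ Subgroup.orderOf_dvd_natCard P hx
    have hs := hp.spec x
    have hle := Nat.le_of_dvd (by norm_num) h9
    refine orderOf_dvd_iff_pow_eq_one.mp ?_
    simp only [Finset.mem_insert, Finset.mem_singleton] at hs
    interval_cases ho : orderOf x <;> omega
  have hPc : ∀ x ∈ P, ∀ y ∈ P, x * y = y * x := fun x hx y hy =>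
    congrArg Subtype.val ((IsPGroup.isMulCommutative_of_card_eq_prime_sq
      (show Nat.card P = 3 ^ 2 by rw [hP9]; norm_num)).is_comm.comm (⟨x, hx⟩ : P) ⟨y, hy⟩)
  obtain ⟨x₀, hx₀, hx₀1⟩ : ∃ x ∈ P, x ≠ 1 := by
    by_contra hc
    push Not at hc
    rw [(eq_bot_iff_forall _).mpr hc, card_bot] at hP9
    norm_num at hP9
  have hx₀3 : orderOf x₀ = 3 := orderOf_eq_prime (hP3 x₀ hx₀) hx₀1
  -- the product `r = u w`
  set r := u * w with hr
  have hPr : ∀ x ∈ P, x * r = r * x := fun x hx =>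
    ((show Commute x u from hPx x hx).mul_right (hPw x hx)).eq
  have hur : u * r * u⁻¹ = r⁻¹ := by
    rw [hr, mul_inv_rev, Loc.inv_of_orderOf hw, hui, ← mul_assoc, hu2, one_mul]
  have hr1 : r ≠ 1 := fun e => hwu (by rw [← inv_eq_of_mul_eq_one_right e, hui])
  have hr2 : r * r ≠ 1 := fun e => by
    have hcr : r * u = u * r := by
      rw [inv_eq_of_mul_eq_one_right e] at hur
      exact (mul_inv_eq_iff_eq_mul.mp hur).symm
    rcases hfree r hcr e (fun x hx => (hPr x hx).symm) with e1 | e1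
    · exact hr1 e1
    · rw [hr] at e1
      have : w = 1 := by simpa using e1
      rw [this, orderOf_one] at hw
      norm_num at hw
  have hr3 : r ^ 3 = 1 := by
    by_contra h3
    have hs := hp.spec r
    have hcop : ¬ 3 ∣ orderOf r → False := fun hn => by
      have := spec_mul hp (hPr x₀ hx₀) (by
        rw [hx₀3]; exact (Nat.prime_three.coprime_iff_not_dvd).mpr hn)
      rw [hx₀3] at this
      simp only [Finset.mem_insert, Finset.mem_singleton] at this
      have h12 : orderOf r = 1 ∨ orderOf r = 2 := by omega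
      rcases h12 with e | e
      · exact hr1 (orderOf_eq_one_iff.mp e)
      · exact hr2 (by rw [← pow_two, ← e, pow_orderOf_eq_one])
    simp only [Finset.mem_insert, Finset.mem_singleton] at hs
    have h6 : orderOf r = 3 ∨ orderOf r = 6 := by
      by_contra hc
      exact hcop (by omega)
    rcases h6 with e | e
    · exact h3 (e ▸ pow_orderOf_eq_one r)
    have h6' : r ^ 6 = 1 := e ▸ pow_orderOf_eq_one r
    have hcc : r ^ 3 * r ^ 3 = 1 := by rw [← pow_add]; exact h6'
    have hcu : r ^ 3 * u = u * r ^ 3 := by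
      have := congrArg (· ^ 3) hur
      simp only [conj_pow, inv_pow, inv_eq_of_mul_eq_one_right hcc] at this
      exact (mul_inv_eq_iff_eq_mul.mp this).symm
    rcases hfree _ hcu hcc (fun x hx => ((show Commute x r from hPr x hx).pow_right 3).eq.symm)
      with e1 | e1
    · exact h3 e1
    · have hur' : u * r * u⁻¹ = r := by
        rw [← e1, mul_inv_eq_iff_eq_mul]
        exact (Commute.pow_self r 3).eq
      exact hr2 (mul_eq_one_iff_eq_inv.mpr (hur'.symm.trans hur))
  -- the centralizer of `P` has order 54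
  set C := centralizer (P : Set G) with hC
  have hCmem : ∀ g, g ∈ C ↔ ∀ x ∈ P, x * g = g * x := fun g => mem_centralizer_iff
  have hCord : ∀ g ∈ C, orderOf g ∈ ({1, 2, 3, 6} : Finset ℕ) := by
    intro g hg
    have hs := hp.spec g
    simp only [Finset.mem_insert, Finset.mem_singleton] at hs ⊢
    by_cases h3 : 3 ∣ orderOf g
    · omega
    · have := spec_mul hp ((hCmem g).mp hg x₀ hx₀) (by
        rw [hx₀3]; exact (Nat.prime_three.coprime_iff_not_dvd).mpr h3)
      rw [hx₀3] at this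
      simp only [Finset.mem_insert, Finset.mem_singleton] at this
      omega
  have huC : u ∈ C := (hCmem u).mpr hPx
  have hC54 : Nat.card C ∣ 54 := by
    obtain ⟨T, hT⟩ := (IsPGroup.of_card (n := 1) (show Nat.card (zpowers (⟨u, huC⟩ : C)) = 2 ^ 1 by
      rw [Nat.card_zpowers, Subgroup.orderOf_mk, hu, pow_one])).exists_le_sylow
    have hTsq : ∀ t ∈ (T : Subgroup C), t * t = 1 := by
      intro t ht
      obtain ⟨k, hk⟩ := IsPGroup.iff_orderOf.mp T.2 ⟨t, ht⟩
      rw [← Subgroup.orderOf_coe] at hk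
      simp only at hk
      have ho := hCord _ t.2
      rw [Subgroup.orderOf_coe, hk] at ho
      simp only [Finset.mem_insert, Finset.mem_singleton] at ho
      have hk1 : k ≤ 1 := by
        by_contra hk1
        have h4 : 4 ∣ 2 ^ k := pow_dvd_pow 2 (show 2 ≤ k by omega)
        rcases ho with e | e | e | e <;> rw [e] at h4 <;> norm_num at h4
      rw [← pow_two]
      exact orderOf_dvd_iff_pow_eq_one.mp (hk ▸ (pow_one 2 ▸ pow_dvd_pow 2 hk1))
    have hTu : ∀ t : (T : Subgroup C), ((t : C) : G) = 1 ∨ ((t : C) : G) = u := by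
      intro t
      have hut : (⟨u, huC⟩ : C) ∈ (T : Subgroup C) := hT (mem_zpowers _)
      have e0 := hTsq _ (mul_mem t.2 hut)
      have e1 : ((t : C) : G) * ((t : C) : G) = 1 := congrArg Subtype.val (hTsq t t.2)
      have e2 : ((t : C) : G) * u * (((t : C) : G) * u) = 1 := congrArg Subtype.val e0
      refine hfree _ ?_ e1 fun x hx => ((hCmem _).mp (t : C).2 x hx).symm
      rw [← inv_eq_of_mul_eq_one_right e2, mul_inv_rev, hui, inv_eq_of_mul_eq_one_right e1]
    have hT2 : Nat.card (T : Subgroup C) ≤ 2 := by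
      classical
      let f : ↥(T : Subgroup C) → Bool := fun t => decide (((t : C) : G) = 1)
      have hf : Function.Injective f := by
        intro s t hst
        simp only [f, decide_eq_decide] at hst
        apply Subtype.ext
        apply Subtype.ext
        rcases hTu s with es | es
        · rw [es, hst.mp es]
        · rcases hTu t with et | et
          · rw [et, hst.mpr et]
          · rw [es, et]
      simpa using Nat.card_le_card_of_injective f hf
    have hd : Nat.card C ∣ 95040 := hp.card ▸ C.card_subgroup_dvd_card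
    have h4 : ¬ 4 ∣ Nat.card C := by
      intro h4
      obtain ⟨k, hk⟩ := IsPGroup.iff_card.mp T.2
      have hTd := T.pow_dvd_card_of_pow_dvd_card (n := 2) (by norm_num; exact h4)
      have := Nat.le_of_dvd Nat.card_pos hTd
      omega
    have h5 : ¬ 5 ∣ Nat.card C := fun h5 => by
      have : Fact (Nat.Prime 5) := ⟨Nat.prime_five⟩
      obtain ⟨g, hg⟩ := exists_prime_orderOf_dvd_card' (G := C) 5 h5
      have := hCord _ g.2
      rw [Subgroup.orderOf_coe, hg] at this
      revert this; decide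
    have h11 : ¬ 11 ∣ Nat.card C := fun h11 => by
      have : Fact (Nat.Prime 11) := ⟨by norm_num⟩
      obtain ⟨g, hg⟩ := exists_prime_orderOf_dvd_card' (G := C) 11 h11
      have := hCord _ g.2
      rw [Subgroup.orderOf_coe, hg] at this
      revert this; decide
    have h1 : Nat.card C ∣ 64 * 27 * 55 := by norm_num; exact hd
    have h55 : (Nat.card C).Coprime 55 := by
      rw [show (55 : ℕ) = 5 * 11 by norm_num]
      exact Nat.Coprime.mul_right (Nat.prime_five.coprime_iff_not_dvd.mpr h5).symm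
        ((Nat.Prime.coprime_iff_not_dvd (by norm_num)).mpr h11).symm
    have h2 := h55.dvd_of_dvd_mul_right h1
    have h54 : ∀ d ∈ (64 * 27 : ℕ).divisors, ¬ 4 ∣ d → d ∣ 54 := by decide +kernel
    exact h54 _ (Nat.mem_divisors.mpr ⟨h2, by norm_num⟩) h4
  -- the cube roots of one in `C` are the elements `p r^i`
  have hrC : r ∈ C := (hCmem r).mpr hPr
  have hPC : ∀ x ∈ P, x ∈ C := fun x hx => (hCmem x).mpr fun y hy => hPc y hy x hx
  have : Fact (Nat.Prime 3) := ⟨Nat.prime_three⟩
  have hri : ∀ i : ℕ, i < 3 → r ^ i ∈ P → i = 0 := by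
    intro i hi him
    by_contra h0
    have hrP : r ∈ P := by
      have h22 : (r ^ i) ^ i = r := by
        rw [← pow_mul, Loc.pow_mod_three hr3]
        interval_cases i <;> simp_all
      exact h22 ▸ P.pow_mem him i
    have := hPx r hrP
    exact hr2 (mul_eq_one_iff_eq_inv.mpr (by
      rw [← hur, eq_comm, mul_inv_eq_iff_eq_mul]; exact this.symm))
  obtain ⟨A⟩ := (inferInstance : Nonempty (Sylow 3 C))
  let f : P × Fin 3 → C := fun p =>
    ⟨(p.1 : G) * r ^ (p.2 : ℕ), C.mul_mem (hPC _ p.1.2) (C.pow_mem hrC _)⟩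
  have hf : Function.Injective f := by
    rintro ⟨x, i⟩ ⟨y, j⟩ hxy
    have hxy' : (x : G) * r ^ (i : ℕ) = (y : G) * r ^ (j : ℕ) := congrArg Subtype.val hxy
    have hij : r ^ (((i : ℕ) + 2 * (j : ℕ)) % 3) = (x : G)⁻¹ * y := by
      rw [← Loc.pow_mod_three hr3, pow_add, eq_inv_mul_iff_mul_eq, ← mul_assoc, hxy', mul_assoc,
        ← pow_add, show (j : ℕ) + 2 * (j : ℕ) = 3 * (j : ℕ) by ring, pow_mul, hr3, one_pow, mul_one]
    have h0 := hri _ (Nat.mod_lt _ (by norm_num)) (hij ▸ P.mul_mem (P.inv_mem x.2) y.2)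
    have hij' : i = j := Fin.ext (by have := i.2; have := j.2; omega)
    subst hij'
    exact Prod.ext (Subtype.ext (mul_right_cancel hxy')) rfl
  have hCc : Nat.card C = 54 := by
    have h27 : 27 ≤ Nat.card C := by
      have h1 := Nat.card_le_card_of_injective f hf
      rw [Nat.card_prod, hP9, Nat.card_fin] at h1
      omega
    have h2' : 2 ∣ Nat.card C := hu ▸ Subgroup.orderOf_dvd_natCard C huC
    have h54 : ∀ d ∈ (54 : ℕ).divisors, 27 ≤ d → 2 ∣ d → d = 54 := by decide
    exact h54 _ (Nat.mem_divisors.mpr ⟨hC54, by norm_num⟩) h27 h2'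
  have hAc : Nat.card (A : Subgroup C) = 27 := by
    rw [SmallGroups.card_sylow_eq (show Nat.card C = 3 ^ 3 * 2 by rw [hCc]; rfl) (by norm_num) A]
    norm_num
  have hAidx : (A : Subgroup C).index = 2 := by
    have := (A : Subgroup C).index_mul_card
    rw [hAc, hCc] at this
    omega
  have hcube : ∀ g : C, g ^ 3 = 1 → g ∈ (A : Subgroup C) := by
    intro g hg
    rw [show g = g ^ 2 * g ^ 2 by rw [← pow_add, show 2 + 2 = 3 + 1 from rfl, pow_succ, hg, one_mul]]
    exact Subgroup.mul_self_mem_of_index_two hAidx _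
  have hfA : ∀ p, f p ∈ (A : Subgroup C) := by
    intro p
    refine hcube _ (Subtype.ext ?_)
    show ((p.1 : G) * r ^ (p.2 : ℕ)) ^ 3 = 1
    rw [((show Commute (p.1 : G) r from hPr _ p.1.2).pow_right _).mul_pow, hP3 _ p.1.2, one_mul,
      ← pow_mul, mul_comm, pow_mul, hr3, one_pow]
  have hsurj : ∀ g : C, g ^ 3 = 1 → ∃ p, f p = g := by
    intro g hg
    let f' : P × Fin 3 → (A : Subgroup C) := fun p => ⟨f p, hfA p⟩
    have hb : Function.Bijective f' := by
      refine (Nat.bijective_iff_injective_and_card f').mpr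
        ⟨fun a b hab => hf (congrArg Subtype.val hab), ?_⟩
      rw [Nat.card_prod, hP9, Nat.card_fin, hAc]
    obtain ⟨p, hp'⟩ := hb.2 ⟨g, hcube g hg⟩
    exact ⟨p, congrArg Subtype.val hp'⟩
  -- an element of order four normalizing `P`
  obtain ⟨Y⟩ := (inferInstance : Nonempty (Sylow 2 H))
  have hYc : Nat.card (Y : Subgroup H) = 16 := by
    rw [SmallGroups.card_sylow_eq (show Nat.card H = 2 ^ 4 * 9 by rw [hH]; rfl) (by norm_num) Y]
    norm_num
  obtain ⟨y, hyH, hy4⟩ : ∃ y ∈ H, orderOf y = 4 := by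
    by_contra hno
    push Not at hno
    refine not_elementary (P := P) (Y := (Y : Subgroup H).map H.subtype) (u := u) hP9 hPc hP3
      (by rw [card_map_of_injective H.subtype_injective, hYc])
      (fun a ha x hx => hHP a (map_subtype_le _ ha) x hx) ?_ fun c hc hcx => ?_
    · rintro _ ⟨a, ha, rfl⟩
      obtain ⟨k, hk⟩ := IsPGroup.iff_orderOf.mp Y.2 ⟨a, ha⟩
      rw [← Subgroup.orderOf_coe] at hk
      simp only at hk
      rw [← Subgroup.orderOf_coe] at hk
      have hk1 : k ≤ 1 := by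
        by_contra hk1
        apply hno ((a : G) ^ 2 ^ (k - 2)) (H.pow_mem a.2 _)
        rw [orderOf_pow_of_dvd (by positivity) (hk ▸ pow_dvd_pow 2 (Nat.sub_le k 2)), hk,
          Nat.pow_div (Nat.sub_le k 2) two_pos, show k - (k - 2) = 2 by omega]
        norm_num
      show (a : G) * (a : G) = 1
      rw [← pow_two]
      exact orderOf_dvd_iff_pow_eq_one.mp (hk ▸ (pow_one 2 ▸ pow_dvd_pow 2 hk1))
    · have hcH := map_subtype_le _ hc
      have hcu := (Loc.mem_centralizer_singleton.mp (hHu hcH)).symm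
      have hcomm : ∀ x ∈ P, c * x = x * c := fun x hx => mul_inv_eq_iff_eq_mul.mp (hcx x hx)
      have hc2 : c * c = 1 := by
        obtain ⟨a, ha, rfl⟩ := hc
        obtain ⟨k, hk⟩ := IsPGroup.iff_orderOf.mp Y.2 ⟨a, ha⟩
        rw [← Subgroup.orderOf_coe] at hk
        simp only at hk
        rw [← Subgroup.orderOf_coe] at hk
        have ho := hCord _ ((hCmem (a : G)).mpr fun x hx => (hcomm x hx).symm)
        rw [hk] at ho
        simp only [Finset.mem_insert, Finset.mem_singleton] at ho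
        have hk1 : k ≤ 1 := by
          by_contra hk1
          have h4 : 4 ∣ 2 ^ k := pow_dvd_pow 2 (show 2 ≤ k by omega)
          rcases ho with e | e | e | e <;> rw [e] at h4 <;> norm_num at h4
        show (a : G) * (a : G) = 1
        rw [← pow_two]
        exact orderOf_dvd_iff_pow_eq_one.mp (hk ▸ (pow_one 2 ▸ pow_dvd_pow 2 hk1))
      exact hfree c hcu hc2 hcomm
  have hyu : y * u = u * y := (Loc.mem_centralizer_singleton.mp (hHu hyH)).symm
  have hyC : y * r * y⁻¹ ∈ C := by
    refine (hCmem _).mpr fun x hx => ?_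
    have hx' : y⁻¹ * x * y ∈ P := by
      have := hHP y⁻¹ (H.inv_mem hyH) x hx
      rwa [inv_inv] at this
    calc x * (y * r * y⁻¹) = y * ((y⁻¹ * x * y) * r) * y⁻¹ := by group
      _ = y * (r * (y⁻¹ * x * y)) * y⁻¹ := by rw [hPr _ hx']
      _ = y * r * y⁻¹ * x := by group
  obtain ⟨⟨x, i⟩, hxi⟩ := hsurj ⟨y * r * y⁻¹, hyC⟩ (Subtype.ext (by
    show (y * r * y⁻¹) ^ 3 = 1
    rw [conj_pow, hr3]; group))
  have hxi' : (x : G) * r ^ (i : ℕ) = y * r * y⁻¹ := congrArg Subtype.val hxi
  have huy : u * (y * r * y⁻¹) * u⁻¹ = (y * r * y⁻¹)⁻¹ := by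
    rw [show (y * r * y⁻¹)⁻¹ = y * r⁻¹ * y⁻¹ by group, ← hur]
    rw [show u * (y * r * y⁻¹) * u⁻¹ = u * y * r * (u * y)⁻¹ by group, ← hyu]
    group
  have hx1 : (x : G) = 1 := by
    have hc : Commute (x : G) (r ^ (i : ℕ)) := (show Commute (x : G) r from hPr x x.2).pow_right _
    rw [← hxi', ← conj_mul, ← conj_pow, hur, mul_inv_eq_iff_eq_mul.mpr ((hPx x x.2).symm),
      inv_pow, mul_inv_rev (x : G), hc.inv_inv.symm.eq] at huy
    have h2 := mul_right_cancel huy
    have h2' : (x : G) * (x : G) = 1 := by nth_rw 2 [h2]; exact mul_inv_cancel _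
    have h3 := hP3 x x.2
    rwa [pow_succ, pow_two, h2', one_mul] at h3
  rw [hx1, one_mul] at hxi'
  have hr3' : orderOf r = 3 := orderOf_eq_prime hr3 hr1
  have hi2 := i.2
  interval_cases hh : (i : ℕ)
  · rw [pow_zero] at hxi'
    exact hr1 (by
      have := hxi'.symm
      rwa [mul_inv_eq_one, mul_eq_left] at this)
  · rw [pow_one, eq_comm, mul_inv_eq_iff_eq_mul] at hxi'
    exact not_twelve hp hr3' hy4 hxi'.symm
  · have hyu4 : orderOf (y * u) = 4 := by
      refine orderOf_eq_prime_pow (p := 2) (n := 1) ?_ ?_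
      · rw [show (2 : ℕ) ^ 1 = 2 from rfl, (show Commute y u from hyu).mul_pow, pow_two u, hu2,
          mul_one]
        intro e
        have h2 := orderOf_dvd_of_pow_eq_one e
        rw [hy4] at h2; norm_num at h2
      · rw [show (2 : ℕ) ^ (1 + 1) = 4 from rfl, (show Commute y u from hyu).mul_pow,
          show u ^ 4 = 1 by rw [← pow_mod_orderOf, hu]; norm_num,
          mul_one, ← hy4, pow_orderOf_eq_one]
    refine not_twelve hp hr3' hyu4 ?_
    have hfix : y * u * r * (y * u)⁻¹ = r := by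
      rw [show y * u * r * (y * u)⁻¹ = y * (u * r * u⁻¹) * y⁻¹ by group, hur, ← conj_inv, ← hxi']
      exact inv_eq_of_mul_eq_one_right (by rw [← pow_succ]; exact hr3)
    exact (mul_inv_eq_iff_eq_mul.mp hfix).symm

end Cfsg.Agent.M12Uniq
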