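import Cfsg.Agent.M12Uniq.CountsU
import Cfsg.Agent.M12Uniq.CountsK66

/-!
# `UFacts` from the counts
-/

set_option autoImplicit false

namespace Cfsg.Agent.M12Uniq

universe u

/-- The facts on the involutions commuting with elements of order five. -/
theorem uFacts {G : Type u} [Group G] [Finite G] (hp : Pre G) : UFacts G :=
  CU.uFacts_of hp fun q v hq hv hqv h => no_centralizer_1440 hp q v hq hv hqv h

end Cfsg.Agent.M12Uniq
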