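import Cfsg.Agent.M12Uniq.CountsSpec
import Cfsg.Agent.M12Uniq.CountsUFacts
import Cfsg.Agent.M12Uniq.CountsInvol
import Cfsg.Agent.M12Uniq.CountsThree
import Cfsg.Agent.M12Uniq.CountsFour

/-!
# The class data of `M₁₂` from the numbers of elements of each order
-/

set_option autoImplicit false

namespace Cfsg.Agent.M12Uniq

universe u

/-- The class data from the preliminary data. -/
theorem counts_of_pre {G : Type u} [Group G] [Finite G] (hp : Pre G) : Counts G :=
  have hf := uFacts hp
  have hi := invols hp hf
  have ht := threes hp hf hi
  have h48 := count_four_eight hp hf hi ht
  { card := hp.card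
    simple := hp.simple
    sylow11 := hp.sylow11
    five := hp.five
    five_norm := hp.five_norm
    invol := hi.invol
    exists_z := hi.exists_z
    exists_u := hi.exists_u
    invol_conj := hi.invol_conj
    three := ht.three
    exists_x := ht.exists_x
    exists_y := ht.exists_y
    three_conj := ht.three_conj
    cent54 := ht.cent54
    cent36 := ht.cent36
    five_comm := hi.five_comm
    z_three := ht.z_three
    no_order := hp.spec
    count_four := h48.1
    count_eight := h48.2 }

end Cfsg.Agent.M12Uniq
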