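import Cfsg.Agent.M12Uniq.CountsValuesCount

/-!
# The set of numbers of elements of given order of M₁₂
-/

set_option autoImplicit false

namespace Cfsg.Agent.M12Uniq.CountsValues

open Cfsg Cfsg.Agent.Golay Finset

theorem card_fibre {S : Finset (Equiv.Perm GolayPt)} (hS : ∀ g ∈ S, g ∈ Spor.M12) {j : ℕ}
    (hj : j < 5) :
    S.card = (dList.map fun a => (S.filter fun g => g (pt j) = pt a).card).sum := by
  classical
  rw [← List.sum_toFinset _ dList_facts.2.1,
    card_eq_sum_card_fiberwise (f := fun g : Equiv.Perm GolayPt => idx (g (pt j)))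
      (t := dList.toFinset) fun g hg => ?_]
  · refine sum_congr rfl fun a ha => congrArg card (filter_congr fun g _ => ?_)
    rw [List.mem_toFinset] at ha
    constructor
    · intro e; rw [← e, pt_idx]
    · intro e; rw [e, idx_pt (dList_facts.2.2.1 a ha)]
  · rw [mem_coe, List.mem_toFinset]
    simpa using dList_facts.1 0 ⟨_, idx_lt _⟩
      (mem_D_iff.1 ((apply_mem_D (hS g hg) _).2 (pt_mem_D hj))) fun k => k.elim0

theorem card_conj12 {n : ℕ} {k : Equiv.Perm GolayPt} (hk : k ∈ Spor.M12)
    (P Q : Equiv.Perm GolayPt → Prop) [DecidablePred P] [DecidablePred Q]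
    (h : ∀ g, P g ↔ Q (k * g * k⁻¹)) :
    ((El12 n).filter P).card = ((El12 n).filter Q).card := by
  classical
  refine card_nbij' (fun g => k * g * k⁻¹) (fun g => k⁻¹ * g * k) (fun g hg => ?_) (fun g hg => ?_)
    (fun g _ => by group) (fun g _ => by group)
  · simp only [coe_filter, Set.mem_setOf_eq, mem_El12] at hg ⊢
    refine ⟨⟨mul_mem (mul_mem hk hg.1.1) (inv_mem hk), ?_⟩, (h g).1 hg.2⟩
    rw [← hg.1.2]
    exact orderOf_injective (MulAut.conj k).toMonoidHom (MulAut.conj k).injective g
  · simp only [coe_filter, Set.mem_setOf_eq, mem_El12] at hg ⊢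
    refine ⟨⟨mul_mem (mul_mem (inv_mem hk) hg.1.1) hk, ?_⟩, (h _).2 ?_⟩
    · rw [← hg.1.2]
      simpa using orderOf_injective (MulAut.conj k⁻¹).toMonoidHom (MulAut.conj k⁻¹).injective g
    · rw [show k * (k⁻¹ * g * k) * k⁻¹ = g by group]
      exact hg.2

theorem card_El12 (n : ℕ) : (El12 n).card = valOf n := by
  classical
  obtain ⟨p0, p1, p2, p3⟩ := chkPres
  have C0 : _ = cntOf 0 n := card_pair (by norm_num) p0 chkOrd0 n
  have C1 : _ = cntOf 1 n := card_pair (by norm_num) p1 chkOrd1 n
  have C2 : _ = cntOf 2 n := card_pair (by norm_num) p2 chkOrd2 n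
  have C3 : _ = cntOf 3 n := card_pair (by norm_num) p3 chkOrd3 n
  set F : ℕ → ℕ → ℕ := fun a b =>
    ((El12 n).filter fun g => g (pt 0) = pt a ∧ g (pt 1) = pt b).card with hF
  set G1 : ℕ → ℕ := fun a => ((El12 n).filter fun g => g (pt 0) = pt a).card with hG1
  have hdiag : ∀ a, F a a = 0 := fun a => by
    rw [hF]; dsimp only
    rw [card_eq_zero, filter_eq_empty_iff]
    rintro g - ⟨e0, e1⟩
    exact absurd (pt_inj (by norm_num) (by norm_num) (g.injective (e0.trans e1.symm))) (by norm_num)
  have hsum : ∀ a, G1 a = (dList.map (F a)).sum := fun a => by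
    rw [hG1]; dsimp only
    rw [card_fibre (j := 1) (fun g hg => (mem_El12.1 (mem_filter.1 hg).1).1) (by norm_num)]
    refine congrArg List.sum (List.map_congr_left fun b _ => ?_)
    rw [hF, filter_filter]
  have hG1a : ∀ a ∈ dList.drop 1, G1 a = G1 1 := fun a ha => by
    obtain ⟨k, hk, kp⟩ := exists_transversal12 (i := 1) (by norm_num) ha
    obtain ⟨hkM, kfix⟩ := mem_fix12.1 hk
    refine (card_conj12 hkM _ _ fun g => ?_).symm
    simp only [Equiv.Perm.mul_apply]
    rw [show k⁻¹ (pt 0) = pt 0 from (Equiv.symm_apply_eq k).2 (kfix 0 (by norm_num)).symm, ← kp,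
      k.injective.eq_iff]
  have hFb : ∀ x < 2, ∀ b ∈ dList.drop 2, F x b = F x 2 := by
    intro x hx b hb
    obtain ⟨k, hk, kp⟩ := exists_transversal12 (i := 2) (by norm_num) hb
    obtain ⟨hkM, kfix⟩ := mem_fix12.1 hk
    refine (card_conj12 hkM _ _ fun g => ?_).symm
    simp only [Equiv.Perm.mul_apply]
    rw [show k⁻¹ (pt 0) = pt 0 from (Equiv.symm_apply_eq k).2 (kfix 0 (by norm_num)).symm,
      show k⁻¹ (pt 1) = pt 1 from (Equiv.symm_apply_eq k).2 (kfix 1 (by norm_num)).symm, ← kp]
    conv_rhs => rw [← kfix x hx, k.injective.eq_iff, k.injective.eq_iff]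
  have row : ∀ x < 2, G1 x = F x 0 + F x 1 + 10 * F x 2 := by
    intro x hx
    rw [hsum, show dList = 0 :: 1 :: dList.drop 2 from rfl, List.map_cons, List.map_cons,
      List.sum_cons, List.sum_cons, List.map_congr_left (hFb x hx), List.map_const',
      List.sum_replicate, smul_eq_mul, show (dList.drop 2).length = 10 from rfl]
    omega
  have htot : (El12 n).card = G1 0 + 11 * G1 1 := by
    rw [card_fibre (j := 0) (fun g hg => (mem_El12.1 hg).1) (by norm_num)]
    show (dList.map G1).sum = _
    rw [show dList = 0 :: dList.drop 1 from rfl, List.map_cons, List.sum_cons,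
      List.map_congr_left hG1a, List.map_const', List.sum_replicate, smul_eq_mul,
      show (dList.drop 1).length = 11 from rfl]
  rw [htot, row 0 (by norm_num), row 1 (by norm_num), hdiag, hdiag, valOf]
  simp only [hF]
  rw [C0, C1, C2, C3]
  omega

/-- The values. -/
def nse12List : List ℕ := [1, 891, 4400, 5940, 9504, 17280, 23760]

theorem valOf_mem {n : ℕ} (h : 0 < valOf n) : valOf n ∈ nse12List := by
  have key : n ∈ [1, 2, 3, 4, 5, 6, 8, 10, 11] := by
    by_contra hn
    have hz : ∀ s < 4, cntOf s n = 0 := by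
      intro s hs
      have := valOf_ok.2
      simp only [List.all_eq_true, List.mem_range, Bool.and_eq_true, List.contains_iff_mem] at this
      rw [cntOf, List.countP_eq_zero]
      intro o ho e
      exact hn (Nat.eq_of_beq_eq_true e ▸ (this s hs).2 o ho)
    simp [valOf, hz] at h
  have h2 := List.mem_map_of_mem (f := valOf) key
  rw [valOf_ok.1] at h2
  simp only [nse12List, List.mem_cons, List.not_mem_nil, or_false] at h2 ⊢
  omega

theorem card_orderOf (n : ℕ) : Nat.card {g : Spor.M12 // orderOf g = n} = valOf n := by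
  classical
  rw [← card_El12, ← Nat.card_eq_finsetCard]
  refine Nat.card_congr ((Equiv.subtypeEquivRight fun g => ?_).trans
    ((Equiv.subtypeSubtypeEquivSubtypeInter (fun g => g ∈ Spor.M12)
      fun g : Equiv.Perm GolayPt => orderOf g = n).trans
    (Equiv.subtypeEquivRight fun g => mem_El12.symm)))
  rw [Subgroup.orderOf_coe]

end Cfsg.Agent.M12Uniq.CountsValues

namespace Cfsg.Agent.M12Uniq

open CountsValues

/-- The values for `M₁₂`. -/
theorem values_M12 :
    {c : ℕ | 0 < c ∧ ∃ n : ℕ, c = Nat.card {g : ↥Cfsg.Spor.M12 // orderOf g = n}} =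
    {c | c ∈ [1, 891, 4400, 5940, 9504, 17280, 23760]} := by
  ext c
  simp only [Set.mem_setOf_eq, card_orderOf]
  constructor
  · rintro ⟨hc, n, rfl⟩; exact valOf_mem hc
  · intro hc
    have hc' : c ∈ [1, 2, 3, 4, 5, 6, 8, 10, 11].map valOf := by
      rw [valOf_ok.1]
      simp only [List.mem_cons, List.not_mem_nil, or_false] at hc ⊢
      omega
    obtain ⟨n, -, rfl⟩ := List.mem_map.1 hc'
    refine ⟨?_, n, rfl⟩
    simp only [List.mem_cons, List.not_mem_nil, or_false] at hc
    omega

end Cfsg.Agent.M12Uniq
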