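import Cfsg.Agent.M12Uniq.LocalHex

/-!
# The local data of a group with the class data of `M₁₂` (helper46)
-/

set_option autoImplicit false

namespace Cfsg.Agent.M12Uniq

open Subgroup

universe u

/-- There are two local data with the same involution, the quaternion group of the second being
the centralizer of that of the first. -/
theorem exists_eData_pair {G : Type u} [Group G] [Finite G] (hc : Counts G) :
    ∃ e e' : EData G, e'.z = e.z ∧ e'.R = e.M := by
  have h := Loc.Elem.not_all_R_eq hc
  push Not at h
  obtain ⟨A, B, hz, hne⟩ := h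
  obtain ⟨e, hez, -, heM⟩ := A.exists_eData hc
  obtain ⟨e', he'z, he'R, -⟩ := B.exists_eData hc
  refine ⟨e, e', by rw [he'z, hez, hz], ?_⟩
  rw [he'R, heM]
  refine A.eq_M hc ?_ (B.card_R hc) ?_ ?_ hne.symm
  · rw [hz]; exact B.R_le_C hc
  · rw [hz]; exact B.centralizer_le_normalizer_R hc
  · rw [hz]; exact fun w hw hw0 => B.R_sq hc hw hw0

end Cfsg.Agent.M12Uniq
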