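import Cfsg.Agent.M12Uniq.CharsBlockNum

/-!
# Arithmetic of the columns of the principal 11-block at elements of orders 2 and 3

For a simple group of order 95040; `C` stands for the order of a centraliser.
-/

set_option autoImplicit false

namespace Cfsg.Agent.M12Uniq

/-- Possible values at an involution with centraliser of order `C`. -/
def yVals (C d : ℕ) : List ℤ :=
  ((List.range (d / 2)).map fun k : ℕ => (d : ℤ) - 4 * ((k : ℤ) + 1)).filter fun v =>
    (-(d : ℤ) < v) ∧ v * v ≤ (C : ℤ) ∧ (((95040 / C : ℕ) : ℤ) * v) % (d : ℤ) = 0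

theorem mem_yVals {C d : ℕ} {v : ℤ} (h1 : -(d : ℤ) < v) (h2 : v < d) (h4 : (4 : ℤ) ∣ (d : ℤ) - v)
    (hsq : v ^ 2 ≤ C) (hdvd : (d : ℤ) ∣ ((95040 / C : ℕ) : ℤ) * v) : v ∈ yVals C d := by
  obtain ⟨k, hk⟩ := h4
  refine List.mem_filter.mpr ⟨List.mem_map.mpr ⟨(k - 1).toNat, List.mem_range.mpr ?_,
    ?_⟩, ?_⟩
  · omega
  · omega
  · simp only [decide_eq_true_eq]
    exact ⟨h1, by rwa [← sq], Int.emod_eq_zero_of_dvd hdvd⟩

/-- Possible rational values at an element of order 3 with centraliser of order `C`. -/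
def wVals (C d : ℕ) : List ℤ :=
  ((List.range (d / 2)).map fun k : ℕ => (d : ℤ) - 3 * ((k : ℤ) + 1)).filter fun v =>
    (0 ≤ (d : ℤ) + 2 * v) ∧ v * v ≤ (C : ℤ) ∧ (((95040 / C : ℕ) : ℤ) * v) % (d : ℤ) = 0

theorem mem_wVals {C d : ℕ} {v : ℤ} (h1 : 0 ≤ (d : ℤ) + 2 * v) (h2 : v < d)
    (h3 : (3 : ℤ) ∣ (d : ℤ) - v)
    (hsq : v ^ 2 ≤ C) (hdvd : (d : ℤ) ∣ ((95040 / C : ℕ) : ℤ) * v) : v ∈ wVals C d := by
  obtain ⟨k, hk⟩ := h3
  refine List.mem_filter.mpr ⟨List.mem_map.mpr ⟨(k - 1).toNat, List.mem_range.mpr ?_,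
    ?_⟩, ?_⟩
  · omega
  · omega
  · simp only [decide_eq_true_eq]
    exact ⟨h1, by rwa [← sq], Int.emod_eq_zero_of_dvd hdvd⟩

/-- The value on the exceptional characters. -/
def excVal (ds : List ℕ) (vs : List ℤ) : ℤ :=
  excSign ds * (1 + (List.zipWith (fun d v => sgn d * v) ds vs).sum)

/-- `8640` times the class multiplication sum. -/
def sqSum (ds : List ℕ) (vs : List ℤ) : ℤ :=
  8640 + (List.zipWith (fun d v => sgn d * (((8640 / d : ℕ) : ℤ) * (v * v))) ds vs).sum -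
    excSign ds * (((8640 / excDeg ds : ℕ) : ℤ) * (excVal ds vs * excVal ds vs))

/-- The norm of the column inside the block. -/
def colNorm (ds : List ℕ) (vs : List ℤ) : ℤ :=
  1 + (vs.map fun v => v * v).sum + 2 * (excVal ds vs * excVal ds vs)

/-- Conditions on a column at an involution. -/
def YOK (C : ℕ) (ds : List ℕ) (vs : List ℤ) : Prop :=
  colNorm ds vs ≤ (C : ℤ) ∧ sqSum ds vs = 0 ∧ excVal ds vs ∈ yVals C (excDeg ds)

/-- Conditions on a rational column at an element of order 3, the block degrees being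
45, 54, 120, 144 and 16. -/
def WOK (C : ℕ) (vs : List ℤ) : Prop :=
  colNorm [45, 54, 120, 144] vs ≤ (C : ℤ) ∧ 0 ≤ sqSum [45, 54, 120, 144] vs ∧
    (11 * sqSum [45, 54, 120, 144] vs) % ((C : ℤ) * (C : ℤ)) = 0 ∧
    excVal [45, 54, 120, 144] vs ∈ wVals C 16 ∧
    (1 + (List.zipWith (fun d v => (d : ℤ) * v) [45, 54, 120, 144] vs).sum +
        32 * excVal [45, 54, 120, 144] vs) ^ 2 ≤
      ((C : ℤ) - colNorm [45, 54, 120, 144] vs) * 54450

instance (C : ℕ) (ds : List ℕ) : DecidablePred (YOK C ds) := fun _ =>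
  inferInstanceAs (Decidable (_ ∧ _ ∧ _))

instance (C : ℕ) : DecidablePred (WOK C) := fun _ =>
  inferInstanceAs (Decidable (_ ∧ _ ∧ _ ∧ _ ∧ _))

/-- The possible columns at an involution. -/
def ySols (C : ℕ) (ds : List ℕ) : List (List ℤ) :=
  ((ds.map (yVals C)).sections).filter fun l => YOK C ds l

/-- The possible rational columns at an element of order 3. -/
def wSols (C : ℕ) : List (List ℤ) :=
  ((([45, 54, 120, 144] : List ℕ).map (wVals C)).sections).filter fun l => WOK C l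

theorem mem_ySols {C : ℕ} {ds : List ℕ} {l : List ℤ}
    (h1 : List.Forall₂ (fun v d => v ∈ yVals C d) l ds) (h2 : YOK C ds l) :
    l ∈ ySols C ds := by
  refine List.mem_filter.mpr ⟨?_, by simpa using h2⟩
  rw [List.mem_sections]
  exact List.forall₂_map_right_iff.mpr h1

theorem mem_wSols {C : ℕ} {l : List ℤ}
    (h1 : List.Forall₂ (fun v d => v ∈ wVals C d) l [45, 54, 120, 144]) (h2 : WOK C l) :
    l ∈ wSols C := by
  refine List.mem_filter.mpr ⟨?_, by simpa using h2⟩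
  rw [List.mem_sections]
  exact List.forall₂_map_right_iff.mpr h1

/-- The multiples of 20 dividing 8640. -/
def cs20 : List ℕ :=
  [20, 40, 60, 80, 120, 160, 180, 240, 320, 360, 480, 540, 720, 960, 1080, 1440, 2160, 2880,
    4320, 8640]

/-- The multiples of 64 dividing 8640. -/
def cs64 : List ℕ := [64, 192, 320, 576, 960, 1728, 2880, 8640]

/-- The multiples of 15 dividing 8640 and exceeding 90. -/
def cs15 : List ℕ :=
  [120, 135, 180, 240, 270, 360, 480, 540, 720, 960, 1080, 1440, 2160, 2880, 4320, 8640]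

private theorem cs_check : ∀ C ∈ (8640 : ℕ).divisors,
    (20 ∣ C → C ∈ cs20) ∧ (64 ∣ C → C ∈ cs64) ∧ (15 ∣ C → 90 < C → C ∈ cs15) := by
  decide +kernel

private theorem check_y : ∀ a ∈ smallDegs, ∀ b ∈ smallDegs, ∀ c ∈ smallDegs,
    ∀ d ∈ smallDegs, a ≤ b → b ≤ c → c ≤ d →
    excDeg [a, b, c, d] ∈ excDegs →
    (excDeg [a, b, c, d] % 11 = if 0 < degSum [a, b, c, d] then 5 else 6) →
    1 + 2 * excDeg [a, b, c, d] ^ 2 + ([a, b, c, d].map fun d => d ^ 2).sum ≤ 95040 →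
    [a, b, c, d] = [45, 54, 120, 144] ∨ [a, b, c, d] = [12, 32, 32, 45] ∨
      ∀ C ∈ cs20, ySols C [a, b, c, d] = [] := by
  decide +kernel

private theorem check_z : ∀ C ∈ cs64, ySols C [12, 32, 32, 45] = [] := by
  decide +kernel

private theorem check_w : ∀ C ∈ cs15, wSols C = [] := by
  decide +kernel

/-- The block is determined. -/
theorem block_eq {ds : List ℕ} (hlen : ds.length = 4) (hs : ds.Pairwise (· ≤ ·))
    (hmem : ∀ d ∈ ds, d ∈ smallDegs) (hb : excDeg ds ∈ excDegs)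
    (hb11 : excDeg ds % 11 = if 0 < degSum ds then 5 else 6)
    (hnorm : 1 + 2 * excDeg ds ^ 2 + (ds.map fun d => d ^ 2).sum ≤ 95040)
    {C C' : ℕ} (hC : C ∣ 8640) (h20 : 20 ∣ C) (hC' : C' ∣ 8640) (h64 : 64 ∣ C')
    {l l' : List ℤ} (hl : l ∈ ySols C ds) (hl' : l' ∈ ySols C' ds) :
    ds = [45, 54, 120, 144] := by
  match ds, hlen with
  | [a, b, c, d], _ =>
    simp only [List.pairwise_cons, List.mem_cons, List.not_mem_nil, or_false] at hs
    rcases check_y a (hmem a (by simp)) b (hmem b (by simp)) c (hmem c (by simp)) d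
        (hmem d (by simp)) (hs.1 b (Or.inl rfl)) (hs.2.1 c (Or.inl rfl)) (hs.2.2.1 d rfl)
        hb hb11 hnorm with h | h | h
    · exact h
    · rw [h, check_z C' ((cs_check _ (Nat.mem_divisors.mpr ⟨hC', by norm_num⟩)).2.1 h64)] at hl'
      simp at hl'
    · rw [h C ((cs_check _ (Nat.mem_divisors.mpr ⟨hC, by norm_num⟩)).1 h20)] at hl
      simp at hl

/-- No centraliser of an element of order 3 with this block has order a multiple of 15 above
90. -/
theorem le_ninety {C : ℕ} (hC : C ∣ 8640) (h15 : 15 ∣ C) {l : List ℤ} (hl : l ∈ wSols C) :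
    C ≤ 90 := by
  by_contra h
  rw [check_w C ((cs_check _ (Nat.mem_divisors.mpr ⟨hC, by norm_num⟩)).2.2 h15 (by omega))] at hl
  simp at hl

end Cfsg.Agent.M12Uniq
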