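import Cfsg.Agent.M12Uniq.CharsCols
import Cfsg.Agent.M12Uniq.OrderBlockNum

/-!
# The principal 11-block of a simple group of order 95040

`block_degs`: an involution commuting with an element of order 5 forces the degrees
45, 54, 120, 144 (and 16 for the exceptional characters).
`cC_three_le`: then an element of order 3 commuting with one of order 5 has a centraliser of
order at most 90.
-/

set_option autoImplicit false
set_option linter.unusedSectionVars false

open scoped ComplexConjugate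

namespace Cfsg.Agent.M12Uniq

open Subgroup
open Cfsg.Agent.SmallGroups
open Cfsg.Agent.SmallGroups.SelfCent.Setup (deg deg_spec triv deg_triv)

variable {G : Type*} [Group G] [Fintype G] [IsSimpleGroup G]

theorem centralizer_le_of_eleven (hcard : Nat.card G = 95040)
    (hsyl : ∀ P : Subgroup G, Nat.card P = 11 → Nat.card (normalizer (P : Set G)) = 55)
    {x : G} (hx : orderOf x = 11) : centralizer ({x} : Set G) ≤ zpowers x := by
  have : Fact (Nat.Prime 11) := ⟨by norm_num⟩
  obtain ⟨P, hxP⟩ := exists_mem_sylow hx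
  have hP : Nat.card ↥(P : Subgroup G) = 11 := by
    rw [card_sylow_eq (a := 1) (m := 8640) (by rw [hcard]; norm_num) (by norm_num) P]; norm_num
  have hxP' : zpowers x = (P : Subgroup G) :=
    zpowers_eq_of_card_prime hP hxP (fun h => by rw [h, orderOf_one] at hx; norm_num at hx)
  have hN := hsyl _ hP
  have hPC : (P : Subgroup G) ≤ centralizer ((P : Subgroup G) : Set G) := by
    have : IsCyclic ↥(P : Subgroup G) := isCyclic_of_prime_card hP
    exact le_centralizer _
  have hnc : ¬ IsMulCommutative G := not_comm_of_not_prime (by rw [hcard]; norm_num)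
  have hCN : centralizer ((P : Subgroup G) : Set G) ≤
      Subgroup.normalizer ((P : Subgroup G) : Set G) := centralizer_le_normalizer _
  have h1 := card_dvd_of_le hPC
  have h2 := card_dvd_of_le hCN
  rw [hP] at h1
  rw [hN] at h2
  have h3 : Nat.card (centralizer ((P : Subgroup G) : Set G)) ≠ 55 := fun h =>
    not_normalizer_le_centralizer hnc (p := 11) (by rw [hcard]; norm_num) P
      (eq_of_le_of_card_ge hCN (by rw [h, hN])).ge
  have hC : centralizer ((P : Subgroup G) : Set G) = (P : Subgroup G) := by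
    refine (eq_of_le_of_card_ge hPC (le_of_eq ?_)).symm
    have hm := Nat.mem_divisors.mpr ⟨h2, (by norm_num : (55 : ℕ) ≠ 0)⟩
    rw [show Nat.divisors 55 = {1, 5, 11, 55} by decide] at hm
    simp only [Finset.mem_insert, Finset.mem_singleton] at hm
    rw [hP]
    omega
  rw [← centralizer_closure, ← zpowers_eq_closure, hxP', hC]

theorem cC_dvd_8640 (hcard : Nat.card G = 95040)
    (hsyl : ∀ P : Subgroup G, Nat.card P = 11 → Nat.card (normalizer (P : Set G)) = 55)
    {g : G} (hg1 : g ≠ 1) (hg : orderOf g ≠ 11) : cC g ∣ 8640 := by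
  have : Fact (Nat.Prime 11) := ⟨by norm_num⟩
  have h : cC g ∣ 11 * 8640 := by
    rw [show (11 * 8640 : ℕ) = 95040 from rfl, ← hcard]
    exact card_subgroup_dvd_card _
  refine Nat.Coprime.dvd_of_dvd_mul_left (Nat.Coprime.symm ?_) h
  rw [Nat.Prime.coprime_iff_not_dvd (by norm_num)]
  intro h11
  obtain ⟨x, hx⟩ := exists_prime_orderOf_dvd_card' (G := centralizer ({g} : Set G)) 11 h11
  have hx' : orderOf (x : G) = 11 := (orderOf_coe x).trans hx
  have hgx : g ∈ centralizer ({(x : G)} : Set G) :=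
    mem_centralizer_singleton_iff.mpr (mem_centralizer_singleton_iff.mp x.2).symm
  have hd := orderOf_dvd_natCard _ (centralizer_le_of_eleven hcard hsyl hx' hgx)
  rw [Nat.card_zpowers, hx'] at hd
  rcases (Nat.dvd_prime (by norm_num)).mp hd with h | h
  · exact hg1 (orderOf_eq_one_iff.mp h)
  · exact hg h

/-- A Sylow 2-subgroup centralises one of its involutions. -/
theorem exists_central_invol (hcard : Nat.card G = 95040) [Fact (Nat.Prime 2)] (S : Sylow 2 G) :
    ∃ z ∈ (S : Subgroup G), orderOf z = 2 ∧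
      (S : Subgroup G) ≤ centralizer ({z} : Set G) ∧ Nat.card ↥(S : Subgroup G) = 64 := by
  have hS : Nat.card ↥(S : Subgroup G) = 64 := by
    rw [card_sylow_eq (a := 6) (m := 1485) (by rw [hcard]; norm_num) (by norm_num) S]; norm_num
  have : Nontrivial ↥(S : Subgroup G) := Finite.one_lt_card_iff_nontrivial.mp (by rw [hS]; norm_num)
  have hnt := S.2.center_nontrivial
  obtain ⟨i, hi⟩ := (S.2.to_subgroup (center ↥(S : Subgroup G))).exists_card_eq
  have h2 : 2 ∣ Nat.card (center ↥(S : Subgroup G)) := by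
    rcases i with _ | i
    · have := Finite.one_lt_card_iff_nontrivial.mpr hnt
      omega
    · rw [hi]; exact dvd_pow_self 2 (Nat.succ_ne_zero i)
  obtain ⟨z, hz⟩ := exists_prime_orderOf_dvd_card' (G := center ↥(S : Subgroup G)) 2 h2
  refine ⟨(z : ↥(S : Subgroup G)), (z : ↥(S : Subgroup G)).2,
    (orderOf_coe _).trans ((orderOf_coe z).trans hz), fun s hs => ?_, hS⟩
  rw [mem_centralizer_singleton_iff]
  exact congrArg Subtype.val (mem_center_iff.mp z.2 ⟨s, hs⟩)

theorem four_dvd_cC (hcard : Nat.card G = 95040) {y : G} (hy : orderOf y = 2) : 4 ∣ cC y := by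
  have : Fact (Nat.Prime 2) := ⟨Nat.prime_two⟩
  obtain ⟨S, hyS⟩ := exists_mem_sylow (p := 2) hy
  obtain ⟨z, hzS, hz, hzc, hS⟩ := exists_central_invol hcard S
  have hy1 : y ≠ 1 := fun h => by rw [h, orderOf_one] at hy; norm_num at hy
  have hz1 : z ≠ 1 := fun h => by rw [h, orderOf_one] at hz; norm_num at hz
  set H := zpowers y ⊔ zpowers z
  have hHS : H ≤ (S : Subgroup G) := sup_le (zpowers_le.mpr hyS) (zpowers_le.mpr hzS)
  have hHC : H ≤ centralizer ({y} : Set G) := sup_le
    (zpowers_le.mpr (mem_centralizer_singleton_iff.mpr rfl))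
    (zpowers_le.mpr (mem_centralizer_singleton_iff.mpr
      (mem_centralizer_singleton_iff.mp (hzc hyS)).symm))
  by_cases hyz : y = z
  · exact (show 4 ∣ 64 by norm_num).trans (hS ▸ card_dvd_of_le (hyz ▸ hzc))
  refine dvd_trans ?_ (card_dvd_of_le hHC)
  obtain ⟨i, -, hi⟩ := (Nat.dvd_prime_pow (m := 6) Nat.prime_two).mp
    (show Nat.card H ∣ 2 ^ 6 by rw [show (2 : ℕ) ^ 6 = 64 from rfl, ← hS]; exact card_dvd_of_le hHS)
  have h3 : 2 < Nat.card H := by
    have h2 : zpowers y < H := by
      refine lt_of_le_of_ne le_sup_left fun h => ?_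
      have hzy : z ∈ zpowers y := h ▸ (le_sup_right : zpowers z ≤ H) (mem_zpowers z)
      obtain ⟨k, hk⟩ := mem_zpowers_iff.mp hzy
      rw [← zpow_mod_orderOf, hy] at hk
      rcases Int.emod_two_eq_zero_or_one k with h | h
      · rw [show (k % ((2 : ℕ) : ℤ)) = 0 from h, zpow_zero] at hk
        exact hz1 hk.symm
      · rw [show (k % ((2 : ℕ) : ℤ)) = 1 from h, zpow_one] at hk
        exact hyz hk
    by_contra hle
    exact h2.ne (eq_of_le_of_card_ge h2.le (by rw [Nat.card_zpowers, hy]; omega))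
  rw [hi] at h3 ⊢
  match i, h3 with
  | 0, h => omega
  | 1, h => omega
  | i + 2, _ => exact Dvd.intro_left _ (by rw [pow_add]; rfl)

namespace Block

theorem exists_four (B : Block G) : ∃ a b c d, B.cs = [a, b, c, d] := by
  match B.cs, B.length_cs with
  | [a, b, c, d], _ => exact ⟨a, b, c, d, rfl⟩

variable (B : Block G)

theorem ne_triv {χ : Cfsg.IrrCharacter G} (h : χ ∈ B.f₁ :: B.f₂ :: B.cs) : χ ≠ triv := fun e =>
  (List.nodup_cons.mp B.nodup).1 (e ▸ h)

end Block

/-- Some values bound the centraliser order from below. -/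
theorem normSq_sum_le (l : List (Cfsg.IrrCharacter G)) (hl : l.Nodup) (g : G) :
    (l.map fun χ : Cfsg.IrrCharacter G => Complex.normSq ((χ : G → ℂ) g)).sum ≤ (cC g : ℝ) := by
  classical
  have h := CharCore.sum_apply_mul_conj g g
  rw [if_pos (IsConj.refl g)] at h
  have h1 : ∑ χ : Cfsg.IrrCharacter G, Complex.normSq ((χ : G → ℂ) g) = (cC g : ℝ) := by
    apply Complex.ofReal_injective
    push_cast
    rw [show (cC g : ℂ) = (Nat.card (centralizer ({g} : Set G)) : ℂ) from rfl, ← h]
    exact Finset.sum_congr rfl fun χ _ => (Complex.mul_conj _).symm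
  rw [← List.sum_toFinset _ hl, ← h1]
  exact Finset.sum_le_univ_sum_of_nonneg fun χ => Complex.normSq_nonneg _

theorem excVal_four (a b c d : ℕ) (va vb vc vd : ℤ) :
    excVal [a, b, c, d] [va, vb, vc, vd] = excSign [a, b, c, d] *
      (1 + (sgn a * va + (sgn b * vb + (sgn c * vc + sgn d * vd)))) := by
  simp [excVal]

theorem colNorm_four (a b c d : ℕ) (va vb vc vd : ℤ) :
    colNorm [a, b, c, d] [va, vb, vc, vd] = 1 + (va * va + (vb * vb + (vc * vc + vd * vd))) +
      2 * (excVal [a, b, c, d] [va, vb, vc, vd] * excVal [a, b, c, d] [va, vb, vc, vd]) := by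
  simp [colNorm]

theorem sqSum_four (a b c d : ℕ) (ha : a ∣ 8640) (hb : b ∣ 8640) (hc : c ∣ 8640) (hd : d ∣ 8640)
    (he : excDeg [a, b, c, d] ∣ 8640) (va vb vc vd : ℤ) :
    (sqSum [a, b, c, d] [va, vb, vc, vd] : ℂ) = 8640 * (1 +
      ((sgn a : ℂ) * ((va : ℂ) ^ 2 / a) + ((sgn b : ℂ) * ((vb : ℂ) ^ 2 / b) +
        ((sgn c : ℂ) * ((vc : ℂ) ^ 2 / c) + (sgn d : ℂ) * ((vd : ℂ) ^ 2 / d)))) -
      (excSign [a, b, c, d] : ℂ) *
        ((excVal [a, b, c, d] [va, vb, vc, vd] : ℂ) ^ 2 / (excDeg [a, b, c, d] : ℕ))) := by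
  have key : ∀ n : ℕ, n ∣ 8640 → ((8640 / n : ℕ) : ℂ) = 8640 / (n : ℂ) := fun n hn => by
    rw [Nat.cast_div hn (Nat.cast_ne_zero.mpr (ne_zero_of_dvd_ne_zero (by norm_num) hn))]
    norm_num
  simp only [sqSum, List.zipWith_cons_cons, List.zipWith_nil_left, List.sum_cons, List.sum_nil,
    add_zero]
  simp only [Int.cast_sub, Int.cast_add, Int.cast_mul, Int.cast_natCast, key _ ha, key _ hb,
    key _ hc, key _ hd, key _ he]
  push_cast
  ring

/-- Admissible values of a nontrivial character at an involution. -/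
theorem y_value (hcard : Nat.card G = 95040) {y : G} (hy : orderOf y = 2)
    {χ : Cfsg.IrrCharacter G} (hχ : χ ≠ triv) :
    ∃ v : ℤ, (χ : G → ℂ) y = v ∧ v ∈ yVals (cC y) (deg χ) := by
  have hnc : ¬ IsMulCommutative G := not_comm_of_not_prime (by rw [hcard]; norm_num)
  obtain ⟨n, hn, l, u, h4⟩ := Steiner.M11.involution_value hnc hχ hy
  refine ⟨n, hn, mem_yVals l u h4 ?_ ?_⟩
  · have h := SelfCent.sum_sq_le_card_centralizer {χ} (fun _ => n) (w := y) (fun ψ hψ => by
      rw [Finset.mem_singleton.mp hψ]; exact hn)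
    rw [Finset.sum_singleton] at h
    exact h
  · have h := SelfCent.deg_dvd_index_mul χ hn
    have hi := (centralizer ({y} : Set G)).card_mul_index
    rw [hcard] at hi
    have hC : 95040 / cC y = (centralizer ({y} : Set G)).index :=
      Nat.div_eq_of_eq_mul_right Nat.card_pos (by rw [← hi]; rfl)
    rwa [hC]

private theorem smallDvd : ∀ d ∈ smallDegs, d ∣ 8640 := by decide

private theorem excDvd : ∀ d ∈ excDegs, d ∣ 8640 := by decide

/-- The column at an involution. -/
theorem exists_ySols (hcard : Nat.card G = 95040) (B : Block G) {y : G} (hy : orderOf y = 2) :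
    ∃ l, l ∈ ySols (cC y) (B.cs.map deg) := by
  obtain ⟨a, b, c, d, hcs⟩ := B.exists_four
  have hne : ∀ χ ∈ B.f₁ :: B.f₂ :: B.cs, χ ≠ triv := fun χ => B.ne_triv
  rw [hcs] at hne
  obtain ⟨va, hva, hva'⟩ := y_value hcard hy (hne a (by simp))
  obtain ⟨vb, hvb, hvb'⟩ := y_value hcard hy (hne b (by simp))
  obtain ⟨vc, hvc, hvc'⟩ := y_value hcard hy (hne c (by simp))
  obtain ⟨vd, hvd, hvd'⟩ := y_value hcard hy (hne d (by simp))
  obtain ⟨e, he, he'⟩ := y_value hcard hy (hne B.f₁ (by simp))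
  have hy11 : orderOf y ≠ 11 := by omega
  have hds : B.cs.map deg = [deg a, deg b, deg c, deg d] := by rw [hcs]; rfl
  have hsmall := B.small
  have hexc := B.exc_mem
  have hf := B.deg_f₁
  have hrel := B.rel y hy11
  have hsq := B.rel_sq y hy
  rw [hds] at hsmall hexc hf hrel hsq ⊢
  rw [hcs] at hrel hsq
  simp only [List.map_cons, List.map_nil, List.sum_cons, List.sum_nil, add_zero, hva, hvb, hvc,
    hvd, he] at hrel hsq
  have hE : excVal [deg a, deg b, deg c, deg d] [va, vb, vc, vd] = e := by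
    have h' : 1 + (sgn (deg a) * va + (sgn (deg b) * vb + (sgn (deg c) * vc + sgn (deg d) * vd)))
        = excSign [deg a, deg b, deg c, deg d] * e := by
      apply Int.cast_injective (α := ℂ)
      push_cast
      linear_combination hrel
    rw [excVal_four, h', ← mul_assoc]
    unfold excSign
    split_ifs <;> simp
  refine ⟨[va, vb, vc, vd], mem_ySols (List.Forall₂.cons hva' (List.Forall₂.cons hvb'
    (List.Forall₂.cons hvc' (List.Forall₂.cons hvd' List.Forall₂.nil)))) ⟨?_, ?_, ?_⟩⟩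
  · rw [colNorm_four, hE]
    have h := normSq_sum_le (triv :: B.f₁ :: B.f₂ :: B.cs) B.nodup y
    rw [hcs] at h
    simp only [List.map_cons, List.map_nil, List.sum_cons, List.sum_nil, add_zero, hva, hvb, hvc,
      hvd, he, B.eq_f y hy11, Complex.normSq_intCast, triv, Pi.one_apply, map_one] at h
    have h' : ((1 + (va * va + (vb * vb + (vc * vc + vd * vd))) + 2 * (e * e) : ℤ) : ℝ) ≤
        ((cC y : ℤ) : ℝ) := by
      push_cast
      linarith
    exact_mod_cast h'
  · apply Int.cast_injective (α := ℂ)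
    rw [sqSum_four _ _ _ _ (smallDvd _ (hsmall _ (by simp))) (smallDvd _ (hsmall _ (by simp)))
      (smallDvd _ (hsmall _ (by simp))) (smallDvd _ (hsmall _ (by simp))) (excDvd _ hexc), hE,
      ← hf]
    push_cast
    linear_combination (8640 : ℂ) * hsq
  · rw [hE, ← hf]
    exact he'

/-- The sum of the squares of the block degrees. -/
theorem block_norm (hcard : Nat.card G = 95040) (B : Block G) :
    1 + 2 * excDeg (B.cs.map deg) ^ 2 + ((B.cs.map deg).map fun d => d ^ 2).sum ≤ 95040 := by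
  obtain ⟨a, b, c, d, hcs⟩ := B.exists_four
  have h := normSq_sum_le (triv :: B.f₁ :: B.f₂ :: B.cs) B.nodup (1 : G)
  have hf₁ := B.deg_f₁
  have hf₂ := B.deg_f₂
  rw [hcs] at h hf₁ hf₂ ⊢
  simp only [List.map_cons, List.map_nil, List.sum_cons, List.sum_nil, add_zero,
    (deg_spec _).2.2, Complex.normSq_natCast, hf₁, hf₂, deg_triv, Nat.cast_one] at h ⊢
  have hc1 : cC (1 : G) = 95040 := by
    have : centralizer ({(1 : G)} : Set G) = ⊤ :=
      eq_top_iff.mpr fun x _ => mem_centralizer_singleton_iff.mpr (by rw [one_mul, mul_one])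
    rw [cC, this, card_top, hcard]
  rw [hc1] at h
  have h' : ((1 + 2 * excDeg [deg a, deg b, deg c, deg d] ^ 2 +
      (deg a ^ 2 + (deg b ^ 2 + (deg c ^ 2 + deg d ^ 2))) : ℕ) : ℝ) ≤ ((95040 : ℕ) : ℝ) := by
    push_cast
    norm_num at h ⊢
    linarith
  exact_mod_cast h'

/-- An involution commuting with an element of order 5 determines the block. -/
theorem block_degs (hcard : Nat.card G = 95040)
    (hsyl : ∀ P : Subgroup G, Nat.card P = 11 → Nat.card (normalizer (P : Set G)) = 55)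
    (B : Block G) {q y : G} (hq : orderOf q = 5) (hy : orderOf y = 2) (hqy : q * y = y * q) :
    B.cs.map deg = [45, 54, 120, 144] := by
  have : Fact (Nat.Prime 2) := ⟨Nat.prime_two⟩
  have hy1 : y ≠ 1 := fun h => by rw [h, orderOf_one] at hy; norm_num at hy
  obtain ⟨S⟩ := (inferInstance : Nonempty (Sylow 2 G))
  obtain ⟨z, -, hz, hzc, hS⟩ := exists_central_invol hcard S
  have hz1 : z ≠ 1 := fun h => by rw [h, orderOf_one] at hz; norm_num at hz
  have h20 : 20 ∣ cC y := by
    refine (Nat.Coprime.mul_dvd_of_dvd_of_dvd (by norm_num : Nat.Coprime 4 5)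
      (four_dvd_cC hcard hy) ?_ :)
    rw [← hq, ← orderOf_mk q (mem_centralizer_singleton_iff.mpr hqy)]
    exact orderOf_dvd_natCard _
  obtain ⟨l, hl⟩ := exists_ySols hcard B hy
  obtain ⟨l', hl'⟩ := exists_ySols hcard B hz
  exact block_eq (by rw [List.length_map, B.length_cs]) B.sorted B.small B.exc_mem B.exc_mod
    (block_norm hcard B) (cC_dvd_8640 hcard hsyl hy1 (by omega)) h20
    (cC_dvd_8640 hcard hsyl hz1 (by omega)) (hS ▸ card_dvd_of_le hzc) hl hl'

/-- The possible degrees. -/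
theorem deg_cases (B : Block G) (hdegs : B.cs.map deg = [45, 54, 120, 144])
    (χ : Cfsg.IrrCharacter G) :
    deg χ ∈ [1, 16, 45, 54, 120, 144] ∨ 11 ∣ deg χ := by
  by_cases h : χ ∈ triv :: B.f₁ :: B.f₂ :: B.cs
  · left
    have he : excDeg (B.cs.map deg) = 16 := by rw [hdegs]; rfl
    simp only [List.mem_cons] at h
    rcases h with rfl | rfl | rfl | h
    · rw [deg_triv]; simp
    · rw [B.deg_f₁, he]; simp
    · rw [B.deg_f₂, he]; simp
    · have hm : deg χ ∈ B.cs.map deg := List.mem_map_of_mem h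
      rw [hdegs] at hm
      exact List.mem_cons_of_mem _ (List.mem_cons_of_mem _ hm)
  · exact Or.inr (B.outside χ h)

/-- Characters of the same degree 45, 54, 120 or 144 are equal. -/
theorem eq_of_deg (B : Block G) (hdegs : B.cs.map deg = [45, 54, 120, 144])
    {χ ψ : Cfsg.IrrCharacter G} (hχ : deg χ ∈ [45, 54, 120, 144]) (h : deg ψ = deg χ) :
    ψ = χ := by
  have hmem : ∀ φ : Cfsg.IrrCharacter G, deg φ ∈ [45, 54, 120, 144] → φ ∈ B.cs := by
    intro φ hφ
    by_contra hn
    by_cases hφl : φ ∈ triv :: B.f₁ :: B.f₂ :: B.cs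
    · have he : excDeg (B.cs.map deg) = 16 := by rw [hdegs]; rfl
      simp only [List.mem_cons, hn, or_false] at hφl
      rcases hφl with rfl | rfl | rfl
      · rw [deg_triv] at hφ; simp at hφ
      · rw [B.deg_f₁, he] at hφ; simp at hφ
      · rw [B.deg_f₂, he] at hφ; simp at hφ
    · have h11 := B.outside φ hφl
      simp only [List.mem_cons, List.not_mem_nil, or_false] at hφ
      rcases hφ with h | h | h | h <;> rw [h] at h11 <;> norm_num at h11
  exact List.inj_on_of_nodup_map (by rw [hdegs]; decide) (hmem ψ (h ▸ hχ)) (hmem χ hχ) h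

/-- Rational values at an element of order 3. -/
theorem w_value (hcard : Nat.card G = 95040) (B : Block G)
    (hdegs : B.cs.map deg = [45, 54, 120, 144]) {w : G} (hw : orderOf w = 3)
    {χ : Cfsg.IrrCharacter G} (hχ : χ ∈ B.f₁ :: B.f₂ :: B.cs) :
    ∃ v : ℤ, (χ : G → ℂ) w = v ∧ v ∈ wVals (cC w) (deg χ) := by
  have hw1 : w ≠ 1 := fun h => by rw [h, orderOf_one] at hw; norm_num at hw
  have hw11 : orderOf w ≠ 11 := by omega
  have he : excDeg (B.cs.map deg) = 16 := by rw [hdegs]; rfl
  have hreal : (χ : G → ℂ) w⁻¹ = (χ : G → ℂ) w := by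
    rw [CharCore.irr_apply_inv]
    set ψ : Cfsg.IrrCharacter G := ⟨_, CharCore.isIrrCharacter_star χ.2⟩ with hψ
    have hd : deg ψ = deg χ := by
      have h := (deg_spec ψ).2.2
      simp only [hψ, (deg_spec χ).2.2, map_natCast] at h
      exact_mod_cast h.symm
    show (ψ : G → ℂ) w = (χ : G → ℂ) w
    by_cases hc : χ ∈ B.cs
    · have hm : deg χ ∈ B.cs.map deg := List.mem_map_of_mem hc
      rw [hdegs] at hm
      rw [eq_of_deg B hdegs hm hd]
    · simp only [List.mem_cons, hc, or_false] at hχ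
      have h16 : deg χ = 16 := by
        rcases hχ with rfl | rfl
        · rw [B.deg_f₁, he]
        · rw [B.deg_f₂, he]
      have hψl : ψ ∈ triv :: B.f₁ :: B.f₂ :: B.cs := by
        by_contra hn
        have h11 := B.outside ψ hn
        rw [hd, h16] at h11
        norm_num at h11
      simp only [List.mem_cons] at hψl
      rcases hψl with hh | hh | hh | hh
      · rw [hh, deg_triv, h16] at hd; norm_num at hd
      · rw [hh]; rcases hχ with rfl | rfl
        · rfl
        · exact (B.eq_f w hw11).symm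
      · rw [hh]; rcases hχ with rfl | rfl
        · exact B.eq_f w hw11
        · rfl
      · have hm : deg ψ ∈ B.cs.map deg := List.mem_map_of_mem hh
        rw [hdegs, hd, h16] at hm
        simp at hm
  have : Fact (Nat.Prime 3) := ⟨by norm_num⟩
  have hconst : ∀ h ∈ zpowers w, h ≠ 1 → (χ : G → ℂ) h = (χ : G → ℂ) w := by
    intro h hh h1
    obtain ⟨k, rfl⟩ := mem_zpowers_iff.mp hh
    rw [← zpow_mod_orderOf, hw] at h1 ⊢
    have h3 : k % (3 : ℕ) = 0 ∨ k % (3 : ℕ) = 1 ∨ k % (3 : ℕ) = 2 := by omega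
    rcases h3 with e | e | e <;> rw [e] at h1 ⊢
    · exact absurd (zpow_zero w) h1
    · rw [zpow_one]
    · have e' : w ^ (2 : ℤ) = w⁻¹ := by
        apply eq_inv_of_mul_eq_one_left
        have h3 := pow_orderOf_eq_one w
        rw [hw] at h3
        rw [← h3]; group
      rw [e', hreal]
  obtain ⟨v, hv, h3⟩ := Steiner.M11.exists_int_value χ hw hconst
  obtain ⟨-, hlo⟩ := card_dvd_deg_add χ (zpowers w) (v := v)
    (fun k hk hk1 => by rw [hconst k hk hk1, hv])
  rw [Nat.card_zpowers, hw] at hlo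
  refine ⟨v, hv, mem_wVals (by norm_num at hlo; linarith) ?_ (by exact_mod_cast h3) ?_ ?_⟩
  · have hne := SelfCent.value_ne_deg (B.ne_triv hχ) hw1
    have hle := CharCore.IsCharacter.norm_apply_le (CharCore.irr_isCharacter χ) w
    rw [hv, (deg_spec χ).2.2] at hle
    rw [hv] at hne
    simp only [Complex.norm_intCast, Complex.norm_natCast] at hle
    have h1 : v ≤ deg χ := by
      have := (le_abs_self (v : ℝ)).trans hle
      exact_mod_cast this
    exact lt_of_le_of_ne h1 fun h => hne (by rw [h]; norm_num)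
  · have h := SelfCent.sum_sq_le_card_centralizer {χ} (fun _ => v) (w := w) (fun ψ hψ => by
      rw [Finset.mem_singleton.mp hψ]; exact hv)
    rw [Finset.sum_singleton] at h
    exact h
  · have h := SelfCent.deg_dvd_index_mul χ hv
    have hi := (centralizer ({w} : Set G)).card_mul_index
    rw [hcard] at hi
    have hC : 95040 / cC w = (centralizer ({w} : Set G)).index :=
      Nat.div_eq_of_eq_mul_right Nat.card_pos (by rw [← hi]; rfl)
    rwa [hC]

/-- The characters outside a list and their values: orthogonality with the degrees and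
Cauchy's inequality. -/
theorem rest_cauchy (l : List (Cfsg.IrrCharacter G)) (hl : l.Nodup) {w : G} (hw : w ≠ 1) :
    (l.map fun χ : Cfsg.IrrCharacter G => (deg χ : ℝ) * ((χ : G → ℂ) w).re).sum ^ 2 ≤
      ((cC w : ℝ) - (l.map fun χ : Cfsg.IrrCharacter G => Complex.normSq ((χ : G → ℂ) w)).sum) *
      ((Nat.card G : ℝ) - (l.map fun χ : Cfsg.IrrCharacter G => (deg χ : ℝ) ^ 2).sum) := by
  classical
  rw [← List.sum_toFinset _ hl, ← List.sum_toFinset _ hl, ← List.sum_toFinset _ hl]
  set S := l.toFinset with hS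
  have h1 := CharCore.sum_apply_mul_conj w w
  rw [if_pos (IsConj.refl w)] at h1
  have h1' : ∑ χ : Cfsg.IrrCharacter G, Complex.normSq ((χ : G → ℂ) w) = (cC w : ℝ) := by
    apply Complex.ofReal_injective
    push_cast
    rw [show (cC w : ℂ) = (Nat.card (centralizer ({w} : Set G)) : ℂ) from rfl, ← h1]
    exact Finset.sum_congr rfl fun χ _ => (Complex.mul_conj _).symm
  have h2 := CharCore.sum_apply_mul_conj w 1
  rw [if_neg (fun h => hw (isConj_one_left.mp h))] at h2
  have h2' : ∑ χ : Cfsg.IrrCharacter G, (deg χ : ℝ) * ((χ : G → ℂ) w).re = 0 := by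
    have h := congrArg Complex.re h2
    rw [Complex.re_sum, Complex.zero_re] at h
    rw [← h]
    exact Finset.sum_congr rfl fun χ _ => by
      rw [(deg_spec χ).2.2, map_natCast]; simp [mul_comm]
  have h3 : ∑ χ : Cfsg.IrrCharacter G, (deg χ : ℝ) ^ 2 = (Nat.card G : ℝ) := by
    have h := CharCore.sum_degree_sq (G := G)
    simp only [(deg_spec _).2.2] at h
    exact_mod_cast h
  rw [← Finset.sum_add_sum_compl S] at h1' h2' h3
  have hcs := Finset.sum_mul_sq_le_sq_mul_sq Sᶜ
    (fun χ : Cfsg.IrrCharacter G => (deg χ : ℝ)) (fun χ => ((χ : G → ℂ) w).re)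
  have hre : ∑ χ ∈ Sᶜ, ((χ : G → ℂ) w).re ^ 2 ≤ ∑ χ ∈ Sᶜ, Complex.normSq ((χ : G → ℂ) w) :=
    Finset.sum_le_sum fun χ _ => by
      rw [Complex.normSq_apply, sq]
      exact le_add_of_nonneg_right (mul_self_nonneg _)
  have h0 : 0 ≤ ∑ χ ∈ Sᶜ, (deg χ : ℝ) ^ 2 := Finset.sum_nonneg fun _ _ => sq_nonneg _
  have h5 := mul_le_mul_of_nonneg_left hre h0
  rw [show ∑ χ ∈ S, (deg χ : ℝ) * ((χ : G → ℂ) w).re =
    -∑ χ ∈ Sᶜ, (deg χ : ℝ) * ((χ : G → ℂ) w).re by linarith, neg_sq,
    show (cC w : ℝ) - ∑ χ ∈ S, Complex.normSq ((χ : G → ℂ) w) =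
      ∑ χ ∈ Sᶜ, Complex.normSq ((χ : G → ℂ) w) by linarith,
    show (Nat.card G : ℝ) - ∑ χ ∈ S, (deg χ : ℝ) ^ 2 = ∑ χ ∈ Sᶜ, (deg χ : ℝ) ^ 2 by linarith]
  calc _ ≤ _ := hcs
    _ ≤ _ := h5
    _ = _ := mul_comm _ _

/-- An element of order 3 whose centraliser has order a multiple of 15 has a centraliser of order
at most 90. -/
theorem cC_three_le (hcard : Nat.card G = 95040)
    (hsyl : ∀ P : Subgroup G, Nat.card P = 11 → Nat.card (normalizer (P : Set G)) = 55)
    (B : Block G) (hdegs : B.cs.map deg = [45, 54, 120, 144]) {w : G} (hw : orderOf w = 3)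
    (h15 : 15 ∣ cC w) : cC w ≤ 90 := by
  have hw1 : w ≠ 1 := fun h => by rw [h, orderOf_one] at hw; norm_num at hw
  have hw11 : orderOf w ≠ 11 := by omega
  obtain ⟨a, b, c, d, hcs⟩ := B.exists_four
  have hd4 := hdegs
  rw [hcs] at hd4
  simp only [List.map_cons, List.map_nil, List.cons.injEq, and_true] at hd4
  obtain ⟨ha, hb, hc, hd⟩ := hd4
  have hf₁ : deg B.f₁ = 16 := by rw [B.deg_f₁, hdegs]; rfl
  have hf₂ : deg B.f₂ = 16 := by rw [B.deg_f₂, hdegs]; rfl
  obtain ⟨va, hva, hva'⟩ := w_value hcard B hdegs hw (χ := a) (by simp [hcs])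
  obtain ⟨vb, hvb, hvb'⟩ := w_value hcard B hdegs hw (χ := b) (by simp [hcs])
  obtain ⟨vc, hvc, hvc'⟩ := w_value hcard B hdegs hw (χ := c) (by simp [hcs])
  obtain ⟨vd, hvd, hvd'⟩ := w_value hcard B hdegs hw (χ := d) (by simp [hcs])
  obtain ⟨e, he, he'⟩ := w_value hcard B hdegs hw (χ := B.f₁) (by simp)
  rw [ha] at hva'
  rw [hb] at hvb'
  rw [hc] at hvc'
  rw [hd] at hvd'
  rw [hf₁] at he'
  have hrel := B.rel w hw11
  obtain ⟨N, hN⟩ := B.pairs w hw11
  rw [hdegs] at hrel hN
  rw [hcs] at hrel hN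
  simp only [List.map_cons, List.map_nil, List.sum_cons, List.sum_nil, add_zero, hva, hvb, hvc,
    hvd, he, ha, hb, hc, hd, hf₁, hcard] at hrel hN
  have hE : excVal [45, 54, 120, 144] [va, vb, vc, vd] = e := by
    have h' : 1 + (sgn 45 * va + (sgn 54 * vb + (sgn 120 * vc + sgn 144 * vd)))
        = excSign [45, 54, 120, 144] * e := by
      apply Int.cast_injective (α := ℂ)
      push_cast
      linear_combination hrel
    rw [excVal_four, h', ← mul_assoc]
    unfold excSign
    split_ifs <;> simp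
  have hsq : (N : ℤ) * (cC w : ℤ) ^ 2 = 11 * sqSum [45, 54, 120, 144] [va, vb, vc, vd] := by
    apply Int.cast_injective (α := ℂ)
    rw [Int.cast_mul (11 : ℤ), sqSum_four _ _ _ _ (by norm_num) (by norm_num) (by norm_num)
      (by norm_num) (by decide), hE, show excDeg [45, 54, 120, 144] = 16 from rfl]
    push_cast
    push_cast at hN
    linear_combination hN
  have hnr := colNorm_four 45 54 120 144 va vb vc vd
  rw [hE] at hnr
  have hnsq := normSq_sum_le (triv :: B.f₁ :: B.f₂ :: B.cs) B.nodup w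
  have hcau := rest_cauchy (triv :: B.f₁ :: B.f₂ :: B.cs) B.nodup hw1
  rw [hcs] at hnsq hcau
  simp only [List.map_cons, List.map_nil, List.sum_cons, List.sum_nil, add_zero, hva, hvb, hvc,
    hvd, he, B.eq_f w hw11, Complex.normSq_intCast, triv, Pi.one_apply, map_one, Complex.one_re,
    Complex.intCast_re, ha, hb, hc, hd, hf₁, hf₂, hcard] at hnsq hcau
  rw [show deg (⟨1, CharCore.isIrrCharacter_one⟩ : Cfsg.IrrCharacter G) = 1 from deg_triv] at hcau
  refine le_ninety (cC_dvd_8640 hcard hsyl hw1 hw11) h15 (mem_wSols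
    (List.Forall₂.cons hva' (List.Forall₂.cons hvb' (List.Forall₂.cons hvc'
      (List.Forall₂.cons hvd' List.Forall₂.nil)))) ⟨?_, ?_, ?_, ?_, ?_⟩)
  · rw [hnr]
    have h' : ((1 + (va * va + (vb * vb + (vc * vc + vd * vd))) + 2 * (e * e) : ℤ) : ℝ) ≤
        ((cC w : ℤ) : ℝ) := by
      push_cast
      linarith
    exact_mod_cast h'
  · have : (0 : ℤ) ≤ (N : ℤ) * (cC w : ℤ) ^ 2 := mul_nonneg (Int.natCast_nonneg _) (sq_nonneg _)
    omega
  · rw [← hsq, ← sq, Int.mul_emod_left]
  · rw [hE]; exact he'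
  · rw [hnr, hE]
    simp only [List.zipWith_cons_cons, List.zipWith_nil_left, List.sum_cons, List.sum_nil,
      add_zero]
    rw [← Int.cast_le (R := ℝ)]
    push_cast at hcau ⊢
    refine le_trans (le_of_eq ?_) (le_trans hcau (le_of_eq ?_)) <;> ring

end Cfsg.Agent.M12Uniq
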