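import Cfsg.Agent.M12Uniq.CountsClassesDefs
import Cfsg.Agent.M12Uniq.OrderBlock

/-!
# Interfaces for `Counts` from the order alone (owner helper86)

Split:
* `OrderRestInvol*` : `exists_rows`, `involData` and the numbers of elements of orders 2, 5, 10, 11;
* `OrderRestCols*` : `threeCols` (the columns at elements of order 3, no centraliser of order 27);
* `OrderRestThree*` : `threeLocal` from `InvolData` and `ThreeCols` (Sylow 3-subgroup);
* `OrderRestGalois*` : the sums over generators of cyclic subgroups;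
* `OrderRestRows*`, `OrderRest.lean` : row norms of the characters of degrees 16 and 45, assembly.
-/

set_option autoImplicit false

open scoped ComplexConjugate

namespace Cfsg.Agent.M12Uniq.OrderRest

open Subgroup
open Cfsg.Agent.SmallGroups.SelfCent.Setup (deg triv)

universe u

variable {G : Type u} [Group G] [Fintype G]

/-- The characters of the principal 11-block, by their degrees. -/
structure Rows (G : Type u) [Group G] [Fintype G] where
  block : Block G
  degs : block.cs.map deg = [45, 54, 120, 144]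
  A : Cfsg.IrrCharacter G
  B : Cfsg.IrrCharacter G
  C : Cfsg.IrrCharacter G
  D : Cfsg.IrrCharacter G
  cs_eq : block.cs = [A, B, C, D]
  deg_A : deg A = 45
  deg_B : deg B = 54
  deg_C : deg C = 120
  deg_D : deg D = 144
  deg_E₁ : deg block.f₁ = 16
  deg_E₂ : deg block.f₂ = 16
  real_A : ∀ g : G, conj ((A : G → ℂ) g) = (A : G → ℂ) g
  real_B : ∀ g : G, conj ((B : G → ℂ) g) = (B : G → ℂ) g
  real_C : ∀ g : G, conj ((C : G → ℂ) g) = (C : G → ℂ) g
  real_D : ∀ g : G, conj ((D : G → ℂ) g) = (D : G → ℂ) g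
  real_E : ∀ g : G, orderOf g ≠ 11 →
    conj ((block.f₁ : G → ℂ) g) = (block.f₁ : G → ℂ) g

/-- The degree 16 character used at elements of order other than 11. -/
abbrev Rows.E (R : Rows G) : Cfsg.IrrCharacter G := R.block.f₁

/-- The involutions: classes, columns and the centraliser in `C(u)` of an element of order 3. -/
structure InvolData (R : Rows G) : Prop extends Invols G where
  z_col : ∀ t : G, orderOf t = 2 → cC t = 192 →
    (R.A : G → ℂ) t = -3 ∧ (R.C : G → ℂ) t = -8 ∧ (R.D : G → ℂ) t = 0 ∧ (R.E : G → ℂ) t = 0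
  u_col : ∀ t : G, orderOf t = 2 → cC t = 240 →
    (R.A : G → ℂ) t = 5 ∧ (R.C : G → ℂ) t = 0 ∧
      ((R.E : G → ℂ) t = 4 ∨ (R.E : G → ℂ) t = -4)
  u_three : ∀ t x : G, orderOf t = 2 → cC t = 240 → orderOf x = 3 → t * x = x * t →
    4 ∣ Nat.card ↥(centralizer ({t} : Set G) ⊓ centralizer ({x} : Set G))

/-- The possible columns at an element of order 3. -/
structure ThreeCols (R : Rows G) : Prop where
  cols : ∀ x : G, orderOf x = 3 →
    (cC x = 54 ∧ (R.A : G → ℂ) x = 0 ∧ (R.C : G → ℂ) x = 3 ∧ (R.D : G → ℂ) x = 0 ∧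
      (R.E : G → ℂ) x = -2) ∨
    (cC x = 36 ∧ (R.A : G → ℂ) x = 3 ∧ (R.C : G → ℂ) x = 0 ∧ (R.D : G → ℂ) x = -3 ∧
      (R.E : G → ℂ) x = 1) ∨
    (cC x = 36 ∧ (R.A : G → ℂ) x = -3 ∧ (R.C : G → ℂ) x = 0 ∧ (R.D : G → ℂ) x = 3 ∧
      (R.E : G → ℂ) x = 1) ∨
    (cC x = 72 ∧ (R.A : G → ℂ) x = 3 ∧ (R.C : G → ℂ) x = 0 ∧ (R.D : G → ℂ) x = -6 ∧
      (R.E : G → ℂ) x = -2) ∨
    ((cC x = 9 ∨ cC x = 18) ∧ (R.A : G → ℂ) x = 0 ∧ (R.C : G → ℂ) x = 0 ∧
      (R.D : G → ℂ) x = 0 ∧ (R.E : G → ℂ) x = 1)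

/-- What the Sylow 3-subgroup gives before counting. -/
structure ThreeLocal (R : Rows G) : Prop where
  no_nine : ∀ g : G, orderOf g ≠ 9
  exists_x : ∃ x : G, orderOf x = 3 ∧ cC x = 54
  x_invol : ∀ x t : G, orderOf x = 3 → cC x = 54 → orderOf t = 2 → x * t = t * x → cC t = 192
  x_card : ∀ x : G, orderOf x = 3 → cC x = 54 →
    Nat.card {t : G // orderOf t = 2 ∧ x * t = t * x} = 9
  exists_y : (∃ y : G, orderOf y = 3 ∧ cC y = 36 ∧ (R.A : G → ℂ) y = 3) ∨
    ∃ y y' : G, orderOf y = 3 ∧ cC y = 36 ∧ orderOf y' = 3 ∧ (cC y' = 9 ∨ cC y' = 18)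
  y_invol : ∀ y t : G, orderOf y = 3 → cC y = 36 → orderOf t = 2 → y * t = t * y → cC t = 240
  y_card : ∀ y : G, orderOf y = 3 → cC y = 36 →
    3 ≤ Nat.card {t : G // orderOf t = 2 ∧ y * t = t * y}
  y_four : ∀ y h : G, orderOf y = 3 → cC y = 36 →
    Nat.card {t : G // orderOf t = 2 ∧ y * t = t * y} = 3 → orderOf h = 4 → y * h ≠ h * y

/-- The exponents of the generators of a cyclic group of order `n`. -/
def gens (n : ℕ) : Finset ℕ := (Finset.range n).filter fun k => k.Coprime n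

/-- The sum of a function over the generators of `⟨g⟩`. -/
noncomputable def genSum (χ : G → ℂ) (g : G) : ℂ := ∑ k ∈ gens (orderOf g), χ (g ^ k)

/-- The statements of `OrderRestGalois`. -/
structure GenTools (G : Type u) [Group G] [Fintype G] : Prop where
  /-- A nonzero sum over the generators bounds the sum of the squares from below. -/
  totient_le : ∀ (χ : G → ℂ) (g : G), Cfsg.IsCharacter G χ → genSum χ g ≠ 0 →
    (Nat.totient (orderOf g) : ℝ) ≤ ∑ k ∈ gens (orderOf g), Complex.normSq (χ (g ^ k))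
  /-- The multiplicity of the eigenvalue 1. -/
  mult_one : ∀ (χ : G → ℂ) (g : G), Cfsg.IsCharacter G χ →
    ∃ m : ℕ, ∑ k ∈ Finset.range (orderOf g), χ (g ^ k) = (orderOf g : ℂ) * m
  /-- The multiplicity of the eigenvalue -1 is even (trivial determinant). -/
  mult_neg_one : ∀ (χ : Cfsg.IrrCharacter G) (g : G),
    (∀ x : G, conj ((χ : G → ℂ) x) = (χ : G → ℂ) x) → Even (orderOf g) →
    ∃ m : ℕ, Even m ∧
      ∑ k ∈ Finset.range (orderOf g), (-1) ^ k * (χ : G → ℂ) (g ^ k) = (orderOf g : ℂ) * m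

end Cfsg.Agent.M12Uniq.OrderRest
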