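import Cfsg.Agent.M12Uniq.OrderBlockNum

/-!
# The columns at involutions of a simple group of order 95040
-/

set_option autoImplicit false

namespace Cfsg.Agent.M12Uniq

/-- The inequality of Cauchy for the characters outside the block. -/
def YCauchy (C : ℕ) (vs : List ℤ) : Prop :=
  (1 + (List.zipWith (fun d v => (d : ℤ) * v) [45, 54, 120, 144] vs).sum +
      32 * excVal [45, 54, 120, 144] vs) ^ 2 ≤
    ((C : ℤ) - colNorm [45, 54, 120, 144] vs) * 54450

instance (C : ℕ) : DecidablePred (YCauchy C) := fun _ => inferInstanceAs (Decidable (_ ≤ _))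

private theorem check_invol : ∀ C ∈ ((8640 : ℕ).divisors.filter fun C => 4 ∣ C),
    ∀ l ∈ ySols C [45, 54, 120, 144], YCauchy C l →
      C = 120 ∨ C = 240 ∨ (C = 192 ∧ l = [-3, 6, -8, 0]) := by
  decide +kernel

/-- The three possibilities at an involution. -/
theorem invol_cases {C : ℕ} (hC : C ∣ 8640) (h4 : 4 ∣ C) {l : List ℤ}
    (hl : l ∈ ySols C [45, 54, 120, 144]) (hcau : YCauchy C l) :
    C = 120 ∨ C = 240 ∨ (C = 192 ∧ l = [-3, 6, -8, 0]) :=
  check_invol C (Finset.mem_filter.mpr ⟨Nat.mem_divisors.mpr ⟨hC, by norm_num⟩, h4⟩) l hl hcau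

end Cfsg.Agent.M12Uniq
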