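import Cfsg.Agent.M12Uniq.OrderFive
import Cfsg.Agent.M12Uniq.OrderInvolNum
import Cfsg.Agent.M12Uniq.CountsDefs

/-!
# The involutions of a simple group of order 95040

Two classes, with centralisers of orders 192 and 240; the numbers of elements of orders 2, 5, 10
and 11.
-/

set_option autoImplicit false
set_option linter.unusedSectionVars false

open scoped ComplexConjugate

namespace Cfsg.Agent.M12Uniq.OrderInvol

open Subgroup
open Cfsg.Agent.SmallGroups
open Cfsg.Agent.SmallGroups.SelfCent.Setup (deg deg_spec triv deg_triv)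

variable {G : Type*} [Group G]

/-- An element of order 5 centralises exactly one involution. -/
theorem invol_five_unique [Finite G] (hG : Cfsg.IsM12 G) {q y y' : G} (hq : orderOf q = 5)
    (hy : orderOf y = 2) (hy' : orderOf y' = 2) (hqy : q * y = y * q) (hqy' : q * y' = y' * q) :
    y' = y := by
  have hC := (OrderFive.five_data hG).1 q hq
  have hcomm : Commute q y := hqy
  have hg : orderOf (q * y) = 10 := by
    rw [hcomm.orderOf_mul_eq_mul_orderOf_of_coprime (by rw [hq, hy]; norm_num), hq, hy]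
  have hle : zpowers (q * y) ≤ centralizer ({q} : Set G) :=
    zpowers_le.mpr (mem_centralizer_singleton_iff.mpr ((Commute.refl q).mul_left hcomm.symm).eq)
  have heq := eq_of_le_of_card_ge hle (by rw [Nat.card_zpowers, hg]; exact hC.le)
  have hmem : y' ∈ zpowers (q * y) := heq ▸ mem_centralizer_singleton_iff.mpr hqy'.symm
  obtain ⟨k, hk⟩ := mem_zpowers_iff.mp hmem
  have h5 : y' ^ 5 = y' := by
    rw [show 5 = 2 * 2 + 1 from rfl, pow_succ, pow_mul, show y' ^ 2 = 1 from hy' ▸ pow_orderOf_eq_one y',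
      one_pow, one_mul]
  have hqy5 : (q * y) ^ 5 = y := by
    rw [hcomm.mul_pow, show q ^ 5 = 1 from hq ▸ pow_orderOf_eq_one q, one_mul,
      show 5 = 2 * 2 + 1 from rfl, pow_succ, pow_mul, show y ^ 2 = 1 from hy ▸ pow_orderOf_eq_one y,
      one_pow, one_mul]
  rw [← hk, ← zpow_natCast, ← zpow_mul, mul_comm, zpow_mul, zpow_natCast, hqy5, hk] at h5
  rw [← zpow_mod_orderOf, hy] at h5
  rcases Int.emod_two_eq_zero_or_one k with h | h
  · rw [show (k % ((2 : ℕ) : ℤ)) = 0 from h, zpow_zero] at h5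
    exfalso
    rw [← h5, orderOf_one] at hy'
    norm_num at hy'
  · rw [show (k % ((2 : ℕ) : ℤ)) = 1 from h, zpow_one] at h5
    exact h5.symm

/-- `N(⟨q⟩)` centralises the involution centralising `q`. -/
theorem normalizer_le_centralizer [Finite G] (hG : Cfsg.IsM12 G) {q y : G} (hq : orderOf q = 5)
    (hy : orderOf y = 2) (hqy : q * y = y * q) :
    normalizer (zpowers q : Set G) ≤ centralizer ({y} : Set G) := by
  intro g hg
  have hu : g⁻¹ * q * g ∈ zpowers q := by
    have h := (mem_normalizer_iff.mp (inv_mem hg) q).mp (mem_zpowers q)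
    simpa [mul_assoc] using h
  obtain ⟨k, hk⟩ := mem_zpowers_iff.mp hu
  have hcm : Commute (g⁻¹ * q * g) y := hk ▸ (show Commute q y from hqy).zpow_left k
  have hq' : q * (g * y * g⁻¹) = g * y * g⁻¹ * q := by
    calc q * (g * y * g⁻¹) = g * (g⁻¹ * q * g * y) * g⁻¹ := by group
      _ = g * (y * (g⁻¹ * q * g)) * g⁻¹ := by rw [hcm.eq]
      _ = g * y * g⁻¹ * q := by group
  have h2 : orderOf (g * y * g⁻¹) = 2 := by rw [← MulAut.conj_apply, MulEquiv.orderOf_eq, hy]
  rw [mem_centralizer_singleton_iff]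
  exact (mul_inv_eq_iff_eq_mul.mp (invol_five_unique hG hq hy h2 hqy hq'))

/-- An involution commuting with an element of order 5 has a centraliser of order a multiple
of 40, and not 120. -/
theorem cC_five [Finite G] (hG : Cfsg.IsM12 G) {q y : G} (hq : orderOf q = 5)
    (hy : orderOf y = 2) (hqy : q * y = y * q) : cC y ≠ 120 := by
  intro h120
  have : Fact (Nat.Prime 5) := ⟨by norm_num⟩
  have hle := normalizer_le_centralizer hG hq hy hqy
  obtain ⟨P, hqP⟩ := exists_mem_sylow (p := 5) hq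
  have hP : Nat.card ↥(P : Subgroup G) = 5 := by
    rw [card_sylow_eq (a := 1) (m := 19008) (by rw [hG.2]; norm_num) (by norm_num) P]; norm_num
  have hP' : zpowers q = (P : Subgroup G) :=
    zpowers_eq_of_card_prime hP hqP (fun h => by rw [h, orderOf_one] at hq; norm_num at hq)
  rw [hP'] at hle
  have hN := (OrderFive.five_data hG).2 _ hP
  have hj := index_normalizer_subgroupOf_modEq P (le_normalizer.trans hle)
  have hjm := ((normalizer ((P : Subgroup G) : Set G)).subgroupOf
    (centralizer ({y} : Set G))).card_mul_index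
  rw [Nat.card_congr (subgroupOfEquivOfLe hle).toEquiv, hN,
    show Nat.card (centralizer ({y} : Set G)) = cC y from rfl, h120] at hjm
  unfold Nat.ModEq at hj
  omega

section Column

variable [Fintype G]

/-- The values at an involution satisfy the conditions of `ySols` and Cauchy's inequality. -/
theorem exists_invol_values (hG : Cfsg.IsM12 G) (B : Block G)
    (hdegs : B.cs.map deg = [45, 54, 120, 144]) {a b c d : Cfsg.IrrCharacter G}
    (hcs : B.cs = [a, b, c, d]) {t : G} (ht : orderOf t = 2) :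
    ∃ va vb vc vd e : ℤ, (a : G → ℂ) t = va ∧ (b : G → ℂ) t = vb ∧ (c : G → ℂ) t = vc ∧
      (d : G → ℂ) t = vd ∧ (B.f₁ : G → ℂ) t = e ∧
      excVal [45, 54, 120, 144] [va, vb, vc, vd] = e ∧
      [va, vb, vc, vd] ∈ ySols (cC t) [45, 54, 120, 144] ∧ YCauchy (cC t) [va, vb, vc, vd] := by
  have := hG.1
  have hcard : Nat.card G = 95040 := hG.2
  have hsyl := OrderEleven.sylow11_normalizer hG
  have ht1 : t ≠ 1 := fun h => by rw [h, orderOf_one] at ht; norm_num at ht
  have ht11 : orderOf t ≠ 11 := by omega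
  have hd4 := hdegs
  rw [hcs] at hd4
  simp only [List.map_cons, List.map_nil, List.cons.injEq, and_true] at hd4
  obtain ⟨ha, hb, hc, hd⟩ := hd4
  have hf₁ : deg B.f₁ = 16 := by rw [B.deg_f₁, hdegs]; rfl
  have hf₂ : deg B.f₂ = 16 := by rw [B.deg_f₂, hdegs]; rfl
  have hne : ∀ χ ∈ B.f₁ :: B.f₂ :: B.cs, χ ≠ triv := fun χ => B.ne_triv
  rw [hcs] at hne
  obtain ⟨va, hva, hva'⟩ := y_value hcard ht (hne a (by simp))
  obtain ⟨vb, hvb, hvb'⟩ := y_value hcard ht (hne b (by simp))
  obtain ⟨vc, hvc, hvc'⟩ := y_value hcard ht (hne c (by simp))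
  obtain ⟨vd, hvd, hvd'⟩ := y_value hcard ht (hne d (by simp))
  obtain ⟨e, he, he'⟩ := y_value hcard ht (hne B.f₁ (by simp))
  rw [ha] at hva'
  rw [hb] at hvb'
  rw [hc] at hvc'
  rw [hd] at hvd'
  rw [hf₁] at he'
  have hrel := B.rel t ht11
  have hsq := B.rel_sq t ht
  rw [hdegs] at hrel hsq
  rw [hcs] at hrel hsq
  simp only [List.map_cons, List.map_nil, List.sum_cons, List.sum_nil, add_zero, hva, hvb, hvc,
    hvd, he, ha, hb, hc, hd, hf₁] at hrel hsq
  have hE : excVal [45, 54, 120, 144] [va, vb, vc, vd] = e := by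
    have h' : 1 + (sgn 45 * va + (sgn 54 * vb + (sgn 120 * vc + sgn 144 * vd)))
        = excSign [45, 54, 120, 144] * e := by
      apply Int.cast_injective (α := ℂ)
      push_cast
      linear_combination hrel
    rw [excVal_four, h', ← mul_assoc]
    unfold excSign
    split_ifs <;> simp
  have hnr := colNorm_four 45 54 120 144 va vb vc vd
  rw [hE] at hnr
  have hnsq := normSq_sum_le (triv :: B.f₁ :: B.f₂ :: B.cs) B.nodup t
  have hcau := rest_cauchy (triv :: B.f₁ :: B.f₂ :: B.cs) B.nodup ht1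
  rw [hcs] at hnsq hcau
  simp only [List.map_cons, List.map_nil, List.sum_cons, List.sum_nil, add_zero, hva, hvb, hvc,
    hvd, he, B.eq_f t ht11, Complex.normSq_intCast, triv, Pi.one_apply, map_one, Complex.one_re,
    Complex.intCast_re, ha, hb, hc, hd, hf₁, hf₂, hcard] at hnsq hcau
  rw [show deg (⟨1, CharCore.isIrrCharacter_one⟩ : Cfsg.IrrCharacter G) = 1 from deg_triv] at hcau
  have hY : [va, vb, vc, vd] ∈ ySols (cC t) [45, 54, 120, 144] := by
    refine mem_ySols (List.Forall₂.cons hva' (List.Forall₂.cons hvb' (List.Forall₂.cons hvc'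
      (List.Forall₂.cons hvd' List.Forall₂.nil)))) ⟨?_, ?_, ?_⟩
    · rw [hnr]
      have h' : ((1 + (va * va + (vb * vb + (vc * vc + vd * vd))) + 2 * (e * e) : ℤ) : ℝ) ≤
          ((cC t : ℤ) : ℝ) := by
        push_cast
        linarith
      exact_mod_cast h'
    · apply Int.cast_injective (α := ℂ)
      rw [sqSum_four _ _ _ _ (by norm_num) (by norm_num) (by norm_num) (by norm_num) (by decide),
        hE, show excDeg [45, 54, 120, 144] = 16 from rfl]
      push_cast
      push_cast at hsq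
      linear_combination (8640 : ℂ) * hsq
    · rw [hE]; exact he'
  have hC' : YCauchy (cC t) [va, vb, vc, vd] := by
    unfold YCauchy
    rw [hnr, hE]
    simp only [List.zipWith_cons_cons, List.zipWith_nil_left, List.sum_cons, List.sum_nil,
      add_zero]
    rw [← Int.cast_le (R := ℝ)]
    push_cast at hcau ⊢
    refine le_trans (le_of_eq ?_) (le_trans hcau (le_of_eq ?_)) <;> ring
  exact ⟨va, vb, vc, vd, e, hva, hvb, hvc, hvd, he, hE, hY, hC'⟩

/-- The column at an involution. -/
theorem invol_column (hG : Cfsg.IsM12 G) (B : Block G)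
    (hdegs : B.cs.map deg = [45, 54, 120, 144]) {a b c d : Cfsg.IrrCharacter G}
    (hcs : B.cs = [a, b, c, d]) {t : G} (ht : orderOf t = 2) :
    cC t = 240 ∨ (cC t = 192 ∧ (a : G → ℂ) t = ((-3 : ℤ) : ℂ) ∧ (b : G → ℂ) t = ((6 : ℤ) : ℂ) ∧
      (c : G → ℂ) t = ((-8 : ℤ) : ℂ) ∧ (d : G → ℂ) t = ((0 : ℤ) : ℂ) ∧
      (B.f₁ : G → ℂ) t = ((0 : ℤ) : ℂ)) := by
  have := hG.1
  have hcard : Nat.card G = 95040 := hG.2
  have hsyl := OrderEleven.sylow11_normalizer hG
  have ht1 : t ≠ 1 := fun h => by rw [h, orderOf_one] at ht; norm_num at ht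
  have ht11 : orderOf t ≠ 11 := by omega
  obtain ⟨va, vb, vc, vd, e, hva, hvb, hvc, hvd, he, hE, hY, hC'⟩ :=
    exists_invol_values hG B hdegs hcs ht
  rcases invol_cases (cC_dvd_8640 hcard hsyl ht1 ht11) (four_dvd_cC hcard ht) hY hC' with
    h | h | ⟨h, hl⟩
  · exfalso
    have : Fact (Nat.Prime 5) := ⟨by norm_num⟩
    obtain ⟨q, hq⟩ := exists_prime_orderOf_dvd_card' (G := centralizer ({t} : Set G)) 5
      (by show 5 ∣ cC t; rw [h]; norm_num)
    exact cC_five hG ((orderOf_coe q).trans hq) ht (mem_centralizer_singleton_iff.mp q.2) h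
  · exact Or.inl h
  · simp only [List.cons.injEq, and_true] at hl
    obtain ⟨rfl, rfl, rfl, rfl⟩ := hl
    have he0 : e = 0 := by rw [← hE]; rfl
    exact Or.inr ⟨h, hva, hvb, hvc, hvd, he0 ▸ he⟩

end Column

theorem invol [Finite G] (hG : Cfsg.IsM12 G) {t : G} (ht : orderOf t = 2) :
    cC t = 192 ∨ cC t = 240 := by
  have := hG.1
  have := Fintype.ofFinite G
  obtain ⟨B, hdegs⟩ := OrderFive.exists_block_degs hG
  obtain ⟨a, b, c, d, hcs⟩ := B.exists_four
  rcases invol_column hG B hdegs hcs ht with h | h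
  · exact Or.inr h
  · exact Or.inl h.1

theorem exists_z [Finite G] (hG : Cfsg.IsM12 G) : ∃ z : G, orderOf z = 2 ∧ cC z = 192 := by
  have := hG.1
  have := Fintype.ofFinite G
  have : Fact (Nat.Prime 2) := ⟨Nat.prime_two⟩
  obtain ⟨S⟩ := (inferInstance : Nonempty (Sylow 2 G))
  obtain ⟨z, -, hz, hzc, hS⟩ := exists_central_invol hG.2 S
  refine ⟨z, hz, (invol hG hz).resolve_right fun h => ?_⟩
  have := card_dvd_of_le hzc
  rw [hS, show Nat.card (centralizer ({z} : Set G)) = cC z from rfl, h] at this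
  norm_num at this

theorem exists_q_u [Finite G] (hG : Cfsg.IsM12 G) :
    ∃ q u : G, orderOf q = 5 ∧ orderOf u = 2 ∧ q * u = u * q := by
  have : Fact (Nat.Prime 5) := ⟨by norm_num⟩
  have : Fact (Nat.Prime 2) := ⟨Nat.prime_two⟩
  obtain ⟨q, hq⟩ := exists_prime_orderOf_dvd_card' (G := G) 5 (by rw [hG.2]; norm_num)
  obtain ⟨u, hu⟩ := exists_prime_orderOf_dvd_card' (G := centralizer ({q} : Set G)) 2
    (by show 2 ∣ cC q; rw [(OrderFive.five_data hG).1 q hq]; norm_num)
  exact ⟨q, u, hq, (orderOf_coe u).trans hu, (mem_centralizer_singleton_iff.mp u.2).symm⟩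

theorem five_comm [Finite G] (hG : Cfsg.IsM12 G) {q t : G} (hq : orderOf q = 5)
    (ht : orderOf t = 2) (hqt : q * t = t * q) : cC t = 240 := by
  refine (invol hG ht).resolve_left fun h => ?_
  have hd : orderOf (⟨q, mem_centralizer_singleton_iff.mpr hqt⟩ : centralizer ({t} : Set G)) ∣
      Nat.card (centralizer ({t} : Set G)) := orderOf_dvd_natCard _
  rw [orderOf_mk, hq, show Nat.card (centralizer ({t} : Set G)) = cC t from rfl, h] at hd
  norm_num at hd

theorem exists_u [Finite G] (hG : Cfsg.IsM12 G) : ∃ u : G, orderOf u = 2 ∧ cC u = 240 := by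
  obtain ⟨q, u, hq, hu, hqu⟩ := exists_q_u hG
  exact ⟨u, hu, five_comm hG hq hu hqu⟩

/-- Involutions with equally large centralisers are conjugate. -/
theorem invol_conj [Finite G] (hG : Cfsg.IsM12 G) (s t : G) (hs : orderOf s = 2)
    (ht : orderOf t = 2) (h : cC s = cC t) : IsConj s t := by
  classical
  have := hG.1
  have := Fintype.ofFinite G
  have hcard : Nat.card G = 95040 := hG.2
  have : Fact (Nat.Prime 5) := ⟨by norm_num⟩
  rcases invol hG ht with ht' | ht'
  · -- two columns with the same block part are not orthogonal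
    by_contra hne
    obtain ⟨B, hdegs⟩ := OrderFive.exists_block_degs hG
    obtain ⟨a, b, c, d, hcs⟩ := B.exists_four
    obtain ⟨-, sa, sb, sc, sd, se⟩ := (invol_column hG B hdegs hcs hs).resolve_left (by omega)
    obtain ⟨-, ta, tb, tc, td, te⟩ := (invol_column hG B hdegs hcs ht).resolve_left (by omega)
    choose v hv using fun χ => SelfCent.exists_int_of_sq_eq_one χ (hs ▸ pow_orderOf_eq_one s)
    choose w hw using fun χ => SelfCent.exists_int_of_sq_eq_one χ (ht ▸ pow_orderOf_eq_one t)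
    have horth := col_orth hv hw hne
    have hnv := col_norm hv
    have hnw := col_norm hw
    rw [h, ht'] at hnv
    rw [ht'] at hnw
    set S := (triv :: B.f₁ :: B.f₂ :: B.cs).toFinset with hS
    rw [← Finset.sum_add_sum_compl S] at horth hnv hnw
    have hval : ∀ (g : G) (k : Cfsg.IrrCharacter G → ℤ),
        (∀ χ : Cfsg.IrrCharacter G, (χ : G → ℂ) g = (k χ : ℂ)) → orderOf g = 2 →
        (a : G → ℂ) g = ((-3 : ℤ) : ℂ) → (b : G → ℂ) g = ((6 : ℤ) : ℂ) →
        (c : G → ℂ) g = ((-8 : ℤ) : ℂ) → (d : G → ℂ) g = ((0 : ℤ) : ℂ) →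
        (B.f₁ : G → ℂ) g = ((0 : ℤ) : ℂ) →
        k a = -3 ∧ k b = 6 ∧ k c = -8 ∧ k d = 0 ∧ k B.f₁ = 0 ∧ k B.f₂ = 0 ∧ k triv = 1 := by
      intro g k hk hg h1 h2 h3 h4 h5
      have cast : ∀ (χ : Cfsg.IrrCharacter G) (n : ℤ), (χ : G → ℂ) g = (n : ℂ) → k χ = n :=
        fun χ n hn => by exact_mod_cast (hk χ).symm.trans hn
      exact ⟨cast a _ h1, cast b _ h2, cast c _ h3, cast d _ h4, cast _ _ h5,
        cast _ _ ((B.eq_f g (by omega)).trans h5), cast _ 1 (by simp [triv])⟩
    obtain ⟨v1, v2, v3, v4, v5, v6, v7⟩ := hval s v hv hs sa sb sc sd se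
    obtain ⟨w1, w2, w3, w4, w5, w6, w7⟩ := hval t w hw ht ta tb tc td te
    have hnd := B.nodup
    rw [hS, hcs] at horth hnv hnw
    rw [hcs] at hnd
    rw [List.sum_toFinset _ hnd] at horth hnv hnw
    simp only [List.map_cons, List.map_nil, List.sum_cons, List.sum_nil, v1, v2, v3, v4, v5, v6,
      v7, w1, w2, w3, w4, w5, w6, w7] at horth hnv hnw
    have hcs' := Finset.sum_mul_sq_le_sq_mul_sq (R := ℤ)
      ([triv, B.f₁, B.f₂, a, b, c, d].toFinset)ᶜ v w
    generalize hA : ∑ i ∈ ([triv, B.f₁, B.f₂, a, b, c, d].toFinset)ᶜ, v i * w i = A at hcs' horth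
    generalize hB' : ∑ i ∈ ([triv, B.f₁, B.f₂, a, b, c, d].toFinset)ᶜ, v i ^ 2 = X at hcs' hnv
    generalize hC' : ∑ i ∈ ([triv, B.f₁, B.f₂, a, b, c, d].toFinset)ᶜ, w i ^ 2 = Y at hcs' hnw
    norm_num at horth hnv hnw
    rw [show A = -110 by linarith, show X = 82 by linarith, show Y = 82 by linarith] at hcs'
    norm_num at hcs'
  · -- they commute with elements of order 5
    rw [ht'] at h
    obtain ⟨q, hq⟩ := exists_prime_orderOf_dvd_card' (G := centralizer ({s} : Set G)) 5
      (by show 5 ∣ cC s; rw [h]; norm_num)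
    obtain ⟨r, hr⟩ := exists_prime_orderOf_dvd_card' (G := centralizer ({t} : Set G)) 5
      (by show 5 ∣ cC t; rw [ht']; norm_num)
    have hq' : orderOf (q : G) = 5 := (orderOf_coe q).trans hq
    have hr' : orderOf (r : G) = 5 := (orderOf_coe r).trans hr
    obtain ⟨P, hqP⟩ := exists_mem_sylow hq'
    obtain ⟨R, hrR⟩ := exists_mem_sylow hr'
    obtain ⟨g, hg⟩ := MulAction.exists_smul_eq G P R
    rw [← hg, Sylow.coe_subgroup_smul, mem_pointwise_smul_iff_inv_smul_mem] at hrR
    have hr'' : g⁻¹ * (r : G) * g ∈ (P : Subgroup G) := by simpa [MulAut.smul_def] using hrR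
    have hP : Nat.card ↥(P : Subgroup G) = 5 := by
      rw [card_sylow_eq (a := 1) (m := 19008) (by rw [hcard]; norm_num) (by norm_num) P]; norm_num
    rw [← zpowers_eq_of_card_prime hP hqP (fun h => by rw [h, orderOf_one] at hq'; norm_num at hq')]
      at hr''
    obtain ⟨k, hk⟩ := mem_zpowers_iff.mp hr''
    have hcm : Commute (g⁻¹ * (r : G) * g) s :=
      hk ▸ (show Commute (q : G) s from mem_centralizer_singleton_iff.mp q.2).zpow_left k
    refine isConj_iff.mpr ⟨g, invol_five_unique hG hr' ht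
      (by rw [← MulAut.conj_apply, MulEquiv.orderOf_eq, hs])
      (mem_centralizer_singleton_iff.mp r.2) ?_⟩
    calc (r : G) * (g * s * g⁻¹) = g * (g⁻¹ * r * g * s) * g⁻¹ := by group
      _ = g * (s * (g⁻¹ * r * g)) * g⁻¹ := by rw [hcm.eq]
      _ = g * s * g⁻¹ * r := by group

/-- The number of involutions. -/
theorem s2 [Finite G] (hG : Cfsg.IsM12 G) : sN G 2 = 891 := by
  classical
  have := Fintype.ofFinite G
  obtain ⟨z, hz, hzC⟩ := exists_z hG
  obtain ⟨u, hu, huC⟩ := exists_u hG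
  have hzu : ¬ IsConj z u := fun h => by
    obtain ⟨g, hg⟩ := isConj_iff.mp h
    have hle : centralizer ({u} : Set G) = (centralizer ({z} : Set G)).map (MulAut.conj g).toMonoidHom := by
      ext x
      rw [mem_map_equiv, MulAut.conj_symm_apply, mem_centralizer_singleton_iff,
        mem_centralizer_singleton_iff, ← hg]
      constructor
      · intro hx
        calc g⁻¹ * x * g * z = g⁻¹ * (x * (g * z * g⁻¹)) * g := by group
          _ = g⁻¹ * (g * z * g⁻¹ * x) * g := by rw [hx]
          _ = z * (g⁻¹ * x * g) := by group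
      · intro hx
        calc x * (g * z * g⁻¹) = g * (g⁻¹ * x * g * z) * g⁻¹ := by group
          _ = g * (z * (g⁻¹ * x * g)) * g⁻¹ := by rw [hx]
          _ = g * z * g⁻¹ * x := by group
    have hc : Nat.card (centralizer ({u} : Set G)) = Nat.card (centralizer ({z} : Set G)) := by
      rw [hle]; exact card_map_of_injective (MulAut.conj g).injective
    rw [show Nat.card (centralizer ({u} : Set G)) = cC u from rfl,
      show Nat.card (centralizer ({z} : Set G)) = cC z from rfl, huC, hzC] at hc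
    norm_num at hc
  have hord : ∀ {a b : G}, IsConj a b → orderOf b = orderOf a := by
    intro a b h
    obtain ⟨g, rfl⟩ := isConj_iff.mp h
    rw [← MulAut.conj_apply, MulEquiv.orderOf_eq]
  have e : {g : G // orderOf g = 2} ≃ {g : G // IsConj z g ∨ IsConj u g} :=
    Equiv.subtypeEquivRight fun g => ⟨fun hg => by
      rcases invol hG hg with h | h
      · exact Or.inl (invol_conj hG z g hz hg (hzC.trans h.symm))
      · exact Or.inr (invol_conj hG u g hu hg (huC.trans h.symm)),
      fun hg => hg.elim (fun h => (hord h).trans hz) (fun h => (hord h).trans hu)⟩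
  have hcz := SmallGroups.card_conj_mul_centralizer z
  have hcu := SmallGroups.card_conj_mul_centralizer u
  rw [hG.2, show Nat.card (centralizer ({z} : Set G)) = cC z from rfl, hzC] at hcz
  rw [hG.2, show Nat.card (centralizer ({u} : Set G)) = cC u from rfl, huC] at hcu
  rw [sN, Nat.card_congr e, Nat.card_congr (subtypeOrEquiv (IsConj z) (IsConj u) (by
    rw [Pi.disjoint_iff]
    intro g
    simp only [Prop.disjoint_iff, not_and]
    exact fun h h' => hzu (h.trans h'.symm))), Nat.card_sum]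
  omega

theorem s5 [Finite G] (hG : Cfsg.IsM12 G) : sN G 5 = 9504 := by
  have : Fact (Nat.Prime 5) := ⟨by norm_num⟩
  have hP : ∀ P : Sylow 5 G, Nat.card ↥(P : Subgroup G) = 5 := fun P => by
    rw [card_sylow_eq (a := 1) (m := 19008) (by rw [hG.2]; norm_num) (by norm_num) P]; norm_num
  obtain ⟨P⟩ := (inferInstance : Nonempty (Sylow 5 G))
  have h := card_normalizer_mul P
  rw [(OrderFive.five_data hG).2 _ (hP P), hG.2] at h
  rw [sN, card_orderOf_eq hP]
  omega

theorem s11 [Finite G] (hG : Cfsg.IsM12 G) : sN G 11 = 17280 := by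
  have : Fact (Nat.Prime 11) := ⟨by norm_num⟩
  have hP : ∀ P : Sylow 11 G, Nat.card ↥(P : Subgroup G) = 11 := fun P => by
    rw [card_sylow_eq (a := 1) (m := 8640) (by rw [hG.2]; norm_num) (by norm_num) P]; norm_num
  obtain ⟨P⟩ := (inferInstance : Nonempty (Sylow 11 G))
  have h := card_normalizer_mul P
  rw [OrderEleven.sylow11_normalizer hG _ (hP P), hG.2] at h
  rw [sN, card_orderOf_eq hP]
  omega

theorem s10 [Finite G] (hG : Cfsg.IsM12 G) : sN G 10 = 9504 := by
  rw [← s5 hG]
  refine Nat.card_congr (Equiv.ofBijective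
    (fun g : {g : G // orderOf g = 10} => (⟨g.1 ^ 6, by
      rw [orderOf_pow' _ (by norm_num), g.2]; rfl⟩ : {g : G // orderOf g = 5})) ⟨?_, ?_⟩)
  · rintro ⟨g, hg⟩ ⟨g', hg'⟩ h
    have h6 : g ^ 6 = g' ^ 6 := congrArg Subtype.val h
    have hq : orderOf (g ^ 6) = 5 := by rw [orderOf_pow' _ (by norm_num), hg]; rfl
    have h2 : ∀ x : G, orderOf x = 10 → orderOf (x ^ 5) = 2 := fun x hx => by
      rw [orderOf_pow' _ (by norm_num), hx]; rfl
    have hc : g' ^ 5 = g ^ 5 := invol_five_unique hG hq (h2 g hg) (h2 g' hg')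
      ((Commute.refl g).pow_pow 6 5).eq (h6 ▸ ((Commute.refl g').pow_pow 6 5).eq)
    refine Subtype.ext ?_
    show g = g'
    calc g = g ^ 6 * g ^ 5 := by
          rw [← pow_add, show 6 + 5 = 10 + 1 from rfl, pow_succ, ← hg, pow_orderOf_eq_one, one_mul]
      _ = g' ^ 6 * g' ^ 5 := by rw [h6, hc]
      _ = g' := by
          rw [← pow_add, show 6 + 5 = 10 + 1 from rfl, pow_succ, ← hg', pow_orderOf_eq_one, one_mul]
  · rintro ⟨q, hq⟩
    have : Fact (Nat.Prime 2) := ⟨Nat.prime_two⟩
    obtain ⟨u, hu⟩ := exists_prime_orderOf_dvd_card' (G := centralizer ({q} : Set G)) 2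
      (by show 2 ∣ cC q; rw [(OrderFive.five_data hG).1 q hq]; norm_num)
    have hu' : orderOf (u : G) = 2 := (orderOf_coe u).trans hu
    have hcm : Commute q (u : G) := (mem_centralizer_singleton_iff.mp u.2).symm
    refine ⟨⟨q * u, by
      rw [hcm.orderOf_mul_eq_mul_orderOf_of_coprime (by rw [hq, hu']; norm_num), hq, hu']⟩,
      Subtype.ext ?_⟩
    show (q * (u : G)) ^ 6 = q
    rw [hcm.mul_pow, show (6 : ℕ) = 5 + 1 from rfl, pow_succ, ← hq, pow_orderOf_eq_one, one_mul,
      hq, show (5 + 1 : ℕ) = 2 * 3 from rfl, pow_mul, ← hu', pow_orderOf_eq_one, one_pow, mul_one]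

end Cfsg.Agent.M12Uniq.OrderInvol
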