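import Cfsg.Agent.M12Uniq.CountsU
import Cfsg.Agent.M12Uniq.OrderInvol

/-!
# An involution with centraliser of order 240 and an element of order 3, from the order alone

The argument of `CU.three_of` with the 5-local data of `OrderFive` in place of `Pre`.
-/

set_option autoImplicit false
set_option linter.unusedSectionVars false

namespace Cfsg.Agent.M12Uniq.OrderRest

open Subgroup MulAction CU

universe u

variable {G : Type u} [Group G]

/-- In `C(u)` an element of order 3 has a centraliser of order 12. -/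
theorem three_twelve [Finite G] (hG : Cfsg.IsM12 G) {q u x : G} (hq : orderOf q = 5)
    (hu : orderOf u = 2) (hqu : q * u = u * q) (h240 : cC u = 240) (hx : orderOf x = 3)
    (hux : u * x = x * u) :
    Nat.card ↥(centralizer ({u} : Set G) ⊓ centralizer ({x} : Set G)) = 12 := by
  have f3 : Fact (Nat.Prime 3) := ⟨by norm_num⟩
  have f5 : Fact (Nat.Prime 5) := ⟨by norm_num⟩
  set H := centralizer ({u} : Set G) with hH
  set P := zpowers x with hP
  have hH240 : Nat.card H = 240 := h240
  have hxH : x ∈ H := mem_cent.mpr hux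
  have hPH : P ≤ H := zpowers_le.mpr hxH
  have hPc : Nat.card P = 3 := by rw [hP, Nat.card_zpowers, hx]
  set M := normalizer (P : Set G) ⊓ H with hM
  set C := H ⊓ centralizer ({x} : Set G) with hC
  have hCM : C ≤ M := by
    rintro g ⟨hg, hgx⟩
    refine ⟨?_, hg⟩
    refine (centralizer_le_normalizer (P : Set G)) ?_
    rw [Subgroup.mem_centralizer_iff]
    rintro a ha
    exact comm_of_mem_zpowers ha (mem_cent.mp hgx)
  -- no element of order five normalises `P`
  have h5 : ¬ 5 ∣ Nat.card M := by
    intro h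
    obtain ⟨⟨a, ha⟩, hord⟩ := exists_prime_orderOf_dvd_card' 5 h
    rw [Subgroup.orderOf_mk] at hord
    obtain ⟨i, hi⟩ := Subgroup.mem_zpowers_iff.mp (mem_norm_conj ha.1 (mem_zpowers x))
    have hconj : ∀ k : ℕ, a ^ k * x * (a ^ k)⁻¹ = x ^ (i ^ k) := by
      intro k
      induction k with
      | zero => simp
      | succ k ih =>
        rw [pow_succ' a k, show a * a ^ k * x * (a * a ^ k)⁻¹ = a * (a ^ k * x * (a ^ k)⁻¹) * a⁻¹
          by group, ih, ← conj_zpow, ← hi, ← zpow_mul, pow_succ']
    have h1 : x ^ (i ^ 5) = x ^ (1 : ℤ) := by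
      rw [← hconj 5, show a ^ 5 = 1 from hord ▸ pow_orderOf_eq_one a]; simp
    rw [zpow_eq_zpow_iff_modEq, hx, ← (ZMod.intCast_eq_intCast_iff _ _ 3)] at h1
    have h2 : (i : ZMod 3) = 1 := by
      push_cast at h1
      exact zmod_three_five _ h1
    have hax : a * x * a⁻¹ = x := by
      rw [← hi]
      conv_rhs => rw [← zpow_one x]
      rw [zpow_eq_zpow_iff_modEq, hx, ← (ZMod.intCast_eq_intCast_iff _ _ 3)]
      push_cast
      exact h2
    rw [mul_inv_eq_iff_eq_mul] at hax
    have h3 : orderOf x ∣ cC a := by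
      rw [← orderOf_mk x (mem_cent.mpr hax : x ∈ centralizer ({a} : Set G))]
      exact orderOf_dvd_natCard _
    rw [(OrderFive.five_data hG).1 a hord, hx] at h3
    norm_num at h3
  have h6 : 6 ∣ Nat.card C := by
    have h : orderOf (u * x) = 6 := by
      rw [Commute.orderOf_mul_eq_mul_orderOf_of_coprime hux (by rw [hu, hx]; decide), hu, hx]
    rw [← h]
    refine Subgroup.orderOf_dvd_natCard _ ?_
    exact ⟨mul_mem (mem_cent.mpr rfl) hxH,
      mul_mem (mem_cent.mpr hux.symm) (mem_cent.mpr rfl)⟩
  obtain ⟨n, hn, hn3⟩ := card_sylow_prime H P hPH hPc (by rw [hH240]; norm_num)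
  rw [← hM, hH240] at hn
  have hCdM := Subgroup.card_dvd_of_le hCM
  have hidx : Nat.card M ≤ 2 * Nat.card C := by
    have hval : ∀ g ∈ M, g * x * g⁻¹ = x ∨ g * x * g⁻¹ = x⁻¹ := by
      intro g hg
      obtain ⟨i, hi⟩ := Subgroup.mem_zpowers_iff.mp (mem_norm_conj hg.1 (mem_zpowers x))
      have hi0 : (i : ZMod 3) ≠ 0 := by
        intro h0
        have h1 : x ^ i = x ^ (0 : ℤ) := by
          rw [zpow_eq_zpow_iff_modEq, hx, ← (ZMod.intCast_eq_intCast_iff _ _ 3)]
          simpa using h0
        rw [zpow_zero, hi] at h1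
        have := congrArg orderOf h1
        rw [orderOf_conj, hx, orderOf_one] at this
        omega
      rw [← hi]
      conv => enter [1, 2]; rw [← zpow_one x]
      conv => enter [2, 2]; rw [← zpow_neg_one x]
      simp only [zpow_eq_zpow_iff_modEq, hx, ← (ZMod.intCast_eq_intCast_iff _ _ 3)]
      push_cast
      exact zmod_three_ne _ hi0
    let C' := C.subgroupOf M
    have hC' : Nat.card C' = Nat.card C :=
      Nat.card_congr (Subgroup.subgroupOfEquivOfLe hCM).toEquiv
    have hle : C'.index ≤ 2 := by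
      rw [Subgroup.index]
      refine le_trans (Nat.card_le_card_of_injective (β := ({x, x⁻¹} : Set G))
        (fun y : M ⧸ C' => ⟨(y.out : G) * x * (y.out : G)⁻¹, by
          rcases hval _ y.out.2 with h | h <;> simp [h]⟩) ?_) ?_
      · intro y z h
        have e : (y.out : G) * x * (y.out : G)⁻¹ = (z.out : G) * x * (z.out : G)⁻¹ :=
          congrArg Subtype.val h
        rw [← y.out_eq, ← z.out_eq]
        refine Quotient.sound' (QuotientGroup.leftRel_apply.mpr ?_)
        refine Subgroup.mem_subgroupOf.mpr ⟨?_, mem_cent.mpr ?_⟩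
        · exact H.mul_mem (H.inv_mem (Subgroup.mem_inf.mp y.out.2).2) (Subgroup.mem_inf.mp z.out.2).2
        · push_cast
          calc x * ((y.out : G)⁻¹ * (z.out : G))
              = (y.out : G)⁻¹ * ((y.out : G) * x * (y.out : G)⁻¹) * (z.out : G) := by group
            _ = (y.out : G)⁻¹ * ((z.out : G) * x * (z.out : G)⁻¹) * (z.out : G) := by rw [e]
            _ = (y.out : G)⁻¹ * (z.out : G) * x := by group
      · rw [Nat.card_coe_set_eq]
        exact (Set.ncard_insert_le _ _).trans (by simp)
    rw [← C'.card_mul_index, hC']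
    nlinarith
  -- `P` is not central in its normalizer (Burnside)
  have hne : M ≠ C := by
    intro heq
    let S : Sylow 3 H := Sylow.ofCard (P.subgroupOf H) (by
      rw [Nat.card_congr (Subgroup.subgroupOfEquivOfLe hPH).toEquiv, hPc, hH240]
      rw [fac_one (by norm_num) (by norm_num) (by norm_num), pow_one])
    have hS : normalizer ((S : Subgroup H) : Set H) ≤ centralizer ((S : Subgroup H) : Set H) := by
      rw [show ((S : Subgroup H)) = P.subgroupOf H from Sylow.coe_ofCard _ _,
        ← subgroupOf_normalizer_eq hPH]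
      intro g hg
      have hgM : (g : G) ∈ M := ⟨hg, g.2⟩
      rw [heq] at hgM
      rw [Subgroup.mem_centralizer_iff]
      intro a ha
      exact Subtype.ext (comm_of_mem_zpowers ha (mem_cent.mp hgM.2))
    set L := (MonoidHom.transferSylow S hS).ker with hL
    have hLi : L.index = 3 := by
      rw [(MonoidHom.ker_transferSylow_isComplement' S hS).symm.index_eq_card,
        show ((S : Subgroup H)) = P.subgroupOf H from Sylow.coe_ofCard _ _,
        Nat.card_congr (Subgroup.subgroupOfEquivOfLe hPH).toEquiv, hPc]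
    have hL80 : Nat.card (L.map H.subtype) = 80 := by
      rw [Subgroup.card_subtype]
      have := L.card_mul_index
      rw [hLi, hH240] at this
      omega
    have hNC : normalizer (zpowers q : Set G) ≤ H :=
      OrderInvol.normalizer_le_centralizer hG hq hu hqu
    have hNL : normalizer (zpowers q : Set G) ≤ L.map H.subtype := by
      intro g hg
      have hgH : g ∈ H := hNC hg
      refine ⟨⟨g, hgH⟩, ?_, rfl⟩
      rw [SetLike.mem_coe, ← QuotientGroup.eq_one_iff, ← orderOf_eq_one_iff]
      have h1 : orderOf ((⟨g, hgH⟩ : H) : H ⧸ L) ∣ 40 := by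
        refine (orderOf_map_dvd (QuotientGroup.mk' L) _).trans ?_
        rw [Subgroup.orderOf_mk, ← (OrderFive.five_data hG).2 (zpowers q) (by rw [Nat.card_zpowers, hq])]
        exact Subgroup.orderOf_dvd_natCard _ hg
      have h2 : orderOf ((⟨g, hgH⟩ : H) : H ⧸ L) ∣ 3 := by
        exact (show orderOf ((⟨g, hgH⟩ : H) : H ⧸ L) ∣ L.index from
          _root_.orderOf_dvd_natCard _).trans (dvd_of_eq hLi)
      exact Nat.dvd_one.mp (by simpa using Nat.dvd_gcd h1 h2)
    obtain ⟨m, hm, hm5⟩ := card_sylow_prime (p := 5) (L.map H.subtype) (zpowers q)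
      (le_normalizer.trans hNL) (by rw [Nat.card_zpowers, hq]) (by rw [hL80]; norm_num)
    rw [inf_eq_left.mpr hNL, (OrderFive.five_data hG).2 _ (by rw [Nat.card_zpowers, hq]), hL80]
      at hm
    omega
  have hlt : Nat.card C < Nat.card M :=
    lt_of_le_of_ne (Nat.le_of_dvd Nat.card_pos hCdM)
      fun h => hne (Subgroup.eq_of_le_of_card_ge hCM h.ge).symm
  obtain ⟨c, hc⟩ := h6
  obtain ⟨d, hd⟩ := hCdM
  have hM240 : Nat.card M ∣ 240 := ⟨n, hn⟩
  have hd2 : d = 2 := by
    rcases Nat.lt_or_ge d 2 with h | h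
    · interval_cases d <;> simp at hd <;> omega
    · by_contra hd'
      have : Nat.card C * 3 ≤ Nat.card C * d := Nat.mul_le_mul_left _ (by omega)
      omega
  subst hd2
  have key : ∀ a ∈ Nat.divisors 240, ¬ 5 ∣ a → 12 ∣ a → (240 / a) % 3 = 1 → a = 24 := by
    decide +kernel
  have h24 : Nat.card M = 24 := by
    refine key _ (Nat.mem_divisors.mpr ⟨hM240, by norm_num⟩) h5 ⟨c, by omega⟩ ?_
    rw [hn, Nat.mul_div_cancel_left _ Nat.card_pos]
    exact hn3
  change Nat.card C = 12
  omega

end Cfsg.Agent.M12Uniq.OrderRest
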