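import Cfsg.Agent.M12Uniq.OrderRestDefs
import Cfsg.Agent.M12Uniq.OrderRestInvolU

/-!
# The rows of the principal 11-block and the involutions
-/

set_option autoImplicit false
set_option linter.unusedSectionVars false

open scoped ComplexConjugate

namespace Cfsg.Agent.M12Uniq.OrderRest

open Subgroup
open Cfsg.Agent.SmallGroups
open Cfsg.Agent.SmallGroups.SelfCent.Setup (deg deg_spec triv deg_triv)

universe u

variable {G : Type u} [Group G] [Fintype G]

/-- A character of degree 45, 54, 120 or 144 is real. -/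
theorem real_of_deg [IsSimpleGroup G] (B : Block G) (hdegs : B.cs.map deg = [45, 54, 120, 144])
    {χ : Cfsg.IrrCharacter G} (hχ : deg χ ∈ [45, 54, 120, 144]) (g : G) :
    conj ((χ : G → ℂ) g) = (χ : G → ℂ) g := by
  set ψ : Cfsg.IrrCharacter G := ⟨_, CharCore.isIrrCharacter_star χ.2⟩ with hψ
  have hd : deg ψ = deg χ := by
    have h := (deg_spec ψ).2.2
    simp only [hψ, (deg_spec χ).2.2, map_natCast] at h
    exact_mod_cast h.symm
  show (ψ : G → ℂ) g = (χ : G → ℂ) g
  rw [eq_of_deg B hdegs hχ hd]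

/-- The exceptional characters are real away from the elements of order 11. -/
theorem real_exc (B : Block G) (hdegs : B.cs.map deg = [45, 54, 120, 144]) (g : G)
    (hg : orderOf g ≠ 11) :
    conj ((B.f₁ : G → ℂ) g) = (B.f₁ : G → ℂ) g := by
  have he : excDeg (B.cs.map deg) = 16 := by rw [hdegs]; rfl
  have h16 : deg B.f₁ = 16 := by rw [B.deg_f₁, he]
  set ψ : Cfsg.IrrCharacter G := ⟨_, CharCore.isIrrCharacter_star B.f₁.2⟩ with hψ
  have hd : deg ψ = deg B.f₁ := by
    have h := (deg_spec ψ).2.2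
    simp only [hψ, (deg_spec B.f₁).2.2, map_natCast] at h
    exact_mod_cast h.symm
  show (ψ : G → ℂ) g = (B.f₁ : G → ℂ) g
  have hψl : ψ ∈ triv :: B.f₁ :: B.f₂ :: B.cs := by
    by_contra hn
    have h11 := B.outside ψ hn
    rw [hd, h16] at h11
    norm_num at h11
  simp only [List.mem_cons] at hψl
  rcases hψl with hh | hh | hh | hh
  · rw [hh, deg_triv, h16] at hd; norm_num at hd
  · rw [hh]
  · rw [hh, B.eq_f g hg]
  · have hm : deg ψ ∈ B.cs.map deg := List.mem_map_of_mem hh
    rw [hdegs, hd, h16] at hm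
    simp at hm

/-- The rows of the principal 11-block. -/
theorem exists_rows (hG : Cfsg.IsM12 G) : Nonempty (Rows G) := by
  have := hG.1
  obtain ⟨B, hdegs⟩ := OrderFive.exists_block_degs hG
  obtain ⟨a, b, c, d, hcs⟩ := B.exists_four
  have hd4 := hdegs
  rw [hcs] at hd4
  simp only [List.map_cons, List.map_nil, List.cons.injEq, and_true] at hd4
  obtain ⟨ha, hb, hc, hd⟩ := hd4
  exact ⟨{
    block := B
    degs := hdegs
    A := a
    B := b
    C := c
    D := d
    cs_eq := hcs
    deg_A := ha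
    deg_B := hb
    deg_C := hc
    deg_D := hd
    deg_E₁ := by rw [B.deg_f₁, hdegs]; rfl
    deg_E₂ := by rw [B.deg_f₂, hdegs]; rfl
    real_A := real_of_deg B hdegs (by rw [ha]; simp)
    real_B := real_of_deg B hdegs (by rw [hb]; simp)
    real_C := real_of_deg B hdegs (by rw [hc]; simp)
    real_D := real_of_deg B hdegs (by rw [hd]; simp)
    real_E := real_exc B hdegs }⟩

private theorem check_u : ∀ l ∈ ySols 240 [45, 54, 120, 144], YCauchy 240 l →
    l ∈ ([[5, 6, 0, 4], [5, 6, 0, -4]] : List (List ℤ)) := by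
  decide +kernel

/-- The full column at an involution commuting with an element of order 5. -/
theorem u_column (hG : Cfsg.IsM12 G) (R : Rows G) {t : G} (ht : orderOf t = 2)
    (hC : cC t = 240) : ∃ e : ℤ, (e = 4 ∨ e = -4) ∧ (R.A : G → ℂ) t = ((5 : ℤ) : ℂ) ∧
      (R.B : G → ℂ) t = ((6 : ℤ) : ℂ) ∧ (R.C : G → ℂ) t = ((0 : ℤ) : ℂ) ∧
      (R.D : G → ℂ) t = (e : ℂ) ∧ (R.E : G → ℂ) t = (e : ℂ) := by
  obtain ⟨va, vb, vc, vd, e, hva, hvb, hvc, hvd, he, hE, hY, hC'⟩ :=
    OrderInvol.exists_invol_values hG R.block R.degs R.cs_eq ht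
  rw [hC] at hY hC'
  have hl := check_u _ hY hC'
  simp only [List.mem_cons, List.not_mem_nil, or_false, List.cons.injEq, and_true] at hl
  rcases hl with ⟨rfl, rfl, rfl, rfl⟩ | ⟨rfl, rfl, rfl, rfl⟩
  · obtain rfl : e = 4 := by rw [← hE]; decide
    exact ⟨4, Or.inl rfl, hva, hvb, hvc, hvd, he⟩
  · obtain rfl : e = -4 := by rw [← hE]; decide
    exact ⟨-4, Or.inr rfl, hva, hvb, hvc, hvd, he⟩

/-- The classes and the columns of the involutions. -/
theorem involData (hG : Cfsg.IsM12 G) (R : Rows G) : InvolData R where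
  invol _ ht := OrderInvol.invol hG ht
  exists_z := OrderInvol.exists_z hG
  exists_u := OrderInvol.exists_u hG
  invol_conj := OrderInvol.invol_conj hG
  five_comm _ _ hq ht h := OrderInvol.five_comm hG hq ht h
  z_col t ht hC := by
    obtain ⟨-, h1, -, h3, h4, h5⟩ :=
      (OrderInvol.invol_column hG R.block R.degs R.cs_eq ht).resolve_left (by omega)
    push_cast at h1 h3 h4 h5
    exact ⟨h1, h3, h4, h5⟩
  u_col t ht hC := by
    obtain ⟨va, vb, vc, vd, e, hva, -, hvc, -, he, hE, hY, hC'⟩ :=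
      OrderInvol.exists_invol_values hG R.block R.degs R.cs_eq ht
    rw [hC] at hY hC'
    have hl := check_u _ hY hC'
    simp only [List.mem_cons, List.not_mem_nil, or_false, List.cons.injEq, and_true] at hl
    rcases hl with ⟨rfl, rfl, rfl, rfl⟩ | ⟨rfl, rfl, rfl, rfl⟩
    all_goals
      have he4 : e = 4 ∨ e = -4 := by rw [← hE]; decide
      push_cast at hva hvc
      refine ⟨hva, hvc, ?_⟩
      rcases he4 with rfl | rfl
      · exact Or.inl (he.trans (by norm_num))
      · exact Or.inr (he.trans (by norm_num))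
  u_three t x ht hC hx htx := by
    have : Fact (Nat.Prime 5) := ⟨by norm_num⟩
    obtain ⟨q, hq⟩ := exists_prime_orderOf_dvd_card' (G := centralizer ({t} : Set G)) 5
      (by show 5 ∣ cC t; rw [hC]; norm_num)
    rw [three_twelve hG ((orderOf_coe q).trans hq) ht (mem_centralizer_singleton_iff.mp q.2) hC hx
      htx]
    norm_num

end Cfsg.Agent.M12Uniq.OrderRest
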