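import Cfsg.Agent.M12Uniq.CharsSearch

/-!
# Arithmetic of the principal 11-block of a group with the class data of `M₁₂`
-/

set_option autoImplicit false

namespace Cfsg.Agent.M12Uniq

/-- The sign attached to a degree congruent to `± 1` modulo 11. -/
def sgn (d : ℕ) : ℤ := if d % 11 = 1 then 1 else -1

/-- Possible values at an element of order 5 with centralizer of order 10. -/
def qVals (d : ℕ) : List ℤ :=
  ([-3, -2, -1, 0, 1, 2, 3] : List ℤ).filter fun v =>
    (((d : ℤ) - v) % 5 = 0) ∧ (0 ≤ (d : ℤ) + 4 * v) ∧ ((9504 * v) % (d : ℤ) = 0)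

/-- Possible values at an element of order 3 with centralizer of order 54. -/
def xVals (d : ℕ) : List ℤ :=
  ([-7, -6, -5, -4, -3, -2, -1, 0, 1, 2, 3, 4, 5, 6, 7] : List ℤ).filter fun v =>
    (((d : ℤ) - v) % 3 = 0) ∧ ((1760 * v) % (d : ℤ) = 0) ∧ ((d : ℤ) + 8 * v) % 9 = 0 ∧
      (0 ≤ (d : ℤ) + 8 * v) ∧ v < d

theorem mem_qVals {d : ℕ} {v : ℤ} (hsq : v ^ 2 ≤ 10) (h1 : (5 : ℤ) ∣ (d : ℤ) - v)
    (h2 : 0 ≤ (d : ℤ) + 4 * v) (h3 : (d : ℤ) ∣ 9504 * v) : v ∈ qVals d := by
  have hb := abs_lt_of_sq_lt_sq' (show v ^ 2 < (4 : ℤ) ^ 2 by linarith) (by norm_num)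
  refine List.mem_filter.mpr ⟨?_, ?_⟩
  · simp only [List.mem_cons, List.not_mem_nil, or_false]; omega
  · simp only [decide_eq_true_eq]
    exact ⟨Int.emod_eq_zero_of_dvd h1, h2, Int.emod_eq_zero_of_dvd h3⟩

theorem mem_xVals {d : ℕ} {v : ℤ} (hsq : v ^ 2 ≤ 54) (h1 : (3 : ℤ) ∣ (d : ℤ) - v)
    (h2 : (d : ℤ) ∣ 1760 * v) (h3 : (9 : ℤ) ∣ (d : ℤ) + 8 * v) (h4 : 0 ≤ (d : ℤ) + 8 * v)
    (h5 : v < d) : v ∈ xVals d := by
  have hb := abs_lt_of_sq_lt_sq' (show v ^ 2 < (8 : ℤ) ^ 2 by linarith) (by norm_num)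
  refine List.mem_filter.mpr ⟨?_, ?_⟩
  · simp only [List.mem_cons, List.not_mem_nil, or_false]; omega
  · simp only [decide_eq_true_eq]
    exact ⟨Int.emod_eq_zero_of_dvd h1, Int.emod_eq_zero_of_dvd h2, Int.emod_eq_zero_of_dvd h3,
      h4, h5⟩

/-- The block degree sum. -/
def degSum (ds : List ℕ) : ℤ := 1 + (ds.map fun d => sgn d * (d : ℤ)).sum

/-- The exceptional degree. -/
def excDeg (ds : List ℕ) : ℕ := (degSum ds).natAbs

/-- The exceptional sign. -/
def excSign (ds : List ℕ) : ℤ := if 0 < degSum ds then 1 else -1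

/-- The value on the exceptional characters followed by those on the other four: norm bound and
block relation. -/
def ColOK (B : ℤ) (ds : List ℕ) : List ℤ → Prop
  | [] => False
  | e :: vs => 1 + (vs.map fun v => v * v).sum + 2 * (e * e) ≤ B ∧
      1 + (List.zipWith (fun d v => sgn d * v) ds vs).sum - excSign ds * e = 0

instance (B : ℤ) (ds : List ℕ) : DecidablePred (ColOK B ds)
  | [] => inferInstanceAs (Decidable False)
  | _ :: _ => inferInstanceAs (Decidable (_ ∧ _))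

/-- The possible columns of the block. -/
def blockSols (f : ℕ → List ℤ) (B : ℤ) (ds : List ℕ) : List (List ℤ) :=
  ((excDeg ds :: ds).map f).sections.filter fun l => ColOK B ds l

theorem mem_blockSols {f : ℕ → List ℤ} {B : ℤ} {ds : List ℕ} {l : List ℤ}
    (h1 : List.Forall₂ (fun v d => v ∈ f d) l (excDeg ds :: ds)) (h2 : ColOK B ds l) :
    l ∈ blockSols f B ds := by
  refine List.mem_filter.mpr ⟨?_, by simpa using h2⟩
  rw [List.mem_sections]
  exact List.forall₂_map_right_iff.mpr h1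

/-- The degrees congruent to `± 1` modulo 11 that are small enough. -/
def smallDegs : List ℕ := [10, 12, 32, 45, 54, 120, 144]

/-- The possible exceptional degrees. -/
def excDegs : List ℕ := [5, 6, 16, 27, 60, 72, 160, 192, 270]

/-- The surviving blocks, with the values at the elements of orders 5 and 3. -/
def blockCases : List (List ℕ × List (List ℤ) × List (List ℤ)) :=
  [([10, 10, 10, 45], [[1, 0, 0, 0, 0]], [[-2, 1, 1, 1, 0]]),
   ([10, 45, 45, 54], [[2, 0, 0, 0, -1]], [[0, 1, 0, 0, 0]]),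
   ([10, 45, 120, 144], [[0, 0, 0, 0, -1]], [[-3, 1, 0, 3, 0]]),
   ([32, 45, 54, 120], [[0, 2, 0, -1, 0]], [[-2, -4, 0, 0, 3]]),
   ([45, 45, 45, 120], [[1, 0, 0, 0, 0]], [[-2, 0, 0, 0, 3]]),
   ([45, 54, 120, 144], [[1, 0, -1, 0, -1]], [[-2, 0, 0, 3, 0]])]

private theorem check_blocks : ∀ a ∈ smallDegs, ∀ b ∈ smallDegs, ∀ c ∈ smallDegs,
    ∀ d ∈ smallDegs, a ≤ b → b ≤ c → c ≤ d →
    excDeg [a, b, c, d] ∈ excDegs →
    (excDeg [a, b, c, d] % 11 = if 0 < degSum [a, b, c, d] then 5 else 6) →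
    1 + 2 * excDeg [a, b, c, d] ^ 2 + ([a, b, c, d].map fun d => d ^ 2).sum ≤ 95040 →
    blockSols qVals 10 [a, b, c, d] = [] ∨ blockSols xVals 54 [a, b, c, d] = [] ∨
      ([a, b, c, d], blockSols qVals 10 [a, b, c, d], blockSols xVals 54 [a, b, c, d]) ∈
        blockCases := by
  decide +kernel

/-- The block is one of six. -/
theorem block_cases {ds : List ℕ} (hlen : ds.length = 4) (hs : ds.Pairwise (· ≤ ·))
    (hmem : ∀ d ∈ ds, d ∈ smallDegs) (hb : excDeg ds ∈ excDegs)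
    (hb11 : excDeg ds % 11 = if 0 < degSum ds then 5 else 6)
    (hnorm : 1 + 2 * excDeg ds ^ 2 + (ds.map fun d => d ^ 2).sum ≤ 95040)
    {lq lx : List ℤ} (hq : lq ∈ blockSols qVals 10 ds) (hx : lx ∈ blockSols xVals 54 ds) :
    ∃ c ∈ blockCases, c.1 = ds ∧ lq ∈ c.2.1 ∧ lx ∈ c.2.2 := by
  match ds, hlen with
  | [a, b, c, d], _ =>
    simp only [List.pairwise_cons, List.mem_cons, List.not_mem_nil, or_false] at hs
    rcases check_blocks a (hmem a (by simp)) b (hmem b (by simp)) c (hmem c (by simp)) d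
        (hmem d (by simp)) (hs.1 b (Or.inl rfl)) (hs.2.1 c (Or.inl rfl)) (hs.2.2.1 d rfl)
        hb hb11 hnorm with h | h | h
    · rw [h] at hq; simp at hq
    · rw [h] at hx; simp at hx
    · exact ⟨_, h, rfl, hq, hx⟩

/-- The values at elements of orders 5 and 3 attached to the degree `11 k`. -/
def items : List Item :=
  [(27, -3, 0), (27, 2, 0), (18, 3, 0), (18, -2, 0), (24, -1, -6), (8, 3, 7), (12, -3, 6),
   (10, 0, -7), (12, 2, 6), (3, 3, 6), (8, -2, 7), (3, -2, 6), (6, 1, -6), (15, 0, -6),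
   (2, -3, 4), (12, -3, -3), (8, 3, -2), (3, 3, -3), (20, 0, -5), (16, 1, 5), (2, 2, 4),
   (12, 2, -3), (3, -2, -3), (16, 1, -4), (20, 0, 4), (8, -2, -2), (24, -1, 3), (6, 1, 3),
   (15, 0, 3), (10, 0, 2), (4, -1, -1), (9, -1, 0), (5, 0, 1)]

private theorem items_spec : ∀ k : Fin 29, 2 ≤ (k : ℕ) → 8640 % (k : ℕ) = 0 →
    ∀ a ∈ qVals (11 * k), ∀ v ∈ xVals (11 * k), (((k : ℕ), a, v) : Item) ∈ items := by
  decide +kernel

theorem mem_items {k : ℕ} {a v : ℤ} (hk : 2 ≤ k) (hk' : k ≤ 28) (hdvd : k ∣ 8640)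
    (ha : a ∈ qVals (11 * k)) (hv : v ∈ xVals (11 * k)) : ((k, a, v) : Item) ∈ items :=
  items_spec ⟨k, by omega⟩ hk (Nat.mod_eq_zero_of_dvd hdvd) a ha v hv

theorem items_pos : ∀ t ∈ items, 0 < t.1 := by decide

private theorem search_60 : search (5, 0, 1) items 418 8 25 13 (-1) 0 = false := by decide +kernel

private theorem search_160 : search (0, 0, 0) items 194 4 20 (-1) 37 0 = false := by decide +kernel

private theorem search_16 : search (0, 0, 0) items 450 5 36 15 (-27) 0 = false := by decide +kernel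

private theorem search_27 : search (0, 0, 0) items 715 0 52 (-5) (-1) 0 = false := by decide +kernel

/-- The sums over the characters outside the block. -/
def sums (M : Multiset Item) : ℕ × ℕ × ℕ × ℤ × ℤ :=
  (isum (fun t => t.1 * t.1) M, isum (fun t => t.2.1.natAbs * t.2.1.natAbs) M,
    isum (fun t => t.2.2.natAbs * t.2.2.natAbs) M, isum (fun t => (t.1 : ℤ) * t.2.1) M,
    isum (fun t => (t.1 : ℤ) * t.2.2) M)

/-- Three of the cases have no solution with at least eight characters outside the block. -/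
theorem no_rest {M : Multiset Item} (hM : ∀ t ∈ M, t ∈ items) (h8 : 8 ≤ M.card)
    (hb : sums M ∈ [(194, 4, 20, -1, 37), (450, 5, 36, 15, -27), (715, 0, 52, -5, -1)]) :
    False := by
  have h := search_complete (0, 0, 0) items items_pos M hM
    (fun hm => absurd (items_pos _ (hM _ hm)) (lt_irrefl 0)) 0 (by omega)
  simp only [sums, List.mem_cons, List.not_mem_nil, or_false, Prod.mk.injEq] at hb
  rcases hb with ⟨e1, e2, e3, e4, e5⟩ | ⟨e1, e2, e3, e4, e5⟩ |
    ⟨e1, e2, e3, e4, e5⟩ <;> rw [e1, e2, e3, e4, e5] at h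
  · rw [search_160] at h; exact Bool.noConfusion h
  · rw [search_16] at h; exact Bool.noConfusion h
  · rw [search_27] at h; exact Bool.noConfusion h

/-- In the remaining case one of them has degree 55 and value 1 at the element of order 3. -/
theorem item55_mem {M : Multiset Item} (hM : ∀ t ∈ M, t ∈ items) (h8 : 8 ≤ M.card)
    (hb : sums M = (418, 8, 25, 13, -1)) : ((5, 0, 1) : Item) ∈ M := by
  by_contra h5
  have h := search_complete (5, 0, 1) items items_pos M hM h5 0 (by omega)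
  simp only [sums, Prod.mk.injEq] at hb
  obtain ⟨e1, e2, e3, e4, e5⟩ := hb
  rw [e1, e2, e3, e4, e5, search_60] at h
  exact Bool.noConfusion h

end Cfsg.Agent.M12Uniq
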