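import Cfsg.Agent.M12Uniq.Defs
import Cfsg.Agent.M12Uniq.CharsBlockNum
import Cfsg.Agent.Lib.Steiner.M11.Chars

/-!
# The principal 11-block of a group with the class data of `M₁₂`
-/

set_option autoImplicit false
set_option linter.unusedSectionVars false

open scoped ComplexConjugate

namespace Cfsg.Agent.M12Uniq

open Subgroup
open Cfsg.Agent.SmallGroups
open Cfsg.Agent.SmallGroups.SelfCent (Setup deg_eq_one_iff exists_setup_of_prime)
open Cfsg.Agent.SmallGroups.SelfCent.Setup (deg deg_spec triv deg_triv)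

variable {G : Type*} [Group G] [Fintype G]

theorem not_comm (hc : Counts G) : ¬ IsMulCommutative G := by
  have := hc.simple
  refine not_comm_of_not_prime ?_
  rw [hc.card]; norm_num

theorem exists_setup11 (hcard : Nat.card G = 95040) [IsSimpleGroup G]
    (hsyl : ∀ P : Subgroup G, Nat.card P = 11 → Nat.card (normalizer (P : Set G)) = 55)
    [Fact (Nat.Prime 11)] :
    ∃ s : Setup G 11, s.K = ⊥ ∧ Nat.card s.auto = 5 := by
  have hnc : ¬ IsMulCommutative G := not_comm_of_not_prime (by rw [hcard]; norm_num)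
  obtain ⟨P⟩ := (inferInstance : Nonempty (Sylow 11 G))
  have hP : Nat.card (P : Subgroup G) = 11 := by
    rw [card_sylow_eq (a := 1) (m := 8640) (by rw [hcard]; norm_num) (by norm_num) P]; norm_num
  have hN := hsyl _ hP
  have hPC : (P : Subgroup G) ≤ centralizer ((P : Subgroup G) : Set G) := by
    have : IsCyclic ↥(P : Subgroup G) := isCyclic_of_prime_card hP
    exact le_centralizer _
  have hCN : centralizer ((P : Subgroup G) : Set G) ≤
      Subgroup.normalizer ((P : Subgroup G) : Set G) := centralizer_le_normalizer _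
  have hC : centralizer ((P : Subgroup G) : Set G) = (P : Subgroup G) := by
    have h1 := card_dvd_of_le hPC
    have h2 := card_dvd_of_le hCN
    rw [hP] at h1
    rw [hN] at h2
    have h3 : Nat.card (centralizer ((P : Subgroup G) : Set G)) ≠ 55 := fun h =>
      not_normalizer_le_centralizer hnc (p := 11) (by rw [hcard]; norm_num) P
        (eq_of_le_of_card_ge hCN (by rw [h, hN])).ge
    refine (eq_of_le_of_card_ge hPC (le_of_eq ?_)).symm
    have hm := Nat.mem_divisors.mpr ⟨h2, (by norm_num : (55 : ℕ) ≠ 0)⟩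
    rw [show Nat.divisors 55 = {1, 5, 11, 55} by decide] at hm
    simp only [Finset.mem_insert, Finset.mem_singleton] at hm
    rw [hP]
    omega
  obtain ⟨s, hK, -, h⟩ := exists_setup_of_prime (P : Subgroup G) hP hC
  exact ⟨s, hK, by omega⟩

/-- The characters of nonzero 11-defect: the trivial one, two exceptional ones and four others. -/
structure Block (G : Type*) [Group G] [Fintype G] where
  cs : List (Cfsg.IrrCharacter G)
  f₁ : Cfsg.IrrCharacter G
  f₂ : Cfsg.IrrCharacter G
  nodup : (triv :: f₁ :: f₂ :: cs).Nodup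
  length_cs : cs.length = 4
  sorted : (cs.map deg).Pairwise (· ≤ ·)
  small : ∀ d ∈ cs.map deg, d ∈ smallDegs
  deg_f₁ : deg f₁ = excDeg (cs.map deg)
  deg_f₂ : deg f₂ = excDeg (cs.map deg)
  exc_mem : excDeg (cs.map deg) ∈ excDegs
  exc_mod : excDeg (cs.map deg) % 11 = if 0 < degSum (cs.map deg) then 5 else 6
  outside : ∀ χ, χ ∉ triv :: f₁ :: f₂ :: cs → 11 ∣ deg χ
  eq_f : ∀ g : G, orderOf g ≠ 11 → (f₂ : G → ℂ) g = (f₁ : G → ℂ) g
  rel : ∀ g : G, orderOf g ≠ 11 → 1 + (cs.map fun χ => (sgn (deg χ) : ℂ) * (χ : G → ℂ) g).sum -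
    (excSign (cs.map deg) : ℂ) * (f₁ : G → ℂ) g = 0
  rel_sq : ∀ g : G, orderOf g = 2 → 1 + (cs.map fun χ => (sgn (deg χ) : ℂ) *
      ((χ : G → ℂ) g ^ 2 / (deg χ : ℂ))).sum -
    (excSign (cs.map deg) : ℂ) * ((f₁ : G → ℂ) g ^ 2 / (deg f₁ : ℂ)) = 0
  /-- Class multiplication: `N` pairs of conjugates of `g` have a given product of order 11. -/
  pairs : ∀ g : G, orderOf g ≠ 11 → ∃ N : ℕ, (N : ℂ) * (cC g : ℂ) ^ 2 =
    (Nat.card G : ℂ) * (1 + (cs.map fun χ => (sgn (deg χ) : ℂ) *
      ((χ : G → ℂ) g ^ 2 / (deg χ : ℂ))).sum -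
    (excSign (cs.map deg) : ℂ) * ((f₁ : G → ℂ) g ^ 2 / (deg f₁ : ℂ)))

private theorem small_check : ∀ d ∈ (8640 : ℕ).divisors, d * d ≤ 95040 →
    (d % 11 = 1 → d = 1 ∨ d ∈ smallDegs) ∧ (d % 11 = 10 → d ∈ smallDegs) ∧
      (d % 11 = 2 → d = 2 ∨ (2 * d + 1) % 11 ≠ 5 ∨ ¬ (2 * d + 1) ∣ 8640) ∧
      (d % 11 = 9 → (2 * d - 1) % 11 ≠ 6 ∨ ¬ (2 * d - 1) ∣ 8640) := by
  decide +kernel

private theorem exc_check : ∀ d ∈ (8640 : ℕ).divisors, 2 * (d * d) ≤ 95040 →
    d % 11 = 5 ∨ d % 11 = 6 → d ∈ excDegs := by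
  decide +kernel

theorem exists_block_of (hcard : Nat.card G = 95040) [IsSimpleGroup G]
    (hsyl : ∀ P : Subgroup G, Nat.card P = 11 → Nat.card (normalizer (P : Set G)) = 55) :
    Nonempty (Block G) := by
  classical
  have : Fact (Nat.Prime 11) := ⟨by norm_num⟩
  have hnc : ¬ IsMulCommutative G := not_comm_of_not_prime (by rw [hcard]; norm_num)
  obtain ⟨s, hK, he⟩ := exists_setup11 hcard hsyl
  have := Fintype.ofFinite s.Orb
  obtain ⟨D, hd⟩ := Steiner.M11.exists_data s he
  have h2 : Nat.card s.Orb = 2 := by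
    have := s.card_orb_mul
    rw [he] at this
    omega
  obtain ⟨o₁, o₂, ho, huniv⟩ := Nat.card_eq_two_iff.mp h2
  have hex : ∀ o : s.Orb, o = o₁ ∨ o = o₂ := fun o => by
    have : o ∈ ({o₁, o₂} : Set s.Orb) := huniv ▸ Set.mem_univ o
    simpa using this
  have hG11 : Nat.card G / 11 = 8640 := by rw [hcard]
  have hsq : ∀ S : Finset (Cfsg.IrrCharacter G), ∑ χ ∈ S, deg χ ^ 2 ≤ 95040 := by
    intro S
    have h := CharCore.sum_degree_sq (G := G)
    simp only [(deg_spec _).2.2] at h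
    have h' : ∑ χ : Cfsg.IrrCharacter G, deg χ ^ 2 = Nat.card G := by exact_mod_cast h
    rw [← hcard, ← h']
    exact Finset.sum_le_univ_sum_of_nonneg fun _ => Nat.zero_le _
  have hsq1 : ∀ χ : Cfsg.IrrCharacter G, deg χ * deg χ ≤ 95040 := fun χ => by
    simpa [sq] using hsq {χ}
  -- the non-exceptional part
  set R := (Finset.univ.erase (triv : Cfsg.IrrCharacter G)).filter fun χ => D.c χ ≠ 0 with hR
  have hn := D.norm_eq
  rw [he, hd, mul_zero, add_zero, ← Finset.add_sum_erase _ _ (Finset.mem_univ triv), D.c_triv,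
    ← Finset.sum_filter_of_ne (p := fun χ => D.c χ ≠ 0)
      (fun χ _ h h0 => h (by rw [h0, mul_zero]))] at hn
  have hsum : ∑ χ ∈ R, D.c χ * D.c χ = 4 := by push_cast at hn; linarith
  have hfR : ∀ o, D.f o ∉ R := fun o h => (Finset.mem_filter.mp h).2 (by rw [D.c_f, hd])
  have htR : (triv : Cfsg.IrrCharacter G) ∉ R := fun h =>
    Finset.notMem_erase _ _ (Finset.mem_filter.mp h).1
  have hzero : ∀ χ, χ ≠ triv → χ ∉ R → D.c χ = 0 := fun χ h1 h2 => by
    by_contra h
    exact h2 (Finset.mem_filter.mpr ⟨Finset.mem_erase.mpr ⟨h1, Finset.mem_univ _⟩, h⟩)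
  have hnex : ∀ χ ∈ R, ∀ o, χ ≠ D.f o := fun χ hχ o h => hfR o (h ▸ hχ)
  have hmod : ∀ χ, (∀ o, χ ≠ D.f o) → (11 : ℤ) ∣ (deg χ : ℤ) + D.c χ := by
    intro χ hχ
    obtain ⟨n, -, hn, hm⟩ := D.fix_congr χ
    rw [hn hK, if_neg (fun ⟨o, ho⟩ => hχ o ho), add_zero] at hm
    have := hm.symm.dvd
    simpa using this
  have hdvd : ∀ χ, (∀ o, χ ≠ D.f o) → (deg χ : ℤ) ∣ 8640 * D.c χ := fun χ hχ => by
    have := D.deg_dvd χ hχ
    rwa [hG11] at this
  obtain ⟨n, -, hnb, hmb⟩ := D.fix_congr (D.f o₁)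
  rw [hnb hK, if_pos ⟨o₁, rfl⟩, D.c_f, hd, D.deg_f, he, neg_zero, zero_add] at hmb
  have hb11 : (11 : ℤ) ∣ (D.b : ℤ) - 5 * D.eps := by exact_mod_cast hmb.symm.dvd
  have hb8640 : D.b ∣ 8640 := by
    have := D.deg_dvd_exceptional o₁ (by rcases D.eps_eq with h | h <;> rw [h] at hb11 <;> omega)
    rwa [hG11] at this
  have hbpos : 0 < D.b := D.deg_f o₁ ▸ (deg_spec _).1
  have hL : ∀ A : Cfsg.IrrCharacter G → ℂ,
      ∑ χ, (D.c χ : ℂ) * A χ = -A triv + ∑ χ ∈ R, (D.c χ : ℂ) * A χ := by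
    intro A
    rw [← Finset.sum_subset (Finset.subset_univ (insert triv R)) (fun χ _ hχ => by
      rw [Finset.mem_insert, not_or] at hχ
      rw [hzero χ hχ.1 hχ.2, Int.cast_zero, zero_mul]), Finset.sum_insert htR, D.c_triv]
    push_cast
    ring
  have hdegeq : -1 + ∑ χ ∈ R, D.c χ * (deg χ : ℤ) + D.eps * D.b = 0 := by
    have h := congrArg (fun k : ℤ => (k : ℂ)) D.degree_eq
    push_cast at h
    rw [show ∑ χ, (deg χ : ℂ) * (D.c χ : ℂ) = ∑ χ, (D.c χ : ℂ) * (deg χ : ℂ) from
      Finset.sum_congr rfl fun χ _ => mul_comm _ _, hL] at h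
    simp only [deg_triv, Nat.cast_one] at h
    exact_mod_cast h
  -- every coefficient is `± 1`
  have hone : ∀ χ ∈ R, D.c χ = 1 ∨ D.c χ = -1 := by
    intro χ hχ
    have hsq4 := Finset.single_le_sum (f := fun y => D.c y * D.c y)
      (fun y _ => mul_self_nonneg (D.c y)) hχ
    rw [hsum] at hsq4
    have hne : D.c χ ≠ 0 := (Finset.mem_filter.mp hχ).2
    have hlo : -2 ≤ D.c χ := by nlinarith
    have hhi : D.c χ ≤ 2 := by nlinarith
    by_contra hnot
    push_neg at hnot
    have hc2 : D.c χ = 2 ∨ D.c χ = -2 := by omega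
    have hsingle : R = {χ} := by
      refine Finset.eq_singleton_iff_unique_mem.mpr ⟨hχ, fun y hy => ?_⟩
      by_contra hyne
      have h2 := Finset.add_le_sum (f := fun y => D.c y * D.c y)
        (fun y _ => mul_self_nonneg (D.c y)) hy hχ hyne
      rw [hsum] at h2
      have : 1 ≤ D.c y * D.c y := mul_self_pos.mpr (Finset.mem_filter.mp hy).2
      rcases hc2 with h | h <;> rw [h] at h2 <;> linarith
    rw [hsingle, Finset.sum_singleton] at hdegeq
    have hdd := hdvd χ (hnex χ hχ)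
    have hm11 := hmod χ (hnex χ hχ)
    have hG' : deg χ ∣ 95040 := hcard ▸ (deg_spec χ).2.1
    have h17 : deg χ ∣ 17280 := by
      have hdd' := Int.natAbs_dvd_natAbs.mpr hdd
      rcases hc2 with h | h <;> rw [h] at hdd' <;> simpa using hdd'
    have hd8640 : deg χ ∣ 8640 := by
      have := Nat.dvd_gcd hG' h17
      norm_num at this
      exact this
    have hchk := small_check _ (Nat.mem_divisors.mpr ⟨hd8640, by norm_num⟩) (hsq1 χ)
    have hd0 : 0 < deg χ := (deg_spec χ).1
    have hd2 : deg χ = 2 := by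
      rcases hc2 with h | h <;> rcases D.eps_eq with e | e <;> rw [h] at hdegeq hm11 <;>
        rw [e] at hdegeq hb11
      · exfalso; omega
      · have hbv : D.b = 2 * deg χ - 1 := by omega
        have hd9 : deg χ % 11 = 9 := by omega
        rcases hchk.2.2.2 hd9 with h' | h' <;> rw [← hbv] at h'
        · omega
        · exact absurd hb8640 h'
      · have hbv : D.b = 2 * deg χ + 1 := by omega
        have hd2' : deg χ % 11 = 2 := by omega
        rcases hchk.2.2.1 hd2' with h' | h' | h'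
        · exact h'
        · rw [← hbv] at h'; omega
        · rw [← hbv] at h'; exact absurd hb8640 h'
      · exfalso; omega
    have : Fact (Nat.Prime 2) := ⟨Nat.prime_two⟩
    obtain ⟨z, hz⟩ := exists_prime_orderOf_dvd_card' (G := G) 2 (by rw [hcard]; norm_num)
    obtain ⟨v, -, hv1, hv2, hv4⟩ := Steiner.M11.involution_value hnc
      (fun e => htR (e ▸ hχ)) hz
    rw [hd2] at hv1 hv2 hv4
    omega
  have hRcard : R.card = 4 := by
    have : ∑ χ ∈ R, D.c χ * D.c χ = ∑ _χ ∈ R, (1 : ℤ) := Finset.sum_congr rfl fun χ hχ => by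
      rcases hone χ hχ with h | h <;> rw [h] <;> norm_num
    rw [this, Finset.sum_const, nsmul_eq_mul, mul_one] at hsum
    exact_mod_cast hsum
  have hd8 : ∀ χ ∈ R, deg χ ∣ 8640 := fun χ hχ => by
    have := hdvd χ (hnex χ hχ)
    have this' := Int.natAbs_dvd_natAbs.mpr this
    rcases hone χ hχ with h | h <;> rw [h] at this' <;> simpa using this'
  have hcs : ∀ χ ∈ R, D.c χ = -sgn (deg χ) ∧ deg χ ∈ smallDegs := by
    intro χ hχ
    have hm := hmod χ (hnex χ hχ)
    have hchk := small_check _ (Nat.mem_divisors.mpr ⟨hd8 χ hχ, by norm_num⟩) (hsq1 χ)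
    have hne1 : deg χ ≠ 1 := fun h =>
      htR ((deg_eq_one_iff hnc χ).mp h ▸ hχ)
    rcases hone χ hχ with h | h <;> rw [h] at hm ⊢
    · have : deg χ % 11 = 10 := by omega
      exact ⟨by simp [sgn, this], hchk.2.1 this⟩
    · have : deg χ % 11 = 1 := by omega
      exact ⟨by simp [sgn, this], (hchk.1 this).resolve_left hne1⟩
  -- the sorted list
  set cs := R.toList.mergeSort (fun x y => decide (deg x ≤ deg y)) with hcsdef
  have hperm : cs.Perm R.toList := List.mergeSort_perm _ _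
  have hmem : ∀ χ, χ ∈ cs ↔ χ ∈ R := fun χ => by rw [hperm.mem_iff, Finset.mem_toList]
  have hlen : cs.length = 4 := by rw [hperm.length_eq, Finset.length_toList, hRcard]
  have hsort : (cs.map deg).Pairwise (· ≤ ·) := by
    rw [List.pairwise_map]
    have := List.pairwise_mergeSort (le := fun x y : Cfsg.IrrCharacter G => decide (deg x ≤ deg y))
      (fun a b c h1 h2 => by simp only [decide_eq_true_eq] at *; omega)
      (fun a b => by simp only [Bool.or_eq_true, decide_eq_true_eq]; omega) R.toList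
    exact this.imp fun h => by simpa using h
  have hsumR : ∀ A : Cfsg.IrrCharacter G → ℂ,
      ∑ χ ∈ R, (D.c χ : ℂ) * A χ = -(cs.map fun χ => (sgn (deg χ) : ℂ) * A χ).sum := by
    intro A
    rw [(hperm.map _).sum_eq, Finset.sum_map_toList, ← Finset.sum_neg_distrib]
    exact Finset.sum_congr rfl fun χ hχ => by rw [(hcs χ hχ).1]; push_cast; ring
  have hS : degSum (cs.map deg) = D.eps * D.b := by
    have h := hsumR fun χ => (deg χ : ℂ)
    have h' : ∑ χ ∈ R, D.c χ * (deg χ : ℤ) = -(cs.map fun χ => sgn (deg χ) * (deg χ : ℤ)).sum := by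
      apply Int.cast_injective (α := ℂ)
      push_cast [List.map_map, Function.comp_def]
      exact h
    rw [degSum, List.map_map]
    have : (cs.map fun χ => sgn (deg χ) * (deg χ : ℤ)).sum =
        (cs.map ((fun d : ℕ => sgn d * (d : ℤ)) ∘ deg)).sum := rfl
    omega
  have hexc : excDeg (cs.map deg) = D.b := by
    rw [excDeg, hS]
    rcases D.eps_eq with e | e <;> rw [e] <;> simp
  have heps : excSign (cs.map deg) = D.eps := by
    rw [excSign, hS]
    rcases D.eps_eq with e | e <;> rw [e] <;> simp <;> omega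
  have hzp : ∀ g : G, orderOf g ≠ 11 → ∀ k : ZMod 11, k ≠ 0 → ∀ w ∈ s.K,
      ¬ IsConj g (s.zp k * w) := by
    intro g hg k hk w hw hconj
    rw [hK, mem_bot] at hw
    rw [hw, mul_one] at hconj
    obtain ⟨c, hcc⟩ := isConj_iff.mp hconj
    apply hg
    rw [← (MulAut.conj c).orderOf_eq g, MulAut.conj_apply, hcc]
    exact orderOf_eq_prime (by rw [s.zp_pow, s.zp_eq_one_iff]; exact mul_eq_zero_of_right _ rfl)
      (fun h => hk ((s.zp_eq_one_iff k).mp h))
  have hval : ∀ g : G, orderOf g ≠ 11 → ∀ o,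
      (1 + (cs.map fun χ => (sgn (deg χ) : ℂ) * (χ : G → ℂ) g).sum) =
        (D.eps : ℂ) * (D.f o : G → ℂ) g := by
    intro g hg o
    have h := D.value_eq (hzp g hg) o
    simp only [mul_comm _ ((D.c _ : ℂ))] at h
    rw [hL, hsumR] at h
    simp only [triv, Pi.one_apply] at h
    linear_combination -h
  refine ⟨{ cs := cs
            f₁ := D.f o₁
            f₂ := D.f o₂
            nodup := ?_
            length_cs := hlen
            sorted := hsort
            small := ?_
            deg_f₁ := by rw [D.deg_f, hexc]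
            deg_f₂ := by rw [D.deg_f, hexc]
            exc_mem := ?_
            exc_mod := ?_
            outside := ?_
            eq_f := ?_
            rel := ?_
            rel_sq := ?_
            pairs := ?_ }⟩
  · simp only [List.nodup_cons, List.mem_cons, not_or, hmem]
    exact ⟨⟨(D.triv_ne o₁).symm, (D.triv_ne o₂).symm, htR⟩, ⟨D.inj.ne ho, hfR o₁⟩, hfR o₂,
      hperm.nodup_iff.mpr R.nodup_toList⟩
  · intro d hd'
    obtain ⟨χ, hχ, rfl⟩ := List.mem_map.mp hd'
    exact (hcs χ ((hmem χ).mp hχ)).2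
  · rw [hexc]
    refine exc_check _ (Nat.mem_divisors.mpr ⟨hb8640, by norm_num⟩) ?_ ?_
    · have := hsq {D.f o₁, D.f o₂}
      rw [Finset.sum_pair (D.inj.ne ho), D.deg_f, D.deg_f] at this
      nlinarith
    · rcases D.eps_eq with e | e <;> rw [e] at hb11 <;> omega
  · rw [hexc, hS]
    rcases D.eps_eq with e | e <;> rw [e] at hb11 ⊢ <;> simp <;> split_ifs <;> omega
  · intro χ hχ
    simp only [List.mem_cons, not_or, hmem] at hχ
    have hne : ∀ o, χ ≠ D.f o := fun o => by
      rcases hex o with rfl | rfl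
      exacts [hχ.2.1, hχ.2.2.1]
    have h := hmod χ hne
    rw [hzero χ hχ.1 hχ.2.2.2, add_zero] at h
    exact Int.natCast_dvd_natCast.mp h
  · intro g hg
    have heC : (D.eps : ℂ) ≠ 0 := by rcases D.eps_eq with e | e <;> simp [e]
    exact mul_left_cancel₀ heC ((hval g hg o₂).symm.trans (hval g hg o₁))
  · intro g hg
    rw [heps, hval g hg o₁, sub_self]
  · intro g hg
    obtain ⟨e, hex', -, hpair⟩ := Steiner.M11.pair_formula hK D hd (a := g) (by omega)
    rw [Steiner.M11.pairs_involution s he (by rw [← hg, pow_orderOf_eq_one]), Nat.cast_zero,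
      zero_mul, eq_comm, mul_eq_zero] at hpair
    have hpair := hpair.resolve_left (Nat.cast_ne_zero.mpr Nat.card_pos.ne')
    rw [hL, hsumR] at hpair
    rw [deg_triv, Nat.cast_one] at hpair
    simp only [triv, Pi.one_apply] at hpair
    rw [heps, hex' o₁, D.deg_f]
    linear_combination hpair
  · intro g hg
    obtain ⟨e, hex', -, hpair⟩ := Steiner.M11.pair_formula hK D hd (a := g) hg
    refine ⟨_, hpair.trans ?_⟩
    rw [hL, hsumR, deg_triv, Nat.cast_one]
    simp only [triv, Pi.one_apply]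
    rw [heps, hex' o₁, D.deg_f]
    ring

theorem exists_block (hc : Counts G) : Nonempty (Block G) := by
  have := hc.simple
  exact exists_block_of hc.card hc.sylow11

end Cfsg.Agent.M12Uniq
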