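import Cfsg.Agent.M12Uniq.CharsBlock
import Cfsg.Agent.M12Ord86.Proj
import Cfsg.Agent.Lib.SmallGroups.SelfCent.Involution
import Cfsg.Agent.Lib.SmallGroups.SelfCent.Count

/-!
# Columns at elements of orders 5, 3 and 2
-/

set_option autoImplicit false
set_option linter.unusedSectionVars false

open scoped ComplexConjugate

namespace Cfsg.Agent.M12Uniq

open Subgroup
open Cfsg.Agent.SmallGroups
open Cfsg.Agent.SmallGroups.SelfCent.Setup (deg deg_spec triv deg_triv)

variable {G : Type*} [Group G] [Fintype G]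

/-- A column of integers has norm the centraliser order. -/
theorem col_norm {w : G} {v : Cfsg.IrrCharacter G → ℤ} (hv : ∀ χ : Cfsg.IrrCharacter G, (χ : G → ℂ) w = v χ) :
    ∑ χ, v χ ^ 2 = (cC w : ℤ) := by
  have h := CharCore.sum_apply_mul_conj w w
  rw [if_pos (IsConj.refl w)] at h
  apply Int.cast_injective (α := ℂ)
  push_cast
  rw [show (cC w : ℂ) = (Nat.card (centralizer ({w} : Set G)) : ℂ) from rfl, ← h]
  exact Finset.sum_congr rfl fun χ _ => by rw [hv, map_intCast, sq]

/-- Two columns of integers at non-conjugate elements are orthogonal. -/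
theorem col_orth {w w' : G} {v v' : Cfsg.IrrCharacter G → ℤ}
    (hv : ∀ χ : Cfsg.IrrCharacter G, (χ : G → ℂ) w = v χ)
    (hv' : ∀ χ : Cfsg.IrrCharacter G, (χ : G → ℂ) w' = v' χ) (hne : ¬ IsConj w w') :
    ∑ χ, v χ * v' χ = 0 := by
  have h := CharCore.sum_apply_mul_conj w w'
  rw [if_neg hne] at h
  apply Int.cast_injective (α := ℂ)
  push_cast
  rw [← h]
  exact Finset.sum_congr rfl fun χ _ => by rw [hv, hv', map_intCast]

/-- A column of integers is orthogonal to the degrees. -/
theorem col_deg {w : G} {v : Cfsg.IrrCharacter G → ℤ} (hv : ∀ χ : Cfsg.IrrCharacter G, (χ : G → ℂ) w = v χ)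
    (hw : w ≠ 1) : ∑ χ, (deg χ : ℤ) * v χ = 0 :=
  col_orth (w := 1) (w' := w) (fun χ => by rw [(deg_spec χ).2.2]; norm_num) hv
    fun h => hw (isConj_one_right.mp h)

/-- The centraliser index of an element. -/
theorem index_centralizer (hc : Counts G) {w : G} {C k : ℕ} (hC : cC w = C) (hk : C * k = 95040)
    (hC0 : 0 < C) : (centralizer ({w} : Set G)).index = k := by
  have h := (centralizer ({w} : Set G)).card_mul_index
  rw [hc.card, show Nat.card (centralizer ({w} : Set G)) = C from hC, ← hk] at h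
  exact Nat.eq_of_mul_eq_mul_left hC0 h

/-- All generators of a subgroup of order 5 are conjugate. -/
theorem exists_conj_pow (hc : Counts G) {q : G} (hq : orderOf q = 5) {m : ℕ} (hm : ¬ 5 ∣ m) :
    ∃ g ∈ Subgroup.normalizer (zpowers q : Set G), g * q * g⁻¹ = q ^ m := by
  classical
  set N := Subgroup.normalizer (zpowers q : Set G) with hN
  have hNcard : Nat.card N = 40 := hc.five_norm _ (by rw [Nat.card_zpowers, hq])
  let f : ↥N →* MulAut ↥(zpowers q) := (zpowers q).normalizerMonoidHom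
  have hker : Nat.card f.ker = 10 := by
    rw [show f.ker = (centralizer ((zpowers q : Subgroup G) : Set G)).subgroupOf N from
      Subgroup.normalizerMonoidHom_ker _,
      Nat.card_congr (subgroupOfEquivOfLe (centralizer_le_normalizer _)).toEquiv,
      zpowers_eq_closure, centralizer_closure]
    exact hc.five q hq
  have hrange : f.range = ⊤ := by
    apply eq_top_of_card_eq
    have h := f.ker.card_mul_index
    rw [Subgroup.index_ker, hker, hNcard] at h
    rw [IsCyclic.card_mulAut, Nat.card_zpowers, hq, Nat.totient_prime (by norm_num)]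
    omega
  have hcop : (Nat.card ↥(zpowers q)).Coprime m := by
    rw [Nat.card_zpowers, hq]
    exact (by norm_num : Nat.Prime 5).coprime_iff_not_dvd.mpr hm
  let σ : MulAut ↥(zpowers q) :=
    { powCoprime hcop with
      map_mul' := fun x y => by
        show (x * y) ^ m = x ^ m * y ^ m
        exact Commute.mul_pow (Subtype.ext (by
          obtain ⟨i, hi⟩ := mem_zpowers_iff.mp x.2
          obtain ⟨j, hj⟩ := mem_zpowers_iff.mp y.2
          show (x : G) * y = y * x
          rw [← hi, ← hj, ← zpow_add, ← zpow_add, add_comm])) m }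
  obtain ⟨n, hn⟩ := MonoidHom.range_eq_top.mp hrange σ
  refine ⟨n, n.2, ?_⟩
  have := congrArg Subtype.val (DFunLike.congr_fun hn ⟨q, mem_zpowers q⟩)
  exact this

/-- A character at a subgroup with constant value off the identity. -/
theorem card_dvd_deg_add (χ : Cfsg.IrrCharacter G) (K : Subgroup G) {v : ℤ}
    (hv : ∀ k ∈ K, k ≠ 1 → (χ : G → ℂ) k = v) :
    (Nat.card K : ℤ) ∣ (deg χ : ℤ) + ((Nat.card K : ℤ) - 1) * v ∧
      0 ≤ (deg χ : ℤ) + ((Nat.card K : ℤ) - 1) * v := by
  classical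
  have := Fintype.ofFinite K
  obtain ⟨k, hk⟩ := Steiner.M11.exists_sum_eq χ K
  rw [← Finset.add_sum_erase _ _ (Finset.mem_univ (1 : K)),
    Finset.sum_congr rfl (g := fun _ => (v : ℂ)) (fun (h : K) hh =>
      hv h.1 h.2 fun e => Finset.ne_of_mem_erase hh (Subtype.ext e)), Finset.sum_const,
    Finset.card_erase_of_mem (Finset.mem_univ _), Finset.card_univ, ← Nat.card_eq_fintype_card,
    OneMemClass.coe_one, (deg_spec χ).2.2, nsmul_eq_mul,
    Nat.cast_sub (Nat.card_pos : 0 < Nat.card K), Nat.cast_one] at hk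
  have hk' : (deg χ : ℤ) + ((Nat.card K : ℤ) - 1) * v = (Nat.card K : ℤ) * k := by
    exact_mod_cast hk
  exact ⟨⟨k, hk'⟩, hk' ▸ mul_nonneg (Int.natCast_nonneg _) (Int.natCast_nonneg _)⟩

/-- Values at an element of order 5. -/
theorem exists_q (hc : Counts G) : ∃ (q : G) (v : Cfsg.IrrCharacter G → ℤ), orderOf q = 5 ∧
    (∀ χ : Cfsg.IrrCharacter G, (χ : G → ℂ) q = v χ) ∧ (∀ χ : Cfsg.IrrCharacter G, v χ ∈ qVals (deg χ)) ∧ ∑ χ, v χ ^ 2 = 10 ∧
    ∑ χ, (deg χ : ℤ) * v χ = 0 := by
  classical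
  have : Fact (Nat.Prime 5) := ⟨by norm_num⟩
  obtain ⟨q, hq⟩ := exists_prime_orderOf_dvd_card' (G := G) 5 (by rw [hc.card]; norm_num)
  have hconst : ∀ (χ : Cfsg.IrrCharacter G), ∀ k ∈ zpowers q, k ≠ 1 →
      (χ : G → ℂ) k = (χ : G → ℂ) q := by
    intro χ k hk hk1
    obtain ⟨m, rfl⟩ := ((isOfFinOrder_of_finite q).mem_powers_iff_mem_zpowers).mpr hk
    simp only at hk1 ⊢
    obtain ⟨g, -, hg⟩ := exists_conj_pow hc hq (m := m) (fun h => hk1 (by
      obtain ⟨c, rfl⟩ := h
      rw [pow_mul, ← hq, pow_orderOf_eq_one, one_pow]))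
    rw [← hg, CharCore.irr_isClassFunction χ q g]
  choose v hv hd using fun χ => Steiner.M11.exists_int_value χ hq (hconst χ)
  have hnorm : ∑ χ, v χ ^ 2 = 10 := by rw [col_norm hv, hc.five q hq]; norm_num
  refine ⟨q, v, hq, hv, fun χ => mem_qVals ?_ (by exact_mod_cast hd χ) ?_ ?_, hnorm,
    col_deg hv fun h => by rw [h, orderOf_one] at hq; norm_num at hq⟩
  · rw [← hnorm]
    exact Finset.single_le_sum (f := fun y => v y ^ 2) (fun y _ => sq_nonneg _) (Finset.mem_univ χ)
  · have h := card_dvd_deg_add χ (zpowers q) (v := v χ)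
      fun k hk hk1 => by rw [hconst χ k hk hk1, hv]
    rw [Nat.card_zpowers, hq] at h
    simpa using h.2
  · have h := SelfCent.deg_dvd_index_mul χ (hv χ)
    rwa [index_centralizer hc (hc.five q hq) (k := 9504) (by norm_num) (by norm_num)] at h

open Cfsg.Agent.M12Ord86 in
/-- Values at a 3-element of `E` and at the involution inverting `E`. -/
theorem exists_xz (hc : Counts G) (e : EData G) :
    ∃ (x : G) (v w : Cfsg.IrrCharacter G → ℤ), orderOf x = 3 ∧ cC x = 54 ∧
      (∀ χ : Cfsg.IrrCharacter G, (χ : G → ℂ) x = v χ) ∧ (∀ χ : Cfsg.IrrCharacter G, (χ : G → ℂ) e.z = w χ) ∧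
      (∀ χ : Cfsg.IrrCharacter G, χ ≠ triv → v χ ∈ xVals (deg χ)) ∧
      (∀ χ : Cfsg.IrrCharacter G, χ ≠ triv → (4 : ℤ) ∣ (deg χ : ℤ) - w χ ∧ -(deg χ : ℤ) < w χ ∧
        w χ < deg χ ∧ (deg χ : ℤ) ∣ 495 * w χ) ∧
      (∀ χ : Cfsg.IrrCharacter G, 9 * w χ ≤ (deg χ : ℤ) + 8 * v χ ∧ -((deg χ : ℤ) + 8 * v χ) ≤ 9 * w χ) ∧
      ∑ χ, v χ ^ 2 = 54 ∧ ∑ χ, (deg χ : ℤ) * v χ = 0 ∧
      ∑ χ, w χ ^ 2 = 192 ∧ ∑ χ, v χ * w χ = 0 := by
  classical
  have := hc.simple
  have hnc := not_comm hc
  have : Fact (Nat.Prime 3) := ⟨by norm_num⟩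
  have : Fact (Nat.Prime 11) := ⟨by norm_num⟩
  have hz2 : e.z * e.z = 1 := by
    rw [← pow_two, ← e.orderOf_z, pow_orderOf_eq_one]
  obtain ⟨⟨x, hxE⟩, hx1'⟩ : ∃ x : e.E, x ≠ 1 := by
    have : Nontrivial e.E := Finite.one_lt_card_iff_nontrivial.mp (by rw [e.card_E]; norm_num)
    exact exists_ne 1
  have hx1 : x ≠ 1 := fun h => hx1' (Subtype.ext h)
  obtain ⟨hx3, hxC⟩ := e.three_E x hxE hx1
  have hconjE : ∀ k ∈ e.E, k ≠ 1 → IsConj x k := fun k hk hk1 => by
    obtain ⟨hk3, hkC⟩ := e.three_E k hk hk1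
    exact hc.three_conj x k hx3 hk3 (by rw [hxC, hkC])
  have hclass : ∀ (χ : Cfsg.IrrCharacter G) {g k : G}, IsConj g k →
      (χ : G → ℂ) k = (χ : G → ℂ) g := by
    intro χ g k h
    obtain ⟨c, rfl⟩ := isConj_iff.mp h
    exact CharCore.irr_isClassFunction χ g c
  choose v hv hd using fun χ => Steiner.M11.three_value χ hx3
    (by rw [← e.inv_E x hxE]; exact isConj_iff.mpr ⟨e.z, rfl⟩)
  choose w hw using fun χ => SelfCent.exists_int_of_sq_eq_one χ (show e.z ^ 2 = 1 by
    rw [pow_two, hz2])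
  have hnx : ∑ χ, v χ ^ 2 = 54 := by rw [col_norm hv, hxC]; norm_num
  have hE : ∀ χ : Cfsg.IrrCharacter G, (9 : ℤ) ∣ (deg χ : ℤ) + 8 * v χ ∧ 0 ≤ (deg χ : ℤ) + 8 * v χ := fun χ => by
    have h := card_dvd_deg_add χ e.E (v := v χ)
      fun k hk hk1 => by rw [hclass χ (hconjE k hk hk1), hv]
    rw [e.card_E] at h
    simpa using h
  refine ⟨x, v, w, hx3, hxC, hv, hw, fun χ hχ => ?_, fun χ hχ => ?_, fun χ => ?_, hnx,
    col_deg hv hx1, by rw [col_norm hw, e.cC_z]; norm_num,
    col_orth hv hw fun h => ?_⟩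
  · refine mem_xVals ?_ (hd χ) ?_ (hE χ).1 (hE χ).2 ?_
    · rw [← hnx]
      exact Finset.single_le_sum (f := fun y => v y ^ 2) (fun y _ => sq_nonneg _)
        (Finset.mem_univ χ)
    · have h := SelfCent.deg_dvd_index_mul χ (hv χ)
      rwa [index_centralizer hc hxC (k := 1760) (by norm_num) (by norm_num)] at h
    · have hne := SelfCent.value_ne_deg hχ hx1
      have hle := CharCore.IsCharacter.norm_apply_le (CharCore.irr_isCharacter χ) x
      rw [hv, (deg_spec χ).2.2] at hle
      rw [hv] at hne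
      simp only [Complex.norm_intCast, Complex.norm_natCast] at hle
      have h1 : v χ ≤ deg χ := by
        have := (le_abs_self (v χ : ℝ)).trans hle
        exact_mod_cast this
      exact lt_of_le_of_ne h1 fun h => hne (by rw [h]; norm_num)
  · obtain ⟨n, hn, l, u, h4⟩ := Steiner.M11.involution_value hnc hχ e.orderOf_z
    rw [hw] at hn
    obtain rfl : w χ = n := by exact_mod_cast hn
    refine ⟨h4, l, u, ?_⟩
    have h := SelfCent.deg_dvd_index_mul χ (hw χ)
    rwa [index_centralizer hc e.cC_z (k := 495) (by norm_num) (by norm_num)] at h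
  · obtain ⟨m, ρ, -, hρ⟩ := χ.2
    set P := proj ρ e.E with hP
    set Z : Module.End ℂ (Fin m → ℂ) := ρ e.z with hZ
    have hzN : e.z ∈ Subgroup.normalizer (e.E : Set G) := by
      rw [Subgroup.mem_normalizer_iff]
      intro k
      refine ⟨fun hk => (e.inv_E k hk) ▸ e.E.inv_mem hk, fun hk => ?_⟩
      have hzi : e.z⁻¹ = e.z := inv_eq_of_mul_eq_one_right hz2
      have h' : e.z * (e.z * k * e.z⁻¹) * e.z⁻¹ = k := by
        rw [hzi, show e.z * (e.z * k * e.z) * e.z = (e.z * e.z) * k * (e.z * e.z) by group,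
          hz2, one_mul, mul_one]
      rw [← h', e.inv_E _ hk]
      exact e.E.inv_mem hk
    have hcomm : Z * P = P * Z := commute_proj hzN
    have hZ2 : Z * Z = 1 := by rw [hZ, ← map_mul, hz2, map_one]
    have htrP : LinearMap.trace ℂ (Fin m → ℂ) P =
        ((deg χ : ℂ) + 8 * (v χ : ℂ)) / 9 := by
      rw [hP, trace_proj, e.card_E, ← Finset.add_sum_erase _ _ (mem_elems.mpr e.E.one_mem),
        Finset.sum_congr rfl (g := fun _ => (v χ : ℂ)) (fun k hk => by
          obtain ⟨h1, h2⟩ := Finset.mem_erase.mp hk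
          rw [hρ, hclass χ (hconjE k (mem_elems.mp h2) h1), hv]), Finset.sum_const,
        Finset.card_erase_of_mem (mem_elems.mpr e.E.one_mem), card_elems, e.card_E, hρ,
        (deg_spec χ).2.2]
      push_cast
      rw [nsmul_eq_mul]
      norm_num
      ring
    have htrZ : LinearMap.trace ℂ (Fin m → ℂ) (Z * P) = (w χ : ℂ) := by
      rw [hP, proj, mul_smul_comm, Finset.mul_sum, map_smul, map_sum,
        Finset.sum_congr rfl (g := fun _ => (w χ : ℂ)) (fun k hk => ?_), Finset.sum_const,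
        card_elems, e.card_E, nsmul_eq_mul, smul_eq_mul]
      · push_cast; ring
      · rw [hZ, ← map_mul]
        show ρ.character (e.z * k) = _
        rw [hρ]
        have hk' := mem_elems.mp hk
        -- `z k` is conjugate to `z` by the square root of `k`
        have hk3 : k ^ 3 = 1 := by
          rcases eq_or_ne k 1 with rfl | hk1
          · simp
          · rw [← (e.three_E k hk' hk1).1, pow_orderOf_eq_one]
        have hkz : e.z * k = k⁻¹ * e.z := by
          rw [← e.inv_E k hk']; group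
        have hcj : k * e.z * k⁻¹ = e.z * k := by
          have hkz' : e.z * k⁻¹ = k * e.z := by
            have := e.inv_E k⁻¹ (e.E.inv_mem hk')
            rw [inv_inv] at this
            nth_rw 2 [← this]
            group
          rw [mul_assoc, hkz', ← mul_assoc, hkz]
          congr 1
          exact eq_inv_of_mul_eq_one_left (by rw [← hk3, pow_succ, pow_two])
        rw [← hcj, CharCore.irr_isClassFunction χ e.z k, hw]
    have key : ∀ s : ℂ, s * s = 1 → ∃ n : ℕ,
        ((deg χ : ℂ) + 8 * (v χ : ℂ)) / 9 + s * (w χ : ℂ) = 2 * (n : ℂ) := by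
      intro s hs
      set Q := (2⁻¹ : ℂ) • (P + s • (Z * P)) with hQ
      have hPP : P * P = P := proj_idem
      have h1 : P * (Z * P) = Z * P := by rw [← mul_assoc, ← hcomm, mul_assoc, hPP]
      have h2 : Z * P * P = Z * P := by rw [mul_assoc, hPP]
      have h3 : Z * P * (Z * P) = P := by rw [mul_assoc, h1, ← mul_assoc, hZ2, one_mul]
      have hQQ : IsIdempotentElem Q := by
        show Q * Q = Q
        simp only [hQ, smul_mul_assoc, mul_smul_comm, smul_add, smul_smul, add_mul, mul_add, hPP,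
          h1, h2, h3]
        match_scalars <;> first | ring1 | linear_combination (4⁻¹ : ℂ) * hs
      refine ⟨Module.finrank ℂ (LinearMap.range Q), ?_⟩
      rw [← (LinearMap.IsProj.trace ((LinearMap.isProj_range_iff_isIdempotentElem Q).mpr hQQ)),
        hQ, map_smul, map_add, map_smul, htrP, htrZ, smul_eq_mul, smul_eq_mul]
      ring
    obtain ⟨n, hn⟩ := key 1 (by norm_num)
    obtain ⟨n', hn'⟩ := key (-1) (by norm_num)
    have e1 : (deg χ : ℤ) + 8 * v χ + 9 * w χ = 18 * (n : ℤ) := by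
      apply Int.cast_injective (α := ℂ)
      push_cast; linear_combination 9 * hn
    have e2 : (deg χ : ℤ) + 8 * v χ - 9 * w χ = 18 * (n' : ℤ) := by
      apply Int.cast_injective (α := ℂ)
      push_cast; linear_combination 9 * hn'
    omega
  · obtain ⟨c, hcc⟩ := isConj_iff.mp h
    have h1 := (MulAut.conj c).orderOf_eq x
    rw [MulAut.conj_apply, hcc, hx3, e.orderOf_z] at h1
    norm_num at h1

end Cfsg.Agent.M12Uniq
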