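import Cfsg.Agent.M12Uniq.CharsBlock

/-!
# At least fifteen classes, and a special element of order 10
-/

set_option autoImplicit false
set_option linter.unusedSectionVars false

open scoped Classical

namespace Cfsg.Agent.M12Uniq

open Subgroup
open Cfsg.Agent.SmallGroups

variable {G : Type*} [Group G] [Fintype G]

/-- The order of the elements of a class. -/
noncomputable def classOrder : ConjClasses G → ℕ :=
  Quotient.lift orderOf fun a b h => by
    obtain ⟨c, rfl⟩ := isConj_iff.mp h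
    exact ((MulAut.conj c).orderOf_eq a).symm

theorem classOrder_mk (g : G) : classOrder (ConjClasses.mk g) = orderOf g := rfl

theorem one_le_fiber {g : G} {n : ℕ} (hg : orderOf g = n) :
    1 ≤ (Finset.univ.filter fun c : ConjClasses G => classOrder c = n).card :=
  Finset.card_pos.mpr ⟨ConjClasses.mk g, by simp [classOrder_mk, hg]⟩

theorem two_le_fiber {g g' : G} {n : ℕ} (hg : orderOf g = n) (hg' : orderOf g' = n)
    (hne : ¬ IsConj g g') :
    2 ≤ (Finset.univ.filter fun c : ConjClasses G => classOrder c = n).card :=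
  Finset.one_lt_card.mpr ⟨ConjClasses.mk g, by simp [classOrder_mk, hg],
    ConjClasses.mk g', by simp [classOrder_mk, hg'],
    fun h => hne (ConjClasses.mk_eq_mk_iff_isConj.mp h)⟩

theorem cC_congr {g g' : G} (h : IsConj g g') : cC g = cC g' := by
  have h1 := card_conj_mul_centralizer g
  have h2 := card_conj_mul_centralizer g'
  have he : Nat.card {y : G // IsConj g y} = Nat.card {y : G // IsConj g' y} :=
    Nat.card_congr (Equiv.subtypeEquivRight fun y => ⟨h.symm.trans, h.trans⟩)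
  have hpos : 0 < Nat.card {y : G // IsConj g' y} :=
    Nat.card_pos_iff.mpr ⟨⟨⟨g', IsConj.refl _⟩⟩, inferInstance⟩
  rw [he, ← h2] at h1
  exact Nat.eq_of_mul_eq_mul_left hpos h1

theorem exists_commute_of_dvd {g : G} {p : ℕ} [Fact p.Prime] (h : p ∣ cC g) :
    ∃ t : G, orderOf t = p ∧ g * t = t * g := by
  obtain ⟨t, ht⟩ := exists_prime_orderOf_dvd_card' (G := centralizer ({g} : Set G)) p h
  exact ⟨t, (orderOf_coe t).trans ht, mem_centralizer_singleton_iff.mp t.2 |>.symm⟩

theorem exists_order_six (hc : Counts G) : ∃ g g' : G, orderOf g = 6 ∧ orderOf g' = 6 ∧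
    ¬ IsConj g g' := by
  have : Fact (Nat.Prime 2) := ⟨Nat.prime_two⟩
  obtain ⟨x, hx, hxC⟩ := hc.exists_x
  obtain ⟨y, hy, hyC⟩ := hc.exists_y
  obtain ⟨t, ht, hxt⟩ := exists_commute_of_dvd (g := x) (p := 2) (by rw [hxC]; norm_num)
  obtain ⟨s, hs, hys⟩ := exists_commute_of_dvd (g := y) (p := 2) (by rw [hyC]; norm_num)
  refine ⟨x * t, y * s, ?_, ?_, fun h => ?_⟩
  · rw [Commute.orderOf_mul_eq_mul_orderOf_of_coprime hxt (by rw [hx, ht]; norm_num), hx, ht]
  · rw [Commute.orderOf_mul_eq_mul_orderOf_of_coprime hys (by rw [hy, hs]; norm_num), hy, hs]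
  · have h4 : IsConj ((x * t) ^ 4) ((y * s) ^ 4) := h.pow 4
    have hfour : ∀ {a c : G}, orderOf a = 3 → orderOf c = 2 → a * c = c * a → (a * c) ^ 4 = a := by
      intro a c ha hc' hac
      rw [Commute.mul_pow hac, ← pow_mod_orderOf a 4, ha, ← pow_mod_orderOf c 4, hc']
      simp
    rw [hfour hx ht hxt, hfour hy hs hys] at h4
    have := cC_congr h4
    omega

theorem exists_order_eight (hc : Counts G) : ∃ g g' : G, orderOf g = 8 ∧ orderOf g' = 8 ∧
    ¬ IsConj g g' := by
  obtain ⟨⟨g, hg⟩⟩ : Nonempty {g : G // orderOf g = 8} := by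
    refine (Nat.card_pos_iff.mp ?_).1
    rw [hc.count_eight]; norm_num
  by_contra hcon
  push_neg at hcon
  have hle : Nat.card {y : G // orderOf y = 8} ≤ Nat.card {y : G // IsConj g y} :=
    Nat.card_le_card_of_injective (fun y => ⟨y.1, hcon g y.1 hg y.2⟩) fun a b h =>
      Subtype.ext (congrArg (fun z => z.1) h :)
  have hC : 8 ≤ Nat.card (centralizer ({g} : Set G)) := by
    rw [← hg, ← Nat.card_zpowers]
    exact Nat.le_of_dvd Nat.card_pos (card_dvd_of_le (zpowers_le.mpr
      (mem_centralizer_singleton_iff.mpr rfl)))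
  have h := card_conj_mul_centralizer g
  rw [hc.card] at h
  rw [hc.count_eight] at hle
  nlinarith

theorem exists_order_four (hc : Counts G) (e : EData G) : ∃ g g' : G, orderOf g = 4 ∧
    orderOf g' = 4 ∧ ¬ IsConj g g' := by
  have hz : e.z ^ 2 = 1 := by rw [← e.orderOf_z, pow_orderOf_eq_one]
  have hz1 : e.z ≠ 1 := fun h => by
    have := e.orderOf_z; rw [h, orderOf_one] at this; norm_num at this
  have hex : ∀ Q : Subgroup G, Nat.card Q = 8 → ∃ q ∈ Q, q ∉ zpowers e.z := by
    intro Q hQ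
    by_contra h
    push_neg at h
    have := Nat.le_of_dvd Nat.card_pos (card_dvd_of_le (h : Q ≤ zpowers e.z))
    rw [hQ, Nat.card_zpowers, e.orderOf_z] at this
    omega
  have hord : ∀ {q : G}, q * q = e.z → orderOf q = 4 := by
    intro q hq
    have : Fact (Nat.Prime 2) := ⟨Nat.prime_two⟩
    refine orderOf_eq_prime_pow (p := 2) (n := 1) ?_ ?_
    · rw [pow_one, pow_two, hq]; exact hz1
    · rw [show 2 ^ (1 + 1) = 2 * 2 by norm_num, pow_mul, pow_two q, hq, hz]
  obtain ⟨i, hiR, hiz⟩ := hex e.R e.card_R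
  obtain ⟨m, hmM, hmz⟩ := hex e.M e.card_M
  refine ⟨i, m, hord (e.R_sq i hiR hiz), hord (e.M_sq m hmM hmz), fun h => hmz ?_⟩
  obtain ⟨g, hg⟩ := isConj_iff.mp h
  have hgz : g ∈ centralizer ({e.z} : Set G) := by
    rw [mem_centralizer_singleton_iff]
    have h1 : g * e.z * g⁻¹ = e.z := by
      conv_lhs => rw [← e.R_sq i hiR hiz]
      rw [show g * (i * i) * g⁻¹ = g * i * g⁻¹ * (g * i * g⁻¹) by group, hg, e.M_sq m hmM hmz]
    calc g * e.z = g * e.z * g⁻¹ * g := by group
      _ = e.z * g := by rw [h1]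
  have hmR : m ∈ e.R := hg ▸ (Subgroup.mem_normalizer_iff.mp (e.R_normal hgz) i).mp hiR
  rw [← e.M_inf]
  exact ⟨hmR, hmM⟩

theorem exists_order_eleven (hc : Counts G) : ∃ g g' : G, orderOf g = 11 ∧ orderOf g' = 11 ∧
    ¬ IsConj g g' := by
  have : Fact (Nat.Prime 11) := ⟨by norm_num⟩
  obtain ⟨a, ha⟩ := exists_prime_orderOf_dvd_card' (G := G) 11 (by rw [hc.card]; norm_num)
  refine ⟨a, a⁻¹, ha, by rw [orderOf_inv, ha], fun h => ?_⟩
  obtain ⟨g, hg⟩ := isConj_iff.mp h
  have hgN : g ∈ Subgroup.normalizer (zpowers a : Set G) := by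
    have hmap : (zpowers a).map (MulAut.conj g).toMonoidHom = zpowers a := by
      rw [MonoidHom.map_zpowers]
      simp [hg]
    rw [Subgroup.mem_normalizer_iff]
    intro k
    refine ⟨fun hk => hmap.le ⟨k, hk, rfl⟩, fun hk => ?_⟩
    obtain ⟨k', hk', e⟩ := hmap.ge hk
    obtain rfl : k' = k := by simpa using e
    exact hk'
  have hgcard : orderOf g ∣ 55 := by
    have h55 := hc.sylow11 (zpowers a) (by rw [Nat.card_zpowers, ha])
    rw [← h55]
    exact Subgroup.orderOf_dvd_natCard _ hgN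
  have hodd : ¬ 2 ∣ orderOf g := fun h2 => by
    have := h2.trans hgcard
    norm_num at this
  have hg2 : Commute (g ^ 2) a := by
    show g ^ 2 * a = a * g ^ 2
    have e1 : g * (g * a * g⁻¹) * g⁻¹ = a := by
      rw [hg, show g * a⁻¹ * g⁻¹ = (g * a * g⁻¹)⁻¹ by group, hg, inv_inv]
    calc g ^ 2 * a = g * (g * a * g⁻¹) * g⁻¹ * (g * g) := by rw [pow_two]; group
      _ = a * g ^ 2 := by rw [e1, pow_two]
  obtain ⟨r, hr⟩ : ∃ r, g = (g ^ 2) ^ r := by
    refine ⟨(orderOf g + 1) / 2, ?_⟩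
    rw [← pow_mul, show 2 * ((orderOf g + 1) / 2) = orderOf g + 1 by omega, pow_add,
      pow_orderOf_eq_one, one_mul, pow_one]
  have hga : Commute g a := hr ▸ hg2.pow_left r
  rw [hga.eq, mul_assoc, mul_inv_cancel, mul_one] at hg
  have : a ^ 2 = 1 := by
    rw [pow_two]; nth_rw 1 [hg]; exact inv_mul_cancel a
  have := orderOf_dvd_of_pow_eq_one this
  rw [ha] at this
  norm_num at this

theorem fifteen_le (hc : Counts G) (e : EData G) :
    15 ≤ Fintype.card (Cfsg.IrrCharacter G) := by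
  rw [← Nat.card_eq_fintype_card, CharCore.card_irr, Nat.card_eq_fintype_card,
    ← Finset.card_univ]
  have : Fact (Nat.Prime 5) := ⟨by norm_num⟩
  have : Fact (Nat.Prime 2) := ⟨Nat.prime_two⟩
  obtain ⟨z, hz, hzC⟩ := hc.exists_z
  obtain ⟨u, hu, huC⟩ := hc.exists_u
  obtain ⟨x, hx, hxC⟩ := hc.exists_x
  obtain ⟨y, hy, hyC⟩ := hc.exists_y
  obtain ⟨q, hq⟩ := exists_prime_orderOf_dvd_card' (G := G) 5 (by rw [hc.card]; norm_num)
  obtain ⟨t, ht, hqt⟩ := exists_commute_of_dvd (g := q) (p := 2) (by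
    rw [hc.five q hq]; norm_num)
  have h10 : orderOf (q * t) = 10 := by
    rw [Commute.orderOf_mul_eq_mul_orderOf_of_coprime hqt (by rw [hq, ht]; norm_num), hq, ht]
  obtain ⟨a4, b4, h4, h4', n4⟩ := exists_order_four hc e
  obtain ⟨a6, b6, h6, h6', n6⟩ := exists_order_six hc
  obtain ⟨a8, b8, h8, h8', n8⟩ := exists_order_eight hc
  obtain ⟨a11, b11, h11, h11', n11⟩ := exists_order_eleven hc
  have hsum := Finset.card_eq_sum_card_fiberwise (f := classOrder (G := G))
    (s := Finset.univ) (t := Finset.univ.image (classOrder (G := G)))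
    (fun c hc' => Finset.mem_coe.mpr (Finset.mem_image_of_mem _ hc'))
  rw [hsum]
  have hmem : ∀ {g : G} {n : ℕ}, orderOf g = n →
      n ∈ Finset.univ.image (classOrder (G := G)) := fun {g n} h =>
    Finset.mem_image.mpr ⟨ConjClasses.mk g, Finset.mem_univ _, h⟩
  refine le_trans ?_ (Finset.sum_le_sum_of_subset
    (s := ({1, 2, 3, 4, 5, 6, 8, 10, 11} : Finset ℕ)) ?_)
  · simp only [Finset.sum_insert (show (1 : ℕ) ∉ ({2, 3, 4, 5, 6, 8, 10, 11} : Finset ℕ) by decide),
      Finset.sum_insert (show (2 : ℕ) ∉ ({3, 4, 5, 6, 8, 10, 11} : Finset ℕ) by decide),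
      Finset.sum_insert (show (3 : ℕ) ∉ ({4, 5, 6, 8, 10, 11} : Finset ℕ) by decide),
      Finset.sum_insert (show (4 : ℕ) ∉ ({5, 6, 8, 10, 11} : Finset ℕ) by decide),
      Finset.sum_insert (show (5 : ℕ) ∉ ({6, 8, 10, 11} : Finset ℕ) by decide),
      Finset.sum_insert (show (6 : ℕ) ∉ ({8, 10, 11} : Finset ℕ) by decide),
      Finset.sum_insert (show (8 : ℕ) ∉ ({10, 11} : Finset ℕ) by decide),
      Finset.sum_pair (show (10 : ℕ) ≠ 11 by decide)]
    have := one_le_fiber (orderOf_one (G := G))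
    have := two_le_fiber hz hu fun h => by have := cC_congr h; omega
    have := two_le_fiber hx hy fun h => by have := cC_congr h; omega
    have := two_le_fiber h4 h4' n4
    have := one_le_fiber hq
    have := two_le_fiber h6 h6' n6
    have := two_le_fiber h8 h8' n8
    have := one_le_fiber h10
    have := two_le_fiber h11 h11' n11
    omega
  · intro n hn
    simp only [Finset.mem_insert, Finset.mem_singleton] at hn
    rcases hn with rfl | rfl | rfl | rfl | rfl | rfl | rfl | rfl | rfl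
    exacts [hmem orderOf_one, hmem hz, hmem hx, hmem h4, hmem hq, hmem h6, hmem h8, hmem h10,
      hmem h11]

end Cfsg.Agent.M12Uniq
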