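import Mathlib

/-!
# A bounded search for the characters outside the principal 11-block

An item `(k, a, v)` stands for a character of degree `11 * k` with values `a` and `v` on two
classes.
-/

set_option autoImplicit false

namespace Cfsg.Agent.M12Uniq

/-- The type of an item. -/
abbrev Item := ℕ × ℤ × ℤ

/-- The largest possible number of copies of an item within the three budgets. -/
def maxCopies (t : Item) (R Sq Sx : ℕ) : ℕ :=
  let m := R / (t.1 * t.1)
  let m := if t.2.1 = 0 then m else min m (Sq / (t.2.1.natAbs * t.2.1.natAbs))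
  if t.2.2 = 0 then m else min m (Sx / (t.2.2.natAbs * t.2.2.natAbs))

/-- Is there a multiset of items with the given sums, at least eight members and none equal to
`bad`? -/
def search (bad : Item) : List Item → ℕ → ℕ → ℕ → ℤ → ℤ → ℕ → Bool
  | [], R, Sq, Sx, Lq, Lx, n =>
      (R == 0) && (Sq == 0) && (Sx == 0) && (Lq == 0) && (Lx == 0) && (8 ≤ n : Bool)
  | t :: ts, R, Sq, Sx, Lq, Lx, n =>
      (List.range (maxCopies t R Sq Sx + 1)).any fun j =>
        ((j == 0) || (t != bad)) &&
          search bad ts (R - j * (t.1 * t.1)) (Sq - j * (t.2.1.natAbs * t.2.1.natAbs))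
            (Sx - j * (t.2.2.natAbs * t.2.2.natAbs)) (Lq - j * ((t.1 : ℤ) * t.2.1))
            (Lx - j * ((t.1 : ℤ) * t.2.2)) (n + j)

/-- Sum of a function over a multiset of items. -/
def isum {α : Type} [AddCommMonoid α] (f : Item → α) (M : Multiset Item) : α := (M.map f).sum

theorem search_complete (bad : Item) (ts : List Item) (hpos : ∀ t ∈ ts, 0 < t.1) (M : Multiset Item)
    (hM : ∀ t ∈ M, t ∈ ts) (h5 : bad ∉ M) (n : ℕ) (hn : 8 ≤ n + M.card) :
    search bad ts (isum (fun t => t.1 * t.1) M) (isum (fun t => t.2.1.natAbs * t.2.1.natAbs) M)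
      (isum (fun t => t.2.2.natAbs * t.2.2.natAbs) M) (isum (fun t => (t.1 : ℤ) * t.2.1) M)
      (isum (fun t => (t.1 : ℤ) * t.2.2) M) n = true := by
  induction ts generalizing M n with
  | nil =>
    obtain rfl : M = 0 := Multiset.eq_zero_of_forall_notMem fun t ht => by simpa using hM t ht
    simp only [Multiset.card_zero, add_zero] at hn
    simp [search, isum, hn]
  | cons t ts ih =>
    set j := M.count t
    set M' := M.filter fun u => u ≠ t
    have hsplit : M = Multiset.replicate j t + M' := by
      conv_lhs => rw [← Multiset.filter_add_not (fun u => u = t) M]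
      rw [Multiset.filter_eq']
    have hsum : ∀ {α : Type} [AddCommMonoid α] (f : Item → α),
        isum f M = j • f t + isum f M' := fun f => by
      rw [isum, hsplit, Multiset.map_add, Multiset.sum_add, Multiset.map_replicate,
        Multiset.sum_replicate]
      rfl
    have hcard : M.card = j + M'.card := by
      rw [hsplit, Multiset.card_add, Multiset.card_replicate]
    have hj5 : ((j == 0) || (t != bad)) = true := by
      rcases Nat.eq_zero_or_pos j with h | h
      · simp [h]
      · have hmem : t ∈ M := Multiset.count_pos.mp h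
        have : t ≠ bad := fun e => h5 (e ▸ hmem)
        simp [this]
    have hrec := ih (fun u hu => hpos u (List.mem_cons_of_mem t hu)) M'
      (fun u hu => by
        obtain ⟨h1, h2⟩ := Multiset.mem_filter.mp hu
        exact (List.mem_cons.mp (hM u h1)).resolve_left h2)
      (fun h => h5 (Multiset.mem_filter.mp h).1) (n + j) (by omega)
    rw [search, List.any_eq_true]
    have e1 := hsum fun u => u.1 * u.1
    have e2 := hsum fun u => u.2.1.natAbs * u.2.1.natAbs
    have e3 := hsum fun u => u.2.2.natAbs * u.2.2.natAbs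
    have e4 := hsum fun u => (u.1 : ℤ) * u.2.1
    have e5 := hsum fun u => (u.1 : ℤ) * u.2.2
    simp only [smul_eq_mul, nsmul_eq_mul] at e1 e2 e3 e4 e5
    refine ⟨j, List.mem_range.mpr (Nat.lt_succ_of_le ?_), ?_⟩
    · have ht : 0 < t.1 * t.1 := Nat.mul_pos (hpos t List.mem_cons_self) (hpos t List.mem_cons_self)
      have b1 : j ≤ isum (fun u => u.1 * u.1) M / (t.1 * t.1) :=
        (Nat.le_div_iff_mul_le ht).mpr (e1 ▸ Nat.le_add_right _ _)
      have b2 : t.2.1 ≠ 0 → j ≤ isum (fun u => u.2.1.natAbs * u.2.1.natAbs) M /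
          (t.2.1.natAbs * t.2.1.natAbs) := fun h =>
        (Nat.le_div_iff_mul_le (Nat.mul_pos (Int.natAbs_pos.mpr h) (Int.natAbs_pos.mpr h))).mpr
          (e2 ▸ Nat.le_add_right _ _)
      have b3 : t.2.2 ≠ 0 → j ≤ isum (fun u => u.2.2.natAbs * u.2.2.natAbs) M /
          (t.2.2.natAbs * t.2.2.natAbs) := fun h =>
        (Nat.le_div_iff_mul_le (Nat.mul_pos (Int.natAbs_pos.mpr h) (Int.natAbs_pos.mpr h))).mpr
          (e3 ▸ Nat.le_add_right _ _)
      unfold maxCopies
      simp only
      split_ifs with h1 h2 h2
      · exact b1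
      · exact le_min b1 (b2 h2)
      · exact le_min b1 (b3 h1)
      · exact le_min (le_min b1 (b2 h2)) (b3 h1)
    · rw [e1, e2, e3, e4, e5, Nat.add_sub_cancel_left, Nat.add_sub_cancel_left,
        Nat.add_sub_cancel_left, add_sub_cancel_left, add_sub_cancel_left, hrec, hj5]
      rfl

end Cfsg.Agent.M12Uniq
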