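import Cfsg.Agent.M12Uniq.CharsCols
import Cfsg.Agent.M12Uniq.CharsCount

/-!
# Three characters of degree 10 are impossible
-/

set_option autoImplicit false
set_option linter.unusedSectionVars false

open scoped ComplexConjugate

namespace Cfsg.Agent.M12Uniq

open Subgroup
open Cfsg.Agent.SmallGroups
open Cfsg.Agent.SmallGroups.SelfCent.Setup (deg deg_spec triv deg_triv)

variable {G : Type*} [Group G] [Fintype G]

theorem isIntegral_half_sq_sub {ι : Type*} (s : Finset ι) (ω : ι → ℂ)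
    (hω : ∀ i, IsIntegral ℤ (ω i)) :
    IsIntegral ℤ (((∑ i ∈ s, ω i) ^ 2 - ∑ i ∈ s, ω i ^ 2) / 2) := by
  classical
  induction s using Finset.induction with
  | empty =>
    simp only [Finset.sum_empty, zero_pow two_ne_zero, sub_zero, zero_div]
    exact isIntegral_zero
  | insert a s ha ih =>
    rw [Finset.sum_insert ha, Finset.sum_insert ha]
    have h : ((ω a + ∑ i ∈ s, ω i) ^ 2 - (ω a ^ 2 + ∑ i ∈ s, ω i ^ 2)) / 2 =
        ω a * ∑ i ∈ s, ω i + ((∑ i ∈ s, ω i) ^ 2 - ∑ i ∈ s, ω i ^ 2) / 2 := by ring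
    rw [h]
    exact ((hω a).mul (IsIntegral.sum _ fun i _ => hω i)).add ih

/-- `χ(g)² - χ(g²)` is twice an algebraic integer. -/
theorem isIntegral_half_char (χ : Cfsg.IrrCharacter G) (g : G) :
    IsIntegral ℤ (((χ : G → ℂ) g ^ 2 - (χ : G → ℂ) (g ^ 2)) / 2) := by
  obtain ⟨m, ρ, -, hρ⟩ := χ.2
  obtain ⟨b, ω, hω, -, -, hk⟩ := CharCore.exists_eigenvalues ρ g
  have h1 : ρ.character g = ∑ i, ω i := by simpa using hk 1
  rw [← hρ, h1, hk 2]
  exact isIntegral_half_sq_sub _ ω fun i =>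
    IsIntegral.of_pow (orderOf_pos g) (by rw [hω i]; exact isIntegral_one)

theorem false_of_three_tens (hc : Counts G) {q : G} (hq : orderOf q = 5)
    {S : Finset (Cfsg.IrrCharacter G)} (hS : S.card = 3)
    (hdeg : ∀ χ ∈ S, deg χ = 10 ∧ (χ : G → ℂ) q = 0) : False := by
  classical
  have := hc.simple
  have : Fact (Nat.Prime 11) := ⟨by norm_num⟩
  have : Fact (Nat.Prime 2) := ⟨Nat.prime_two⟩
  have hnc := not_comm hc
  obtain ⟨u, hu, hqu⟩ := exists_commute_of_dvd (g := q) (p := 2) (by rw [hc.five q hq]; norm_num)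
  obtain ⟨g, hg⟩ : ∃ g, g = q * u := ⟨_, rfl⟩
  have hg10 : orderOf g = 10 := by
    rw [hg, Commute.orderOf_mul_eq_mul_orderOf_of_coprime hqu (by rw [hq, hu]; norm_num), hq, hu]
  have hu2 : u ^ 2 = 1 := by rw [← hu, pow_orderOf_eq_one]
  have hq5 : q ^ 5 = 1 := by rw [← hq, pow_orderOf_eq_one]
  have hgC : zpowers g = centralizer ({q} : Set G) := by
    refine eq_of_le_of_card_ge (zpowers_le.mpr (mem_centralizer_singleton_iff.mpr ?_)) ?_
    · rw [hg]
      rw [mul_assoc, ← hqu]
    · rw [Nat.card_zpowers, hg10]; exact le_of_eq (hc.five q hq)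
  -- the only involution of the centraliser
  have huniq : ∀ v ∈ centralizer ({q} : Set G), orderOf v = 2 → v = u := by
    intro v hv hv2
    rw [← hgC] at hv
    have key : ∀ w ∈ zpowers g, orderOf w = 2 → w = g ^ 5 := by
      intro w hw hw2
      obtain ⟨n, rfl⟩ := ((isOfFinOrder_of_finite g).mem_powers_iff_mem_zpowers).mpr hw
      simp only at hw2 ⊢
      have h2 : g ^ (n * 2) = 1 := by rw [pow_mul, ← hw2, pow_orderOf_eq_one]
      have hdvd := orderOf_dvd_of_pow_eq_one h2
      rw [hg10] at hdvd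
      rw [← pow_mod_orderOf, hg10]
      have hn0 : n % 10 ≠ 0 := fun h => by
        rw [← pow_mod_orderOf g n, hg10, h, pow_zero, orderOf_one] at hw2
        norm_num at hw2
      rw [show n % 10 = 5 by omega]
    have hu' : u ∈ zpowers g := by
      rw [hgC, mem_centralizer_singleton_iff]; exact hqu.symm
    rw [key v hv hv2, key u hu' hu]
  have hclass : ∀ (χ : Cfsg.IrrCharacter G) (j : ℕ), ¬ 5 ∣ j →
      (χ : G → ℂ) (q ^ j * u) = (χ : G → ℂ) g ∧ (χ : G → ℂ) (q ^ j) = (χ : G → ℂ) q := by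
    intro χ j hj
    obtain ⟨c, hcN, hcj⟩ := exists_conj_pow hc hq hj
    have hcu : c * u * c⁻¹ = u := by
      refine huniq _ (mem_centralizer_singleton_iff.mpr ?_)
        ((MulEquiv.orderOf_eq (MulAut.conj c) u).trans hu)
      obtain ⟨i, hi⟩ := mem_zpowers_iff.mp
        ((Subgroup.mem_normalizer_iff.mp (inv_mem hcN) q).mp (mem_zpowers q))
      rw [inv_inv] at hi
      have hqi : q = c * q ^ i * c⁻¹ := by rw [hi]; group
      have hui : Commute (q ^ i) u := (Commute.zpow_left hqu i)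
      calc c * u * c⁻¹ * q = c * u * c⁻¹ * (c * q ^ i * c⁻¹) := by rw [← hqi]
        _ = c * (u * q ^ i) * c⁻¹ := by group
        _ = c * (q ^ i * u) * c⁻¹ := by rw [hui.eq]
        _ = (c * q ^ i * c⁻¹) * (c * u * c⁻¹) := by group
        _ = q * (c * u * c⁻¹) := by rw [← hqi]
    refine ⟨?_, ?_⟩
    · rw [← CharCore.irr_isClassFunction χ g c]
      rw [hg, show c * (q * u) * c⁻¹ = c * q * c⁻¹ * (c * u * c⁻¹) by group, hcj, hcu]
    · rw [← CharCore.irr_isClassFunction χ q c, hcj]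
  -- the value at `g`
  have hval : ∀ χ ∈ S, ∃ n : ℤ, (χ : G → ℂ) g = n ∧ 4 ≤ n ^ 2 := by
    intro χ hχ
    obtain ⟨hd, hq0⟩ := hdeg χ hχ
    have hne : χ ≠ triv := fun e => by rw [e, deg_triv] at hd; norm_num at hd
    obtain ⟨t, ht, ht1, ht2, ht4⟩ := Steiner.M11.involution_value hnc hne hu
    rw [hd] at ht1 ht2 ht4
    have := Fintype.ofFinite (zpowers g)
    obtain ⟨k, hk⟩ := Steiner.M11.exists_sum_eq χ (zpowers g)
    let F : Fin 5 × Fin 2 → zpowers g := fun p => ⟨q ^ (p.1 : ℕ) * u ^ (p.2 : ℕ), by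
      rw [hgC]
      exact mul_mem (pow_mem (mem_centralizer_singleton_iff.mpr rfl) _)
        (pow_mem (mem_centralizer_singleton_iff.mpr hqu.symm) _)⟩
    have hFinj : Function.Injective F := by
      intro a b h
      have h' : q ^ (a.1 : ℕ) * u ^ (a.2 : ℕ) = q ^ (b.1 : ℕ) * u ^ (b.2 : ℕ) :=
        congrArg Subtype.val h
      have hc2 : ∀ m n : ℕ, Commute (q ^ m) (u ^ n) := fun m n => Commute.pow_pow hqu m n
      have e5 := congrArg (· ^ 5) h'
      simp only [(hc2 _ _).mul_pow, ← pow_mul] at e5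
      rw [mul_comm (a.1 : ℕ), mul_comm (b.1 : ℕ), pow_mul q, pow_mul q, hq5, one_pow, one_pow,
        one_mul, one_mul] at e5
      have := pow_eq_pow_iff_modEq.mp e5
      rw [hu] at this
      have h2 : (a.2 : ℕ) = b.2 := by unfold Nat.ModEq at this; omega
      rw [h2, mul_left_inj] at h'
      have := pow_eq_pow_iff_modEq.mp h'
      rw [hq] at this
      exact Prod.ext (Fin.ext (by unfold Nat.ModEq at this; omega)) (Fin.ext h2)
    have hFbij : Function.Bijective F := by
      refine hFinj.bijective_of_nat_card_le ?_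
      rw [Nat.card_zpowers, hg10, Nat.card_eq_fintype_card]
      simp
    rw [← Fintype.sum_bijective F hFbij (fun p => (χ : G → ℂ) (q ^ (p.1 : ℕ) * u ^ (p.2 : ℕ))) _
      (fun p => rfl), Fintype.sum_prod_type] at hk
    simp only [Fin.sum_univ_five, Fin.sum_univ_two, Fin.val_zero, Fin.val_one, Fin.val_two,
      pow_zero, pow_one, one_mul, mul_one] at hk
    have e1 := hclass χ 1 (by norm_num)
    have e2 := hclass χ 2 (by norm_num)
    have e3 := hclass χ 3 (by norm_num)
    have e4 := hclass χ 4 (by norm_num)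
    rw [pow_one] at e1
    rw [show ((3 : Fin 5) : ℕ) = 3 from rfl, show ((4 : Fin 5) : ℕ) = 4 from rfl,
      e1.1, e2.1, e2.2, e3.1, e3.2, e4.1, e4.2, hq0, ht, (deg_spec χ).2.2, hd,
      Nat.card_zpowers, hg10] at hk
    push_cast at hk
    have hint : IsIntegral ℤ ((χ : G → ℂ) g) := BlocksCore.isIntegral_irr χ g
    have hvQ : (χ : G → ℂ) g = algebraMap ℚ ℂ ((10 * (k : ℚ) - 10 - t) / 4) := by
      simp only [map_div₀, map_sub, map_mul, map_natCast, map_intCast, map_ofNat]
      linear_combination hk / 4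
    rw [hvQ, isIntegral_algebraMap_iff (RingHom.injective _)] at hint
    obtain ⟨n, hn⟩ := IsIntegrallyClosed.isIntegral_iff.mp hint
    have hn' : (χ : G → ℂ) g = (n : ℂ) := by rw [hvQ, ← hn]; simp
    rw [hn'] at hk
    have hk' : (10 : ℤ) + t + 4 * n = 10 * (k : ℤ) := by
      apply Int.cast_injective (α := ℂ)
      push_cast; linear_combination hk
    -- parity
    have hg2 : g ^ 2 = q ^ 2 := by rw [hg, Commute.mul_pow hqu, hu2, mul_one]
    have hhalf := isIntegral_half_char χ g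
    rw [hg2, e2.2, hq0, sub_zero, hn',
      show ((n : ℂ) ^ 2 / 2) = algebraMap ℚ ℂ (((n ^ 2 : ℤ) : ℚ) / 2) by simp,
      isIntegral_algebraMap_iff (RingHom.injective _)] at hhalf
    obtain ⟨m, hm⟩ := IsIntegrallyClosed.isIntegral_iff.mp hhalf
    have hm' : 2 * m = n ^ 2 := by
      have : (2 * m : ℚ) = ((n ^ 2 : ℤ) : ℚ) := by
        rw [show (m : ℚ) = algebraMap ℤ ℚ m from rfl, hm]; ring
      exact_mod_cast this
    refine ⟨n, hn', ?_⟩
    have heven : Even n := (Int.even_pow' two_ne_zero).mp ⟨m, by rw [← hm']; ring⟩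
    obtain ⟨r, rfl⟩ := heven
    have hn0 : r ≠ 0 := by
      rintro rfl
      omega
    have : 1 ≤ r * r := by nlinarith [Int.one_le_abs hn0, abs_mul_abs_self r]
    nlinarith
  choose! n hn hn4 using hval
  have htriv : (triv : Cfsg.IrrCharacter G) ∉ S := fun h => by
    have := (hdeg _ h).1; rw [deg_triv] at this; norm_num at this
  set v : Cfsg.IrrCharacter G → ℤ := fun χ => if χ = triv then 1 else n χ with hv
  have hle := SelfCent.sum_sq_le_card_centralizer (insert triv S) v (w := g) (fun χ hχ => by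
    rcases Finset.mem_insert.mp hχ with rfl | hχ
    · simp [hv, triv]
    · rw [hv, hn χ hχ]
      simp [show χ ≠ triv from fun e => htriv (e ▸ hχ)])
  have hC : Nat.card (centralizer ({g} : Set G)) ≤ 10 := by
    have hle' : centralizer ({g} : Set G) ≤ centralizer ({q} : Set G) := by
      intro c hc'
      rw [mem_centralizer_singleton_iff] at hc' ⊢
      have h6 : q = g ^ 6 := by
        rw [hg, Commute.mul_pow hqu, show 6 = 5 + 1 by norm_num, pow_succ, hq5, one_mul,
          show (5 + 1) = 2 * 3 by norm_num, pow_mul, hu2, one_pow, mul_one]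
      rw [h6]
      exact (Commute.pow_right (show Commute c g from hc') 6).eq
    have := Nat.le_of_dvd Nat.card_pos (card_dvd_of_le hle')
    exact this.trans (le_of_eq (hc.five q hq))
  rw [Finset.sum_insert htriv] at hle
  have h12 : ∑ χ ∈ S, (4 : ℤ) ≤ ∑ χ ∈ S, v χ ^ 2 := Finset.sum_le_sum fun χ hχ => by
    rw [hv]; simp only [if_neg (show χ ≠ triv from fun e => htriv (e ▸ hχ))]; exact hn4 χ hχ
  rw [Finset.sum_const, hS] at h12
  have hv1 : v triv = 1 := by simp [hv]
  rw [hv1] at hle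
  have hC' : ((Nat.card (centralizer ({g} : Set G)) : ℕ) : ℤ) ≤ 10 := by exact_mod_cast hC
  norm_num at h12
  linarith

end Cfsg.Agent.M12Uniq
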