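import Cfsg.Agent.M12Uniq.CountsDefs

/-!
# Parts of `Counts` derived from `Pre` and `UFacts` (see `PLAN-Counts.md`, part D)
-/

set_option autoImplicit false

namespace Cfsg.Agent.M12Uniq

open Subgroup

universe u

/-- The classes of involutions. -/
structure Invols (G : Type u) [Group G] : Prop where
  invol : ∀ t : G, orderOf t = 2 → cC t = 192 ∨ cC t = 240
  exists_z : ∃ z : G, orderOf z = 2 ∧ cC z = 192
  exists_u : ∃ u : G, orderOf u = 2 ∧ cC u = 240
  invol_conj : ∀ s t : G, orderOf s = 2 → orderOf t = 2 → cC s = cC t → IsConj s t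
  five_comm : ∀ q t : G, orderOf q = 5 → orderOf t = 2 → q * t = t * q → cC t = 240

/-- The classes of elements of order 3. -/
structure Threes (G : Type u) [Group G] : Prop where
  three : ∀ x : G, orderOf x = 3 → cC x = 54 ∨ cC x = 36
  exists_x : ∃ x : G, orderOf x = 3 ∧ cC x = 54
  exists_y : ∃ y : G, orderOf y = 3 ∧ cC y = 36
  three_conj : ∀ x y : G, orderOf x = 3 → orderOf y = 3 → cC x = cC y → IsConj x y
  cent54 : ∀ x t : G, orderOf x = 3 → cC x = 54 → orderOf t = 2 → x * t = t * x → cC t = 192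
  cent36 : ∀ x t : G, orderOf x = 3 → cC x = 36 → orderOf t = 2 → x * t = t * x → cC t = 240
  z_three : ∀ z h : G, orderOf z = 2 → cC z = 192 → orderOf h = 3 → z * h = h * z →
    Nat.card ↥(centralizer ({z} : Set G) ⊓ centralizer ({h} : Set G)) = 6

end Cfsg.Agent.M12Uniq
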