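import Cfsg.Agent.M12Uniq.CountsArith
import Cfsg.Agent.Lib.SmallGroups.Counting
import Cfsg.Agent.Lib.Steiner.M11.Sylow

/-!
# The centralizers of elements of order 5 and 11 from the counts
-/

set_option autoImplicit false

namespace Cfsg.Agent.M12Uniq

open Subgroup Cfsg.Agent.SmallGroups

universe u

variable {G : Type u} [Group G] [Finite G]

theorem card_sylow_of_card (hcard : Nat.card G = 95040) {p : ℕ} [Fact p.Prime]
    (hp : p = 5 ∨ p = 11) (P : Sylow p G) : Nat.card ↥(P : Subgroup G) = p := by
  rcases hp with rfl | rfl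
  · simpa using card_sylow_eq (p := 5) (a := 1) (m := 19008) (by rw [hcard]; norm_num)
      (by norm_num) P
  · simpa using card_sylow_eq (p := 11) (a := 1) (m := 8640) (by rw [hcard]; norm_num)
      (by norm_num) P

theorem exists_sylow_of_card (hcard : Nat.card G = 95040) {p : ℕ} [Fact p.Prime]
    (hp : p = 5 ∨ p = 11) {Q : Subgroup G} (hQ : Nat.card Q = p) :
    ∃ P : Sylow p G, (P : Subgroup G) = Q := by
  obtain ⟨P, hP⟩ := (IsPGroup.of_card (n := 1) (hQ.trans (pow_one p).symm)).exists_le_sylow
  exact ⟨P, (eq_of_le_of_card_ge hP (by rw [hQ, card_sylow_of_card hcard hp P])).symm⟩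

/-- The normalizer of a subgroup of order `p = 5, 11`. -/
theorem card_normalizer_of_count (hcard : Nat.card G = 95040) {p k : ℕ} [Fact p.Prime]
    (hp : p = 5 ∨ p = 11) (hs : sN G p * k = 95040 * (p - 1)) {Q : Subgroup G}
    (hQ : Nat.card Q = p) : Nat.card (normalizer (Q : Set G)) = k := by
  obtain ⟨P, rfl⟩ := exists_sylow_of_card hcard hp hQ
  have h1 := card_orderOf_eq (p := p) (fun P => card_sylow_of_card hcard hp P)
  have h2 := card_normalizer_mul P
  rw [hcard] at h2
  change sN G p = Nat.card (Sylow p G) * (p - 1) at h1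
  set n := Nat.card (Sylow p G)
  set N := Nat.card ↥(normalizer ((P : Subgroup G) : Set G))
  have hn : 0 < n := Nat.card_pos
  have hp1 : 0 < p - 1 := by rcases hp with rfl | rfl <;> norm_num
  rw [h1, ← h2] at hs
  have : n * (p - 1) * k = n * (p - 1) * N := by rw [hs]; ring
  exact (Nat.eq_of_mul_eq_mul_left (Nat.mul_pos hn hp1) this).symm

/-- Elements of order `p = 5, 11` have equally many commuting elements of each order. -/
theorem const_commute (hcard : Nat.card G = 95040) {p : ℕ} [Fact p.Prime] (hp : p = 5 ∨ p = 11)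
    {x y : G} (hx : orderOf x = p) (hy : orderOf y = p) (k : ℕ) :
    Nat.card {w : G // orderOf w = k ∧ Commute y w} =
      Nat.card {w : G // orderOf w = k ∧ Commute x w} := by
  obtain ⟨P, hyP⟩ := SmallGroups.exists_mem_sylow hy
  obtain ⟨Q, hxQ⟩ := SmallGroups.exists_mem_sylow hx
  obtain ⟨g, rfl⟩ := MulAction.exists_smul_eq G P Q
  have pp : p.Prime := Fact.out
  have hy1 : y ≠ 1 := fun e => pp.ne_one (by rw [← hy, e, orderOf_one])
  have hx1 : x ≠ 1 := fun e => pp.ne_one (by rw [← hx, e, orderOf_one])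
  have e1 := zpowers_eq_of_card_prime (card_sylow_of_card hcard hp P) hyP hy1
  have e2 := zpowers_eq_of_card_prime (card_sylow_of_card hcard hp _) hxQ hx1
  have hyx : g * y * g⁻¹ ∈ Subgroup.zpowers x := by
    rw [e2, Sylow.coe_subgroup_smul, Subgroup.mem_pointwise_smul_iff_inv_smul_mem]
    simpa [MulAut.smul_def, mul_assoc] using hyP
  have hxy : g⁻¹ * x * g ∈ Subgroup.zpowers y := by
    rw [e1]
    have := hxQ
    rw [Sylow.coe_subgroup_smul, Subgroup.mem_pointwise_smul_iff_inv_smul_mem] at this
    simpa [MulAut.smul_def, mul_assoc] using this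
  refine Nat.card_congr ((MulAut.conj g).toEquiv.subtypeEquiv fun w => and_congr ?_ ?_)
  · rw [show orderOf ((MulAut.conj g).toEquiv w) = orderOf w from
      orderOf_injective (MulAut.conj g).toMonoidHom (MulAut.conj g).injective w]
  · show Commute y w ↔ Commute x (g * w * g⁻¹)
    obtain ⟨i, hi⟩ := hxy
    obtain ⟨j, hj⟩ := hyx
    simp only at hi hj
    constructor
    · intro h
      have h' : Commute (y ^ i) w := h.zpow_left i
      rw [hi] at h'
      have := h'.map (MulAut.conj g).toMonoidHom
      simpa [mul_assoc] using this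
    · intro h
      have h' : Commute (x ^ j) (g * w * g⁻¹) := h.zpow_left j
      rw [hj] at h'
      have := h'.map (MulAut.conj g⁻¹).toMonoidHom
      simpa [mul_assoc] using this

theorem sN_mul_eq (hcard : Nat.card G = 95040) {p k : ℕ} [Fact p.Prime] (hp : p = 5 ∨ p = 11)
    (hk : Nat.Coprime p k) {x : G} (hx : orderOf x = p) :
    sN G (p * k) = sN G p * Nat.card {w : G // orderOf w = k ∧ Commute x w} := by
  classical
  have := Fintype.ofFinite G
  show M22Nse38.sn G (p * k) = _
  rw [M22Nse38.sn_mul hk, Finset.sum_congr rfl (fun y _ => const_commute hcard hp hx y.2 k),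
    Finset.sum_const, Finset.card_univ, smul_eq_mul, ← Nat.card_eq_fintype_card]
  rfl

/-- The order of a centralizer of an element of prime order with a given normalizer. -/
theorem cC_dvd_normalizer {p : ℕ} [Fact p.Prime] {x : G} (hx : orderOf x = p) :
    p ∣ cC x ∧ ∃ r, r ∣ p - 1 ∧ cC x * r = Nat.card (normalizer (zpowers x : Set G)) := by
  have e : centralizer ({x} : Set G) = centralizer (zpowers x : Set G) := by
    rw [zpowers_eq_closure, centralizer_closure]
  refine ⟨?_, _, relIndex_centralizer_dvd_of_prime _ ((Nat.card_zpowers x).trans hx), ?_⟩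
  · rw [cC, ← hx, ← Nat.card_zpowers]
    exact card_dvd_of_le (zpowers_le.2 (mem_centralizer_singleton_iff.2 rfl))
  · rw [cC, e]
    exact Steiner.M11.card_centralizer_mul_relIndex' _

section Nse

variable (hcard : Nat.card G = 95040)
  (hnse : {c : ℕ | 0 < c ∧ ∃ n : ℕ, c = sN G n} = {c | c ∈ nseVals})
include hcard hnse

theorem five_norm {Q : Subgroup G} (hQ : Nat.card Q = 5) :
    Nat.card (normalizer (Q : Set G)) = 40 :=
  have : Fact (Nat.Prime 5) := ⟨by norm_num⟩
  card_normalizer_of_count hcard (Or.inl rfl) (by rw [s_five hcard hnse]) hQ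

theorem sylow11 {P : Subgroup G} (hP : Nat.card P = 11) :
    Nat.card (normalizer (P : Set G)) = 55 :=
  have : Fact (Nat.Prime 11) := ⟨by norm_num⟩
  card_normalizer_of_count hcard (Or.inr rfl) (by rw [s_eleven hcard hnse]) hP

theorem cC_five {q : G} (hq : orderOf q = 5) : cC q = 10 := by
  classical
  have h5 : Fact (Nat.Prime 5) := ⟨by norm_num⟩
  have h2 : Fact (Nat.Prime 2) := ⟨Nat.prime_two⟩
  obtain ⟨hd, r, hr, hmul⟩ := cC_dvd_normalizer hq
  rw [five_norm hcard hnse ((Nat.card_zpowers q).trans hq)] at hmul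
  obtain ⟨c, hc⟩ := hd
  rw [hc] at hmul
  have hcr : c * r = 8 := by nlinarith
  have hc2 : 2 ∣ c := by
    have : r ≤ 4 := Nat.le_of_dvd (by norm_num) hr
    interval_cases r <;> omega
  have k2 := sN_mul_eq hcard (Or.inl rfl) (k := 2) (by norm_num) hq
  have k4 := sN_mul_eq hcard (Or.inl rfl) (k := 4) (by norm_num) hq
  rw [show 5 * 2 = 10 from rfl, s_ten hcard hnse, s_five hcard hnse] at k2
  have c20 := sN_cases (G := G) hnse 20 (by norm_num)
  rw [show 5 * 4 = 20 from rfl, s_five hcard hnse] at k4
  -- the centralizer has no element of order 4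
  have no4 : ∀ w : G, orderOf w = 4 → ¬ Commute q w := by
    intro w hw hqw
    have hne : w⁻¹ ≠ w := fun e => by
      have h : orderOf w ∣ 2 := orderOf_dvd_of_pow_eq_one (by
        rw [pow_two]; nth_rewrite 1 [← e]; exact inv_mul_cancel w)
      rw [hw] at h; norm_num at h
    have two : 2 ≤ Nat.card {w : G // orderOf w = 4 ∧ Commute q w} := by
      have : Nontrivial {w : G // orderOf w = 4 ∧ Commute q w} :=
        ⟨⟨w⁻¹, by rw [orderOf_inv, hw], hqw.inv_right⟩, ⟨w, hw, hqw⟩,
          fun e => hne (congrArg Subtype.val e)⟩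
      exact Finite.one_lt_card_iff_nontrivial.2 this
    omega
  show Nat.card (centralizer ({q} : Set G)) = 10
  change Nat.card (centralizer ({q} : Set G)) = 5 * c at hc
  by_contra hne
  have hc4 : 4 ∣ c := by
    have : c ∈ (8 : ℕ).divisors := Nat.mem_divisors.2 ⟨Dvd.intro r hcr, by norm_num⟩
    rw [show (8 : ℕ).divisors = {1, 2, 4, 8} by decide +kernel] at this
    simp only [Finset.mem_insert, Finset.mem_singleton] at this
    omega
  obtain ⟨T, hT⟩ := Sylow.exists_subgroup_card_pow_prime (G := centralizer ({q} : Set G)) 2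
    (n := 2) (by rw [hc]; exact hc4.trans (dvd_mul_left c 5))
  have hinv : ∀ t : T, t ≠ 1 → orderOf ((t : centralizer ({q} : Set G)) : G) = 2 ∧
      Commute q ((t : centralizer ({q} : Set G)) : G) := by
    intro t ht
    have hcomm : Commute q ((t : centralizer ({q} : Set G)) : G) :=
      (mem_centralizer_singleton_iff.1 (t : centralizer ({q} : Set G)).2).symm
    refine ⟨?_, hcomm⟩
    have hdvd : orderOf ((t : centralizer ({q} : Set G)) : G) ∣ 2 ^ 2 := by
      rw [orderOf_coe, orderOf_coe, ← hT]
      exact orderOf_dvd_natCard t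
    obtain ⟨i, hi, e⟩ := (Nat.dvd_prime_pow Nat.prime_two).1 hdvd
    interval_cases i
    · rw [orderOf_coe, orderOf_coe, pow_zero, orderOf_eq_one_iff] at e
      exact absurd e ht
    · simpa using e
    · exact absurd hcomm (no4 _ (by simpa using e))
  have hle : Nat.card {t : T // t ≠ 1} ≤ Nat.card {w : G // orderOf w = 2 ∧ Commute q w} :=
    Nat.card_le_card_of_injective (fun t => ⟨_, hinv t.1 t.2⟩) fun a b e =>
      Subtype.ext (Subtype.ext (Subtype.ext (congrArg Subtype.val e :)))
  have h3 : Nat.card {t : T // t ≠ 1} = 3 := by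
    have := Fintype.ofFinite T
    rw [Nat.card_eq_fintype_card, Fintype.card_subtype_compl, Fintype.card_subtype_eq,
      ← Nat.card_eq_fintype_card, hT]
    norm_num
  omega

theorem cC_eleven {x : G} (hx : orderOf x = 11) : cC x = 11 := by
  have h11 : Fact (Nat.Prime 11) := ⟨by norm_num⟩
  have h5 : Fact (Nat.Prime 5) := ⟨by norm_num⟩
  obtain ⟨hd, r, -, hmul⟩ := cC_dvd_normalizer hx
  rw [sylow11 hcard hnse ((Nat.card_zpowers x).trans hx)] at hmul
  obtain ⟨c, hc⟩ := hd
  rw [hc] at hmul
  have hcr : c * r = 5 := by nlinarith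
  rcases (Nat.dvd_prime (by norm_num : Nat.Prime 5)).1 (Dvd.intro r hcr) with rfl | rfl
  · simpa using hc
  · exfalso
    change Nat.card (centralizer ({x} : Set G)) = 11 * 5 at hc
    obtain ⟨q, hq⟩ := exists_prime_orderOf_dvd_card' (G := centralizer ({x} : Set G)) 5
      (by rw [hc]; norm_num)
    have hqG : orderOf (q : G) = 5 := by rw [orderOf_coe, hq]
    have := cC_five hcard hnse hqG
    have hxq : x ∈ centralizer ({(q : G)} : Set G) :=
      mem_centralizer_singleton_iff.2 (mem_centralizer_singleton_iff.1 q.2).symm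
    have := Subgroup.orderOf_dvd_natCard _ hxq
    rw [hx] at this
    unfold cC at *
    omega

theorem dvd_five_or_eleven {g : G} :
    (5 ∣ orderOf g → orderOf g ∣ 10) ∧ (11 ∣ orderOf g → orderOf g = 11) := by
  have key : ∀ p : ℕ, p ∣ orderOf g → ∃ q : G, orderOf q = p ∧
      g ∈ centralizer ({q} : Set G) := by
    intro p hp
    have hpos := orderOf_pos g
    refine ⟨g ^ (orderOf g / p), ?_, mem_centralizer_singleton_iff.2
      (Commute.self_pow g _).eq⟩
    rw [orderOf_pow' g (Nat.div_pos (Nat.le_of_dvd hpos hp) (Nat.pos_of_dvd_of_pos hp hpos)).ne',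
      Nat.gcd_eq_right (Nat.div_dvd_of_dvd hp), Nat.div_div_self hp hpos.ne']
  constructor
  · intro h
    obtain ⟨q, hq, hg⟩ := key 5 h
    have := Subgroup.orderOf_dvd_natCard _ hg
    rwa [show Nat.card (centralizer ({q} : Set G)) = 10 from cC_five hcard hnse hq] at this
  · intro h
    obtain ⟨q, hq, hg⟩ := key 11 h
    have := Subgroup.orderOf_dvd_natCard _ hg
    rw [show Nat.card (centralizer ({q} : Set G)) = 11 from cC_eleven hcard hnse hq] at this
    exact Nat.dvd_antisymm this h

end Nse

end Cfsg.Agent.M12Uniq
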