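import Cfsg.Agent.M12Uniq.CountsFive
import Cfsg.Agent.M12Nse31.Simple

/-!
# The spectrum and the numbers of elements of each order from the set of these numbers
-/

set_option autoImplicit false

namespace Cfsg.Agent.M12Uniq

open Finset

universe u

variable {G : Type u} [Group G] [Finite G] (hcard : Nat.card G = 95040)
  (hnse : {c : ℕ | 0 < c ∧ ∃ n : ℕ, c = sN G n} = {c | c ∈ nseVals})

omit [Finite G] in
theorem dvd_of_ne {d : ℕ} (hd : d ∣ 95040) (h5 : ¬ 5 ∣ d) (h11 : ¬ 11 ∣ d) : d ∣ 1728 := by
  have c : Nat.Coprime d 55 := Nat.Coprime.mul_right (k := d) (m := 5) (n := 11)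
    ((Nat.Prime.coprime_iff_not_dvd (by norm_num)).2 h5).symm
    ((Nat.Prime.coprime_iff_not_dvd (by norm_num)).2 h11).symm
  exact c.dvd_of_dvd_mul_right (n := 55) (by simpa using hd)

/-- The divisors of `1728` other than `1, 2, 3`. -/
def rest : Finset ℕ :=
  {4, 6, 8, 9, 12, 16, 18, 24, 27, 32, 36, 48, 54, 64, 72, 96, 108, 144, 192, 216, 288, 432, 576,
    864, 1728}

theorem rest_eq : (1728 : ℕ).divisors \ {1, 2, 3} = rest := by decide +kernel

theorem rest_facts : (∀ x ∈ rest, 2 < x) ∧ Disjoint rest {1, 2, 3, 5, 10, 11} := by decide +kernel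

include hcard hnse

/-- An order is `1, 2, 3, 5, 10, 11` or in `rest`. -/
theorem mem_of_pos {d : ℕ} (h : 0 < sN G d) : d ∈ rest ∪ {1, 2, 3, 5, 10, 11} := by
  obtain ⟨g, rfl⟩ := sN_pos.1 h
  obtain ⟨h5, h11⟩ := dvd_five_or_eleven hcard hnse (g := g)
  simp only [mem_union, mem_insert, mem_singleton]
  by_cases a : 5 ∣ orderOf g
  · have := Nat.le_of_dvd (by norm_num) (h5 a)
    have := orderOf_pos g
    omega
  by_cases b : 11 ∣ orderOf g
  · have := h11 b; omega
  have hd : orderOf g ∈ (1728 : ℕ).divisors := Nat.mem_divisors.2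
    ⟨dvd_of_ne (hcard ▸ orderOf_dvd_natCard g) a b, by norm_num⟩
  by_cases c : orderOf g ∈ ({1, 2, 3} : Finset ℕ)
  · simp only [mem_insert, mem_singleton] at c; omega
  · exact Or.inl (rest_eq ▸ mem_sdiff.2 ⟨hd, c⟩)

/-- The orders of `{2, 3}`-elements other than `1, 2, 3` carry 53460 elements. -/
theorem sum_rest : ∑ d ∈ rest, sN G d = 53460 := by
  classical
  have hall : Nat.card {x : G // x ^ 95040 = 1} = 95040 := by
    rw [Nat.card_congr (Equiv.subtypeUnivEquiv fun x : G => hcard ▸ pow_card_eq_one'), hcard]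
  rw [sum_sN (by norm_num)] at hall
  have hsub : ∑ d ∈ rest ∪ {1, 2, 3, 5, 10, 11}, sN G d = 95040 := by
    rw [← hall]
    refine sum_subset (fun d hd => ?_) fun d _ hd' => ?_
    · refine Nat.mem_divisors.2 ⟨?_, by norm_num⟩
      rcases mem_union.1 hd with h | h
      · rw [← rest_eq] at h
        exact (Nat.dvd_of_mem_divisors (mem_sdiff.1 h).1).trans (by norm_num)
      · simp only [mem_insert, mem_singleton] at h
        rcases h with rfl | rfl | rfl | rfl | rfl | rfl <;> norm_num
    · exact Nat.eq_zero_of_not_pos fun hpos => hd' (mem_of_pos hcard hnse hpos)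
  rw [sum_union rest_facts.2] at hsub
  simp only [sum_insert, mem_insert, mem_singleton, sum_singleton, Nat.reduceEqDiff, or_self,
    not_false_eq_true, sN_one, s_two hcard hnse, s_three hcard hnse, s_five hcard hnse,
    s_ten hcard hnse, s_eleven hcard hnse] at hsub
  omega

/-- The counts of the orders of `{2, 3}`-elements other than `1, 2, 3`. -/
theorem rest_values {d : ℕ} (hd : d ∈ rest) :
    sN G d = 0 ∨ sN G d = 5940 ∨ sN G d = 23760 := by
  classical
  set D := rest with hD
  have hbig : ∀ x ∈ D, 2 < x := rest_facts.1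
  have hmaps : ∀ x ∈ D, sN G x ∈ ({0, 4400, 5940, 9504, 17280, 23760} : Finset ℕ) := fun x hx => by
    have := sN_cases hnse x (hbig x hx)
    simpa only [mem_insert, mem_singleton] using this
  set c := fun v => (D.filter fun x => sN G x = v).card with hc
  have hsum : 4400 * c 4400 + (5940 * c 5940 + (9504 * c 9504 + (17280 * c 17280 + 23760 * c 23760)))
      = 53460 := by
    have h := sum_fiberwise_of_maps_to hmaps (sN G)
    rw [sum_rest hcard hnse] at h
    have e : ∀ v, ∑ x ∈ D.filter (fun x => sN G x = v), sN G x = v * c v := fun v => by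
      rw [sum_congr rfl (fun x hx => (mem_filter.1 hx).2), sum_const, smul_eq_mul, mul_comm]
    simp only [sum_insert, mem_insert, mem_singleton, sum_singleton, Nat.reduceEqDiff, or_self,
      not_false_eq_true, e, zero_mul, zero_add] at h
    exact h
  have h23 : 0 < c 23760 := by
    obtain ⟨n, hn⟩ := exists_sN hnse (v := 23760) (by simp [nseVals])
    refine card_pos.2 ⟨n, mem_filter.2 ⟨?_, hn⟩⟩
    have h := mem_of_pos hcard hnse (d := n) (by omega)
    rcases mem_union.1 h with h | h
    · exact h
    · simp only [mem_insert, mem_singleton] at h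
      rcases h with rfl | rfl | rfl | rfl | rfl | rfl <;>
        simp [sN_one, s_two hcard hnse, s_three hcard hnse, s_five hcard hnse, s_ten hcard hnse,
          s_eleven hcard hnse] at hn
  have h0 : c 4400 = 0 ∧ c 9504 = 0 ∧ c 17280 = 0 := by
    have : c 17280 ≤ 1 := by omega
    have : c 9504 ≤ 3 := by omega
    have : c 23760 ≤ 2 := by omega
    interval_cases c 23760 <;> interval_cases c 17280 <;> interval_cases c 9504 <;> omega
  have := hmaps d hd
  simp only [mem_insert, mem_singleton] at this
  have key : ∀ v, c v = 0 → sN G d ≠ v := fun v hv e =>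
    (card_eq_zero.1 hv ▸ notMem_empty d) (mem_filter.2 ⟨hd, e⟩)
  rcases this with h | h | h | h | h | h
  · exact Or.inl h
  · exact absurd h (key _ h0.1)
  · exact Or.inr (Or.inl h)
  · exact absurd h (key _ h0.2.1)
  · exact absurd h (key _ h0.2.2)
  · exact Or.inr (Or.inr h)

set_option maxHeartbeats 1000000 in
/-- The numbers of elements of each order. -/
theorem spec_of_nse : Spec G := by
  classical
  have v := fun d (h : d ∈ rest) => rest_values hcard hnse h
  have t := fun d => totient_dvd_sN (G := G) d
  have cl : ∀ {n m : ℕ}, m ∣ n → 0 < sN G n → 0 < sN G m := fun hm h => sN_pos_of_dvd hm h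
  have hR := sum_rest hcard hnse
  have bound : ∀ S : Finset ℕ, S ⊆ rest →
      ∑ d ∈ S, sN G d ≤ 53460 := fun S hS => hR ▸ sum_le_sum_of_subset hS
  have v4 := v 4 (by decide +kernel)
  have v8 := v 8 (by decide +kernel)
  have v16 := v 16 (by decide +kernel)
  have v32 := v 32 (by decide +kernel)
  have v64 := v 64 (by decide +kernel)
  have t16 := t 16
  have t32 := t 32
  have t64 := t 64
  rw [show Nat.totient 16 = 8 by decide +kernel] at t16
  rw [show Nat.totient 32 = 16 by decide +kernel] at t32
  rw [show Nat.totient 64 = 32 by decide +kernel] at t64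
  have f8 := dvd_sum_sN (G := G) (n := 8) (by norm_num) (by rw [hcard]; norm_num)
  rw [show (8 : ℕ).divisors = {1, 2, 4, 8} by decide +kernel] at f8
  simp only [sum_insert, mem_insert, mem_singleton, sum_singleton, Nat.reduceEqDiff, or_self,
    not_false_eq_true, sN_one, s_two hcard hnse] at f8
  have f64 := dvd_sum_sN (G := G) (n := 64) (by norm_num) (by rw [hcard]; norm_num)
  rw [show (64 : ℕ).divisors = {1, 2, 4, 8, 16, 32, 64} by decide +kernel] at f64
  simp only [sum_insert, mem_insert, mem_singleton, sum_singleton, Nat.reduceEqDiff, or_self,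
    not_false_eq_true, sN_one, s_two hcard hnse] at f64
  have b2 := bound {4, 8, 16, 32, 64} (by decide +kernel)
  simp only [sum_insert, mem_insert, mem_singleton, sum_singleton, Nat.reduceEqDiff, or_self,
    not_false_eq_true] at b2
  have c4 : 0 < sN G 8 → 0 < sN G 4 := cl (by norm_num)
  have c8 : 0 < sN G 16 → 0 < sN G 8 := cl (by norm_num)
  have c16 : 0 < sN G 32 → 0 < sN G 16 := cl (by norm_num)
  have c32 : 0 < sN G 64 → 0 < sN G 32 := cl (by norm_num)
  have two : sN G 16 = 0 ∧ sN G 32 = 0 ∧ sN G 64 = 0 ∧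
      (sN G 4 = 5940 ∧ sN G 8 = 23760 ∨ sN G 4 = 23760 ∧ sN G 8 = 5940) := by
    rcases v4 with a | a | a <;> rcases v8 with b | b | b <;> rcases v16 with c | c | c <;>
      omega
  obtain ⟨e16, e32, e64, h48⟩ := two
  have v6 := v 6 (by decide +kernel)
  have v12 := v 12 (by decide +kernel)
  have v24 := v 24 (by decide +kernel)
  have t24 := t 24
  rw [show Nat.totient 24 = 8 by decide +kernel] at t24
  have e48 : sN G 48 = 0 := Nat.eq_zero_of_not_pos fun h => by
    have := cl (m := 16) (by norm_num) h; omega
  have e96 : sN G 96 = 0 := Nat.eq_zero_of_not_pos fun h => by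
    have := cl (m := 48) (by norm_num) h; omega
  have f96 := dvd_sum_sN (G := G) (n := 96) (by norm_num) (by rw [hcard]; norm_num)
  rw [show (96 : ℕ).divisors = {1, 2, 3, 4, 6, 8, 12, 16, 24, 32, 48, 96} by decide +kernel] at f96
  simp only [sum_insert, mem_insert, mem_singleton, sum_singleton, Nat.reduceEqDiff, or_self,
    not_false_eq_true, sN_one, s_two hcard hnse, s_three hcard hnse, e16, e32, e48, e96] at f96
  have b6 := bound {4, 8, 6, 12, 24} (by decide +kernel)
  simp only [sum_insert, mem_insert, mem_singleton, sum_singleton, Nat.reduceEqDiff, or_self,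
    not_false_eq_true] at b6
  have c6 : 0 < sN G 12 → 0 < sN G 6 := cl (by norm_num)
  have c12 : 0 < sN G 24 → 0 < sN G 12 := cl (by norm_num)
  have h6 : sN G 6 = 23760 := by
    rcases v6 with a | a | a <;> rcases v12 with b | b | b <;> rcases v24 with c | c | c <;>
      omega
  refine ⟨fun g => ?_, s_two hcard hnse, s_three hcard hnse, by omega, by omega,
    s_five hcard hnse, h6, s_ten hcard hnse, s_eleven hcard hnse⟩
  by_contra hg
  simp only [mem_insert, mem_singleton, not_or] at hg
  have hpos : 0 < sN G (orderOf g) := sN_pos.2 ⟨g, rfl⟩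
  rcases mem_union.1 (mem_of_pos hcard hnse hpos) with hD | h
  · have hins : ∑ d ∈ insert (orderOf g) ({4, 6, 8} : Finset ℕ), sN G d ≤ 53460 :=
      bound _ (insert_subset hD (by decide +kernel))
    rw [sum_insert (by simp only [mem_insert, mem_singleton]; omega)] at hins
    simp only [sum_insert, mem_insert, mem_singleton, sum_singleton, Nat.reduceEqDiff, or_self,
      not_false_eq_true] at hins
    omega
  · simp only [mem_insert, mem_singleton] at h
    omega

/-- The immediate consequences of the counts. -/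
theorem pre_of_nse : Pre G :=
  have s := spec_of_nse hcard hnse
  { card := hcard
    simple := (M12Nse31.isM12_of_count hcard (s_eleven hcard hnse)).1
    spec := s.spec
    s2 := s.s2
    s3 := s.s3
    s4 := s.s4
    s48 := s.s48
    s5 := s.s5
    s6 := s.s6
    s10 := s.s10
    s11 := s.s11
    sylow11 := fun _ h => sylow11 hcard hnse h
    five := fun _ h => cC_five hcard hnse h
    five_norm := fun _ h => five_norm hcard hnse h }

end Cfsg.Agent.M12Uniq
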