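import Mathlib
import Cfsg.Agent.M12Uniq.CountsU
import Cfsg.Agent.Lib.Involution.Counting

/-!
# Groups with a central element of order three and self-centralizing four groups
(`PLAN-Counts.md`, part D2)
-/

set_option autoImplicit false
set_option linter.unusedSectionVars false

namespace Cfsg.Agent.M12Uniq.CT

open Subgroup

universe u

variable {H : Type u} [Group H] [Finite H]

/-- All elements of order three of a group whose order is divisible by 3 only once fall into one
or two classes of the same size. -/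
theorem card_three (h9 : ¬ 9 ∣ Nat.card H) {h : H} (hh : orderOf h = 3) :
    ∃ s : ℕ, s * Nat.card (centralizer ({h} : Set H)) = Nat.card H ∧
      (Nat.card {y : H // orderOf y = 3} = s ∨ Nat.card {y : H // orderOf y = 3} = 2 * s) := by
  classical
  have : Fact (Nat.Prime 3) := ⟨by norm_num⟩
  have hfac : (Nat.card H).factorization 3 = 1 :=
    CU.fac_one (by norm_num) (hh ▸ _root_.orderOf_dvd_natCard h) h9
  let P : Sylow 3 H := Sylow.ofCard (zpowers h) (by rw [Nat.card_zpowers, hh, hfac]; rfl)
  -- every element of order three is conjugate to `h` or to its inverse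
  have hall : ∀ y : H, orderOf y = 3 → IsConj h y ∨ IsConj h⁻¹ y := by
    intro y hy
    let Q : Sylow 3 H := Sylow.ofCard (zpowers y) (by rw [Nat.card_zpowers, hy, hfac]; rfl)
    obtain ⟨g, hg⟩ := MulAction.exists_smul_eq H P Q
    have hmem : g * h * g⁻¹ ∈ zpowers y := by
      rw [show zpowers y = ((g • P : Sylow 3 H) : Subgroup H) by
        rw [hg]; exact (Sylow.coe_ofCard _ _).symm]
      exact ⟨h, by rw [show ((P : Subgroup H) : Set H) = zpowers h from rfl]; exact mem_zpowers h,
        rfl⟩
    obtain ⟨k, hk, hky⟩ := Finset.mem_image.mp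
      ((IsOfFinOrder.mem_zpowers_iff_mem_range_orderOf (isOfFinOrder_of_finite y)).mp hmem)
    rw [Finset.mem_range, hy] at hk
    interval_cases k
    · rw [pow_zero] at hky
      have := congrArg orderOf hky
      rw [CU.orderOf_conj, hh, orderOf_one] at this
      omega
    · rw [pow_one] at hky
      exact Or.inl (isConj_iff.mpr ⟨g, hky.symm⟩)
    · refine Or.inr (isConj_iff.mpr ⟨g, ?_⟩)
      have h3 : y ^ 3 = 1 := hy ▸ pow_orderOf_eq_one y
      calc g * h⁻¹ * g⁻¹ = (g * h * g⁻¹)⁻¹ := by group
        _ = (y ^ 2)⁻¹ := by rw [← hky]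
        _ = y := inv_eq_of_mul_eq_one_right (by rw [← pow_succ, h3])
  have hcent : centralizer ({h⁻¹} : Set H) = centralizer ({h} : Set H) := by
    ext g
    rw [CU.mem_cent, CU.mem_cent]
    exact ⟨fun e => by simpa only [inv_inv] using ((Commute.inv_left e : Commute h⁻¹⁻¹ g).eq),
      fun e => (Commute.inv_left e : Commute h⁻¹ g).eq⟩
  set s := Nat.card {y : H // IsConj h y} with hs
  have h1 := Involution.card_isConj_mul_card_centralizer h
  have h2 := Involution.card_isConj_mul_card_centralizer h⁻¹
  rw [hcent] at h2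
  rw [← hs] at h1
  have hs' : Nat.card {y : H // IsConj h⁻¹ y} = s :=
    Nat.eq_of_mul_eq_mul_right Nat.card_pos (h2.trans h1.symm)
  refine ⟨s, h1, ?_⟩
  have hord : ∀ {a y : H}, orderOf a = 3 → IsConj a y → orderOf y = 3 := by
    intro a y ha hay
    obtain ⟨g, rfl⟩ := isConj_iff.mp hay
    rw [CU.orderOf_conj, ha]
  have := Fintype.ofFinite H
  rw [hs] at hs' ⊢
  simp only [Nat.card_eq_fintype_card, Fintype.card_subtype] at hs' ⊢
  have e : (Finset.univ.filter fun y : H => orderOf y = 3) =
      (Finset.univ.filter fun y => IsConj h y) ∪ (Finset.univ.filter fun y => IsConj h⁻¹ y) := by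
    ext y
    simp only [Finset.mem_filter, Finset.mem_univ, true_and, Finset.mem_union]
    exact ⟨hall y, fun hy => hy.elim (hord hh) (hord (by rw [orderOf_inv, hh]))⟩
  rw [e]
  by_cases hreal : IsConj h h⁻¹
  · left
    congr 1
    ext y
    simp only [Finset.mem_filter, Finset.mem_univ, true_and, Finset.mem_union]
    exact ⟨fun hy => hy.elim id hreal.trans, Or.inl⟩
  · right
    rw [Finset.card_union_of_disjoint, hs', two_mul]
    refine Finset.disjoint_filter.mpr fun y _ hy hy' => hreal (hy.trans hy'.symm)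

variable {x : H} (hx : orderOf x = 3) (hc : ∀ g : H, x * g = g * x)
  (hinv : ∀ t : H, orderOf t = 2 → Nat.card (centralizer ({t} : Set H)) = 12)
  (hno4 : ∀ g : H, orderOf g ≠ 4)

include hno4 in
theorem sq_one_of_card_four (V : Sylow 2 H) (hV : Nat.card (V : Subgroup H) = 4) :
    ∀ a ∈ (V : Subgroup H), a * a = 1 := by
  intro a ha
  have h4 : orderOf a ∣ 2 ^ 2 := by
    rw [show 2 ^ 2 = 4 by norm_num, ← hV]
    exact Subgroup.orderOf_dvd_natCard _ ha
  obtain ⟨k, hk, hk'⟩ := (Nat.dvd_prime_pow Nat.prime_two).mp h4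
  rw [← pow_two]
  refine orderOf_dvd_iff_pow_eq_one.mp ?_
  interval_cases k <;> norm_num at hk' <;> first | exact absurd hk' (hno4 a) | norm_num [hk']

include hx hinv in
/-- No four group of involutions normalizes a subgroup of order `9` or `27` through `x`. -/
theorem no_normal_three {P : Subgroup H} [P.Normal] {i : ℕ} (hi : 2 ≤ i)
    (hP : Nat.card P = 3 ^ i) (hxP : x ∈ P) (hcx : ∀ g : H, x * g = g * x)
    {v w : H} (hv : orderOf v = 2) (hw : orderOf w = 2) (hvw : orderOf (v * w) = 2) : False := by
  classical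
  have : Fact (Nat.Prime 3) := ⟨by norm_num⟩
  set x' : P := ⟨x, hxP⟩ with hx'
  have hx'o : orderOf x' = 3 := by rw [← Subgroup.orderOf_coe]; exact hx
  set X := zpowers x' with hX
  have hXn : X.Normal := ⟨fun a ha g => by
    obtain ⟨k, rfl⟩ := Subgroup.mem_zpowers_iff.mp ha
    have hcg : Commute g x' := Subtype.ext (hcx (g : H)).symm
    rw [(hcg.zpow_right k).eq, mul_inv_cancel_right]
    exact zpow_mem (mem_zpowers x') k⟩
  have key : ∀ t : H, orderOf t = 2 → ∃ f : (P ⧸ X) →* (P ⧸ X),
      (∀ r : P, f r = ((⟨t * r * t⁻¹, ‹P.Normal›.conj_mem r r.2 t⟩ : P) : P ⧸ X)) ∧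
        ∀ q : P ⧸ X, f q = q⁻¹ := by
    intro t ht
    let c : P →* P :=
      { toFun := fun r => ⟨t * r * t⁻¹, ‹P.Normal›.conj_mem r r.2 t⟩
        map_one' := Subtype.ext (by simp)
        map_mul' := fun a b => Subtype.ext (by push_cast; group) }
    have hcx' : c x' = x' := Subtype.ext (by
      show t * x * t⁻¹ = x
      rw [← hcx t, mul_inv_cancel_right])
    have hle : X ≤ X.comap c := by
      rw [hX, zpowers_le, Subgroup.mem_comap, hcx']
      exact mem_zpowers x'
    let f := QuotientGroup.map X X c hle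
    have hf : ∀ r : P, f r = (c r : P ⧸ X) := fun r => rfl
    have htt : t * t = 1 := by
      have := pow_orderOf_eq_one t
      rwa [ht, pow_two] at this
    have hfpf : MonoidHom.FixedPointFree f := by
      intro q hq
      induction q using QuotientGroup.induction_on with
      | _ r =>
        rw [hf, QuotientGroup.eq] at hq
        obtain ⟨k, hk⟩ := Subgroup.mem_zpowers_iff.mp hq
        have e : (x ^ k : H) = t * (r : H)⁻¹ * t⁻¹ * r := by
          have := congrArg Subtype.val hk
          push_cast at this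
          rw [this]
          show (t * (r : H) * t⁻¹)⁻¹ * r = _
          group
        have hxk : t * x ^ k * t⁻¹ = x ^ k := by
          rw [← ((show Commute x t from hcx t).zpow_left k).eq, mul_inv_cancel_right]
        have e2 : x ^ k * x ^ k = 1 := by
          have h1 : t * (x ^ k) * t⁻¹ = (r : H)⁻¹ * (t * r * t⁻¹) := by
            rw [e, inv_eq_of_mul_eq_one_right htt]
            calc t * (t * (r : H)⁻¹ * t * r) * t = (t * t) * (r : H)⁻¹ * (t * r * t) := by group
              _ = _ := by rw [htt, one_mul]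
          rw [hxk] at h1
          calc x ^ k * x ^ k = x ^ k * (t * (r : H)⁻¹ * t⁻¹ * r) := by rw [← e]
            _ = (r : H)⁻¹ * (t * r * t⁻¹) * (t * (r : H)⁻¹ * t⁻¹ * r) := by rw [← h1]
            _ = 1 := by group
        have hk3 : x ^ k = 1 := by
          have h3 : (x ^ k) ^ 3 = 1 := by
            rw [← zpow_natCast, ← zpow_mul, mul_comm, zpow_mul, zpow_natCast, ← hx,
              pow_orderOf_eq_one, one_zpow]
          calc x ^ k = (x ^ k) ^ 3 * (x ^ k * x ^ k)⁻¹ := by group
            _ = 1 := by rw [h3, e2, one_mul, inv_one]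
        have hcomm : t * r = r * t := by
          rw [hk3] at e
          calc t * (r : H) = t * r * 1 := (mul_one _).symm
            _ = t * r * (t * (r : H)⁻¹ * t⁻¹ * r) := by rw [← e]
            _ = t * r * t * (r : H)⁻¹ * t⁻¹ * r := by group
            _ = t * r * t⁻¹ * (r : H)⁻¹ * t⁻¹ * r := by rw [inv_eq_of_mul_eq_one_right htt]
            _ = t * (r * t⁻¹) * ((r : H)⁻¹ * t⁻¹ * r) := by group
            _ = r * t := by
              have e' : (r : H)⁻¹ * t⁻¹ * r = t⁻¹ := by
                have : (t * (r : H)⁻¹ * t⁻¹ * r) = 1 := e.symm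
                calc (r : H)⁻¹ * t⁻¹ * r = t⁻¹ * (t * (r : H)⁻¹ * t⁻¹ * r) := by group
                  _ = t⁻¹ := by rw [this, mul_one]
              rw [e']
              have : (r : H) * t⁻¹ * (r : H)⁻¹ = t⁻¹ := by
                calc (r : H) * t⁻¹ * (r : H)⁻¹ = r * ((r : H)⁻¹ * t⁻¹ * r) * (r : H)⁻¹ := by rw [e']
                  _ = _ := by group
              calc t * ((r : H) * t⁻¹) * t⁻¹ = t * ((r : H) * t⁻¹ * (r : H)⁻¹) * r * t⁻¹ := by group
                _ = r * t⁻¹ := by rw [this]; group
                _ = r * t := by rw [inv_eq_of_mul_eq_one_right htt]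
        -- `r` has order dividing three and lies in `X`
        set C := centralizer ({t} : Set H) with hC
        have hr3 : Nat.card ↥(P ⊓ C) ∣ 3 := by
          have h1 : Nat.card ↥(P ⊓ C) ∣ 3 ^ i := hP ▸ card_dvd_of_le inf_le_left
          have h2 : Nat.card ↥(P ⊓ C) ∣ 12 := hinv t ht ▸ card_dvd_of_le inf_le_right
          obtain ⟨j, -, hj⟩ := (Nat.dvd_prime_pow (by norm_num)).mp h1
          rw [hj] at h2 ⊢
          rcases Nat.lt_or_ge j 2 with h | h
          · exact dvd_trans (pow_dvd_pow 3 (show j ≤ 1 by omega)) (by norm_num)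
          · have : (9 : ℕ) ∣ 12 := (dvd_trans (pow_dvd_pow 3 h) h2)
            norm_num at this
        have heq : zpowers x = P ⊓ C := by
          refine Subgroup.eq_of_le_of_card_ge (le_inf (zpowers_le.mpr hxP)
            (zpowers_le.mpr (CU.mem_cent.mpr (hcx t).symm))) ?_
          rw [Nat.card_zpowers, hx]
          exact Nat.le_of_dvd (by norm_num) hr3
        have hrm : (r : H) ∈ zpowers x := heq ▸ ⟨r.2, CU.mem_cent.mpr hcomm⟩
        obtain ⟨m, hm⟩ := Subgroup.mem_zpowers_iff.mp hrm
        exact (QuotientGroup.eq_one_iff r).mpr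
          (Subgroup.mem_zpowers_iff.mpr ⟨m, Subtype.ext (by push_cast; exact hm)⟩)
    have hinvol : Function.Involutive f := by
      intro q
      induction q using QuotientGroup.induction_on with
      | _ r =>
        rw [hf, hf]
        congr 1
        refine Subtype.ext ?_
        show t * (t * (r : H) * t⁻¹) * t⁻¹ = r
        calc t * (t * (r : H) * t⁻¹) * t⁻¹ = (t * t) * r * (t * t)⁻¹ := by group
          _ = r := by rw [htt]; group
    exact ⟨f, hf, fun q => congrFun (hfpf.coe_eq_inv_of_involutive hinvol) q⟩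
  obtain ⟨f, hf, hf'⟩ := key v hv
  obtain ⟨g, hg, hg'⟩ := key w hw
  obtain ⟨k, hk, hk'⟩ := key (v * w) hvw
  have hone : ∀ q : P ⧸ X, q * q = 1 := by
    intro q
    induction q using QuotientGroup.induction_on with
    | _ r =>
      have e : k (r : P ⧸ X) = f (g r) := by
        rw [hg, hf, hk]
        congr 1
        exact Subtype.ext (by push_cast; group)
      rw [hk', hf', hg', inv_inv] at e
      conv_lhs => arg 1; rw [← e]
      exact inv_mul_cancel _
  have hcardX : Nat.card (P ⧸ X) * 3 = 3 ^ i := by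
    rw [← hP, card_eq_card_quotient_mul_card_subgroup X, hX, Nat.card_zpowers, hx'o]
  have h3 : 3 ∣ Nat.card (P ⧸ X) := by
    obtain ⟨j, rfl⟩ : ∃ j, i = j + 2 := ⟨i - 2, by omega⟩
    exact ⟨3 ^ j, Nat.eq_of_mul_eq_mul_right (show 0 < 3 by norm_num)
      (hcardX.trans (by ring))⟩
  obtain ⟨q, hq⟩ := exists_prime_orderOf_dvd_card' (G := P ⧸ X) 3 h3
  have := orderOf_dvd_of_pow_eq_one (show q ^ 2 = 1 by rw [pow_two]; exact hone q)
  rw [hq] at this
  norm_num at this

include hx hc hinv hno4 in
/-- The structure of the group. -/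
theorem four_sylow {i : ℕ} (hi : i = 2 ∨ i = 3) (hcard : Nat.card H = 4 * 3 ^ i) :
    i = 2 ∧ ∀ s t : H, orderOf s = 2 → orderOf t = 2 → IsConj s t := by
  classical
  have : Fact (Nat.Prime 2) := ⟨Nat.prime_two⟩
  have hpow : Nat.card H = 36 ∨ Nat.card H = 108 := by rcases hi with rfl | rfl <;> simp [hcard]
  let V : Sylow 2 H := default
  have hfac : (Nat.card H).factorization 2 = 2 := by
    refine le_antisymm ?_ ?_
    · by_contra hlt
      have h8 : 2 ^ 3 ∣ Nat.card H :=
        (Nat.prime_two.pow_dvd_iff_le_factorization Nat.card_pos.ne').mpr (by omega)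
      rcases hpow with e | e <;> rw [e] at h8 <;> norm_num at h8
    · refine (Nat.prime_two.pow_dvd_iff_le_factorization Nat.card_pos.ne').mp ?_
      rw [hcard]; exact Dvd.intro _ rfl
  have hSc : ∀ S : Sylow 2 H, Nat.card (S : Subgroup H) = 4 := fun S => by
    rw [S.card_eq_multiplicity, hfac]; rfl
  have hsq := sq_one_of_card_four hno4 V (hSc V)
  have hcomm : ∀ S : Sylow 2 H, ∀ a ∈ (S : Subgroup H), ∀ b ∈ (S : Subgroup H), a * b = b * a := by
    intro S a ha b hb
    have hs := sq_one_of_card_four hno4 S (hSc S)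
    calc a * b = a⁻¹ * b⁻¹ := by
          rw [inv_eq_of_mul_eq_one_right (hs a ha), inv_eq_of_mul_eq_one_right (hs b hb)]
      _ = (b * a)⁻¹ := (mul_inv_rev b a).symm
      _ = b * a := inv_eq_of_mul_eq_one_right (hs _ (mul_mem hb ha))
  have hord : ∀ {a : H}, a ∈ (V : Subgroup H) → a ≠ 1 → orderOf a = 2 := fun ha hne =>
    orderOf_eq_prime (by rw [pow_two]; exact hsq _ ha) hne
  -- two further elements of `V`
  obtain ⟨v, w, hv, hw, hv1, hw1, hne⟩ : ∃ v w : H, v ∈ (V : Subgroup H) ∧ w ∈ (V : Subgroup H) ∧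
      v ≠ 1 ∧ w ≠ 1 ∧ v ≠ w := by
    have := Fintype.ofFinite H
    have h3 : 2 < ((Finset.univ.filter fun a => a ∈ (V : Subgroup H))).card := by
      rw [← Fintype.card_subtype, ← Nat.card_eq_fintype_card]
      exact lt_of_lt_of_eq (by norm_num : 2 < 4) (hSc V).symm
    have h2 : 1 < ((Finset.univ.filter fun a => a ∈ (V : Subgroup H)).erase 1).card := by
      rw [Finset.card_erase_of_mem (by simp [one_mem])]
      omega
    obtain ⟨v, hv, w, hw, hne⟩ := Finset.one_lt_card.mp h2
    simp only [Finset.mem_erase, Finset.mem_filter, Finset.mem_univ, true_and] at hv hw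
    exact ⟨v, w, hv.2, hw.2, hv.1, hw.1, hne⟩
  have hvw1 : v * w ≠ 1 := fun e => hne <| by
    rw [← inv_eq_of_mul_eq_one_right e, inv_eq_of_mul_eq_one_right (hsq v hv)]
  have hVmem : ∀ a ∈ (V : Subgroup H), a = 1 ∨ a = v ∨ a = w ∨ a = v * w := by
    intro a ha
    by_contra hcon
    simp only [not_or] at hcon
    have := Fintype.ofFinite H
    have h1 : ({1, v, w, v * w, a} : Finset H) ⊆
        Finset.univ.filter fun a => a ∈ (V : Subgroup H) := by
      intro b hb
      simp only [Finset.mem_insert, Finset.mem_singleton] at hb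
      simp only [Finset.mem_filter, Finset.mem_univ, true_and]
      rcases hb with rfl | rfl | rfl | rfl | rfl <;>
        first | exact one_mem _ | assumption | exact mul_mem hv hw
    have h2 := Finset.card_le_card h1
    rw [← Fintype.card_subtype, ← Nat.card_eq_fintype_card] at h2
    have h5 : ({1, v, w, v * w, a} : Finset H).card = 5 := by
      rw [Finset.card_insert_of_notMem, Finset.card_insert_of_notMem, Finset.card_insert_of_notMem,
        Finset.card_insert_of_notMem, Finset.card_singleton] <;>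
        simp [hne, hv1, hw1, Ne.symm hv1, Ne.symm hw1, hvw1, Ne.symm hvw1, Ne.symm hcon.1,
          Ne.symm hcon.2.1, Ne.symm hcon.2.2.1, Ne.symm hcon.2.2.2]
    have := hSc V
    omega
  -- centralizers of the involutions of `V`
  set K := centralizer ((V : Subgroup H) : Set H) with hK
  have hxK : x ∈ K := Subgroup.mem_centralizer_iff.mpr fun a _ => (hc a).symm
  have hVK : (V : Subgroup H) ≤ K := fun a ha =>
    Subgroup.mem_centralizer_iff.mpr fun b hb => hcomm V b hb a ha
  have hK12 : ∀ {a : H}, a ∈ (V : Subgroup H) → a ≠ 1 → centralizer ({a} : Set H) = K := by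
    intro a ha hne'
    have hle : K ≤ centralizer ({a} : Set H) :=
      centralizer_le (Set.singleton_subset_iff.mpr ha)
    refine (Subgroup.eq_of_le_of_card_ge hle ?_).symm
    rw [hinv a (hord ha hne')]
    refine Nat.le_of_dvd Nat.card_pos ?_
    refine Nat.Coprime.mul_dvd_of_dvd_of_dvd (show Nat.Coprime 4 3 by norm_num) ?_ ?_
    · exact hSc V ▸ card_dvd_of_le hVK
    · exact hx ▸ Subgroup.orderOf_dvd_natCard _ hxK
  have hKv : Nat.card K = 12 := hK12 hv hv1 ▸ hinv v (hord hv hv1)
  have hdisj : ∀ {T : Sylow 2 H} {a : H}, a ∈ (V : Subgroup H) → a ≠ 1 →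
      a ∈ (T : Subgroup H) → T = V := by
    intro T a ha hne' haT
    have hle : (T : Subgroup H) ≤ K := fun b hb => hK12 ha hne' ▸ CU.mem_cent.mpr (hcomm T a haT b hb)
    let TV : Sylow 2 K := V.subtype hVK
    have hn : ((TV : Subgroup K)).Normal := ⟨fun b hb g => by
      have hb' : (b : H) ∈ (V : Subgroup H) := hb
      have e : g * b * g⁻¹ = b := Subtype.ext (by
        push_cast
        rw [← Subgroup.mem_centralizer_iff.mp g.2 b hb', mul_inv_cancel_right])
      rw [e]; exact hb⟩
    have hsub : Subsingleton (Sylow 2 K) := @Unique.instSubsingleton _ (TV.unique_of_normal hn)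
    refine Sylow.ext (le_antisymm (fun b hb => ?_) ?_)
    · have : (⟨b, hle hb⟩ : K) ∈ ((T.subtype hle : Sylow 2 K) : Subgroup K) := hb
      rw [Subsingleton.elim (T.subtype hle) TV] at this
      exact this
    · intro b hb
      have : (⟨b, hVK hb⟩ : K) ∈ (TV : Subgroup K) := hb
      rw [← Subsingleton.elim (T.subtype hle) TV] at this
      exact this
  by_cases hburn : normalizer ((V : Subgroup H) : Set H) ≤ K
  · exfalso
    set P := (MonoidHom.transferSylow V hburn).ker with hP
    have hcpl := MonoidHom.ker_transferSylow_isComplement' V hburn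
    have hPc : Nat.card P = 3 ^ i := by
      have := hcpl.card_mul
      rw [hSc V, hcard] at this
      change Nat.card P * 4 = 4 * 3 ^ i at this
      omega
    have hxP : x ∈ P := by
      have h1 : orderOf (MonoidHom.transferSylow V hburn x) ∣ 4 := by
        rw [← hSc V]; exact _root_.orderOf_dvd_natCard _
      have h2 : orderOf (MonoidHom.transferSylow V hburn x) ∣ 3 := hx ▸ orderOf_map_dvd _ x
      rw [hP, MonoidHom.mem_ker, ← orderOf_eq_one_iff]
      exact Nat.dvd_one.mp (by simpa using Nat.dvd_gcd h1 h2)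
    exact no_normal_three (x := x) hx hinv (P := P) (i := i) (by omega) hPc hxP hc
      (hord hv hv1) (hord hw hw1) (hord (mul_mem hv hw) hvw1)
  obtain ⟨g, hg, hgK⟩ := SetLike.not_le_iff_exists.mp hburn
  have hgV : ∀ a ∈ (V : Subgroup H), g * a * g⁻¹ ∈ (V : Subgroup H) := fun a ha =>
    CU.mem_norm_conj hg ha
  have hfix : ∀ {a : H}, a ∈ (V : Subgroup H) → a ≠ 1 → g * a * g⁻¹ ≠ a := fun ha hne' e =>
    hgK (hK12 ha hne' ▸ CU.mem_cent.mpr (mul_inv_eq_iff_eq_mul.mp e).symm)
  have hne0 : ∀ {a : H}, a ≠ 1 → g * a * g⁻¹ ≠ 1 := fun h e => h (conj_eq_one_iff.mp e)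
  have cv : IsConj v (g * v * g⁻¹) := isConj_iff.mpr ⟨g, rfl⟩
  have cw : IsConj w (g * w * g⁻¹) := isConj_iff.mpr ⟨g, rfl⟩
  have hconj3 : IsConj v w ∧ IsConj v (v * w) := by
    rcases hVmem _ (hgV v hv) with e | e | e | e
    · exact absurd e (hne0 hv1)
    · exact absurd e (hfix hv hv1)
    · rw [e] at cv
      rcases hVmem _ (hgV w hw) with e' | e' | e' | e'
      · exact absurd e' (hne0 hw1)
      · exfalso
        refine hfix (mul_mem hv hw) hvw1 ?_
        rw [show g * (v * w) * g⁻¹ = (g * v * g⁻¹) * (g * w * g⁻¹) by group, e, e']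
        exact hcomm V w hw v hv
      · exact absurd e' (hfix hw hw1)
      · rw [e'] at cw
        exact ⟨cv, cv.trans cw⟩
    · rw [e] at cv
      rcases hVmem _ (hgV w hw) with e' | e' | e' | e'
      · exact absurd e' (hne0 hw1)
      · rw [e'] at cw
        exact ⟨cw.symm, cv⟩
      · exact absurd e' (hfix hw hw1)
      · exfalso
        exact hne (mul_left_cancel (a := g) (mul_right_cancel (e.trans e'.symm)))
  have hall : ∀ s : H, orderOf s = 2 → IsConj v s := by
    intro s hs
    obtain ⟨T, hT⟩ := (IsPGroup.of_card (p := 2) (n := 1)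
      (by rw [Nat.card_zpowers, hs, pow_one] : Nat.card (zpowers s) = 2 ^ 1)).exists_le_sylow
    obtain ⟨k, hk⟩ := MulAction.exists_smul_eq H V T
    have hsT : s ∈ (((k • V : Sylow 2 H)) : Subgroup H) := hk ▸ hT (mem_zpowers s)
    obtain ⟨a, ha, rfl⟩ := hsT
    refine IsConj.trans ?_ (isConj_iff.mpr ⟨k, rfl⟩ : IsConj a _)
    rcases hVmem a ha with rfl | rfl | rfl | rfl
    · simp at hs
    · exact IsConj.refl _
    · exact hconj3.1
    · exact hconj3.2
  refine ⟨?_, fun s t hs ht => (hall s hs).symm.trans (hall t ht)⟩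
  rcases hi with rfl | rfl
  · rfl
  exfalso
  -- the class of `v` has nine elements, so `V` is not normal and has three conjugates
  have hcls : Nat.card {y : H // IsConj v y} = 9 := by
    have := Involution.card_isConj_mul_card_centralizer v
    rw [hinv v (hord hv hv1), hcard] at this
    omega
  have hnn : ¬ (V : Subgroup H).Normal := by
    intro hn
    let f : {y : H // IsConj v y} → (V : Subgroup H) := fun y => ⟨y.1, by
      obtain ⟨k, hk⟩ := isConj_iff.mp y.2
      exact hk ▸ hn.conj_mem v hv k⟩
    have := Nat.card_le_card_of_injective f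
      (fun a b e => Subtype.ext (congrArg Subtype.val e :))
    rw [hcls, hSc V] at this
    omega
  have hn2 : Nat.card (Sylow 2 H) = 3 := by
    have h1 : Nat.card (Sylow 2 H) ≠ 1 := by
      intro h1
      have : Subsingleton (Sylow 2 H) := (Nat.card_eq_one_iff_unique.mp h1).1
      exact hnn V.normal_of_subsingleton
    have hlt : 12 < Nat.card (normalizer ((V : Subgroup H) : Set H)) := by
      rw [← hKv]
      refine lt_of_le_of_ne (card_le_of_le (centralizer_le_normalizer _)) fun e => hburn ?_
      exact (Subgroup.eq_of_le_of_card_ge (centralizer_le_normalizer ((V : Subgroup H) : Set H)) e.ge).ge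
    have h27 : Nat.card (Sylow 2 H) ∣ 27 := by
      have h := Sylow.card_dvd_index V
      have h2 := (V : Subgroup H).card_mul_index
      rw [hSc V, hcard] at h2
      rwa [show (V : Subgroup H).index = 27 by norm_num at h2; omega] at h
    have h2 := (normalizer ((V : Subgroup H) : Set H)).card_mul_index
    rw [show (normalizer ((V : Subgroup H) : Set H)).index = Nat.card (Sylow 2 H) from
      (Sylow.card_eq_index_normalizer V).symm, hcard] at h2
    rcases (Nat.dvd_prime_pow (by norm_num : (3 : ℕ).Prime) (i := Nat.card (Sylow 2 H)) (m := 3)).mp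
      (by norm_num; exact h27) with ⟨j, hj, hj'⟩
    interval_cases j <;> norm_num at hj' <;> rw [hj'] at h1 h2 ⊢ <;> omega
  have := Fintype.ofFinite (Sylow 2 H)
  rw [Nat.card_eq_fintype_card] at hn2
  obtain ⟨T, hTV⟩ : ∃ T : Sylow 2 H, T ≠ V := Fintype.exists_ne_of_one_lt_card (by omega) V
  have hstab : ∀ a ∈ (V : Subgroup H), a • V = V := fun a ha =>
    Sylow.smul_eq_iff_mem_normalizer.mpr (Subgroup.le_normalizer ha)
  have hfree : ∀ a ∈ (V : Subgroup H), a ≠ 1 → a • T ≠ T := by
    intro a ha hne' e
    refine hTV (hdisj ha hne' ?_)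
    have hz : IsPGroup 2 (zpowers a) :=
      IsPGroup.of_card (n := 1) (by rw [Nat.card_zpowers, hord ha hne', pow_one])
    have := (hz.inf_normalizer_sylow T).le
      ⟨mem_zpowers a, Sylow.smul_eq_iff_mem_normalizer.mp e⟩
    exact (Subgroup.mem_inf.mp this).2
  have hmoved : ∀ a ∈ (V : Subgroup H), a • T ≠ V := fun a ha e => hTV <|
    MulAction.injective a (e.trans (hstab a ha).symm)
  have hsame : v • T = w • T := by
    by_contra hne'
    have h4 : ({V, T, v • T, w • T} : Finset (Sylow 2 H)).card = 4 := by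
      rw [Finset.card_insert_of_notMem, Finset.card_insert_of_notMem, Finset.card_insert_of_notMem,
        Finset.card_singleton] <;>
        simp [hne', hTV.symm, (hmoved v hv).symm, (hmoved w hw).symm, (hfree v hv hv1).symm,
          (hfree w hw hw1).symm]
    have := Finset.card_le_univ ({V, T, v • T, w • T} : Finset (Sylow 2 H))
    omega
  refine hfree (v * w) (mul_mem hv hw) hvw1 ?_
  rw [mul_smul, ← hsame, ← mul_smul, hsq v hv, one_smul]

end Cfsg.Agent.M12Uniq.CT
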