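import Cfsg.Agent.M12Uniq.CountsValuesTables

/-!
# The elements of M₁₂ with prescribed images of two points
-/

set_option autoImplicit false

namespace Cfsg.Agent.M12Uniq.CountsValues

open Cfsg Cfsg.Agent.Golay Cfsg.Agent.M22Nse38 Finset

theorem exists_row12 {T : List (List ℕ)} {i : ℕ} (hT : slpRows i = T) {q : ℕ} (hq : q < T.length) :
    ∃ g ∈ Spor.M12, Tab g (T.getD q []) := by
  subst hT
  have hg := gens_ok.1
  simp only [Bool.and_eq_true, List.all_eq_true] at hg
  simp only [slpRows] at hq ⊢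
  rw [List.getD_eq_getElem _ _ hq, List.getElem_map]
  refine evalSLP_mem Spor.M12 prog12 _ (fun l hl => ?_) _
  rcases List.mem_append.1 hl with hl | hl
  · exact exists_M12 (hg.1 l hl)
  · rw [List.mem_singleton] at hl
    exact ⟨1, one_mem _, hl ▸ tab_one⟩

/-- A level of the chain: a permutation for each row. -/
structure Level (T : List (List ℕ)) (i : ℕ) where
  h : ℕ → Equiv.Perm GolayPt
  mem : ∀ q < T.length, h q ∈ fix12 i
  tab : ∀ q < T.length, Tab (h q) (T.getD q [])
  inj : ∀ q < T.length, ∀ q' < T.length, h q (pt i) = h q' (pt i) → q = q'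
  surj : ∀ g ∈ fix12 i, ∃ q < T.length, h q (pt i) = g (pt i)

/-- The level from its checks. -/
noncomputable def mkLevel {T : List (List ℕ)} {i : ℕ} (hi : i < 5) (hT : slpRows i = T)
    (hok : chkLevel T i = true) : Level T i := by
  classical
  have hex := fun q (hq : q < T.length) => exists_row12 hT hq
  choose g hg ht using hex
  simp only [chkLevel, Bool.and_eq_true, decide_eq_true_eq, List.all_eq_true, List.mem_range,
    beq_iff_eq] at hok
  have hnd : (dList.drop i).Nodup := dList_facts.2.1.sublist (List.drop_sublist _ _)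
  have key : ∀ q (hq : q < T.length),
      idx (g q hq (pt i)) = (T.map fun l => l.getD i 0)[q]'(by simpa using hq) := by
    intro q hq
    rw [List.getElem_map, ht q hq i (by omega), List.getD_eq_getElem _ _ hq]
  refine ⟨fun q => if hq : q < T.length then g q hq else 1, fun q hq => ?_, fun q hq => ?_,
    fun q hq q' hq' e => ?_, fun x hx => ?_⟩
  · rw [dif_pos hq]
    refine mem_fix12.2 ⟨hg q hq, fun j hj => (ht q hq).apply_pt (by omega) ?_⟩
    rw [List.getD_eq_getElem _ _ hq]
    exact hok.2 _ (List.getElem_mem hq) j hj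
  · rw [dif_pos hq]; exact ht q hq
  · have e1 := congrArg idx e
    rw [dif_pos hq, dif_pos hq', key q hq, key q' hq'] at e1
    exact ((hok.1 ▸ hnd).getElem_inj_iff).1 e1
  · have h1 := orbit12_subset hi hx
    rw [← hok.1, List.mem_iff_getElem] at h1
    obtain ⟨q, hq, e⟩ := h1
    have hq' : q < T.length := by simpa using hq
    refine ⟨q, hq', idx_injective ?_⟩
    rw [dif_pos hq', key q hq', e]

theorem Level.fix {T : List (List ℕ)} {i : ℕ} (L : Level T i) {q : ℕ} (hq : q < T.length) {j : ℕ}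
    (hj : j < i) : L.h q (pt j) = pt j := (mem_fix12.1 (L.mem q hq)).2 j hj

theorem Level.step {T : List (List ℕ)} {i : ℕ} (L : Level T i) (k : Equiv.Perm GolayPt)
    (hk : k ∈ fix12 i) : ∃ q < T.length, (L.h q)⁻¹ * k ∈ fix12 (i + 1) := by
  obtain ⟨q, hq, e⟩ := L.surj k hk
  obtain ⟨k12, kfix⟩ := mem_fix12.1 hk
  refine ⟨q, hq, mem_fix12.2 ⟨mul_mem (inv_mem (mem_fix12.1 (L.mem q hq)).1) k12, fun j hj => ?_⟩⟩
  rw [Equiv.Perm.mul_apply, Equiv.Perm.coe_inv, Equiv.symm_apply_eq]
  rcases Nat.lt_succ_iff_lt_or_eq.1 hj with hj | rfl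
  · rw [kfix j hj, L.fix hq hj]
  · exact e.symm

noncomputable def level2 : Level t2Tab 2 := mkLevel (by norm_num) rows_eq.1 chkLevels.1

noncomputable def level3 : Level t3Tab 3 := mkLevel (by norm_num) rows_eq.2.1 chkLevels.2.1

noncomputable def level4 : Level CountsValues.t4Tab 4 :=
  mkLevel (by norm_num) rows_eq.2.2 chkLevels.2.2

theorem rows_len :
    t2Tab.length = 10 ∧ t3Tab.length = 9 ∧ CountsValues.t4Tab.length = 8 := by decide

/-- The elements of an order. -/
noncomputable def El12 (n : ℕ) : Finset (Equiv.Perm GolayPt) := by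
  classical
  exact univ.filter fun g => g ∈ Spor.M12 ∧ orderOf g = n

theorem mem_El12 {n : ℕ} {g : Equiv.Perm GolayPt} :
    g ∈ El12 n ↔ g ∈ Spor.M12 ∧ orderOf g = n := by
  simp [El12]

theorem countP_fin (L : List ℕ) (n : ℕ) :
    ((univ : Finset (Fin L.length)).filter fun q => L[q.1] = n).card = L.countP (Nat.beq n) := by
  induction L with
  | nil => simp
  | cons x L ih =>
    rw [List.countP_cons, ← ih, card_filter, card_filter]
    rw [show (∑ i : Fin (x :: L).length, if (x :: L)[i.1] = n then 1 else 0) =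
      (∑ i : Fin (L.length + 1), if (x :: L)[i.1] = n then 1 else 0) from rfl,
      Fin.sum_univ_succ, add_comm]
    congr 1
    by_cases h : x = n
    · simp [h]
    · have : Nat.beq n x = false := by
        rw [Bool.eq_false_iff]
        exact fun e => h (Nat.eq_of_beq_eq_true e).symm
      simp [h, this]

/-- The elements with prescribed images of two base points. -/
theorem card_pair {s a b : ℕ} (hs : s < 4) (hpre : chkPre s a b = true) (hord : chkOrd s = true)
    (n : ℕ) :
    ((El12 n).filter fun g => g (pt 0) = pt a ∧ g (pt 1) = pt b).card = cntOf s n := by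
  classical
  simp only [chkPre, Bool.and_eq_true, beq_iff_eq] at hpre
  obtain ⟨⟨hok, ha⟩, hb'⟩ := hpre
  obtain ⟨u, uM, tu⟩ := exists_M12 hok
  have hu0 : u (pt 0) = pt a := tu.apply_pt (by norm_num) ha
  have hu1 : u (pt 1) = pt b := tu.apply_pt (by norm_num) hb'
  have hlen : (ordsOf s).length = 720 := by
    have := valOf_ok.2
    rw [List.all_eq_true] at this
    have := this s (List.mem_range.2 hs)
    simp only [Bool.and_eq_true, beq_iff_eq] at this
    exact this.1
  obtain ⟨l2, l3, l4⟩ := rows_len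
  let φ : Fin (ordsOf s).length → Equiv.Perm GolayPt := fun q =>
    u * (level2.h (q.1 / 72) * (level3.h (q.1 / 8 % 9) * level4.h (q.1 % 8)))
  have hb : ∀ q : Fin (ordsOf s).length, q.1 / 72 < t2Tab.length ∧ q.1 / 8 % 9 < t3Tab.length ∧
      q.1 % 8 < CountsValues.t4Tab.length := fun q => by
    have := q.2
    omega
  have hφM : ∀ q, φ q ∈ Spor.M12 := fun q => mul_mem uM (mul_mem
    (mem_fix12.1 (level2.mem _ (hb q).1)).1 (mul_mem (mem_fix12.1 (level3.mem _ (hb q).2.1)).1
      (mem_fix12.1 (level4.mem _ (hb q).2.2)).1))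
  have hφ2 : ∀ q, φ q (pt 0) = pt a ∧ φ q (pt 1) = pt b := fun q => by
    simp only [φ, Equiv.Perm.mul_apply]
    rw [level4.fix (hb q).2.2 (by norm_num : 0 < 4), level3.fix (hb q).2.1 (by norm_num : 0 < 3),
      level2.fix (hb q).1 (by norm_num : 0 < 2), hu0,
      level4.fix (hb q).2.2 (by norm_num : 1 < 4), level3.fix (hb q).2.1 (by norm_num : 1 < 3),
      level2.fix (hb q).1 (by norm_num : 1 < 2), hu1]
    exact ⟨rfl, rfl⟩
  have hφord : ∀ q : Fin (ordsOf s).length, orderOf (φ q) = (ordsOf s)[q.1] := by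
    intro q
    obtain ⟨b2, b3, b4⟩ := hb q
    simp only [chkOrd, List.all_eq_true, List.mem_range, Bool.and_eq_true, Bool.not_eq_true'] at hord
    have hq := q.2
    obtain ⟨e, e0⟩ := hord (q.1 / 8) (by omega) (q.1 % 8) (by omega)
    have e' := Nat.eq_of_beq_eq_true e
    rw [show 8 * (q.1 / 8) + q.1 % 8 = q.1 by omega, List.getD_eq_getElem _ _ q.2] at e' e0
    rw [← e']
    refine orderOf_eq_ordN (fun m hm => ?_) ?_
    · obtain ⟨hpk, h4⟩ := chkPacks
      simp only [chkPack, chkLast, List.all_eq_true, List.mem_range] at hpk h4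
      have t4 := level4.tab _ b4
      have r4 := Nat.eq_of_beq_eq_true (h4 (q.1 % 8) (by omega) m hm)
      have hm4 : (CountsValues.t4Tab.getD (q.1 % 8) []).getD m 0 < 24 := t4.lt hm
      have r := Nat.eq_of_beq_eq_true
        (hpk s hs (q.1 / 72) (by omega) (q.1 / 8 % 9) (by omega) _ hm4)
      rw [prodFn, r4, show q.1 / 8 = 9 * (q.1 / 72) + q.1 / 8 % 9 by omega, r]
      simp only [φ, Equiv.Perm.mul_apply]
      rw [tu.apply, idx_pt (tu.lt (idx_lt _)), (level2.tab _ b2).apply,
        idx_pt ((level2.tab _ b2).lt (idx_lt _)), (level3.tab _ b3).apply,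
        idx_pt ((level3.tab _ b3).lt (idx_lt _)), t4 m hm]
    · intro z
      rw [e'] at z
      rw [z] at e0
      simp at e0
  rw [cntOf, ← countP_fin]
  symm
  refine card_bij (fun q _ => φ q) (fun q hq => ?_) (fun q _ q' _ e => ?_) (fun g hg => ?_)
  · rw [mem_filter, mem_El12]
    exact ⟨⟨hφM q, (hφord q).trans (mem_filter.1 hq).2⟩, hφ2 q⟩
  · obtain ⟨b2, b3, b4⟩ := hb q
    obtain ⟨b2', b3', b4'⟩ := hb q'
    have e1 := mul_left_cancel e
    have i2 : q.1 / 72 = q'.1 / 72 := level2.inj _ b2 _ b2' (by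
      have := congrArg (fun g : Equiv.Perm GolayPt => g (pt 2)) e1
      simp only [Equiv.Perm.mul_apply] at this
      rwa [level4.fix b4 (by norm_num : 2 < 4), level4.fix b4' (by norm_num : 2 < 4),
        level3.fix b3 (by norm_num : 2 < 3), level3.fix b3' (by norm_num : 2 < 3)] at this)
    rw [i2] at e1
    have e2 := mul_left_cancel e1
    have i3 : q.1 / 8 % 9 = q'.1 / 8 % 9 := level3.inj _ b3 _ b3' (by
      have := congrArg (fun g : Equiv.Perm GolayPt => g (pt 3)) e2
      simp only [Equiv.Perm.mul_apply] at this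
      rwa [level4.fix b4 (by norm_num : 3 < 4), level4.fix b4' (by norm_num : 3 < 4)] at this)
    rw [i3] at e2
    have i4 : q.1 % 8 = q'.1 % 8 := level4.inj _ b4 _ b4' (by rw [mul_left_cancel e2])
    apply Fin.ext
    omega
  · simp only [mem_filter, mem_El12] at hg
    obtain ⟨⟨gM, gn⟩, g0, g1⟩ := hg
    have k2 : u⁻¹ * g ∈ fix12 2 := by
      refine mem_fix12.2 ⟨mul_mem (inv_mem uM) gM, fun j hj => ?_⟩
      rw [Equiv.Perm.mul_apply, Equiv.Perm.coe_inv, Equiv.symm_apply_eq]
      interval_cases j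
      · rw [g0, hu0]
      · rw [g1, hu1]
    obtain ⟨i, hi, k3⟩ := level2.step _ k2
    obtain ⟨j, hj, k4⟩ := level3.step _ k3
    obtain ⟨k, hk, k5⟩ := level4.step _ k4
    rw [fix12_five, Subgroup.mem_bot, inv_mul_eq_one] at k5
    have hg' : g = u * (level2.h i * (level3.h j * level4.h k)) := by rw [k5]; group
    rw [l2] at hi
    rw [l3] at hj
    rw [l4] at hk
    refine ⟨⟨72 * i + 8 * j + k, by omega⟩, ?_, ?_⟩
    all_goals
      have ei : (72 * i + 8 * j + k) / 72 = i := by omega
      have ej : (72 * i + 8 * j + k) / 8 % 9 = j := by omega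
      have ek : (72 * i + 8 * j + k) % 8 = k := by omega
      have hφg : φ ⟨72 * i + 8 * j + k, by omega⟩ = g := by
        simp only [φ, ei, ej, ek]; exact hg'.symm
    · refine mem_filter.2 ⟨mem_univ _, ?_⟩
      rw [← hφord, hφg, gn]
    · exact hφg

end Cfsg.Agent.M12Uniq.CountsValues
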