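import Cfsg.Agent.M22Nse38.Per
import Cfsg.Agent.M12Uniq.CountsValuesData
import Cfsg.Agent.Lib.Golay.M12

/-!
# Kernel checks of the tables for M₁₂
-/

set_option autoImplicit false
set_option maxRecDepth 100000

namespace Cfsg.Agent.M12Uniq.CountsValues

open Cfsg Cfsg.Agent.Golay Cfsg.Agent.M22Nse38

/-- The packed products of a prefix. -/
def packOf : ℕ → List ℕ
  | 0 => CountsValues.aPack0
  | 1 => CountsValues.aPack1
  | 2 => CountsValues.aPack2
  | _ => CountsValues.aPack3

/-- The orders of a prefix. -/
def ordsOf : ℕ → List ℕ
  | 0 => CountsValues.ord0List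
  | 1 => CountsValues.ord1List
  | 2 => CountsValues.ord2List
  | _ => CountsValues.ord3List

/-- The table of a product as a function. -/
def prodFn (s a c m : ℕ) : ℕ := look ((packOf s).getD a 0) (look (lastPack.getD c 0) m)

/-- The orders of all products with a prefix. -/
def chkOrd (s : ℕ) : Bool :=
  (List.range 90).all fun a => (List.range 8).all fun c =>
    Nat.beq (ordN (prodFn s a c)) ((ordsOf s).getD (8 * a + c) 0) &&
      !Nat.beq ((ordsOf s).getD (8 * a + c) 0) 0

/-- The packed products are the products. -/
def chkPack (s : ℕ) : Bool :=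
  (List.range 10).all fun i => (List.range 9).all fun j => (List.range 24).all fun m =>
    Nat.beq (look ((packOf s).getD (9 * i + j) 0) m)
      ((CountsValues.preTab.getD s []).getD
        ((t2Tab.getD i []).getD ((t3Tab.getD j []).getD m 0) 0) 0)

/-- The packed last transversal. -/
def chkLast : Bool :=
  (List.range 8).all fun c => (List.range 24).all fun m =>
    Nat.beq (look (lastPack.getD c 0) m) ((CountsValues.t4Tab.getD c []).getD m 0)

theorem chkOrd0 : chkOrd 0 = true := by decide +kernel
theorem chkOrd1 : chkOrd 1 = true := by decide +kernel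
theorem chkOrd2 : chkOrd 2 = true := by decide +kernel
theorem chkOrd3 : chkOrd 3 = true := by decide +kernel

theorem chkPacks : (List.range 4).all chkPack = true ∧ chkLast = true := by decide +kernel

/-- The rows of the straight-line program at a level. -/
def slpRows (i : ℕ) : List (List ℕ) :=
  (reps12.getD i []).map fun xk => (evalSLP (gens12 ++ [idTab]) prog12).getD xk.2 idTab

/-- The transversals are the ones of the straight-line program. -/
theorem rows_eq : slpRows 2 = t2Tab ∧ slpRows 3 = t3Tab ∧ slpRows 4 = CountsValues.t4Tab := by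
  decide +kernel

/-- Fixed base points and images. -/
def chkLevel (T : List (List ℕ)) (i : ℕ) : Bool :=
  decide (T.map (fun l => l.getD i 0) = dList.drop i) &&
    T.all fun l => (List.range i).all fun j => l.getD j 0 == j

theorem chkLevels : chkLevel t2Tab 2 = true ∧ chkLevel t3Tab 3 = true ∧
    chkLevel CountsValues.t4Tab 4 = true := by
  decide +kernel

/-- The prefixes: in `M₁₂`, with prescribed images of the first two base points. -/
def chkPre (s a b : ℕ) : Bool :=
  ok12 (CountsValues.preTab.getD s []) && ((CountsValues.preTab.getD s []).getD 0 0 == a) &&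
    ((CountsValues.preTab.getD s []).getD 1 0 == b)

theorem chkPres :
    chkPre 0 0 1 = true ∧ chkPre 1 0 2 = true ∧ chkPre 2 1 0 = true ∧ chkPre 3 1 2 = true := by
  decide +kernel

/-- The number of products of a given order. -/
def cntOf (s n : ℕ) : ℕ := (ordsOf s).countP (Nat.beq n)

/-- The number of elements of a given order of `M₁₂`. -/
def valOf (n : ℕ) : ℕ := cntOf 0 n + 10 * cntOf 1 n + 11 * (cntOf 2 n + 10 * cntOf 3 n)

theorem valOf_ok : [1, 2, 3, 4, 5, 6, 8, 10, 11].map valOf =
    [1, 891, 4400, 5940, 9504, 23760, 23760, 9504, 17280] ∧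
    (List.range 4).all (fun s => (ordsOf s).length == 720 &&
      (ordsOf s).all fun o => [1, 2, 3, 4, 5, 6, 8, 10, 11].contains o) = true := by
  decide +kernel

end Cfsg.Agent.M12Uniq.CountsValues
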