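import Cfsg.Agent.M12Uniq.CountsDefs
import Cfsg.Agent.M12Uniq.LocalBasic
import Cfsg.Agent.Lib.SmallGroups.Action

/-!
# Involutions with large centralizer: basic tools (see `PLAN-Counts.md`, §C)
-/

set_option autoImplicit false

open Subgroup

namespace Cfsg.Agent.M12Uniq.Z3

universe u

variable {G : Type u} [Group G] [Finite G]

theorem sq_one_of_comm_three (hp : Pre G) {x g : G} (hx : orderOf x = 3) (hc : g * x = x * g)
    (hg : Nat.Coprime (orderOf g) 3) : g * g = 1 := by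
  have h := hp.spec (g * x)
  rw [Commute.orderOf_mul_eq_mul_orderOf_of_coprime hc (by rw [hx]; exact hg), hx] at h
  simp only [Finset.mem_insert, Finset.mem_singleton] at h
  have h1 : orderOf g ∣ 2 := by
    have : orderOf g = 1 ∨ orderOf g = 2 := by omega
    rcases this with h1 | h1 <;> rw [h1]
    norm_num
  rw [← pow_two]
  exact orderOf_dvd_iff_pow_eq_one.mp h1

theorem cube_one (hp : Pre G) {g : G} (h : g ^ 27 = 1) : g ^ 3 = 1 := by
  have h1 : orderOf g ∣ 27 := orderOf_dvd_of_pow_eq_one h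
  have h2 := hp.spec g
  simp only [Finset.mem_insert, Finset.mem_singleton] at h2
  refine orderOf_dvd_iff_pow_eq_one.mp ?_
  rcases h2 with h2 | h2 | h2 | h2 | h2 | h2 | h2 | h2 | h2 <;> rw [h2] at h1 <;> rw [h2] <;>
    omega

theorem coprime_three_of_pow {g : G} {k : ℕ} (h : g ^ (2 ^ k) = 1) :
    Nat.Coprime (orderOf g) 3 :=
  Nat.Coprime.coprime_dvd_left (orderOf_dvd_of_pow_eq_one h)
    (Nat.Coprime.pow_left _ (by norm_num))

theorem pow_of_two_group {K : Subgroup G} (hK : IsPGroup 2 K) {g : G} (hg : g ∈ K) :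
    ∃ k : ℕ, g ^ (2 ^ k) = 1 := by
  obtain ⟨k, hk⟩ := hK ⟨g, hg⟩
  exact ⟨k, congrArg Subtype.val hk⟩

theorem sq_one_of_two_group (hp : Pre G) {K : Subgroup G} (hK : IsPGroup 2 K) {x g : G}
    (hg : g ∈ K) (hx : orderOf x = 3) (hc : g * x = x * g) : g * g = 1 := by
  obtain ⟨k, hk⟩ := pow_of_two_group hK hg
  exact sq_one_of_comm_three hp hx hc (coprime_three_of_pow hk)

theorem exponent_two {K : Subgroup G} (hK : ∀ a ∈ K, a * a = 1) :
    IsPGroup 2 K ∧ ∀ a ∈ K, ∀ b ∈ K, a * b = b * a := by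
  refine ⟨fun a => ⟨1, Subtype.ext ?_⟩, fun a ha b hb => ?_⟩
  · rw [pow_one, pow_two]; exact hK a a.2
  · have h1 : ∀ c ∈ K, c⁻¹ = c := fun c hc => inv_eq_of_mul_eq_one_right (hK c hc)
    calc a * b = (a * b)⁻¹ := (h1 _ (mul_mem ha hb)).symm
      _ = b * a := by rw [mul_inv_rev, h1 a ha, h1 b hb]

theorem pow_card_one {G : Type u} [Group G] {P : Subgroup G} {n : ℕ}
    (hP : Nat.card P = n) {g : G} (hg : g ∈ P) : g ^ n = 1 :=
  orderOf_dvd_iff_pow_eq_one.mp (hP ▸ Subgroup.orderOf_dvd_natCard P hg)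

theorem card_le_cent_dvd (hp : Pre G) {x : G} (hx : orderOf x = 3) {K : Subgroup G}
    (hK : K ≤ centralizer ({x} : Set G)) : Nat.card K ∣ 1728 := by
  have h : Nat.card K ∣ 1728 * 55 := by
    have := card_subgroup_dvd_card K
    rwa [hp.card] at this
  refine Nat.Coprime.dvd_of_dvd_mul_right ?_ h
  have key : ∀ p : ℕ, p.Prime → p ≠ 2 → p ≠ 3 → ¬ p ∣ Nat.card K := by
    intro p hpp h2 h3 hd
    have := Fact.mk hpp
    obtain ⟨g, hg⟩ := exists_prime_orderOf_dvd_card' p hd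
    have hgo : orderOf (g : G) = p := by rw [Subgroup.orderOf_coe]; exact hg
    have hs := sq_one_of_comm_three hp hx (Loc.mem_centralizer_singleton.mp (hK g.2)).symm
      (by rw [hgo]; exact (Nat.coprime_primes hpp Nat.prime_three).mpr h3)
    rw [← pow_two] at hs
    have := orderOf_dvd_of_pow_eq_one hs
    rw [hgo] at this
    exact h2 ((Nat.prime_dvd_prime_iff_eq hpp Nat.prime_two).mp this)
  rw [show (55 : ℕ) = 5 * 11 by norm_num]
  refine Nat.Coprime.mul_right ?_ ?_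
  · exact ((Nat.Prime.coprime_iff_not_dvd (by norm_num)).mpr
      (key 5 (by norm_num) (by norm_num) (by norm_num))).symm
  · exact ((Nat.Prime.coprime_iff_not_dvd (by norm_num)).mpr
      (key 11 (by norm_num) (by norm_num) (by norm_num))).symm

theorem card_eq (hp : Pre G) : Nat.card G = 2 ^ 6 * 1485 := by rw [hp.card]; norm_num

theorem card_sylow (hp : Pre G) (S : Sylow 2 G) : Nat.card (S : Subgroup G) = 64 :=
  SmallGroups.card_sylow_eq (card_eq hp) (by norm_num) S

theorem card_two_dvd {M : Subgroup G} (hM : IsPGroup 2 M) {u : G} (hu : cC u = 240)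
    (hMu : M ≤ centralizer ({u} : Set G)) : Nat.card M ∣ 16 := by
  obtain ⟨k, hk⟩ := IsPGroup.iff_card.mp hM
  have h : 2 ^ k ∣ 240 := hk ▸ hu ▸ (card_dvd_of_le hMu)
  rw [hk]
  have : k ≤ 4 := by
    by_contra hcon
    have h5 : (2 : ℕ) ^ 5 ∣ 240 := (pow_dvd_pow 2 (by omega)).trans h
    norm_num at h5
  exact (pow_dvd_pow 2 this).trans (by norm_num)

/-- An involution with centralizer of order 240 in `S` whose centralizer in `S` is as large as
possible. -/
structure UT (S : Subgroup G) (u : G) : Prop where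
  mem : u ∈ S
  ord : orderOf u = 2
  c240 : cC u = 240
  card : Nat.card ↥(S ⊓ centralizer ({u} : Set G)) = 16

theorem mem_map_conj {H : Subgroup G} {g x : G} :
    x ∈ H.map (MulAut.conj g).toMonoidHom ↔ ∃ h ∈ H, g * h * g⁻¹ = x := by
  simp [Subgroup.mem_map]

theorem card_map_conj (H : Subgroup G) (g : G) :
    Nat.card ↥(H.map (MulAut.conj g).toMonoidHom) = Nat.card H :=
  (Nat.card_congr (H.equivMapOfInjective _ (MulAut.conj g).injective).toEquiv).symm

theorem UT.conj_le {S S' : Subgroup G} (hS' : IsPGroup 2 S') {u : G} (h : UT S u) (g : G)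
    (hg : ∀ s ∈ S, g * s * g⁻¹ ∈ S') : UT S' (g * u * g⁻¹) := by
  refine ⟨hg u h.mem, (Loc.orderOf_conj g u).trans h.ord, (Loc.cC_conj g u).trans h.c240, ?_⟩
  refine Nat.dvd_antisymm (card_two_dvd (hS'.to_le inf_le_left) ((Loc.cC_conj g u).trans h.c240)
    inf_le_right) ?_
  conv_lhs => rw [← h.card, ← card_map_conj (S ⊓ centralizer ({u} : Set G)) g]
  refine card_dvd_of_le fun x hx => ?_
  obtain ⟨s, hs, rfl⟩ := mem_map_conj.mp hx
  exact ⟨hg s hs.1, Loc.mem_centralizer_of_fix ((Loc.fix_of_mem_centralizer hs.2).map g)⟩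

theorem exists_u (hp : Pre G) (hf : UFacts G) (S : Sylow 2 G) :
    ∃ u : G, UT (S : Subgroup G) u := by
  have : Fact (Nat.Prime 2) := ⟨Nat.prime_two⟩
  obtain ⟨⟨q, hq⟩⟩ : Nonempty {g : G // orderOf g = 5} :=
    (Nat.card_pos_iff.mp (by have := hp.s5; rw [sN] at this; omega)).1
  obtain ⟨⟨u, huc⟩, hu⟩ := exists_prime_orderOf_dvd_card'
    (G := ↥(centralizer ({q} : Set G))) 2 (by
      have h := hp.five q hq; rw [cC] at h; rw [h]; norm_num)
  rw [Subgroup.orderOf_mk] at hu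
  have h240 : cC u = 240 := hf.cC_u q u hq hu (Loc.mem_centralizer_singleton.mp huc)
  have huC : u ∈ centralizer ({u} : Set G) := Loc.mem_centralizer_singleton.mpr rfl
  set u' : ↥(centralizer ({u} : Set G)) := ⟨u, huC⟩ with hu'
  obtain ⟨T, hT⟩ := (IsPGroup.of_card (n := 1) (G := ↥(zpowers u')) (p := 2) (by
    rw [Nat.card_zpowers, pow_one, hu', Subgroup.orderOf_mk]; exact hu)).exists_le_sylow
  have hTc : Nat.card (T : Subgroup ↥(centralizer ({u} : Set G))) = 16 :=
    SmallGroups.card_sylow_eq (m := 15) (a := 4) (by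
      show cC u = _; rw [h240]; norm_num) (by norm_num) T
  obtain ⟨S0, hS0⟩ := (T.2.map (centralizer ({u} : Set G)).subtype).exists_le_sylow
  have hUT0 : UT (S0 : Subgroup G) u := by
    refine ⟨hS0 ⟨u', hT (mem_zpowers u'), rfl⟩, hu, h240, ?_⟩
    refine Nat.dvd_antisymm (card_two_dvd (S0.2.to_le inf_le_left) h240 inf_le_right) ?_
    rw [← hTc, Nat.card_congr ((T : Subgroup ↥(centralizer ({u} : Set G))).equivMapOfInjective
      _ (Subgroup.subtype_injective _)).toEquiv]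
    exact card_dvd_of_le (le_inf hS0 (map_subtype_le _))
  obtain ⟨g, rfl⟩ := MulAction.exists_smul_eq G S0 S
  refine ⟨g * u * g⁻¹, hUT0.conj_le (g • S0).2 g fun s hs => ?_⟩
  rw [Sylow.coe_subgroup_smul]
  exact ⟨s, hs, rfl⟩

theorem UT.exists_four (hf : UFacts G) {S : Subgroup G} (hS : IsPGroup 2 S) {u : G}
    (h : UT S u) : ∃ g ∈ S, orderOf g = 4 ∧ u * g = g * u := by
  have : Fact (Nat.Prime 2) := ⟨Nat.prime_two⟩
  obtain ⟨g0, hg0, hc0⟩ := hf.four u h.ord h.c240
  set C := centralizer ({u} : Set G) with hC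
  have hg0C : g0 ∈ C := Loc.mem_centralizer_singleton.mpr hc0
  have hTle : S ⊓ C ≤ C := inf_le_right
  have hcard : Nat.card ↥((S ⊓ C).subgroupOf C) = 16 := by
    rw [Nat.card_congr (Subgroup.subgroupOfEquivOfLe hTle).toEquiv]; exact h.card
  obtain ⟨P, hP⟩ := (IsPGroup.of_card (n := 2) (p := 2)
    (G := ↥(zpowers (⟨g0, hg0C⟩ : ↥C))) (by
      rw [Nat.card_zpowers, Subgroup.orderOf_mk, hg0]; norm_num)).exists_le_sylow
  have hPc : Nat.card (P : Subgroup ↥C) = 16 :=
    SmallGroups.card_sylow_eq (m := 15) (a := 4) (by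
      show cC u = _; rw [h.c240]; norm_num) (by norm_num) P
  let T : Sylow 2 ↥C := Sylow.ofCard ((S ⊓ C).subgroupOf C) (by
    rw [hcard, ← hPc]; exact P.card_eq_multiplicity)
  obtain ⟨c, hc⟩ := MulAction.exists_smul_eq ↥C P T
  have hmem : c * ⟨g0, hg0C⟩ * c⁻¹ ∈ (T : Subgroup ↥C) := by
    rw [← hc, Sylow.coe_subgroup_smul]
    exact ⟨⟨g0, hg0C⟩, hP (mem_zpowers _), rfl⟩
  have h2 : (c : G) * g0 * (c : G)⁻¹ ∈ S ⊓ C := hmem
  exact ⟨(c : G) * g0 * (c : G)⁻¹, h2.1, (Loc.orderOf_conj _ _).trans hg0,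
    Loc.mem_centralizer_singleton.mp h2.2⟩

/-- No elementary abelian subgroup of order 16 centralizes an involution of type 240. -/
theorem card_elem_cent_le (hf : UFacts G) {K : Subgroup G} (hK : ∀ a ∈ K, a * a = 1) {u : G}
    (hu : orderOf u = 2) (h240 : cC u = 240) (hKu : K ≤ centralizer ({u} : Set G)) :
    Nat.card K ∣ 8 := by
  have : Fact (Nat.Prime 2) := ⟨Nat.prime_two⟩
  have hKp := (exponent_two hK).1
  have h16 := card_two_dvd hKp h240 hKu
  obtain ⟨k, hk⟩ := IsPGroup.iff_card.mp hKp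
  rw [hk] at h16 ⊢
  have hk4 : k ≤ 4 := by
    by_contra hc
    have h5 : (2 : ℕ) ^ 5 ∣ 16 := (pow_dvd_pow 2 (by omega)).trans h16
    norm_num at h5
  rcases Nat.lt_or_ge k 4 with hlt | hge
  · exact (pow_dvd_pow 2 (by omega : k ≤ 3)).trans (by norm_num)
  exfalso
  obtain rfl : k = 4 := le_antisymm hk4 hge
  obtain ⟨g, hg4, hgu⟩ := hf.four u hu h240
  set C := centralizer ({u} : Set G) with hC
  have hgC : g ∈ C := Loc.mem_centralizer_singleton.mpr hgu
  obtain ⟨P, hP⟩ := (IsPGroup.of_card (n := 2) (p := 2)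
    (G := ↥(zpowers (⟨g, hgC⟩ : ↥C))) (by
      rw [Nat.card_zpowers, Subgroup.orderOf_mk, hg4]; norm_num)).exists_le_sylow
  have hPc : Nat.card (P : Subgroup ↥C) = 16 :=
    SmallGroups.card_sylow_eq (m := 15) (a := 4) (by
      show cC u = _; rw [h240]; norm_num) (by norm_num) P
  let T : Sylow 2 ↥C := Sylow.ofCard (K.subgroupOf C) (by
    rw [Nat.card_congr (Subgroup.subgroupOfEquivOfLe hKu).toEquiv, hk,
      ← P.card_eq_multiplicity, hPc]; norm_num)
  obtain ⟨c, hc⟩ := MulAction.exists_smul_eq ↥C P T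
  have hmem : c * ⟨g, hgC⟩ * c⁻¹ ∈ (T : Subgroup ↥C) := by
    rw [← hc, Sylow.coe_subgroup_smul]
    exact ⟨⟨g, hgC⟩, hP (mem_zpowers _), rfl⟩
  have h2 : (c : G) * g * (c : G)⁻¹ ∈ K := hmem
  have h4 := orderOf_dvd_of_pow_eq_one
    (show ((c : G) * g * (c : G)⁻¹) ^ 2 = 1 by rw [pow_two]; exact hK _ h2)
  rw [Loc.orderOf_conj, hg4] at h4
  norm_num at h4

/-- An elementary abelian 2-subgroup has order at most 16. -/
theorem card_elem_le (hp : Pre G) (hf : UFacts G) {E : Subgroup G} (hE : ∀ a ∈ E, a * a = 1) :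
    Nat.card E ∣ 16 := by
  have : Fact (Nat.Prime 2) := ⟨Nat.prime_two⟩
  have hEp := (exponent_two hE).1
  obtain ⟨S, hS⟩ := hEp.exists_le_sylow
  obtain ⟨u, hu⟩ := exists_u hp hf S
  obtain ⟨k, hk⟩ := IsPGroup.iff_card.mp hEp
  rw [hk]
  by_contra hcon
  have h5 : 5 ≤ k := by
    by_contra h
    exact hcon ((pow_dvd_pow 2 (by omega : k ≤ 4)).trans (by norm_num))
  have hEc : (32 : ℕ) ≤ Nat.card E := by
    rw [hk]; calc (32 : ℕ) = 2 ^ 5 := by norm_num
      _ ≤ 2 ^ k := Nat.pow_le_pow_right (by norm_num) h5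
  have hu1 : u * u = 1 := Loc.sq_of_orderOf hu.ord
  by_cases huE : u ∈ E
  · have h16 := card_two_dvd hEp hu.c240 fun e he =>
      Loc.mem_centralizer_singleton.mpr ((exponent_two hE).2 u huE e he)
    have := Nat.le_of_dvd (by norm_num) h16
    omega
  · obtain ⟨g, hgS, hg4, hgu⟩ := hu.exists_four hf S.2
    set M := (S : Subgroup G) ⊓ centralizer ({u} : Set G) with hM
    have huM : u ∈ M := ⟨hu.mem, Loc.mem_centralizer_singleton.mpr rfl⟩
    have hgM : g ∈ M := ⟨hgS, Loc.mem_centralizer_singleton.mpr hgu⟩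
    have hidx : (E.subgroupOf M).index ≤ 2 := by
      have hEsub : Nat.card ↥(E.subgroupOf (S : Subgroup G)) = Nat.card E :=
        Nat.card_congr (Subgroup.subgroupOfEquivOfLe hS).toEquiv
      have h1 : E.relIndex (S : Subgroup G) ≤ 2 := by
        have h2 : Nat.card ↥(E.subgroupOf (S : Subgroup G)) *
            (E.subgroupOf (S : Subgroup G)).index = 64 := by
          rw [card_mul_index]; exact card_sylow hp S
        rw [hEsub] at h2
        have h3 : E.relIndex (S : Subgroup G) = (E.subgroupOf (S : Subgroup G)).index := rfl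
        rw [h3]
        nlinarith
      have h0 : E.relIndex (S : Subgroup G) ≠ 0 := FiniteIndex.index_ne_zero
      exact le_trans (Subgroup.relIndex_le_of_le_right (inf_le_left) h0) h1
    have hne : (E.subgroupOf M).index ≠ 1 := fun h1 => huE (by
      have := index_eq_one.mp h1
      exact (this ▸ mem_top (⟨u, huM⟩ : M) : (⟨u, huM⟩ : M) ∈ E.subgroupOf M))
    have h2 : (E.subgroupOf M).index = 2 := by
      have : (E.subgroupOf M).index ≠ 0 := FiniteIndex.index_ne_zero
      omega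
    have hsq : g * g = 1 := by
      by_cases hgE : g ∈ E
      · exact hE g hgE
      · have hgu' : (⟨g, hgM⟩ * ⟨u, huM⟩ : M) ∈ E.subgroupOf M :=
          (mul_mem_iff_of_index_two h2).mpr (iff_of_false hgE huE)
        have h := hE (g * u) hgu'
        calc g * g = g * g * (u * u) := by rw [hu1, mul_one]
          _ = g * u * (g * u) := by
            rw [show g * u * (g * u) = g * (u * g) * u by group, hgu]; group
          _ = 1 := h
    have h4 := orderOf_dvd_of_pow_eq_one (show g ^ 2 = 1 by rw [pow_two]; exact hsq)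
    rw [hg4] at h4
    norm_num at h4

/-- A 3-group normalized by a Sylow 2-subgroup has order 1 modulo 4. -/
theorem four_dvd_card_sub_one (hp : Pre G) (hf : UFacts G) (S : Sylow 2 G) {Z : Subgroup G}
    (hZ : ∀ z ∈ Z, z ^ 3 = 1) (hn : ∀ s ∈ (S : Subgroup G), ∀ z ∈ Z, s * z * s⁻¹ ∈ Z) :
    4 ∣ Nat.card Z - 1 := by
  classical
  let α := {z : G // z ∈ Z ∧ z ≠ 1}
  let _ : MulAction ↥(S : Subgroup G) α :=
    { smul := fun s z => ⟨(s : G) * z.1 * (s : G)⁻¹, hn s s.2 z.1 z.2.1, fun h => z.2.2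
        (conj_eq_one_iff.mp h)⟩
      one_smul := fun z => Subtype.ext (by
        show ((1 : (S : Subgroup G)) : G) * z.1 * ((1 : (S : Subgroup G)) : G)⁻¹ = z.1
        simp)
      mul_smul := fun a b z => Subtype.ext (by
        show ((a * b : (S : Subgroup G)) : G) * z.1 * ((a * b : (S : Subgroup G)) : G)⁻¹ =
          (a : G) * ((b : G) * z.1 * (b : G)⁻¹) * (a : G)⁻¹
        push_cast; group) }
  have hcard : Nat.card Z - 1 = Nat.card α := by
    have e : α ≃ {z : Z // z ≠ 1} :=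
      { toFun := fun z => ⟨⟨z.1, z.2.1⟩, fun h => z.2.2 (congrArg Subtype.val h)⟩
        invFun := fun z => ⟨z.1.1, z.1.2, fun h => z.2 (Subtype.ext h)⟩
        left_inv := fun _ => rfl
        right_inv := fun _ => rfl }
    have := Fintype.ofFinite Z
    rw [Nat.card_congr e, Nat.card_eq_fintype_card, Nat.card_eq_fintype_card,
      Fintype.card_subtype_compl, Fintype.card_subtype_eq]
  have := Fintype.ofFinite (MulAction.orbitRel.Quotient ↥(S : Subgroup G) α)
  rw [hcard, Nat.card_congr (MulAction.selfEquivSigmaOrbits ↥(S : Subgroup G) α), Nat.card_sigma]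
  refine Finset.dvd_sum fun ω _ => ?_
  set z := Quotient.out ω
  have hst : Nat.card ↥(MulAction.stabilizer ↥(S : Subgroup G) z) ∣ 16 := by
    set K := (MulAction.stabilizer ↥(S : Subgroup G) z).map (S : Subgroup G).subtype with hK
    have hKc : Nat.card K = Nat.card ↥(MulAction.stabilizer ↥(S : Subgroup G) z) :=
      (Nat.card_congr (equivMapOfInjective _ _ (subtype_injective _)).toEquiv).symm
    rw [← hKc]
    refine card_elem_le hp hf fun a ha => ?_
    obtain ⟨s, hs, rfl⟩ := ha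
    have hs' : (s : G) * z.1 * (s : G)⁻¹ = z.1 := congrArg Subtype.val hs
    exact sq_one_of_two_group hp S.2 s.2 (Loc.orderOf_three (hZ z.1 z.2.1) z.2.2)
      (mul_inv_eq_iff_eq_mul.mp hs')
  have h := (MulAction.stabilizer ↥(S : Subgroup G) z).card_mul_index
  rw [MulAction.index_stabilizer, card_sylow hp S, ← Nat.card_coe_set_eq] at h
  obtain ⟨k, hk⟩ := hst
  refine ⟨k, ?_⟩
  have hpos := Nat.card_pos (α := ↥(MulAction.stabilizer ↥(S : Subgroup G) z))
  apply Nat.eq_of_mul_eq_mul_left hpos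
  rw [h]
  calc (64 : ℕ) = 4 * 16 := by norm_num
    _ = _ := by rw [hk]; ring

theorem mem_normalizer_of_conj {H : Subgroup G} {g : G} (h : ∀ x ∈ H, g * x * g⁻¹ ∈ H) :
    g ∈ normalizer (H : Set G) := by
  have hle : H.map (MulAut.conj g).toMonoidHom ≤ H := fun x hx => by
    obtain ⟨y, hy, rfl⟩ := mem_map_conj.mp hx
    exact h y hy
  have heq := Loc.eq_of_le_card hle (card_map_conj H g).ge
  rw [mem_normalizer_iff]
  refine fun x => ⟨h x, fun hx => ?_⟩
  rw [← heq] at hx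
  obtain ⟨y, hy, e⟩ := mem_map_conj.mp hx
  rwa [← mul_left_cancel (mul_right_cancel e)]

theorem exists_mul_of_card {A B K : Subgroup G} (hA : A ≤ K) (hB : B ≤ K)
    (hco : Nat.Coprime (Nat.card A) (Nat.card B)) (hc : Nat.card K = Nat.card A * Nat.card B)
    {k : G} (hk : k ∈ K) : ∃ a ∈ A, ∃ b ∈ B, k = a * b := by
  let f : A × B → K := fun x => ⟨x.1 * x.2, mul_mem (hA x.1.2) (hB x.2.2)⟩
  have hinj : Function.Injective f := by
    rintro ⟨a, b⟩ ⟨a', b'⟩ h
    have h' : (a : G) * b = a' * b' := congrArg Subtype.val h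
    have h1 : (a' : G)⁻¹ * a ∈ A ⊓ B := by
      refine Subgroup.mem_inf.mpr ⟨mul_mem (inv_mem a'.2) a.2, ?_⟩
      rw [show (a' : G)⁻¹ * a = b' * (b : G)⁻¹ by
        calc (a' : G)⁻¹ * a = (a' : G)⁻¹ * (a * b) * (b : G)⁻¹ := by group
          _ = _ := by rw [h']; group]
      exact mul_mem b'.2 (inv_mem b.2)
    have h2 : A ⊓ B = ⊥ := card_eq_one.mp
      (Nat.eq_one_of_dvd_coprimes hco (card_dvd_of_le inf_le_left) (card_dvd_of_le inf_le_right))
    rw [h2, mem_bot, inv_mul_eq_one] at h1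
    rw [h1] at h'
    exact Prod.ext (Subtype.ext h1.symm) (Subtype.ext (mul_left_cancel h'))
  obtain ⟨⟨a, b⟩, hab⟩ :=
    (Function.Injective.bijective_of_nat_card_le hinj (by rw [Nat.card_prod, hc])).2 ⟨k, hk⟩
  exact ⟨a, a.2, b, b.2, (congrArg Subtype.val hab).symm⟩

end Cfsg.Agent.M12Uniq.Z3
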