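import Cfsg.Agent.M12Uniq.CountsZElt

/-!
# The two final cases (see `PLAN-Counts.md`, §C, step 5)
-/

set_option autoImplicit false

open Subgroup

namespace Cfsg.Agent.M12Uniq.Z3

universe u

variable {G : Type u} [Group G] [Finite G] (K : Conf G)

theorem Conf.exists_fixed_V {n : G} {p : ℕ} (hn : n ∈ normalizer (K.V : Set G)) (hp : p.Prime)
    (hp8 : ¬ p ∣ 8) (hpow : n ^ p = 1) : ∃ v ∈ K.V, v ≠ 1 ∧ Loc.Fix n v := by
  classical
  have := Fact.mk hp
  let α := {v : K.V // v ≠ 1}
  let f : α → α := fun v => ⟨⟨n * (v.1 : G) * n⁻¹, (mem_normalizer_iff.mp hn _).mp v.1.2⟩,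
    fun e => v.2 (Subtype.ext (conj_eq_one_iff.mp (congrArg Subtype.val e)))⟩
  have hit : ∀ (k : ℕ) (v : α), (((f^[k]) v).1 : G) = n ^ k * (v.1 : G) * (n ^ k)⁻¹ := by
    intro k
    induction k with
    | zero => intro v; simp
    | succ k ih =>
      intro v
      rw [Function.iterate_succ_apply']
      show n * (((f^[k]) v).1 : G) * n⁻¹ = _
      rw [ih, pow_succ']
      group
  have hinj : Function.Injective f := fun a b e => by
    have e' : n * (a.1 : G) * n⁻¹ = n * (b.1 : G) * n⁻¹ := congrArg (fun x : α => (x.1 : G)) e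
    exact Subtype.ext (Subtype.ext (mul_left_cancel (mul_right_cancel e')))
  let σ : Equiv.Perm α := Equiv.ofBijective f hinj.bijective_of_finite
  have := Fintype.ofFinite K.V
  have hσ : ∀ (k : ℕ) (v : α), (σ ^ k) v = (f^[k]) v := fun k v => by
    rw [← Equiv.Perm.iterate_eq_pow]; rfl
  obtain ⟨v, hv⟩ := Equiv.Perm.exists_fixed_point_of_prime (p := p) (n := 1) (σ := σ)
    (by rw [Fintype.card_subtype_compl, Fintype.card_subtype_eq, ← Nat.card_eq_fintype_card,
      K.card_V]; exact hp8)
    (Equiv.ext fun v => Subtype.ext (Subtype.ext (by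
      rw [pow_one, hσ, hit, hpow]; simp)))
  refine ⟨v.1, v.1.2, fun e => v.2 (Subtype.ext e), ?_⟩
  exact congrArg (fun x : α => (x.1 : G)) hv

theorem Conf.false_of_not_CV {y h : G} (hy : UT (K.S : Subgroup G) y)
    (hn : h ∈ normalizer (K.V : Set G)) (h3 : h ^ 3 = 1) (hC : h ∉ K.CV)
    (hc : h * y = y * h) : False := by
  classical
  obtain ⟨g, hgS, -, hyg, hg⟩ := K.exists_g hy
  obtain ⟨v, hv, hv1, hhv⟩ := K.exists_fixed_V hn Nat.prime_three (by norm_num) h3
  set H := normalizer (K.V : Set G) ⊓ centralizer ({y} : Set G) with hH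
  have hT : (K.S : Subgroup G) ⊓ centralizer ({y} : Set G) ≤ H := inf_le_inf_right _ K.S_le_N
  have hhH : h ∈ H := ⟨hn, Loc.mem_centralizer_singleton.mpr hc.symm⟩
  have hgH : g ∈ H := hT ⟨hgS, Loc.mem_centralizer_singleton.mpr hyg⟩
  have hyH : y ∈ H := hT ⟨hy.mem, Loc.mem_centralizer_singleton.mpr rfl⟩
  have hh1 : orderOf h = 3 := Loc.orderOf_three h3 fun e => hC (e ▸ one_mem K.CV)
  have h5 : ¬ 5 ∣ Nat.card H := by
    intro hd
    have : Fact (Nat.Prime 5) := ⟨by norm_num⟩
    obtain ⟨⟨q, hqH⟩, hq⟩ := exists_prime_orderOf_dvd_card' 5 hd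
    rw [Subgroup.orderOf_mk] at hq
    obtain ⟨w, hw, hw1, hqw⟩ := K.exists_fixed_V (n := q) (p := 5) hqH.1 (by norm_num)
      (by norm_num) (hq ▸ pow_orderOf_eq_one q)
    have h2 := sq_one_of_comm_three K.hp (K.orderOf_V hw hw1) hqw.comm (by rw [hq]; norm_num)
    rw [← pow_two] at h2
    have := orderOf_dvd_of_pow_eq_one h2
    rw [hq] at this
    norm_num at this
  have hHc : Nat.card H ∣ 48 := by
    have h240 : Nat.card H ∣ 48 * 5 := by
      have := card_dvd_of_le (show H ≤ centralizer ({y} : Set G) from inf_le_right)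
      rw [show Nat.card ↥(centralizer ({y} : Set G)) = 240 from hy.c240] at this
      exact this
    exact ((Nat.Prime.coprime_iff_not_dvd (by norm_num)).mpr h5).symm.dvd_of_dvd_mul_right h240
  have hMv : ∀ M : Subgroup G, M ≤ H → h ∈ M → K.D y ≤ M → 12 ∣ Nat.card M := by
    intro M _ hhM hDM
    have h4 : 4 ∣ Nat.card M := K.card_D hy ▸ card_dvd_of_le hDM
    have h3' : 3 ∣ Nat.card M := hh1 ▸ Subgroup.orderOf_dvd_natCard M hhM
    exact Nat.Coprime.mul_dvd_of_dvd_of_dvd (by norm_num : Nat.Coprime 4 3) h4 h3'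
  set M := H ⊓ centralizer ({v} : Set G) with hM
  have hM12 := hMv M inf_le_left ⟨hhH, Loc.mem_centralizer_of_fix hhv⟩ fun d hd =>
    ⟨hT ⟨(K.D_le y hd).1, hd.2⟩, Loc.mem_centralizer_of_fix (K.fix_CV (K.D_le y hd).2 hv)⟩
  have hidx : Nat.card (H ⧸ M.subgroupOf H) ≤ 4 := by
    have h1 := (M.subgroupOf H).card_mul_index
    rw [Nat.card_congr (Subgroup.subgroupOfEquivOfLe (show M ≤ H from inf_le_left)).toEquiv,
      Subgroup.index] at h1
    have hle := Nat.le_of_dvd (by norm_num) hHc
    have h12 := Nat.le_of_dvd Nat.card_pos hM12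
    have h48 := (Nat.mul_le_mul_right (Nat.card (H ⧸ M.subgroupOf H)) h12).trans (h1.le.trans hle)
    omega
  set w := g * v * g⁻¹ with hw
  have hwV : w ∈ K.V := K.S_V g hgS v hv
  have hyv : Loc.Inv y v := K.inv_V hy v hv
  obtain ⟨hwv, hwv'⟩ := hg v hv hv1
  have hv3 := K.cube_V v hv
  have hw1 : w ≠ 1 := fun e => hv1 (conj_eq_one_iff.mp e)
  let img : Bool × Bool → G := fun b =>
    if b.1 then (if b.2 then w⁻¹ else w) else (if b.2 then v⁻¹ else v)
  let rep : Bool × Bool → H := fun b =>
    (if b.1 then ⟨g, hgH⟩ else 1) * (if b.2 then ⟨y, hyH⟩ else 1)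
  have himg : ∀ b, (rep b : G) * v * (rep b : G)⁻¹ = img b := by
    rintro ⟨a, b⟩
    cases a <;> cases b
    · simp [rep, img]
    · simp only [rep, img, Bool.false_eq_true, if_false, if_true, one_mul]
      exact hyv
    · simp only [rep, img, Bool.false_eq_true, if_false, if_true, mul_one]
      exact hw.symm
    · simp only [rep, img, if_true]
      show g * y * v * (g * y)⁻¹ = w⁻¹
      rw [show g * y * v * (g * y)⁻¹ = g * (y * v * y⁻¹) * g⁻¹ by group,
        show y * v * y⁻¹ = v⁻¹ from hyv, hw]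
      group
  have himginj : Function.Injective img := by
    have hvi : v⁻¹ ≠ v := fun e => hv1 (Loc.eq_one_of_sq_cube e.symm hv3)
    have hwi : w⁻¹ ≠ w := fun e => hw1 (Loc.eq_one_of_sq_cube e.symm (K.cube_V w hwV))
    have h3 : w⁻¹ ≠ v := fun e => hwv' (show w = v⁻¹ by rw [← inv_inv w, e])
    have h4 : w⁻¹ ≠ v⁻¹ := fun e => hwv (inv_inj.mp e)
    rintro ⟨a, b⟩ ⟨a', b'⟩ e
    cases a <;> cases b <;> cases a' <;> cases b' <;>
      simp only [img, Bool.false_eq_true, if_false, if_true] at e <;>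
      first
      | rfl
      | exact absurd e hvi
      | exact absurd e.symm hvi
      | exact absurd e hwi
      | exact absurd e.symm hwi
      | exact absurd e hwv
      | exact absurd e.symm hwv
      | exact absurd e hwv'
      | exact absurd e.symm hwv'
      | exact absurd e h3
      | exact absurd e.symm h3
      | exact absurd e h4
      | exact absurd e.symm h4
  -- elements of a coset move `v` to the same element
  have hcos : ∀ k k' : H, (k : H ⧸ M.subgroupOf H) = k' →
      (k : G) * v * (k : G)⁻¹ = (k' : G) * v * (k' : G)⁻¹ := by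
    intro k k' e
    rw [QuotientGroup.eq, mem_subgroupOf] at e
    push_cast at e
    have hf : ((k : G)⁻¹ * k') * v * ((k : G)⁻¹ * k')⁻¹ = v := Loc.fix_of_mem_centralizer e.2
    calc (k : G) * v * (k : G)⁻¹
        = (k : G) * (((k : G)⁻¹ * k') * v * ((k : G)⁻¹ * k')⁻¹) * (k : G)⁻¹ := by rw [hf]
      _ = (k' : G) * v * (k' : G)⁻¹ := by group
  let F : Bool × Bool → H ⧸ M.subgroupOf H := fun b => (rep b : H ⧸ M.subgroupOf H)
  have hFinj : Function.Injective F := fun b b' e =>
    himginj (by rw [← himg, ← himg]; exact hcos _ _ e)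
  have hsurj := (hFinj.bijective_of_nat_card_le (by
    rw [Nat.card_prod, Nat.card_eq_fintype_card (α := Bool), Fintype.card_bool]; exact hidx)).2
  obtain ⟨b, hb⟩ := hsurj ((⟨h * g, mul_mem hhH hgH⟩ : H) : H ⧸ M.subgroupOf H)
  have hkey : h * w * h⁻¹ = img b := by
    rw [← himg, hcos _ _ hb, hw]
    group
  have hinjh : ∀ a : G, Loc.Fix h a → h * w * h⁻¹ = a → w = a := fun a ha e =>
    mul_left_cancel (mul_right_cancel (e.trans (show h * a * h⁻¹ = a from ha).symm))
  have hfw : Loc.Fix h w := by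
    obtain ⟨a, b⟩ := b
    cases a <;> cases b <;> simp only [img, Bool.false_eq_true, if_false, if_true] at hkey
    · exact absurd (hinjh v hhv hkey) hwv
    · exact absurd (hinjh v⁻¹ hhv.inv hkey) hwv'
    · exact hkey
    · exfalso
      have h2 : h * h * w * (h * h)⁻¹ = w := by
        calc h * h * w * (h * h)⁻¹ = h * (h * w * h⁻¹) * h⁻¹ := by group
          _ = h * w⁻¹ * h⁻¹ := by rw [hkey]
          _ = (h * w * h⁻¹)⁻¹ := by group
          _ = w := by rw [hkey, inv_inv]
      have h3' : h * h * h * w * (h * h * h)⁻¹ = w⁻¹ := by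
        calc h * h * h * w * (h * h * h)⁻¹ = h * (h * h * w * (h * h)⁻¹) * h⁻¹ := by group
          _ = w⁻¹ := by rw [h2, hkey]
      rw [← pow_two, ← pow_succ, h3, one_mul, inv_one, mul_one] at h3'
      exact hw1 (Loc.eq_one_of_sq_cube h3' (K.cube_V w hwV))
  refine hC (K.mem_CV.mpr fun a ha => ?_)
  obtain ⟨i, j, rfl⟩ := K.decomp hv hwV hv1 hw1 hwv hwv' ha
  exact ((hhv.pow i).mul (hfw.pow j)).comm.symm

theorem Conf.false_of_CV {y h : G} (hy : UT (K.S : Subgroup G) y) (h3 : h ^ 3 = 1)
    (hV : h ∉ K.V) (hC : h ∈ K.CV) (hc : h * y = y * h) : False := by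
  classical
  have : Fact (Nat.Prime 2) := ⟨Nat.prime_two⟩
  have : Fact (Nat.Prime 3) := ⟨Nat.prime_three⟩
  have hh : orderOf h = 3 := Loc.orderOf_three h3 fun e => hV (e ▸ one_mem K.V)
  have hy2 := Loc.sq_of_orderOf hy.ord
  have hhy : Loc.Fix y h := Loc.fix_of_comm hc.symm
  -- the group `V <h>`
  have hcv : ∀ a ∈ K.V, ∀ n : ℕ, Commute a (h ^ n) := fun a ha n =>
    Commute.pow_right ((K.cent_V hC ha).symm) n
  let P : Subgroup G :=
    { carrier := {x | ∃ a ∈ K.V, ∃ i : ℕ, x = a * h ^ i}
      one_mem' := ⟨1, one_mem _, 0, by simp⟩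
      mul_mem' := by
        rintro _ _ ⟨a, ha, i, rfl⟩ ⟨b, hb, j, rfl⟩
        refine ⟨a * b, mul_mem ha hb, i + j, ?_⟩
        rw [pow_add, mul_assoc, ← mul_assoc (h ^ i) b, ← (hcv b hb i).eq]
        group
      inv_mem' := by
        rintro _ ⟨a, ha, i, rfl⟩
        refine ⟨a⁻¹, inv_mem ha, 2 * i, ?_⟩
        rw [mul_inv_rev, pow_mul, ← Loc.cube_inv h3, inv_pow]
        exact ((hcv a ha i).inv_inv).eq.symm }
  have hVP : K.V ≤ P := fun a ha => ⟨a, ha, 0, by simp⟩
  have hhP : h ∈ P := ⟨1, one_mem _, 1, by simp⟩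
  have hPcube : ∀ x ∈ P, x ^ 3 = 1 := by
    rintro _ ⟨a, ha, i, rfl⟩
    rw [(hcv a ha i).mul_pow, K.cube_V a ha, one_mul, ← pow_mul, mul_comm, pow_mul, h3, one_pow]
  have hPh : ∀ x ∈ P, h * x = x * h := by
    rintro _ ⟨a, ha, i, rfl⟩
    rw [← mul_assoc, K.cent_V hC ha, mul_assoc, mul_assoc, ← pow_succ', pow_succ]
  have hPc : Nat.card P = 27 := by
    obtain ⟨v, hv, hv1⟩ := K.exists_v
    obtain ⟨k, hk⟩ := IsPGroup.iff_card.mp (show IsPGroup 3 P from fun x =>
      ⟨1, Subtype.ext (by rw [pow_one]; push_cast; exact hPcube x x.2)⟩)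
    have h1728 : 3 ^ k ∣ 2 ^ 6 * 3 ^ 3 := by
      rw [← hk, show (2 : ℕ) ^ 6 * 3 ^ 3 = 1728 by norm_num]
      exact card_le_cent_dvd K.hp hh fun x hx => Loc.mem_centralizer_singleton.mpr (hPh x hx)
    have hk3 : k ≤ 3 := (Nat.pow_dvd_pow_iff_le_right (by norm_num : 1 < 3)).mp
      ((Nat.Coprime.pow _ _ (by norm_num : Nat.Coprime 3 2)).dvd_of_dvd_mul_left h1728)
    have h9 : 3 ^ 2 < 3 ^ k := by
      rw [← hk]
      refine lt_of_le_of_ne ?_ ?_
      · calc 3 ^ 2 = Nat.card K.V := by rw [K.card_V]; norm_num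
          _ ≤ Nat.card P := Nat.le_of_dvd Nat.card_pos (card_dvd_of_le hVP)
      · intro e
        exact hV (Loc.eq_of_le_card hVP (by rw [← e, K.card_V]; norm_num) ▸ hhP)
    have hk2 : 2 < k := (Nat.pow_lt_pow_iff_right (by norm_num)).mp h9
    rw [hk, show k = 3 by omega]; norm_num
  -- the centralizer of `h`
  set C := centralizer ({h} : Set G) with hCdef
  have hyC : y ∈ C := Loc.mem_centralizer_singleton.mpr hc
  have hPC : P ≤ C := fun x hx => Loc.mem_centralizer_singleton.mpr (hPh x hx)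
  set y' : C := ⟨y, hyC⟩ with hy'
  obtain ⟨F, hF⟩ := (IsPGroup.of_card (n := 1) (p := 2) (G := ↥(zpowers y')) (by
    rw [Nat.card_zpowers, hy', Subgroup.orderOf_mk, pow_one]; exact hy.ord)).exists_le_sylow
  have hyF : y' ∈ (F : Subgroup C) := hF (mem_zpowers _)
  have hF2 : ∀ x ∈ (F : Subgroup C), x * x = 1 := fun x hx => by
    obtain ⟨k, hk⟩ := F.2 ⟨x, hx⟩
    have hk' : x ^ (2 ^ k) = 1 := congrArg Subtype.val hk
    have hk'' : (x : G) ^ (2 ^ k) = 1 := congrArg Subtype.val hk'
    exact Subtype.ext (sq_one_of_comm_three K.hp hh (Loc.mem_centralizer_singleton.mp x.2).symm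
      (coprime_three_of_pow hk''))
  have hFc := (exponent_two hF2).2
  set M := (centralizer ({y} : Set G)).subgroupOf C with hM
  have hMc : Nat.card M = 12 := by
    rw [hM, ← inf_subgroupOf_right,
      Nat.card_congr (Subgroup.subgroupOfEquivOfLe inf_le_right).toEquiv]
    exact K.hf.three y h hy.ord hy.c240 hh hc.symm
  have hFM : (F : Subgroup C) ≤ M := fun x hx => mem_subgroupOf.mpr
    (Loc.mem_centralizer_singleton.mpr (congrArg Subtype.val (hFc y' hyF x hx)))
  have hF4 : Nat.card (F : Subgroup C) = 4 := by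
    obtain ⟨k, hk⟩ := IsPGroup.iff_card.mp F.2
    have h12 : 2 ^ k ∣ 12 := by rw [← hk, ← hMc]; exact card_dvd_of_le hFM
    have h4 : 4 ∣ 2 ^ k := by
      rw [← hk]
      have hC4 : 2 ^ 2 ∣ Nat.card C :=
        (show 2 ^ 2 ∣ Nat.card M by rw [hMc]; norm_num).trans (card_subgroup_dvd_card M)
      simpa using F.pow_dvd_card_of_pow_dvd_card hC4
    have hk2 : k ≤ 2 := by
      by_contra hcon
      have := (pow_dvd_pow 2 (show 3 ≤ k by omega)).trans h12
      norm_num at this
    rw [hk]
    interval_cases k <;> first | rfl | (norm_num at h4)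
  have hC108 : Nat.card C = 108 := by
    obtain ⟨j, hj⟩ : 27 ∣ Nat.card C := hPc ▸ card_dvd_of_le hPC
    have h1728 := card_le_cent_dvd K.hp hh (le_refl C)
    have hj64 : j ∣ 2 ^ 6 := by
      refine (Nat.mul_dvd_mul_iff_left (by norm_num : 0 < 27)).mp ?_
      rw [← hj]
      exact h1728.trans (by norm_num)
    obtain ⟨a, -, rfl⟩ := (Nat.dvd_prime_pow Nat.prime_two).mp hj64
    have hFa := SmallGroups.card_sylow_eq (p := 2) (a := a) (m := 27) (by rw [hj, mul_comm])
      (by norm_num) F
    rw [hj, ← hFa, hF4]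
  -- the normalizer of `F`
  set h' : C := ⟨h, Loc.mem_centralizer_singleton.mpr rfl⟩ with hh'
  have hZ : Nat.card (zpowers h') = 3 := by rw [Nat.card_zpowers, hh', Subgroup.orderOf_mk, hh]
  have hhM : h' ∈ M := mem_subgroupOf.mpr (Loc.mem_centralizer_singleton.mpr hc.symm)
  have hMF : M ≤ centralizer ((F : Subgroup C) : Set C) := fun m hm => by
    obtain ⟨a, ha, b, hb, rfl⟩ := exists_mul_of_card hFM (zpowers_le.mpr hhM)
      (by rw [hF4, hZ]; norm_num) (by rw [hMc, hF4, hZ]) hm
    refine mul_mem (mem_centralizer_iff.mpr fun x hx => hFc x hx a ha) ?_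
    refine zpowers_le.mpr (mem_centralizer_iff.mpr fun x _ => Subtype.ext ?_) hb
    exact (Loc.mem_centralizer_singleton.mp x.2).symm
  set N := normalizer ((F : Subgroup C) : Set C) with hN
  have hMN : M ≤ N := hMF.trans (centralizer_le_normalizer _)
  have hNle : Nat.card N ≤ 12 := by
    let f : K.V × N → C := fun x =>
      ⟨(x.1 : G), hPC (hVP x.1.2)⟩ * (x.2 : C)
    have hinj : Function.Injective f := by
      rintro ⟨a, n⟩ ⟨b, m⟩ e
      set d : C := ⟨(b : G)⁻¹ * a, hPC (hVP (mul_mem (inv_mem b.2) a.2))⟩ with hd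
      have hdN : d ∈ N := by
        have e' : (a : G) * ((n : C) : G) = b * ((m : C) : G) := congrArg Subtype.val e
        have : d = (m : C) * ((n : C))⁻¹ := Subtype.ext (by
          push_cast [hd]
          calc (b : G)⁻¹ * a = (b : G)⁻¹ * (a * ((n : C) : G)) * (((n : C) : G))⁻¹ := by group
            _ = _ := by rw [e']; group)
        rw [this]
        exact mul_mem m.2 (inv_mem n.2)
      set w := (b : G)⁻¹ * a with hw
      have hwV : w ∈ K.V := mul_mem (inv_mem b.2) a.2
      have h1 : d * y' * d⁻¹ * y' ∈ (F : Subgroup C) :=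
        mul_mem ((mem_normalizer_iff.mp hdN y').mp hyF) hyF
      have h2 : ((d * y' * d⁻¹ * y' : C) : G) = w * w := by
        push_cast [hd, hy']
        calc w * y * w⁻¹ * y = w * (y * w⁻¹ * y) := by group
          _ = w * w := by
            have := K.inv_V hy w⁻¹ (inv_mem hwV)
            rw [Loc.Inv, inv_inv, Loc.inv_of_orderOf hy.ord] at this
            rw [this]
      have h4 : (w * w) * (w * w) = 1 := by
        rw [← h2]
        exact congrArg Subtype.val (hF2 _ h1)
      have hw1 : w = 1 := by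
        have h5 : w ^ 4 = 1 := by rw [← h4]; simp only [pow_succ, pow_zero, one_mul, mul_assoc]
        rwa [pow_succ, K.cube_V w hwV, one_mul] at h5
      have hab : a = b := Subtype.ext (inv_mul_eq_one.mp (hw ▸ hw1)).symm
      subst hab
      exact Prod.ext rfl (Subtype.ext (mul_left_cancel e))
    have := Nat.card_le_card_of_injective f hinj
    rw [Nat.card_prod, K.card_V, hC108] at this
    omega
  have hNC : N ≤ centralizer ((F : Subgroup C) : Set C) := by
    rw [← Loc.eq_of_le_card hMN (hNle.trans hMc.ge)]; exact hMF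
  set φ := MonoidHom.transferSylow F hNC
  have hker : Nat.card φ.ker = 27 := by
    have h := (MonoidHom.ker_transferSylow_isComplement' F hNC).card_mul
    rw [hF4, hC108] at h
    exact Nat.eq_of_mul_eq_mul_right (by norm_num : 0 < 4) (h.trans (by norm_num))
  have hmem : ∀ x : C, (x : G) ^ 3 = 1 → x ∈ φ.ker := by
    intro x hx
    have h3' : φ x ^ 3 = 1 := by
      rw [← map_pow, show x ^ 3 = 1 from Subtype.ext (by push_cast; exact hx), map_one]
    have h2 : φ x * φ x = 1 := Subtype.ext (hF2 _ (φ x).2)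
    rw [MonoidHom.mem_ker]
    rwa [pow_succ, pow_two, h2, one_mul] at h3'
  have hKP : φ.ker.map C.subtype = P := by
    refine (Loc.eq_of_le_card (fun x hx => ?_) ?_).symm
    · exact ⟨⟨x, hPC hx⟩, hmem _ (hPcube x hx), rfl⟩
    · rw [← Nat.card_congr (equivMapOfInjective φ.ker _ (subtype_injective _)).toEquiv, hker, hPc]
  -- an involution of `F` other than `y`
  obtain ⟨z, hzF, hz1, hzy⟩ : ∃ z ∈ (F : Subgroup C), z ≠ 1 ∧ z ≠ y' := by
    by_contra hcon
    push Not at hcon
    have hsub : ((F : Subgroup C) : Set C) ⊆ {1, y'} := fun x hx => by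
      by_cases h1 : x = 1
      · exact Or.inl h1
      · exact Or.inr (hcon x hx h1)
    have := Set.ncard_le_ncard hsub (Set.toFinite _)
    rw [← Nat.card_coe_set_eq] at this
    have h2 : ({1, y'} : Set C).ncard ≤ 2 := (Set.ncard_insert_le _ _).trans (by simp)
    change Nat.card (F : Subgroup C) ≤ _ at this
    omega
  have hzy_comm : y * (z : G) = (z : G) * y := congrArg Subtype.val (hFc y' hyF z hzF)
  have hz2 : (z : G) * z = 1 := congrArg Subtype.val (hF2 z hzF)
  have hzh : Loc.Fix (z : G) h := Loc.fix_of_comm (Loc.mem_centralizer_singleton.mp z.2).symm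
  have hzN : (z : G) ∈ normalizer (K.V : Set G) := mem_normalizer_of_conj fun a ha => by
    have hP' : (z : G) * a * (z : G)⁻¹ ∈ P := by
      rw [← hKP]
      refine ⟨z * ⟨a, hPC (hVP ha)⟩ * z⁻¹, hmem _ ?_, rfl⟩
      push_cast
      rw [conj_pow, K.cube_V a ha, mul_one, mul_inv_cancel]
    obtain ⟨b, hb, i, hbi⟩ := hP'
    have hinv : Loc.Inv y ((z : G) * a * (z : G)⁻¹) := by
      have h := (K.inv_V hy a ha).map (z : G)
      rwa [show (z : G) * y * (z : G)⁻¹ = y by rw [← hzy_comm, mul_inv_cancel_right]] at h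
    rw [hbi] at hinv
    have hi : Loc.Inv y (h ^ i) := by
      have h1 := (K.inv_V hy b hb).inv.mul hinv
        (((Commute.refl b).mul_right (hcv b hb i)).inv_left).eq
      rwa [inv_mul_cancel_left] at h1
    rw [hbi, Loc.eq_one_of_inv_fix hi (hhy.pow i) (hPcube _ (pow_mem hhP i)), mul_one]
    exact hb
  -- one of `z`, `z y` fixes a nonidentity element of `V`
  obtain ⟨x, hxN, hx2, hxy, hxh, hxne, a, ha, ha1, hxa⟩ : ∃ x : G,
      x ∈ normalizer (K.V : Set G) ∧ x * x = 1 ∧ y * x = x * y ∧ Loc.Fix x h ∧ x ≠ 1 ∧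
      ∃ a ∈ K.V, a ≠ 1 ∧ Loc.Fix x a := by
    obtain ⟨v, hv, hv1⟩ := K.exists_v
    have hzz : ∀ b : G, (z : G) * ((z : G) * b * (z : G)⁻¹) * (z : G)⁻¹ = b := fun b => by
      rw [show (z : G) * ((z : G) * b * (z : G)⁻¹) * (z : G)⁻¹ = (z : G) * z * b * ((z : G) * z)⁻¹
        by group, hz2]
      group
    have hzvV := (mem_normalizer_iff.mp hzN v).mp hv
    by_cases h1 : v * ((z : G) * v * (z : G)⁻¹) = 1
    · refine ⟨(z : G) * y, mul_mem hzN (K.S_le_N hy.mem), ?_, ?_, hzh.mul_left hhy, ?_, v, hv,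
        hv1, Loc.Inv.mul_left_inv (eq_inv_of_mul_eq_one_right h1) (K.inv_V hy v hv)⟩
      · rw [show (z : G) * y * ((z : G) * y) = z * (y * z) * y by group, hzy_comm,
          show (z : G) * (z * y) * y = z * z * (y * y) by group, hz2, hy2, mul_one]
      · rw [← mul_assoc, hzy_comm]
      · intro e
        exact hzy (Subtype.ext ((eq_inv_of_mul_eq_one_left e).trans (Loc.inv_of_orderOf hy.ord)))
    · refine ⟨z, hzN, hz2, hzy_comm, hzh, fun e => hz1 (Subtype.ext e), _, mul_mem hv hzvV, h1, ?_⟩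
      rw [Loc.Fix, ← conj_mul, hzz]
      exact K.comm_V _ hzvV _ hv
  -- `x` centralizes `E`
  have hxE : ∀ e ∈ K.E, e * x = x * e := by
    intro e he
    have hxe := K.conj_E_of_N hxN he
    have hsq : e * x * (e * x) ∈ K.E := by
      rw [show e * x * (e * x) = e * (x * e * x⁻¹) * (x * x) by group, hx2, mul_one]
      exact mul_mem he hxe
    have h4 : (e * x) ^ (2 ^ 2) = 1 := by
      rw [show (2 : ℕ) ^ 2 = 2 * 2 by norm_num, pow_mul, pow_two, pow_two]
      exact K.E_sq _ hsq
    have h2 := sq_one_of_comm_three K.hp (K.orderOf_V ha ha1)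
      ((K.fix_CV he.2 ha).mul_left hxa).comm (coprime_three_of_pow h4)
    calc e * x = (e * x)⁻¹ := (inv_eq_of_mul_eq_one_right h2).symm
      _ = x * e := by
        rw [mul_inv_rev, inv_eq_of_mul_eq_one_right hx2, inv_eq_of_mul_eq_one_right (K.E_sq e he)]
  -- `h` fixes no nonidentity element of `D`
  have hfix : ∀ d ∈ K.D y, d ≠ 1 → h * d ≠ d * h := by
    intro d hd hd1 hhd
    have hhN : h ∈ normalizer (K.V : Set G) := mem_normalizer_of_conj fun b hb => by
      rw [show h * b * h⁻¹ = b from K.fix_CV hC hb]; exact hb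
    have hconj : ∀ e ∈ K.D y, h * e * h⁻¹ ∈ K.D y := fun e he => by
      refine K.mem_D.mpr ⟨K.conj_E_of_N hhN (K.D_le y he), ?_⟩
      have h1 : Loc.Fix y e := Loc.fix_of_comm (K.mem_D.mp he).2
      have h2 := h1.map h
      rw [show h * y * h⁻¹ = y by rw [hc, mul_inv_cancel_right]] at h2
      exact h2.comm
    have hd2 := K.E_sq d (K.D_le y hd)
    obtain ⟨b, hb, hb1, hbd⟩ : ∃ b ∈ K.D y, b ≠ 1 ∧ b ≠ d := by
      by_contra hcon
      push Not at hcon
      have hsub : (K.D y : Set G) ⊆ {1, d} := fun x hx => by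
        by_cases h1 : x = 1
        · exact Or.inl h1
        · exact Or.inr (hcon x hx h1)
      have := Set.ncard_le_ncard hsub (Set.toFinite _)
      rw [← Nat.card_coe_set_eq] at this
      change Nat.card (K.D y) ≤ _ at this
      have h2 : ({1, d} : Set G).ncard ≤ 2 := (Set.ncard_insert_le _ _).trans (by simp)
      have := K.card_D hy
      omega
    have hall : ∀ e ∈ K.D y, e = 1 ∨ e = d ∨ e = b ∨ e = d * b := by
      intro e he
      by_contra hcon
      push Not at hcon
      have hsub : ({1, d, b, d * b, e} : Set G) ⊆ (K.D y : Set G) := by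
        simp [Set.insert_subset_iff, one_mem, hd, hb, he, mul_mem hd hb]
      have hcard : ({1, d, b, d * b, e} : Set G).ncard = 5 := by
        have n1 : d * b ≠ 1 := fun e' => hbd (by
          rw [← inv_eq_of_mul_eq_one_right e', inv_eq_of_mul_eq_one_right hd2])
        rw [Set.ncard_insert_of_notMem, Set.ncard_insert_of_notMem, Set.ncard_insert_of_notMem,
          Set.ncard_insert_of_notMem, Set.ncard_singleton]
        · simp only [Set.mem_singleton_iff]; exact Ne.symm hcon.2.2.2
        · simp only [Set.mem_insert_iff, Set.mem_singleton_iff, not_or]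
          exact ⟨fun e' => hd1 (mul_eq_right.mp e'.symm), Ne.symm hcon.2.2.1⟩
        · simp only [Set.mem_insert_iff, Set.mem_singleton_iff, not_or]
          exact ⟨Ne.symm hbd, fun e' => hb1 (mul_eq_left.mp e'.symm), Ne.symm hcon.2.1⟩
        · simp only [Set.mem_insert_iff, Set.mem_singleton_iff, not_or]
          exact ⟨Ne.symm hd1, Ne.symm hb1, Ne.symm n1, Ne.symm hcon.1⟩
      have := Set.ncard_le_ncard hsub (Set.toFinite _)
      rw [hcard, ← Nat.card_coe_set_eq] at this
      change 5 ≤ Nat.card (K.D y) at this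
      have := K.card_D hy
      omega
    have hhb : Loc.Fix h b := by
      rcases hall _ (hconj b hb) with e | e | e | e
      · exact absurd (conj_eq_one_iff.mp e) hb1
      · exact absurd (mul_left_cancel (mul_right_cancel (e.trans (show h * d * h⁻¹ = d from Loc.fix_of_comm hhd).symm))) hbd
      · exact e
      · exfalso
        have e2 : h * h * b * (h * h)⁻¹ = b := by
          calc h * h * b * (h * h)⁻¹ = h * (h * b * h⁻¹) * h⁻¹ := by group
            _ = h * d * h⁻¹ * (h * b * h⁻¹) := by rw [conj_mul, ← e]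
            _ = b := by
              rw [show h * d * h⁻¹ = d from Loc.fix_of_comm hhd, e, ← mul_assoc, hd2, one_mul]
        have e3 : h * h * h * b * (h * h * h)⁻¹ = d * b := by
          calc h * h * h * b * (h * h * h)⁻¹ = h * (h * h * b * (h * h)⁻¹) * h⁻¹ := by group
            _ = d * b := by rw [e2, e]
        rw [← pow_two, ← pow_succ, h3, one_mul, inv_one, mul_one] at e3
        exact hd1 (mul_eq_right.mp e3.symm)
    -- so `D <y>` of order 8 centralizes `y` and `h`
    have hDh : ∀ e ∈ K.D y, Loc.Fix h e := fun e he => by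
      rcases hall e he with rfl | rfl | rfl | rfl
      · exact Loc.Fix.one h
      · exact Loc.fix_of_comm hhd
      · exact hhb
      · exact (Loc.fix_of_comm hhd).mul hhb
    have hDC : ∀ e ∈ K.D y, e ∈ C := fun e he => Loc.mem_centralizer_of_fix (hDh e he).symm
    -- a Sylow 2-subgroup of order at most 4 in `C(y, h)`
    let L : Subgroup C :=
      { carrier := {x | ∃ e ∈ K.D y, (x : G) = e ∨ (x : G) = e * y}
        one_mem' := ⟨1, one_mem _, Or.inl (by simp)⟩
        mul_mem' := by
          rintro p q ⟨e, he, hp⟩ ⟨e', he', hq⟩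
          have hye : y * e' = e' * y := (K.mem_D.mp he').2
          rcases hp with hp | hp <;> rcases hq with hq | hq
          · exact ⟨e * e', mul_mem he he', Or.inl (by push_cast; rw [hp, hq])⟩
          · exact ⟨e * e', mul_mem he he', Or.inr (by push_cast; rw [hp, hq, mul_assoc])⟩
          · exact ⟨e * e', mul_mem he he', Or.inr (by
              push_cast; rw [hp, hq, mul_assoc, hye, mul_assoc])⟩
          · exact ⟨e * e', mul_mem he he', Or.inl (by
              push_cast
              rw [hp, hq, show e * y * (e' * y) = e * (y * e') * y by group, hye,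
                show e * (e' * y) * y = e * e' * (y * y) by group, hy2, mul_one])⟩
        inv_mem' := by
          rintro p ⟨e, he, hp⟩
          refine ⟨e, he, ?_⟩
          have hei := inv_eq_of_mul_eq_one_right (K.E_sq e (K.D_le y he))
          rcases hp with hp | hp
          · left; push_cast; rw [hp, hei]
          · right; push_cast
            rw [hp, mul_inv_rev, hei, inv_eq_of_mul_eq_one_right hy2]
            exact (K.mem_D.mp he).2 }
    have hL : IsPGroup 2 L := (exponent_two (K := L) fun p ⟨e, he, hp⟩ => Subtype.ext (by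
      have he2 := K.E_sq e (K.D_le y he)
      push_cast
      rcases hp with hp | hp <;> rw [hp]
      · exact he2
      · rw [show e * y * (e * y) = e * (y * e) * y by group, (K.mem_D.mp he).2,
          show e * (e * y) * y = e * e * (y * y) by group, he2, hy2, mul_one])).1
    have hyL : y' ∈ L := ⟨1, one_mem _, Or.inr (by simp [hy'])⟩
    have hDL : (K.D y).subgroupOf C ≤ L := fun p hp => ⟨p, mem_subgroupOf.mp hp, Or.inl rfl⟩
    obtain ⟨F', hF'⟩ := hL.exists_le_sylow
    have hF'4 : Nat.card (F' : Subgroup C) = 4 := by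
      rw [← hF4]; exact Nat.card_congr (F'.equiv F).toEquiv
    have heq := Loc.eq_of_le_card (hDL.trans hF') (by
      rw [hF'4, Nat.card_congr (Subgroup.subgroupOfEquivOfLe hDC).toEquiv, K.card_D hy])
    exact K.not_CV hy (K.D_le y (mem_subgroupOf.mp (heq ▸ hF' hyL : y' ∈ (K.D y).subgroupOf C))).2
  have hxnE : x ∉ K.E := fun hxE' =>
    hfix x (K.mem_D.mpr ⟨hxE', hxy⟩) hxne hxh.comm.symm
  have hxnyE : ∀ e ∈ K.E, x ≠ e * y := fun e he e' => ha1
    (Loc.eq_one_of_inv_fix (e'.symm ▸ (K.fix_CV he.2 ha).mul_left_inv (K.inv_V hy a ha)) hxa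
      (K.cube_V a ha))
  -- an elementary abelian group of order 16 centralizing `y`
  have hDy : ∀ d ∈ K.D y, d * y = y * d := fun d hd => (K.mem_D.mp hd).2.symm
  have hDx : ∀ d ∈ K.D y, d * x = x * d := fun d hd => hxE d (K.D_le y hd)
  set Y := K.D y ⊔ zpowers y ⊔ zpowers x with hY
  have hYle : Y ≤ centralizer ((Y : Set G)) := by
    have hgen : Y = closure ((K.D y : Set G) ∪ {y} ∪ {x}) := by
      rw [hY, Subgroup.closure_union, Subgroup.closure_union, closure_eq, zpowers_eq_closure, zpowers_eq_closure]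
    rw [hgen, closure_le]
    intro p hp
    rw [SetLike.mem_coe, centralizer_closure, mem_centralizer_iff]
    intro q hq
    rcases hp with (hp | hp) | hp <;> rcases hq with (hq | hq) | hq
    · exact K.E_comm q (K.D_le y hq) p (K.D_le y hp)
    · rw [hq]; exact (hDy p hp).symm
    · rw [hq]; exact (hDx p hp).symm
    · rw [hp]; exact hDy q hq
    · rw [hp, hq]
    · rw [hp, hq]; exact hxy.symm
    · rw [hp]; exact hDx q hq
    · rw [hp, hq]; exact hxy
    · rw [hp, hq]
  have hYsq : ∀ p ∈ Y, p * p = 1 := by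
    have hgen : Y = closure ((K.D y : Set G) ∪ {y} ∪ {x}) := by
      rw [hY, Subgroup.closure_union, Subgroup.closure_union, closure_eq, zpowers_eq_closure, zpowers_eq_closure]
    intro p hp
    have hp' := hp
    rw [hgen] at hp'
    suffices h : p ∈ Y ∧ p * p = 1 from h.2
    induction hp' using closure_induction with
    | mem q hq =>
      refine ⟨hgen ▸ subset_closure hq, ?_⟩
      rcases hq with (hq | hq) | hq
      · exact K.E_sq q (K.D_le y hq)
      · rw [hq]; exact hy2
      · rw [hq]; exact hx2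
    | one => exact ⟨one_mem _, mul_one 1⟩
    | mul q r hq' hr' ihq ihr =>
      have iq := ihq (hgen ▸ hq') ; have ir := ihr (hgen ▸ hr')
      refine ⟨mul_mem iq.1 ir.1, ?_⟩
      have hcm := mem_centralizer_iff.mp (hYle iq.1) r ir.1
      rw [show q * r * (q * r) = q * (r * q) * r by group, hcm,
        show q * (q * r) * r = q * q * (r * r) by group, iq.2, ir.2, mul_one]
    | inv q hq' ihq =>
      have iq := ihq (hgen ▸ hq')
      refine ⟨inv_mem iq.1, ?_⟩
      rw [inv_eq_of_mul_eq_one_right iq.2]; exact iq.2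
  have hyY : y ∈ Y := mem_sup_left (mem_sup_right (mem_zpowers y))
  have hxY : x ∈ Y := mem_sup_right (mem_zpowers x)
  have hDY : K.D y ≤ Y := le_sup_left.trans le_sup_left
  have h8 := card_elem_cent_le K.hf hYsq hy.ord hy.c240 fun p hp =>
    Loc.mem_centralizer_singleton.mpr (mem_centralizer_iff.mp (hYle hp) y hyY)
  have h16 : 16 ≤ Nat.card Y := by
    let f : ↥(K.D y) × Bool × Bool → Y := fun t =>
      ⟨(t.1 : G) * (if t.2.1 then x else 1) * (if t.2.2 then y else 1),
        mul_mem (mul_mem (hDY t.1.2) (by split_ifs <;> [exact hxY; exact one_mem _]))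
          (by split_ifs <;> [exact hyY; exact one_mem _])⟩
    have hinj : Function.Injective f := by
      rintro ⟨d, a, b⟩ ⟨d', a', b'⟩ e
      have e' : (d : G) * (if a then x else 1) * (if b then y else 1) =
          (d' : G) * (if a' then x else 1) * (if b' then y else 1) := congrArg Subtype.val e
      have hab : ∀ p q : Bool, ∀ e₀ ∈ K.D y,
          (if p then x else 1) * (if q then y else 1) = e₀ → p = false ∧ q = false := by
        intro p q e₀ he₀ hpq
        cases p <;> cases q <;> simp at hpq ⊢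
        · exact K.not_CV hy (hpq ▸ (K.D_le y he₀).2)
        · exact hxnE (hpq ▸ K.D_le y he₀)
        · refine hxnyE e₀ (K.D_le y he₀) ?_
          rw [← hpq, mul_assoc, hy2, mul_one]
      have hxi := inv_eq_of_mul_eq_one_right hx2
      have hyi := inv_eq_of_mul_eq_one_right hy2
      have hdiff : (if (a != a') then x else 1) * (if (b != b') then y else 1) = (d : G)⁻¹ * d' := by
        have h1 : (d : G)⁻¹ * d' = (if a then x else 1) * (if b then y else 1) *
            ((if b' then y else 1)⁻¹ * (if a' then x else 1)⁻¹) := by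
          calc (d : G)⁻¹ * d' = (d : G)⁻¹ * ((d' : G) * (if a' then x else 1) *
                (if b' then y else 1)) * ((if b' then y else 1)⁻¹ * (if a' then x else 1)⁻¹) := by
                group
            _ = _ := by rw [← e']; group
        rw [h1]
        have hyx' : ∀ c, y * (x * c) = x * (y * c) := fun c => by
          rw [← mul_assoc, hxy, mul_assoc]
        have hx2' : ∀ c, x * (x * c) = c := fun c => by rw [← mul_assoc, hx2, one_mul]
        have hy2' : ∀ c, y * (y * c) = c := fun c => by rw [← mul_assoc, hy2, one_mul]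
        cases a <;> cases a' <;> cases b <;> cases b' <;>
          simp [hxi, hyi, hx2, hy2, mul_assoc, hxy, hyx', hx2', hy2']
      obtain ⟨h1, h2⟩ := hab _ _ _ (mul_mem (inv_mem d.2) d'.2) hdiff
      simp only [bne_eq_false_iff_eq] at h1 h2
      subst h1 h2
      exact Prod.ext (Subtype.ext (mul_right_cancel (mul_right_cancel e'))) rfl
    have := Nat.card_le_card_of_injective f hinj
    rw [Nat.card_prod, Nat.card_prod, K.card_D hy, Nat.card_eq_fintype_card (α := Bool),
      Fintype.card_bool] at this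
    exact this
  have := Nat.le_of_dvd (by norm_num) h8
  omega

theorem Conf.contra {G : Type u} [Group G] [Finite G] (K : Conf G) : False := by
  obtain ⟨y, h, hy, hn, h3, hV, hc⟩ := K.exists_h
  by_cases hC : h ∈ K.CV
  · exact K.false_of_CV hy h3 hV hC hc
  · exact K.false_of_not_CV hy hn h3 hC hc

end Cfsg.Agent.M12Uniq.Z3
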