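import Cfsg.Agent.M12Uniq.CountsZBasic

/-!
# An elementary abelian group of order 9 normalized by a Sylow 2-subgroup: the involutions
(see `PLAN-Counts.md`, §C, step 3)
-/

set_option autoImplicit false

open Subgroup

namespace Cfsg.Agent.M12Uniq.Z3

universe u

/-- An elementary abelian subgroup of order 9 normalized by a Sylow 2-subgroup. -/
structure Conf (G : Type u) [Group G] where
  hp : Pre G
  hf : UFacts G
  S : Sylow 2 G
  V : Subgroup G
  card_V : Nat.card V = 9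
  comm_V : ∀ a ∈ V, ∀ b ∈ V, a * b = b * a
  cube_V : ∀ a ∈ V, a ^ 3 = 1
  S_V : ∀ s ∈ (S : Subgroup G), ∀ v ∈ V, s * v * s⁻¹ ∈ V

variable {G : Type u} [Group G]

/-- The centralizer of `V`. -/
def Conf.CV (K : Conf G) : Subgroup G := centralizer (K.V : Set G)

/-- The part of `S` centralizing `V`. -/
def Conf.E (K : Conf G) : Subgroup G := (K.S : Subgroup G) ⊓ K.CV

/-- The part of `E` centralizing `y`. -/
def Conf.D (K : Conf G) (y : G) : Subgroup G := K.E ⊓ centralizer ({y} : Set G)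

variable (K : Conf G)

theorem Conf.mem_CV {g : G} : g ∈ K.CV ↔ ∀ v ∈ K.V, v * g = g * v :=
  mem_centralizer_iff

theorem Conf.fix_CV {g v : G} (hg : g ∈ K.CV) (hv : v ∈ K.V) : Loc.Fix g v :=
  Loc.fix_of_comm (K.mem_CV.mp hg v hv).symm

theorem Conf.V_le_CV : K.V ≤ K.CV := fun a ha => K.mem_CV.mpr fun v hv => K.comm_V v hv a ha

theorem Conf.orderOf_V {v : G} (hv : v ∈ K.V) (h1 : v ≠ 1) : orderOf v = 3 :=
  Loc.orderOf_three (K.cube_V v hv) h1

theorem Conf.exists_v : ∃ v ∈ K.V, v ≠ 1 := by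
  by_contra h
  push Not at h
  have h1 : K.V = ⊥ := (Subgroup.eq_bot_iff_forall _).mpr h
  have h2 := K.card_V
  rw [h1, card_bot] at h2
  norm_num at h2

theorem Conf.conj_CV {n : G} (hn : ∀ v ∈ K.V, n⁻¹ * v * n ∈ K.V) {c : G} (hc : c ∈ K.CV) :
    n * c * n⁻¹ ∈ K.CV := K.mem_CV.mpr fun v hv => by
  have h := (K.mem_CV.mp hc) _ (hn v hv)
  calc v * (n * c * n⁻¹) = n * (n⁻¹ * v * n * c) * n⁻¹ := by group
    _ = n * (c * (n⁻¹ * v * n)) * n⁻¹ := by rw [h]
    _ = n * c * n⁻¹ * v := by group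

theorem Conf.inv_conj {n : G} (hn : n ∈ normalizer (K.V : Set G)) {v : G} (hv : v ∈ K.V) :
    n⁻¹ * v * n ∈ K.V := by
  have := (mem_normalizer_iff.mp (inv_mem hn) v).mp hv
  rwa [inv_inv] at this

variable [Finite G]

theorem Conf.S_le_N : (K.S : Subgroup G) ≤ normalizer (K.V : Set G) := fun s hs =>
  mem_normalizer_of_conj fun v hv => K.S_V s hs v hv

theorem Conf.E_sq : ∀ e ∈ K.E, e * e = 1 := fun e he => by
  obtain ⟨v, hv, hv1⟩ := K.exists_v
  exact sq_one_of_two_group K.hp K.S.2 he.1 (K.orderOf_V hv hv1) (K.fix_CV he.2 hv).comm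

theorem Conf.E_comm : ∀ a ∈ K.E, ∀ b ∈ K.E, a * b = b * a := (exponent_two K.E_sq).2

theorem Conf.conj_E {s e : G} (hs : s ∈ (K.S : Subgroup G)) (he : e ∈ K.E) :
    s * e * s⁻¹ ∈ K.E :=
  Subgroup.mem_inf.mpr ⟨mul_mem (mul_mem hs he.1) (inv_mem hs),
    K.conj_CV (fun _ hv => K.inv_conj (K.S_le_N hs) hv) he.2⟩

theorem Conf.card_CV : Nat.card K.CV = 9 * Nat.card K.E ∨ Nat.card K.CV = 27 * Nat.card K.E := by
  have : Fact (Nat.Prime 2) := ⟨Nat.prime_two⟩
  obtain ⟨v, hv, hv1⟩ := K.exists_v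
  obtain ⟨k, hk⟩ := IsPGroup.iff_card.mp (exponent_two K.E_sq).1
  have h1728 : Nat.card K.CV ∣ 1728 := card_le_cent_dvd K.hp (K.orderOf_V hv hv1)
    fun c hc => Loc.mem_centralizer_of_fix (K.fix_CV hc hv)
  have hEV : 9 * Nat.card K.E ∣ Nat.card K.CV :=
    Nat.Coprime.mul_dvd_of_dvd_of_dvd (by rw [hk]; exact Nat.Coprime.pow_right _ (by norm_num))
      (K.card_V ▸ card_dvd_of_le K.V_le_CV) (card_dvd_of_le inf_le_right)
  -- the product with the Sylow 2-subgroup
  have hsup : Nat.card K.CV ∣ Nat.card K.E * 1485 := by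
    set N := normalizer (K.V : Set G) with hN
    have hCN : K.CV ≤ N := fun c hc => mem_normalizer_of_conj fun w hw => by
      rw [show c * w * c⁻¹ = w from K.fix_CV hc hw]; exact hw
    let C' := K.CV.subgroupOf N
    let S' := (K.S : Subgroup G).subgroupOf N
    have : C'.Normal := ⟨fun c hc n => K.conj_CV (fun _ hw => K.inv_conj n.2 hw) hc⟩
    have h1 : Nat.card ↥(S' ⊓ C') = Nat.card K.E := by
      rw [← Nat.card_congr (Subgroup.subgroupOfEquivOfLe
        (show K.E ≤ N from fun e he => K.S_le_N he.1)).toEquiv]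
      rfl
    have h2 := relIndex_bot_left (S' : Subgroup N)
    have h3 := relIndex_mul_relIndex ⊥ (S' ⊓ C') S' bot_le inf_le_left
    rw [relIndex_bot_left, relIndex_bot_left, h1, inf_relIndex_left] at h3
    have h4 := relIndex_mul_relIndex ⊥ C' (S' ⊔ C') bot_le le_sup_right
    rw [relIndex_bot_left, relIndex_bot_left, relIndex_sup_right] at h4
    have h5 : Nat.card S' = 64 :=
      (Nat.card_congr (Subgroup.subgroupOfEquivOfLe K.S_le_N).toEquiv).trans (card_sylow K.hp K.S)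
    have h6 : Nat.card C' = Nat.card K.CV :=
      Nat.card_congr (Subgroup.subgroupOfEquivOfLe hCN).toEquiv
    have h7 : Nat.card ↥(S' ⊔ C') ∣ 64 * 1485 := by
      have h := ((S' ⊔ C').card_subgroup_dvd_card).trans N.card_subgroup_dvd_card
      rwa [K.hp.card] at h
    rw [← h4, h6] at h7
    rw [h5] at h3
    have hr : C'.relIndex S' * Nat.card K.CV ∣ C'.relIndex S' * (Nat.card K.E * 1485) := by
      rw [show C'.relIndex S' * (Nat.card K.E * 1485) = Nat.card K.E * C'.relIndex S' * 1485 by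
        ring, h3, mul_comm]
      exact h7
    exact (Nat.mul_dvd_mul_iff_left (Nat.pos_of_ne_zero fun h => by
      rw [h, mul_zero] at h3; norm_num at h3)).mp hr
  have hk16 : Nat.card K.E ∣ 16 := card_elem_le K.hp K.hf K.E_sq
  have h27 : Nat.card K.CV ∣ 27 * Nat.card K.E := by
    have h : Nat.card K.CV ∣ Nat.gcd 1728 (Nat.card K.E * 1485) := Nat.dvd_gcd h1728 hsup
    obtain ⟨j, hj⟩ := hk16
    have hle : k ≤ 4 := by
      by_contra hc
      have h5 : (2 : ℕ) ^ 5 ∣ 16 := (pow_dvd_pow 2 (by omega : 5 ≤ k)).trans (hk ▸ Dvd.intro j hj.symm)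
      norm_num at h5
    rw [hk] at h ⊢
    interval_cases k <;> norm_num at h ⊢ <;> exact h
  obtain ⟨a, ha⟩ := hEV
  have hd : 9 * Nat.card K.E * a ∣ 9 * Nat.card K.E * 3 := by
    rw [← ha]; exact h27.trans (dvd_of_eq (by ring))
  have ha3 : a ∣ 3 := (Nat.mul_dvd_mul_iff_left (by have := Nat.card_pos (α := K.E); omega)).mp hd
  rcases (Nat.dvd_prime Nat.prime_three).mp ha3 with rfl | rfl
  · left; rw [ha, mul_one]
  · right; rw [ha]; ring

theorem Conf.fpf {g : G} (hgS : g ∈ (K.S : Subgroup G)) (hg : g * g ≠ 1) {v : G} (hv : v ∈ K.V)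
    (h1 : v ≠ 1) : ¬ Loc.Fix g v := fun h =>
  hg (sq_one_of_two_group K.hp K.S.2 hgS (K.orderOf_V hv h1) h.comm)

/-- Coordinates in `V`. -/
theorem Conf.decomp {f w : G} (hf : f ∈ K.V) (hw : w ∈ K.V) (hf1 : f ≠ 1) (hw1 : w ≠ 1)
    (hne : w ≠ f) (hne2 : w ≠ f⁻¹) {a : G} (ha : a ∈ K.V) : ∃ i j : ℕ, a = f ^ i * w ^ j := by
  have hf3 := K.cube_V f hf
  have hw3 := K.cube_V w hw
  have hnz : w ∉ zpowers f := fun h => by
    rcases (Loc.zpowers_iff hf3).mp h with ⟨n, -, hn⟩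
    rcases Loc.eq_of_pow_three_cases hf3 hn with h | h | h
    · exact hw1 h
    · exact hne h
    · exact hne2 h
  have hc := Loc.card_pairGrp (K.comm_V f hf w hw) hf3 hf1 hw3 hnz
  have heq : Loc.pairGrp f w = K.V :=
    Loc.eq_of_le_card (Loc.pairGrp_le hf hw) (by rw [hc, K.card_V])
  obtain ⟨i, -, j, -, rfl⟩ := (Loc.mem_pairGrp_iff (K.comm_V f hf w hw) hf3 hw3).mp (heq ▸ ha)
  exact ⟨i, j, rfl⟩

theorem Conf.inv_V {y : G} (h : UT (K.S : Subgroup G) y) : ∀ v ∈ K.V, Loc.Inv y v := by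
  obtain ⟨g, hgS, hg4, hyg⟩ := h.exists_four K.hf K.S.2
  have hy2 : y * y = 1 := Loc.sq_of_orderOf h.ord
  have hgg : g * g ≠ 1 := fun e => by
    have := orderOf_dvd_of_pow_eq_one (show g ^ 2 = 1 by rw [pow_two, e])
    rw [hg4] at this
    norm_num at this
  have hgy : g * y * (g * y) ≠ 1 := by
    rw [show g * y * (g * y) = g * (y * g) * y by group, hyg,
      show g * (g * y) * y = g * g * (y * y) by group, hy2, mul_one]
    exact hgg
  have hyy : ∀ a : G, y * (y * a * y⁻¹) * y⁻¹ = a := fun a => by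
    rw [Loc.inv_of_orderOf h.ord, show y * (y * a * y) * y = y * y * a * (y * y) by group, hy2]
    group
  -- the products with the conjugate are fixed
  have hfix : ∀ a ∈ K.V, Loc.Fix y (a * (y * a * y⁻¹)) := fun a ha => by
    rw [Loc.Fix, ← conj_mul, hyy]
    exact K.comm_V _ (K.S_V y h.mem a ha) _ ha
  suffices hno : ∀ f ∈ K.V, Loc.Fix y f → f = 1 by
    intro a ha
    exact eq_inv_of_mul_eq_one_right (hno _ (mul_mem ha (K.S_V y h.mem a ha)) (hfix a ha))
  intro f hfV hyf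
  by_contra hf1
  -- not all of `V` is fixed
  obtain ⟨b, hbV, hb⟩ : ∃ b ∈ K.V, ¬ Loc.Fix y b := by
    by_contra hcon
    push Not at hcon
    have hle : K.V ≤ centralizer ({y} : Set G) ⊓ centralizer ({f} : Set G) := fun b hb =>
      ⟨Loc.mem_centralizer_of_fix (hcon b hb).symm,
        Loc.mem_centralizer_singleton.mpr (K.comm_V f hfV b hb)⟩
    have h12 := card_dvd_of_le hle
    rw [K.card_V, K.hf.three y f h.ord h.c240 (K.orderOf_V hfV hf1) hyf.comm] at h12
    norm_num at h12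
  set w := b⁻¹ * (y * b * y⁻¹) with hw
  have hwV : w ∈ K.V := mul_mem (inv_mem hbV) (K.S_V y h.mem b hbV)
  have hw1 : w ≠ 1 := fun e => hb (inv_mul_eq_one.mp e).symm
  have hwinv : Loc.Inv y w := by
    rw [Loc.Inv, hw, ← conj_mul, hyy, mul_inv_rev, inv_inv, conj_inv]
  have hne : w ≠ f := fun e => hw1
    (Loc.eq_one_of_inv_fix hwinv (e ▸ hyf) (K.cube_V w hwV))
  have hne2 : w ≠ f⁻¹ := fun e => hw1
    (Loc.eq_one_of_inv_fix hwinv (e ▸ hyf.inv) (K.cube_V w hwV))
  -- fixed elements and inverted elements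
  have hF : ∀ a ∈ K.V, Loc.Fix y a → a ≠ 1 → a = f ∨ a = f⁻¹ := by
    intro a ha hya ha1
    obtain ⟨i, j, rfl⟩ := K.decomp hfV hwV hf1 hw1 hne hne2 ha
    have hj : Loc.Fix y (w ^ j) := by
      have := (hyf.pow i).inv.mul hya
      rwa [inv_mul_cancel_left] at this
    have hj1 : w ^ j = 1 := Loc.eq_one_of_inv_fix (hwinv.pow j) hj
      (K.cube_V _ (pow_mem hwV j))
    rw [hj1, mul_one] at ha1 ⊢
    rcases Loc.eq_of_pow_three_cases (K.cube_V f hfV) (rfl : f ^ i = f ^ i) with e | e | e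
    · exact absurd e ha1
    · exact .inl e
    · exact .inr e
  have hW : ∀ a ∈ K.V, Loc.Inv y a → a ≠ 1 → a = w ∨ a = w⁻¹ := by
    intro a ha hya ha1
    obtain ⟨i, j, rfl⟩ := K.decomp hfV hwV hf1 hw1 hne hne2 ha
    have hi : Loc.Inv y (f ^ i) := by
      have := hya.mul (hwinv.pow j).inv (K.comm_V _ (mul_mem (pow_mem hfV i) (pow_mem hwV j)) _
        (inv_mem (pow_mem hwV j)))
      rwa [mul_inv_cancel_right] at this
    have hi1 : f ^ i = 1 := Loc.eq_one_of_inv_fix hi (hyf.pow i) (K.cube_V _ (pow_mem hfV i))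
    rw [hi1, one_mul] at ha1 ⊢
    rcases Loc.eq_of_pow_three_cases (K.cube_V w hwV) (rfl : w ^ j = w ^ j) with e | e | e
    · exact absurd e ha1
    · exact .inl e
    · exact .inr e
  have hgy' : g * y * g⁻¹ = y := by rw [← hyg, mul_inv_cancel_right]
  have hg1 : g * w * g⁻¹ = w⁻¹ := by
    have hinv : Loc.Inv y (g * w * g⁻¹) := by
      have := hwinv.map g
      rwa [hgy'] at this
    rcases hW _ (K.S_V g hgS w hwV) hinv (fun e => hw1 (conj_eq_one_iff.mp e)) with e | e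
    · exact absurd e (K.fpf hgS hgg hwV hw1)
    · exact e
  exact K.fpf (mul_mem hgS h.mem) hgy hwV hw1 (Loc.Inv.mul_left_inv hg1 hwinv)

theorem Conf.not_CV {y : G} (h : UT (K.S : Subgroup G) y) : y ∉ K.CV := fun hy => by
  obtain ⟨v, hv, hv1⟩ := K.exists_v
  exact hv1 (Loc.eq_one_of_inv_fix (K.inv_V h v hv) (K.fix_CV hy hv) (K.cube_V v hv))

theorem Conf.exists_g {y : G} (h : UT (K.S : Subgroup G) y) :
    ∃ g ∈ (K.S : Subgroup G), orderOf g = 4 ∧ y * g = g * y ∧
      ∀ v ∈ K.V, v ≠ 1 → g * v * g⁻¹ ≠ v ∧ g * v * g⁻¹ ≠ v⁻¹ := by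
  obtain ⟨g, hgS, hg4, hyg⟩ := h.exists_four K.hf K.S.2
  have hy2 : y * y = 1 := Loc.sq_of_orderOf h.ord
  have hgg : g * g ≠ 1 := fun e => by
    have := orderOf_dvd_of_pow_eq_one (show g ^ 2 = 1 by rw [pow_two, e])
    rw [hg4] at this
    norm_num at this
  refine ⟨g, hgS, hg4, hyg, fun v hv hv1 => ⟨K.fpf hgS hgg hv hv1, fun e => ?_⟩⟩
  refine K.fpf (mul_mem hgS h.mem) ?_ hv hv1 (Loc.Inv.mul_left_inv e (K.inv_V h v hv))
  rw [show g * y * (g * y) = g * (y * g) * y by group, hyg,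
    show g * (g * y) * y = g * g * (y * y) by group, hy2, mul_one]
  exact hgg

theorem Conf.mem_D {y e : G} : e ∈ K.D y ↔ e ∈ K.E ∧ y * e = e * y := by
  rw [Conf.D, mem_inf, Loc.mem_centralizer_singleton]

theorem Conf.D_le (y : G) : K.D y ≤ K.E := inf_le_left

/-- An involution in the coset `E y` lies in `D y`. -/
theorem Conf.mem_D_of_sq {y e : G} (hy : y * y = 1) (he : e ∈ K.E)
    (h : e * y * (e * y) = 1) : e ∈ K.D y := by
  refine K.mem_D.mpr ⟨he, ?_⟩
  have h1 : (e * y)⁻¹ = e * y := inv_eq_of_mul_eq_one_right h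
  rw [mul_inv_rev, inv_eq_of_mul_eq_one_right hy, inv_eq_of_mul_eq_one_right (K.E_sq e he)] at h1
  exact h1

theorem Conf.conj_mem_D {y s : G} (h : UT (K.S : Subgroup G) y) (hs : s ∈ (K.S : Subgroup G)) :
    s * y * s⁻¹ * y ∈ K.D y := by
  have hy2 := Loc.sq_of_orderOf h.ord
  have h' : UT (K.S : Subgroup G) (s * y * s⁻¹) :=
    h.conj_le K.S.2 s fun a ha => mul_mem (mul_mem hs ha) (inv_mem hs)
  have hz2 := Loc.sq_of_orderOf h'.ord
  have hE : s * y * s⁻¹ * y ∈ K.E := by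
    refine ⟨mul_mem h'.mem h.mem, K.mem_CV.mpr fun v hv => ?_⟩
    exact ((Loc.Inv.mul_left_inv (K.inv_V h' v hv) (K.inv_V h v hv)).comm).symm
  refine K.mem_D_of_sq hy2 hE ?_
  rw [mul_assoc (s * y * s⁻¹) y y, hy2, mul_one]
  exact hz2

theorem Conf.D_structure {y g : G} (h : UT (K.S : Subgroup G) y) (hgS : g ∈ (K.S : Subgroup G))
    (hyg : y * g = g * y)
    (hg : ∀ v ∈ K.V, v ≠ 1 → g * v * g⁻¹ ≠ v ∧ g * v * g⁻¹ ≠ v⁻¹) :
    Nat.card ↥(K.D y) = 4 ∧ (∃ d ∈ K.D y, g * g = d * y) ∧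
      ∀ d ∈ K.D y, ∃ s ∈ (K.S : Subgroup G), s * y * s⁻¹ = d * y := by
  classical
  obtain ⟨v, hv, hv1⟩ := K.exists_v
  have hv3 := K.cube_V v hv
  have hvi : v⁻¹ ≠ v := fun e => hv1 (Loc.eq_one_of_sq_cube e.symm hv3)
  have hy2 := Loc.sq_of_orderOf h.ord
  set w := g * v * g⁻¹ with hw
  have hwV : w ∈ K.V := K.S_V g hgS v hv
  obtain ⟨hwv, hwv'⟩ := hg v hv hv1
  have hyv : Loc.Inv y v := K.inv_V h v hv
  have hyw : Loc.Inv y w := K.inv_V h w hwV
  set T := (K.S : Subgroup G) ⊓ centralizer ({y} : Set G) with hT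
  have hgT : g ∈ T := ⟨hgS, Loc.mem_centralizer_singleton.mpr hyg⟩
  have hyT : y ∈ T := ⟨h.mem, Loc.mem_centralizer_singleton.mpr rfl⟩
  have hDT : K.D y ≤ T := fun d hd => ⟨(K.D_le y hd).1, hd.2⟩
  -- action on v
  have hd_fix : ∀ d ∈ K.D y, ∀ a ∈ K.V, Loc.Fix d a := fun d hd a ha =>
    K.fix_CV (K.D_le y hd).2 ha
  let f : ↥(K.D y) × Bool × Bool → T := fun x =>
    ⟨(x.1 : G) * (if x.2.1 then g else 1) * (if x.2.2 then y else 1),
      mul_mem (mul_mem (hDT x.1.2) (by split_ifs <;> [exact hgT; exact one_mem _]))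
        (by split_ifs <;> [exact hyT; exact one_mem _])⟩
  let img : Bool × Bool → G := fun b =>
    if b.1 then (if b.2 then w⁻¹ else w) else (if b.2 then v⁻¹ else v)
  have himg : ∀ x : ↥(K.D y) × Bool × Bool, (f x : G) * v * (f x : G)⁻¹ = img x.2 := by
    rintro ⟨⟨d, hd⟩, a, b⟩
    have hconj : ∀ p q r : G, p * q * r * v * (p * q * r)⁻¹ = p * (q * (r * v * r⁻¹) * q⁻¹) * p⁻¹ :=
      fun p q r => by group
    cases a <;> cases b
    · simpa [f, img, Loc.Fix] using hd_fix d hd v hv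
    · have h1 := (hd_fix d hd v⁻¹ (inv_mem hv))
      simp only [f, img, Bool.false_eq_true, if_false, if_true, mul_one]
      calc d * y * v * (d * y)⁻¹ = d * (y * v * y⁻¹) * d⁻¹ := by group
        _ = v⁻¹ := by rw [show y * v * y⁻¹ = v⁻¹ from hyv]; exact h1
    · have h1 := (hd_fix d hd w hwV)
      simp only [f, img, Bool.false_eq_true, if_false, if_true, mul_one]
      calc d * g * v * (d * g)⁻¹ = d * w * d⁻¹ := by rw [hw]; group
        _ = w := h1
    · have h1 := (hd_fix d hd w⁻¹ (inv_mem hwV))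
      simp only [f, img, if_true]
      calc d * g * y * v * (d * g * y)⁻¹ = d * (g * (y * v * y⁻¹) * g⁻¹) * d⁻¹ := by group
        _ = w⁻¹ := by
          rw [show y * v * y⁻¹ = v⁻¹ from hyv, show g * v⁻¹ * g⁻¹ = w⁻¹ by rw [hw]; group]
          exact h1
  have hwi : w⁻¹ ≠ w := fun e => by
    have h1 : w = 1 := Loc.eq_one_of_sq_cube e.symm (K.cube_V w hwV)
    exact hv1 (conj_eq_one_iff.mp h1)
  have himginj : Function.Injective img := by
    have h3 : w⁻¹ ≠ v := fun e => hwv' (show w = v⁻¹ by rw [← inv_inv w, e])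
    have h4 : w⁻¹ ≠ v⁻¹ := fun e => hwv (inv_inj.mp e)
    rintro ⟨a, b⟩ ⟨a', b'⟩ e
    cases a <;> cases b <;> cases a' <;> cases b' <;>
      simp only [img, Bool.false_eq_true, if_false, if_true] at e <;>
      first
      | rfl
      | exact absurd e hvi
      | exact absurd e.symm hvi
      | exact absurd e hwi
      | exact absurd e.symm hwi
      | exact absurd e hwv
      | exact absurd e.symm hwv
      | exact absurd e hwv'
      | exact absurd e.symm hwv'
      | exact absurd e h3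
      | exact absurd e.symm h3
      | exact absurd e h4
      | exact absurd e.symm h4
  have hfinj : Function.Injective f := by
    intro x x' e
    have h2 : x.2 = x'.2 := himginj (by rw [← himg, ← himg, e])
    have h1 := congrArg Subtype.val e
    simp only [f] at h1
    rw [h2] at h1
    exact Prod.ext (Subtype.ext (mul_right_cancel (mul_right_cancel h1))) h2
  have hle : Nat.card ↥(K.D y) * 4 ≤ 16 := by
    have := Nat.card_le_card_of_injective f hfinj
    rw [Nat.card_prod, Nat.card_prod, Nat.card_eq_fintype_card (α := Bool), Fintype.card_bool] at this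
    calc Nat.card ↥(K.D y) * 4 = Nat.card ↥(K.D y) * (2 * 2) := by norm_num
      _ ≤ Nat.card T := this
      _ = 16 := h.card
  -- the conjugates
  set St := (centralizer ({y} : Set G)).subgroupOf (K.S : Subgroup G) with hSt
  let φ : ↥(K.S : Subgroup G) ⧸ St → ↥(K.D y) := fun q =>
    ⟨(q.out : G) * y * (q.out : G)⁻¹ * y, K.conj_mem_D h q.out.2⟩
  have hφinj : Function.Injective φ := by
    intro q q' e
    have e' : (q.out : G) * y * (q.out : G)⁻¹ = (q'.out : G) * y * (q'.out : G)⁻¹ :=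
      mul_right_cancel (congrArg Subtype.val e)
    refine (QuotientGroup.out_eq' q).symm.trans
      ((QuotientGroup.eq.mpr (mem_subgroupOf.mpr ?_)).trans (QuotientGroup.out_eq' q'))
    rw [Loc.mem_centralizer_singleton]
    push_cast
    calc y * ((q.out : G)⁻¹ * q'.out) =
        (q.out : G)⁻¹ * ((q.out : G) * y * (q.out : G)⁻¹) * q'.out := by group
      _ = (q.out : G)⁻¹ * ((q'.out : G) * y * (q'.out : G)⁻¹) * q'.out := by rw [e']
      _ = (q.out : G)⁻¹ * q'.out * y := by group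
  have hStc : Nat.card St = 16 := by
    rw [hSt, ← inf_subgroupOf_left, Nat.card_congr (Subgroup.subgroupOfEquivOfLe inf_le_left).toEquiv]
    exact h.card
  have hq : Nat.card (↥(K.S : Subgroup G) ⧸ St) = 4 := by
    have h1 := St.card_mul_index
    rw [hStc, card_sylow K.hp K.S, Subgroup.index] at h1
    omega
  have hge : 4 ≤ Nat.card ↥(K.D y) := hq ▸ Nat.card_le_card_of_injective φ hφinj
  have h4 : Nat.card ↥(K.D y) = 4 := by omega
  refine ⟨h4, ?_, fun d hd => ?_⟩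
  · have hbij : Function.Bijective f := hfinj.bijective_of_nat_card_le (by
      rw [Nat.card_prod, Nat.card_prod, Nat.card_eq_fintype_card (α := Bool), Fintype.card_bool, h4]
      exact h.card.le)
    obtain ⟨⟨⟨d, hd⟩, a, b⟩, hx⟩ := hbij.2 ⟨g * g, mul_mem hgT hgT⟩
    have hx' : (f (⟨d, hd⟩, a, b) : G) = g * g := congrArg Subtype.val hx
    have hgw : g * g * v * (g * g)⁻¹ = g * w * g⁻¹ := by rw [hw]; group
    have key : g * w * g⁻¹ = img (a, b) := by rw [← hgw, ← hx', himg]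
    have hfix : g * w * g⁻¹ ≠ v := by
      intro e
      have hprod : Loc.Fix g (v * w) := by
        rw [Loc.Fix, ← conj_mul, e, ← hw, K.comm_V w hwV v hv]
      by_cases h1 : v * w = 1
      · exact hwv' (eq_inv_of_mul_eq_one_right h1)
      · exact (hg _ (mul_mem hv hwV) h1).1 hprod
    cases a <;> cases b
    · exact absurd (by simpa [img] using key) hfix
    · exact ⟨d, hd, by simpa [f] using hx'.symm⟩
    · have e : g * w * g⁻¹ = g * v * g⁻¹ := by simpa [img, hw] using key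
      exact absurd (mul_left_cancel (mul_right_cancel e)) hwv
    · have e : g * w * g⁻¹ = g * v⁻¹ * g⁻¹ := by
        rw [key]; simp only [img, if_true]; rw [hw]; group
      exact absurd (mul_left_cancel (mul_right_cancel e)) hwv'
  · obtain ⟨q, hq'⟩ :=
      (hφinj.bijective_of_nat_card_le (by rw [hq, h4])).2 ⟨d, hd⟩
    refine ⟨q.out, q.out.2, ?_⟩
    have e : (q.out : G) * y * (q.out : G)⁻¹ * y = d := congrArg Subtype.val hq'
    rw [← e, mul_assoc ((q.out : G) * y * (q.out : G)⁻¹) y y, hy2, mul_one]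

theorem Conf.card_D {y : G} (h : UT (K.S : Subgroup G) y) : Nat.card ↥(K.D y) = 4 := by
  obtain ⟨g, hgS, -, hyg, hg⟩ := K.exists_g h
  exact (K.D_structure h hgS hyg hg).1

theorem Conf.coset_UT {y d : G} (h : UT (K.S : Subgroup G) y) (hd : d ∈ K.D y) :
    UT (K.S : Subgroup G) (d * y) := by
  obtain ⟨g, hgS, -, hyg, hg⟩ := K.exists_g h
  obtain ⟨s, hs, e⟩ := (K.D_structure h hgS hyg hg).2.2 d hd
  rw [← e]
  exact h.conj_le K.S.2 s fun a ha => mul_mem (mul_mem hs ha) (inv_mem hs)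

end Cfsg.Agent.M12Uniq.Z3
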