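import Cfsg.Agent.M12Uniq.CountsZConf

/-!
# An element of order 3 outside `V` fixing one of the involutions (see `PLAN-Counts.md`, §C, step 4)
-/

set_option autoImplicit false

open Subgroup

namespace Cfsg.Agent.M12Uniq.Z3

universe u

variable {G : Type u} [Group G] (K : Conf G)

theorem Conf.cent_V {c v : G} (hc : c ∈ K.CV) (hv : v ∈ K.V) : c * v = v * c :=
  (K.mem_CV.mp hc v hv).symm

variable [Finite G]

theorem Conf.coprime_E (n : ℕ) : Nat.Coprime (Nat.card K.E) (3 ^ n) := by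
  have : Fact (Nat.Prime 2) := ⟨Nat.prime_two⟩
  obtain ⟨k, hk⟩ := IsPGroup.iff_card.mp (exponent_two K.E_sq).1
  rw [hk]
  exact Nat.Coprime.pow _ _ (by norm_num)

theorem Conf.mem_E_of_sq : ∀ c ∈ K.CV, c * c = 1 → c ∈ K.E := by
  have : Fact (Nat.Prime 2) := ⟨Nat.prime_two⟩
  have hEle : K.E ≤ K.CV := inf_le_right
  set E' := K.E.subgroupOf K.CV with hE'
  set V' := K.V.subgroupOf K.CV with hV'
  have hE'c : Nat.card E' = Nat.card K.E :=
    Nat.card_congr (Subgroup.subgroupOfEquivOfLe hEle).toEquiv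
  have hV'c : Nat.card V' = 9 :=
    (Nat.card_congr (Subgroup.subgroupOfEquivOfLe K.V_le_CV).toEquiv).trans K.card_V
  obtain ⟨k, hk⟩ := IsPGroup.iff_card.mp (exponent_two K.E_sq).1
  -- the group `E V` centralizes `E`
  have hEVcomm : ∀ N : Subgroup K.CV, E' ≤ N → V' ≤ N → Nat.card N = Nat.card K.E * 9 →
      ∀ n ∈ N, ∀ e ∈ E', n * e = e * n := by
    intro N hE hV hN n hn e he
    obtain ⟨a, ha, b, hb, rfl⟩ := exists_mul_of_card hE hV
      (by rw [hE'c, hV'c]; exact K.coprime_E 2) (by rw [hE'c, hV'c, hN]) hn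
    apply Subtype.ext
    have h1 : (a : G) * e = e * a := K.E_comm _ ha _ he
    have h2 : (b : G) * e = e * b := (K.cent_V e.2 hb).symm
    push_cast
    rw [mul_assoc, h2, ← mul_assoc, h1, mul_assoc]
  obtain ⟨P, hP, hPn⟩ : ∃ P : Sylow 2 K.CV, (P : Subgroup K.CV) = E' ∧ E'.Normal := by
    rcases K.card_CV with h9 | h27
    · refine ⟨Sylow.ofCard E' ?_, Sylow.coe_ofCard _ _, ⟨fun e he c => ?_⟩⟩
      · rw [hE'c, hk, h9, hk, Nat.factorization_mul (by norm_num) (pow_ne_zero _ two_ne_zero),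
          Finsupp.add_apply, Nat.prime_two.factorization_pow,
          Nat.factorization_eq_zero_of_not_dvd (by norm_num : ¬ 2 ∣ 9)]
        simp
      · have h := hEVcomm ⊤ le_top le_top (by rw [card_top, h9, mul_comm]) c (mem_top c) e he
        rw [h, mul_inv_cancel_right]; exact he
    · have hfac : Nat.card E' = 2 ^ (Nat.card K.CV).factorization 2 := by
        rw [hE'c, hk, h27, hk, Nat.factorization_mul (by norm_num) (pow_ne_zero _ two_ne_zero),
          Finsupp.add_apply, Nat.prime_two.factorization_pow,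
          Nat.factorization_eq_zero_of_not_dvd (by norm_num : ¬ 2 ∣ 27)]
        simp
      refine ⟨Sylow.ofCard E' hfac, Sylow.coe_ofCard _ _, ?_⟩
      by_contra hnn
      set P := Sylow.ofCard E' hfac with hPdef
      have hPE : (P : Subgroup K.CV) = E' := Sylow.coe_ofCard _ _
      set N := normalizer (E' : Set K.CV) with hN
      have hVN : V' ≤ N := fun w hw => mem_normalizer_of_conj fun e he => by
        have h : w * e * w⁻¹ = e := by
          apply Subtype.ext
          push_cast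
          rw [← K.cent_V e.2 (mem_subgroupOf.mp hw), mul_inv_cancel_right]
        rw [h]; exact he
      have h1 : Nat.card K.E * 9 ∣ Nat.card N :=
        Nat.Coprime.mul_dvd_of_dvd_of_dvd (K.coprime_E 2) (hE'c ▸ card_dvd_of_le le_normalizer)
          (hV'c ▸ card_dvd_of_le hVN)
      obtain ⟨a, ha⟩ := h1
      have h2 : Nat.card K.E * 9 * a ∣ Nat.card K.E * 9 * 3 := by
        rw [← ha]
        exact (card_subgroup_dvd_card N).trans (dvd_of_eq (by rw [h27]; ring))
      have ha3 : a ∣ 3 :=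
        (Nat.mul_dvd_mul_iff_left (by have := Nat.card_pos (α := K.E); omega)).mp h2
      rcases (Nat.dvd_prime Nat.prime_three).mp ha3 with rfl | rfl
      · have hNC : normalizer ((P : Subgroup K.CV) : Set K.CV) ≤
            centralizer ((P : Subgroup K.CV) : Set K.CV) := by
          rw [hPE]
          intro n hn
          exact mem_centralizer_iff.mpr fun e he =>
            (hEVcomm N le_normalizer hVN (by rw [ha, mul_one]) n hn e he).symm
        set φ := MonoidHom.transferSylow P hNC with hφ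
        have hcard := (MonoidHom.ker_transferSylow_isComplement' P hNC).card_mul
        rw [show Nat.card ↥(P : Subgroup K.CV) = Nat.card K.E by rw [hPE, hE'c], h27] at hcard
        have hker : Nat.card φ.ker = 27 :=
          Nat.eq_of_mul_eq_mul_right Nat.card_pos hcard
        have hmem : ∀ x : K.CV, (x : G) ^ 3 = 1 → x ∈ φ.ker := by
          intro x hx
          have h3 : φ x ^ 3 = 1 := by
            rw [← map_pow, show x ^ 3 = 1 from Subtype.ext (by push_cast; exact hx), map_one]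
          have h2 : φ x * φ x = 1 := by
            have he : ((φ x : K.CV) : G) ∈ K.E := by
              exact mem_subgroupOf.mp (hPE.le (φ x).2)
            exact Subtype.ext (Subtype.ext (by push_cast; exact K.E_sq _ he))
          rw [MonoidHom.mem_ker]
          rwa [pow_succ, pow_two, h2, one_mul] at h3
        set Z := φ.ker.map K.CV.subtype with hZ
        have hZc : Nat.card Z = 27 := by
          rw [← hker]
          exact (Nat.card_congr (equivMapOfInjective _ _ (subtype_injective _)).toEquiv).symm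
        have h4 : 4 ∣ Nat.card Z - 1 := four_dvd_card_sub_one K.hp K.hf K.S (fun z hz =>
          cube_one K.hp (pow_card_one hZc hz)) fun s hs z hz => by
            obtain ⟨x, hx, rfl⟩ := hz
            refine ⟨⟨s * x * s⁻¹, K.conj_CV (fun _ hv => K.inv_conj (K.S_le_N hs) hv) x.2⟩,
              hmem _ ?_, rfl⟩
            show (s * (x : G) * s⁻¹) ^ 3 = 1
            have hx3 : (x : G) ^ 3 = 1 := cube_one K.hp (pow_card_one hZc ⟨x, hx, rfl⟩)
            rw [conj_pow, hx3, mul_one,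
              mul_inv_cancel]
        rw [hZc] at h4
        norm_num at h4
      · refine hnn ?_
        have hNtop : N = ⊤ := eq_top_of_card_eq _ (by rw [ha, h27]; ring)
        exact normalizer_eq_top_iff.mp hNtop
  intro c hc hc2
  obtain ⟨Q, hQ⟩ := (IsPGroup.of_card (n := (orderOf (⟨c, hc⟩ : K.CV)).factorization 2) (p := 2)
    (G := ↥(zpowers (⟨c, hc⟩ : K.CV))) (by
      rw [Nat.card_zpowers]
      have hd : orderOf (⟨c, hc⟩ : K.CV) ∣ 2 :=
        orderOf_dvd_of_pow_eq_one (Subtype.ext (by push_cast; rw [pow_two]; exact hc2))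
      rcases (Nat.dvd_prime Nat.prime_two).mp hd with h | h <;> rw [h] <;>
        simp [Nat.prime_two.factorization_self])).exists_le_sylow
  have hPn' : (P : Subgroup K.CV).Normal := hP ▸ hPn
  have := P.unique_of_normal hPn'
  rw [Subsingleton.elim Q P, hP] at hQ
  exact mem_subgroupOf.mp (hQ (mem_zpowers _))

theorem Conf.conj_E_of_N {n e : G} (hn : n ∈ normalizer (K.V : Set G)) (he : e ∈ K.E) :
    n * e * n⁻¹ ∈ K.E :=
  K.mem_E_of_sq _ (K.conj_CV (fun _ hv => K.inv_conj hn hv) he.2)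
    (by rw [conj_mul, K.E_sq e he, mul_one, mul_inv_cancel])

/-- In `E y` an element of order 3 normalizing `E y` fixes an involution. -/
theorem Conf.exists_fixed {y h : G} (hy : UT (K.S : Subgroup G) y)
    (hn : h ∈ normalizer (K.V : Set G)) (h3 : h ^ 3 = 1) (hyh : h * y * h⁻¹ * y ∈ K.E) :
    ∃ z : G, UT (K.S : Subgroup G) z ∧ h * z = z * h := by
  classical
  have hy2 := Loc.sq_of_orderOf hy.ord
  have hmem : ∀ d ∈ K.D y, h * (d * y) * h⁻¹ * y ∈ K.D y := by
    intro d hd
    have hdy : d * y * (d * y) = 1 := by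
      rw [show d * y * (d * y) = d * (y * d) * y by group, (K.mem_D.mp hd).2,
        show d * (d * y) * y = d * d * (y * y) by group, hy2, mul_one,
        K.E_sq d (K.D_le y hd)]
    have hE : h * (d * y) * h⁻¹ * y ∈ K.E := by
      rw [show h * (d * y) * h⁻¹ * y = h * d * h⁻¹ * (h * y * h⁻¹ * y) by group]
      exact mul_mem (K.conj_E_of_N hn (K.D_le y hd)) hyh
    refine K.mem_D_of_sq hy2 hE ?_
    rw [mul_assoc (h * (d * y) * h⁻¹) y y, hy2, mul_one, conj_mul, hdy, mul_one, mul_inv_cancel]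
  let f : ↥(K.D y) → ↥(K.D y) := fun d => ⟨h * (d * y) * h⁻¹ * y, hmem d d.2⟩
  have hf3 : ∀ d, f (f (f d)) = d := fun d => Subtype.ext (by
    show h * (h * (h * (d * y) * h⁻¹ * y * y) * h⁻¹ * y * y) * h⁻¹ * y = d
    rw [mul_assoc (h * (d * y) * h⁻¹) y y, hy2, mul_one,
      mul_assoc (h * (h * (d * y) * h⁻¹) * h⁻¹) y y, hy2, mul_one,
      show h * (h * (h * ((d : G) * y) * h⁻¹) * h⁻¹) * h⁻¹ * y =
        h * h * h * (d * y) * (h * h * h)⁻¹ * y by group, ← pow_two, ← pow_succ, h3, one_mul,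
      inv_one, mul_one, mul_assoc, hy2, mul_one])
  let σ : Equiv.Perm ↥(K.D y) := ⟨f, fun d => f (f d), hf3, fun d => hf3 d⟩
  have := Fintype.ofFinite ↥(K.D y)
  have : Fact (Nat.Prime 3) := ⟨Nat.prime_three⟩
  obtain ⟨d, hd⟩ := Equiv.Perm.exists_fixed_point_of_prime (p := 3) (n := 1) (σ := σ)
    (by rw [← Nat.card_eq_fintype_card, K.card_D hy]; norm_num)
    (Equiv.ext fun d => by simpa [pow_succ, σ] using hf3 d)
  refine ⟨d * y, K.coset_UT hy d.2, ?_⟩
  have hd' : h * ((d : G) * y) * h⁻¹ * y = d := congrArg Subtype.val hd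
  rw [← mul_inv_eq_iff_eq_mul]
  calc h * ((d : G) * y) * h⁻¹ = h * ((d : G) * y) * h⁻¹ * (y * y) := by rw [hy2, mul_one]
    _ = d * y := by rw [← mul_assoc (h * ((d : G) * y) * h⁻¹) y y, hd']

theorem Conf.exists_h : ∃ y h : G, UT (K.S : Subgroup G) y ∧ h ∈ normalizer (K.V : Set G) ∧
    h ^ 3 = 1 ∧ h ∉ K.V ∧ h * y = y * h := by
  classical
  have : Fact (Nat.Prime 3) := ⟨Nat.prime_three⟩
  obtain ⟨u, hu⟩ := exists_u K.hp K.hf K.S
  rcases K.card_CV with h9 | h27
  · -- no Sylow 3-subgroup centralizes `V`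
    have hN : 3 ^ 3 ∣ Nat.card ↥(normalizer (K.V : Set G)) :=
      Sylow.prime_pow_dvd_card_normalizer (by rw [K.hp.card]; norm_num)
        (show Nat.card K.V = 3 ^ 2 by rw [K.card_V]; norm_num)
    obtain ⟨P, hP⟩ := Sylow.exists_subgroup_card_pow_prime 3 hN
    have hPcube : ∀ p ∈ P, (p : G) ^ 3 = 1 := fun p hp => cube_one K.hp (by
      have := congrArg Subtype.val (pow_card_one hP hp)
      norm_num at this
      exact this)
    obtain ⟨p, hpP, hpC⟩ : ∃ p ∈ P, (p : G) ∉ K.CV := by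
      by_contra hcon
      push Not at hcon
      have hle : P.map (normalizer (K.V : Set G)).subtype ≤ K.CV := by
        rintro _ ⟨p, hp, rfl⟩; exact hcon p hp
      have h := card_dvd_of_le hle
      rw [← Nat.card_congr (equivMapOfInjective P _ (subtype_injective _)).toEquiv, hP, h9] at h
      have h2 : (27 : ℕ) ∣ 9 := (K.coprime_E 3).symm.dvd_of_dvd_mul_right (by simpa using h)
      norm_num at h2
    have hpN : (p : G) ∈ normalizer (K.V : Set G) := p.2
    have hp3 := hPcube p hpP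
    set c := (p : G) * u * (p : G)⁻¹ * u with hc
    have hcCV : c ∈ K.CV := K.mem_CV.mpr fun v hv => by
      have h1 : Loc.Inv ((p : G) * u * (p : G)⁻¹) v := by
        have h := (K.inv_V hu _ (K.inv_conj hpN hv)).map (p : G)
        rwa [show (p : G) * ((p : G)⁻¹ * v * p) * (p : G)⁻¹ = v by group] at h
      exact (Loc.Inv.mul_left_inv h1 (K.inv_V hu v hv)).comm.symm
    obtain ⟨e, he, v, hv, hev⟩ := exists_mul_of_card (show K.E ≤ K.CV from inf_le_right) K.V_le_CV
      (by rw [K.card_V]; exact K.coprime_E 2) (by rw [h9, K.card_V, mul_comm]) hcCV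
    have hu2 := Loc.sq_of_orderOf hu.ord
    set h := v * (p : G) with hh
    have hhN : h ∈ normalizer (K.V : Set G) := mul_mem (le_normalizer hv) hpN
    have hhu : h * u * h⁻¹ * u = e := by
      have h1 : (p : G) * u * (p : G)⁻¹ = e * v * u := by
        rw [← hev, hc, mul_assoc ((p : G) * u * (p : G)⁻¹) u u, hu2, mul_one]
      have h2 : u * v⁻¹ * u = v := by
        have := K.inv_V hu v⁻¹ (inv_mem hv)
        rwa [Loc.Inv, inv_inv, Loc.inv_of_orderOf hu.ord] at this
      calc h * u * h⁻¹ * u = v * ((p : G) * u * (p : G)⁻¹) * v⁻¹ * u := by rw [hh]; group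
        _ = v * e * v * (u * v⁻¹ * u) := by rw [h1]; group
        _ = v * e * v * v := by rw [h2]
        _ = e * v ^ 3 := by simp only [← K.cent_V he.2 hv, pow_succ, pow_zero, one_mul, mul_assoc]
        _ = e := by rw [K.cube_V v hv, mul_one]
    have hh3 : h ^ 3 = 1 := by
      refine cube_one K.hp ?_
      have h3v : h ^ 3 = v * ((p : G) * v * (p : G)⁻¹) * ((p : G) ^ 2 * v * ((p : G) ^ 2)⁻¹) *
          (p : G) ^ 3 := by rw [hh, pow_succ, pow_two, pow_succ (p : G) 2, pow_two]; group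
      have hV : h ^ 3 ∈ K.V := by
        rw [h3v, hp3, mul_one]
        exact mul_mem (mul_mem hv ((mem_normalizer_iff.mp hpN v).mp hv))
          ((mem_normalizer_iff.mp (pow_mem hpN 2) v).mp hv)
      rw [show (27 : ℕ) = 3 * (3 * 3) by norm_num, pow_mul, pow_mul, K.cube_V _ hV, one_pow]
    obtain ⟨z, hz, hzc⟩ := K.exists_fixed hu hhN hh3 (by rw [hhu]; exact he)
    refine ⟨z, h, hz, hhN, hh3, fun hV => hpC ?_, hzc⟩
    rw [show (p : G) = v⁻¹ * h by rw [hh]; group]
    exact K.V_le_CV (mul_mem (inv_mem hv) hV)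
  · -- a Sylow 3-subgroup centralizes `V`
    obtain ⟨g, hgS, -, hug, hg⟩ := K.exists_g hu
    obtain ⟨-, ⟨d, hd, hgg⟩, -⟩ := K.D_structure hu hgS hug hg
    have h27' : 3 ^ 3 ∣ Nat.card K.CV := ⟨Nat.card K.E, by rw [h27]; norm_num⟩
    obtain ⟨P0, hP0⟩ := Sylow.exists_subgroup_card_pow_prime 3 h27'
    have hfac : 3 ^ (Nat.card K.CV).factorization 3 = 3 ^ 3 := by
      rw [h27, Nat.factorization_mul (by norm_num) Nat.card_pos.ne', Finsupp.add_apply,
        Nat.factorization_eq_zero_of_not_dvd (n := Nat.card K.E) (fun hd => by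
          have := Nat.Coprime.coprime_dvd_left hd (K.coprime_E 1)
          norm_num at this),
        show (27 : ℕ) = 3 ^ 3 by norm_num, Nat.prime_three.factorization_pow]
      simp
    let Q : Sylow 3 K.CV := Sylow.ofCard P0 (hP0.trans hfac.symm)
    have hVQ : K.V.subgroupOf K.CV ≤ P0 := by
      have : (K.V.subgroupOf K.CV).Normal := ⟨fun w hw c => by
        rw [mem_subgroupOf] at hw ⊢
        push_cast
        rw [K.cent_V c.2 hw, mul_inv_cancel_right]; exact hw⟩
      refine IsPGroup.le_sylow_of_normal ?_ Q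
      exact (IsPGroup.of_card (n := 2) (p := 3) (by
        rw [Nat.card_congr (Subgroup.subgroupOfEquivOfLe K.V_le_CV).toEquiv, K.card_V]; norm_num))
    set P := P0.map K.CV.subtype with hP
    have hPle : P ≤ K.CV := map_subtype_le _
    have hPc : Nat.card P = 27 := by
      rw [hP, ← Nat.card_congr (equivMapOfInjective P0 _ (subtype_injective _)).toEquiv, hP0]
      norm_num
    have hVP : K.V ≤ P := fun w hw => ⟨⟨w, K.V_le_CV hw⟩, hVQ (mem_subgroupOf.mpr hw), rfl⟩
    have hPcube : ∀ p ∈ P, p ^ 3 = 1 := fun p hp => cube_one K.hp (pow_card_one hPc hp)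
    obtain ⟨h0, hh0, hh0V⟩ : ∃ h0 ∈ P, h0 ∉ K.V := by
      by_contra hcon
      push Not at hcon
      have h := card_dvd_of_le (show P ≤ K.V from hcon)
      rw [hPc, K.card_V] at h
      norm_num at h
    have hcov : ∀ x ∈ P, ∃ w ∈ K.V, ∃ i < 3, x = w * h0 ^ i := by
      let f : K.V × Fin 3 → P := fun a => ⟨a.1 * h0 ^ (a.2 : ℕ), mul_mem (hVP a.1.2) (pow_mem hh0 _)⟩
      have hinj : Function.Injective f := by
        rintro ⟨a, i⟩ ⟨b, j⟩ e
        have e' : (a : G) * h0 ^ (i : ℕ) = b * h0 ^ (j : ℕ) := congrArg Subtype.val e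
        have hV : h0 ^ ((i : ℕ) + 2 * j) ∈ K.V := by
          have h1 : (b : G)⁻¹ * a = h0 ^ (j : ℕ) * (h0 ^ (i : ℕ))⁻¹ := by
            calc (b : G)⁻¹ * a = (b : G)⁻¹ * (a * h0 ^ (i : ℕ)) * (h0 ^ (i : ℕ))⁻¹ := by group
              _ = _ := by rw [e']; group
          have h2 : h0 ^ ((i : ℕ) + 2 * j) = ((b : G)⁻¹ * a)⁻¹ := by
            rw [h1, mul_inv_rev, inv_inv, ← inv_pow, Loc.cube_inv (hPcube h0 hh0), pow_add, pow_mul]
          rw [h2]
          exact inv_mem (mul_mem (inv_mem b.2) a.2)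
        have hij : i = j := by
          by_contra hne
          have hn : ((i : ℕ) + 2 * j) % 3 = 1 ∨ ((i : ℕ) + 2 * j) % 3 = 2 := by
            have hne' : (i : ℕ) ≠ j := fun e => hne (Fin.ext e)
            have := i.2; have := j.2
            omega
          rw [Loc.pow_mod_three (hPcube h0 hh0)] at hV
          rcases hn with hn | hn <;> rw [hn] at hV
          · rw [pow_one] at hV; exact hh0V hV
          · refine hh0V ?_
            have h4 := pow_mem hV 2
            rwa [← pow_mul, Loc.pow_mod_three (hPcube h0 hh0), show 2 * 2 % 3 = 1 from rfl,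
              pow_one] at h4
        subst hij
        exact Prod.ext (Subtype.ext (mul_right_cancel e')) rfl
      intro x hx
      obtain ⟨⟨a, i⟩, e⟩ := (hinj.bijective_of_nat_card_le (by
        rw [Nat.card_prod, Nat.card_fin, K.card_V, hPc])).2 ⟨x, hx⟩
      exact ⟨a, a.2, i, i.2, (congrArg Subtype.val e).symm⟩
    -- adjust `g` to normalize `P`
    have hconjCV : ∀ c ∈ K.CV, g * c * g⁻¹ ∈ K.CV := fun c hc =>
      K.conj_CV (fun _ hv => K.inv_conj (K.S_le_N hgS) hv) hc
    let P1 : Subgroup K.CV := (P.map (MulAut.conj g).toMonoidHom).subgroupOf K.CV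
    have hP1le : P.map (MulAut.conj g).toMonoidHom ≤ K.CV := fun x hx => by
      obtain ⟨p, hp, rfl⟩ := mem_map_conj.mp hx
      exact hconjCV p (hPle hp)
    let Q1 : Sylow 3 K.CV := Sylow.ofCard P1 (by
      rw [Nat.card_congr (Subgroup.subgroupOfEquivOfLe hP1le).toEquiv, card_map_conj, hPc, hfac]
      norm_num)
    obtain ⟨c, hc⟩ := MulAction.exists_smul_eq K.CV Q Q1
    obtain ⟨e, he, p, hp, hep⟩ := exists_mul_of_card (show K.E ≤ K.CV from inf_le_right) hPle
      (by rw [hPc]; exact K.coprime_E 3) (by rw [h27, hPc, mul_comm]) c.2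
    set n := e⁻¹ * g with hn
    have hnS : n ∈ (K.S : Subgroup G) := mul_mem (inv_mem he.1) hgS
    have hnP : ∀ x ∈ P, n * x * n⁻¹ ∈ P := by
      intro x hx
      have hgx : (⟨g * x * g⁻¹, hconjCV x (hPle hx)⟩ : K.CV) ∈ (Q1 : Subgroup K.CV) :=
        mem_subgroupOf.mpr (mem_map_conj.mpr ⟨x, hx, rfl⟩)
      rw [← hc, Sylow.coe_subgroup_smul] at hgx
      obtain ⟨x', hx', hxx⟩ := hgx
      have hxx' : (c : G) * x' * (c : G)⁻¹ = g * x * g⁻¹ := congrArg Subtype.val hxx
      have : n * x * n⁻¹ = p * x' * p⁻¹ := by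
        rw [hn, show e⁻¹ * g * x * (e⁻¹ * g)⁻¹ = e⁻¹ * (g * x * g⁻¹) * e by group, ← hxx', hep]
        group
      rw [this]
      exact mul_mem (mul_mem hp ⟨x', hx', rfl⟩) (inv_mem hp)
    set m := n * n with hm
    set d' := e⁻¹ * (g * e⁻¹ * g⁻¹) * d with hd'
    have hd'E : d' ∈ K.E :=
      mul_mem (mul_mem (inv_mem he) (K.conj_E hgS (inv_mem he))) (K.D_le u hd)
    have hmd : m = d' * u := by
      calc m = e⁻¹ * (g * e⁻¹ * g⁻¹) * (g * g) := by rw [hm, hn]; group
        _ = d' * u := by rw [hgg, hd', mul_assoc _ d u]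
    have hminv : ∀ w ∈ K.V, Loc.Inv m w := fun w hw => by
      rw [hmd]; exact (K.fix_CV hd'E.2 hw).mul_left_inv (K.inv_V hu w hw)
    obtain ⟨v1, hv1, i, hi, hni⟩ := hcov _ (hnP h0 hh0)
    have hi0 : i ≠ 0 := fun e0 => hh0V (by
      have h := K.inv_conj (K.S_le_N hnS) hv1
      rw [e0, pow_zero, mul_one] at hni
      rwa [← hni, show n⁻¹ * (n * h0 * n⁻¹) * n = h0 by group] at h)
    set v2 := n * v1 * n⁻¹ * v1 ^ i with hv2
    have hv2V : v2 ∈ K.V := mul_mem (K.S_V n hnS v1 hv1) (pow_mem hv1 i)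
    have hcomm : Commute v1 h0 := (K.cent_V (hPle hh0) hv1).symm
    have hmh : m * h0 * m⁻¹ = v2 * h0 := by
      calc m * h0 * m⁻¹ = n * (n * h0 * n⁻¹) * n⁻¹ := by rw [hm]; group
        _ = n * v1 * n⁻¹ * (n * h0 * n⁻¹) ^ i := by rw [conj_pow, conj_mul, ← hni]
        _ = n * v1 * n⁻¹ * (v1 ^ i * h0 ^ (i * i)) := by rw [hni, (hcomm.pow_right i).mul_pow, ← pow_mul]
        _ = v2 * h0 := by
          rw [hv2, Loc.pow_mod_three (hPcube h0 hh0) (i * i)]
          have : i * i % 3 = 1 := by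
            have : i = 1 ∨ i = 2 := by omega
            rcases this with rfl | rfl <;> rfl
          rw [this, pow_one]; group
    set h := v2 ^ 2 * h0 with hh
    have hhP : h ∈ P := mul_mem (hVP (pow_mem hv2V 2)) hh0
    have hh3 : h ^ 3 = 1 := hPcube h hhP
    have hhV : h ∉ K.V := fun hV => hh0V (by
      have := mul_mem (inv_mem (pow_mem hv2V 2)) hV
      rwa [hh, inv_mul_cancel_left] at this)
    have hfix : Loc.Fix m h := by
      have h1 : m * v2 ^ 2 * m⁻¹ = (v2 ^ 2)⁻¹ := (hminv v2 hv2V).pow 2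
      rw [Loc.Fix, hh, ← conj_mul, h1, hmh, ← mul_assoc]
      congr 1
      rw [inv_mul_eq_iff_eq_mul, ← pow_add, Loc.pow_mod_three (K.cube_V v2 hv2V) (2 + 2),
        show (2 + 2) % 3 = 1 from rfl, pow_one]
    have hm2 : m * m = 1 := sq_one_of_two_group K.hp K.S.2 (mul_mem hnS hnS)
      (Loc.orderOf_three hh3 (fun e => hhV (e ▸ one_mem K.V))) hfix.comm
    have hd'D : d' ∈ K.D u := K.mem_D_of_sq (Loc.sq_of_orderOf hu.ord) hd'E (by rw [← hmd]; exact hm2)
    exact ⟨m, h, hmd ▸ K.coset_UT hu hd'D,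
      mem_normalizer_of_conj fun w hw => by
        rw [show h * w * h⁻¹ = w from (K.fix_CV (hPle hhP) hw)]; exact hw,
      hh3, hhV, hfix.comm.symm⟩

end Cfsg.Agent.M12Uniq.Z3
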