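import Cfsg.Prelude.Def_Sporadic
import Cfsg.Prelude.Def_Spor_Mathieu
import Cfsg.Prelude.Def_Blocks
import Cfsg.Prelude.Def_Characters

/-!
# Interfaces for the identification of `M₁₂` (see `PLAN.md` in this folder)
-/

set_option autoImplicit false

namespace Cfsg.Agent.M12Uniq

open Subgroup

universe u

/-- The order of the centralizer of an element. -/
noncomputable def cC {G : Type u} [Group G] (g : G) : ℕ :=
  Nat.card (centralizer ({g} : Set G))

/-- Class data of `M₁₂`, as obtained from the counts of elements of each order. -/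
structure Counts (G : Type u) [Group G] : Prop where
  card : Nat.card G = 95040
  simple : IsSimpleGroup G
  sylow11 : ∀ P : Subgroup G, Nat.card P = 11 → Nat.card (normalizer (P : Set G)) = 55
  five : ∀ q : G, orderOf q = 5 → cC q = 10
  five_norm : ∀ Q : Subgroup G, Nat.card Q = 5 → Nat.card (normalizer (Q : Set G)) = 40
  invol : ∀ t : G, orderOf t = 2 → cC t = 192 ∨ cC t = 240
  exists_z : ∃ z : G, orderOf z = 2 ∧ cC z = 192
  exists_u : ∃ u : G, orderOf u = 2 ∧ cC u = 240
  invol_conj : ∀ s t : G, orderOf s = 2 → orderOf t = 2 → cC s = cC t → IsConj s t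
  three : ∀ x : G, orderOf x = 3 → cC x = 54 ∨ cC x = 36
  exists_x : ∃ x : G, orderOf x = 3 ∧ cC x = 54
  exists_y : ∃ y : G, orderOf y = 3 ∧ cC y = 36
  three_conj : ∀ x y : G, orderOf x = 3 → orderOf y = 3 → cC x = cC y → IsConj x y
  cent54 : ∀ x t : G, orderOf x = 3 → cC x = 54 → orderOf t = 2 → x * t = t * x → cC t = 192
  cent36 : ∀ x t : G, orderOf x = 3 → cC x = 36 → orderOf t = 2 → x * t = t * x → cC t = 240
  five_comm : ∀ q t : G, orderOf q = 5 → orderOf t = 2 → q * t = t * q → cC t = 240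
  z_three : ∀ z h : G, orderOf z = 2 → cC z = 192 → orderOf h = 3 → z * h = h * z →
    Nat.card ↥(centralizer ({z} : Set G) ⊓ centralizer ({h} : Set G)) = 6
  no_order : ∀ g : G, orderOf g ∈ ({1, 2, 3, 4, 5, 6, 8, 10, 11} : Finset ℕ)
  count_four : Nat.card {g : G // orderOf g = 4} = 5940
  count_eight : Nat.card {g : G // orderOf g = 8} = 23760

/-- An elementary abelian group of order 9 inverted by the 2-central involution `z`, with its
local data: `H` is the centralizer of `z` in its normalizer, `R` the quaternion group in `H`, `M`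
the centralizer of `R` in `C(z)`, `H'` a conjugate of `H` in `C(z)`, `h` and `u` elements of order
3 and 2 of `H`. -/
structure EData (G : Type u) [Group G] where
  z : G
  h : G
  u : G
  E : Subgroup G
  H : Subgroup G
  H' : Subgroup G
  R : Subgroup G
  M : Subgroup G
  orderOf_z : orderOf z = 2
  cC_z : cC z = 192
  card_E : Nat.card E = 9
  comm_E : ∀ a ∈ E, ∀ b ∈ E, a * b = b * a
  three_E : ∀ a ∈ E, a ≠ 1 → orderOf a = 3 ∧ cC a = 54
  inv_E : ∀ a ∈ E, z * a * z⁻¹ = a⁻¹
  centralizer_E : centralizer (E : Set G) = E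
  card_N : Nat.card (normalizer (E : Set G)) = 432
  H_eq : H = normalizer (E : Set G) ⊓ centralizer ({z} : Set G)
  card_H : Nat.card H = 48
  card_R : Nat.card R = 8
  R_le : R ≤ H
  z_mem_R : z ∈ R
  R_normal : centralizer ({z} : Set G) ≤ normalizer (R : Set G)
  R_trans : ∀ a ∈ E, ∀ b ∈ E, a ≠ 1 → b ≠ 1 → ∃ r ∈ R, r * a * r⁻¹ = b
  h_mem : h ∈ H
  orderOf_h : orderOf h = 3
  cC_h : cC h = 54
  u_mem : u ∈ H
  u_mem' : u ∈ H'
  u_notMem : u ∉ R
  orderOf_u : orderOf u = 2
  cC_u : cC u = 192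
  u_h : u * h * u⁻¹ = h⁻¹
  u_fix : ∃ a ∈ E, a ≠ 1 ∧ u * a * u⁻¹ = a ∧ h * a * h⁻¹ = a
  H'_conj : ∃ c ∈ centralizer ({z} : Set G), H' = H.map (MulAut.conj c).toMonoidHom
  card_inf : Nat.card ↥(H ⊓ H') = 16
  H'_not_le : ¬ H' ≤ normalizer (E : Set G)
  /-- `H` is generated by `R` and the conjugates of `u`. -/
  H_gen : H ≤ Subgroup.closure {g : G | ∃ k ∈ H, g = k * u * k⁻¹}
  card_M : Nat.card M = 8
  M_le : M ≤ centralizer ({z} : Set G)
  M_comm : ∀ r ∈ R, ∀ m ∈ M, r * m = m * r
  M_inf : R ⊓ M = Subgroup.zpowers z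
  M_normal : centralizer ({z} : Set G) ≤ normalizer (M : Set G)
  M_sq : ∀ m ∈ M, m ∉ Subgroup.zpowers z → m * m = z
  R_sq : ∀ r ∈ R, r ∉ Subgroup.zpowers z → r * r = z

/-- The facts on irreducible characters used by the identification. -/
structure CharFacts (G : Type u) [Group G] : Prop where
  exists_eleven : ∃ χ : Cfsg.IrrCharacter G, Cfsg.charDegree (χ : G → ℂ) = 11
  degree_mod : ∀ χ : Cfsg.IrrCharacter G,
    Cfsg.charDegree (χ : G → ℂ) % 11 ∈ ({0, 1, 5, 6, 10} : Finset ℕ)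

end Cfsg.Agent.M12Uniq
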