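import Cfsg.Agent.M12Ord86.Proj
import Cfsg.Agent.Lib.BlocksCore.Omega

/-!
# Dimensions of spaces of fixed vectors

Generic lemmas: the fixed vectors of a subgroup as the range of the averaging projection, sums over a
product of two subgroups, and vectors fixed by two subgroups for dimension reasons.
-/

set_option autoImplicit false
set_option linter.unusedSectionVars false

open Module Subgroup
open scoped Pointwise

namespace Cfsg.Agent.M12Uniq

open Cfsg.Agent.M12Ord86

variable {G : Type*} [Group G] [Fintype G]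

theorem card_mul_of_disjoint {K₁ K₂ : Subgroup G} (hn : K₂ ≤ normalizer (K₁ : Set G))
    (hd : K₁ ⊓ K₂ = ⊥) : Nat.card ↥(K₁ ⊔ K₂) = Nat.card K₁ * Nat.card K₂ := by
  rw [← Nat.card_prod]
  refine (Nat.card_eq_of_bijective (fun p : K₁ × K₂ =>
    (⟨(p.1 : G) * p.2, mul_mem_sup p.1.2 p.2.2⟩ : ↥(K₁ ⊔ K₂))) ⟨?_, ?_⟩).symm
  · intro p q h
    exact mul_injective_of_disjoint (disjoint_iff.mpr hd) (congrArg Subtype.val h)
  · rintro ⟨x, hx⟩
    have hx' : x ∈ (↑(K₁ ⊔ K₂) : Set G) := hx
    rw [coe_mul_of_right_le_normalizer_left _ _ hn] at hx'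
    obtain ⟨a, ha, b, hb, rfl⟩ := hx'
    exact ⟨(⟨a, ha⟩, ⟨b, hb⟩), rfl⟩

theorem sum_elems_sup {M : Type*} [AddCommMonoid M] (f : G → M) {K₁ K₂ : Subgroup G}
    (hn : K₂ ≤ normalizer (K₁ : Set G)) (hd : K₁ ⊓ K₂ = ⊥) :
    ∑ x ∈ elems (K₁ ⊔ K₂), f x = ∑ b ∈ elems K₂, ∑ a ∈ elems K₁, f (a * b) := by
  rw [Finset.sum_comm, ← Finset.sum_product']
  symm
  refine Finset.sum_bij (fun p _ => p.1 * p.2) (fun p hp => ?_) (fun p hp q hq h => ?_)
    (fun x hx => ?_) (fun _ _ => rfl)
  · simp only [Finset.mem_product, mem_elems] at hp ⊢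
    exact mul_mem_sup hp.1 hp.2
  · simp only [Finset.mem_product, mem_elems] at hp hq
    have := mul_injective_of_disjoint (disjoint_iff.mpr hd)
      (a₁ := (⟨p.1, hp.1⟩, ⟨p.2, hp.2⟩)) (a₂ := (⟨q.1, hq.1⟩, ⟨q.2, hq.2⟩)) h
    simp only [Prod.mk.injEq, Subtype.mk.injEq] at this
    exact Prod.ext this.1 this.2
  · rw [mem_elems] at hx
    have hx' : x ∈ (↑(K₁ ⊔ K₂) : Set G) := hx
    rw [coe_mul_of_right_le_normalizer_left _ _ hn] at hx'
    obtain ⟨a, ha, b, hb, rfl⟩ := hx'
    exact ⟨(a, b), by simp only [Finset.mem_product, mem_elems]; exact ⟨ha, hb⟩, rfl⟩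

theorem elems_zpowers_two {t : G} (ht : orderOf t = 2) [DecidableEq G] :
    elems (zpowers t) = {1, t} := by
  refine (Finset.eq_of_subset_of_card_le (fun x hx => ?_) ?_).symm
  · simp only [Finset.mem_insert, Finset.mem_singleton] at hx
    rw [mem_elems]
    rcases hx with rfl | rfl
    · exact one_mem _
    · exact mem_zpowers _
  · rw [card_elems, Nat.card_zpowers, ht, Finset.card_pair]
    rintro rfl
    rw [orderOf_one] at ht
    omega

variable {V : Type*} [AddCommGroup V] [Module ℂ V] [FiniteDimensional ℂ V]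

/-- The dimension of the fixed space. -/
noncomputable def fixDim (ρ : Representation ℂ G V) (K : Subgroup G) : ℕ :=
  finrank ℂ (LinearMap.range (proj ρ K))

variable {ρ : Representation ℂ G V} {K L : Subgroup G}

theorem fixDim_trace : (fixDim ρ K : ℂ) = LinearMap.trace ℂ V (proj ρ K) :=
  trace_proj_eq_finrank.symm

theorem card_mul_fixDim : (Nat.card K : ℂ) * fixDim ρ K = ∑ k ∈ elems K, ρ.character k := by
  rw [fixDim_trace, trace_proj, mul_inv_cancel_left₀ (elems_card_ne_zero K)]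

theorem fixDim_mono (h : L ≤ K) : fixDim ρ K ≤ fixDim ρ L := by
  refine Submodule.finrank_mono ?_
  rw [← proj_mul_proj_of_le (ρ := ρ) h, Module.End.mul_eq_comp]
  exact LinearMap.range_comp_le_range _ _

theorem proj_eq_of_fixDim (h : L ≤ K) (hd : fixDim ρ K = fixDim ρ L) : proj ρ K = proj ρ L :=
  proj_eq_of_trace h (by rw [← fixDim_trace, ← fixDim_trace, hd])

/-- A projection fixed by a set of elements is fixed by the subgroup they generate. -/
theorem rho_fix_of_closure {X : Module.End ℂ V} {s : Set G} (h : ∀ g ∈ s, ρ g * X = X) {g : G}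
    (hg : g ∈ Subgroup.closure s) : ρ g * X = X := by
  induction hg using Subgroup.closure_induction with
  | mem x hx => exact h x hx
  | one => rw [map_one, one_mul]
  | mul x y _ _ hx hy => rw [map_mul, mul_assoc, hy, hx]
  | inv x _ hx =>
    nth_rw 1 [← hx]
    rw [← mul_assoc, ← map_mul, inv_mul_cancel, map_one, one_mul]

/-- A larger subgroup fixing the fixed space of a smaller one has the same fixed space. -/
theorem proj_eq_of_fix (h : L ≤ K) (hfix : ∀ g ∈ K, ρ g * proj ρ L = proj ρ L) :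
    proj ρ K = proj ρ L := by
  rw [← proj_mul_proj_of_le' (ρ := ρ) h]
  exact proj_mul_eq hfix

theorem fixDim_eq_of_proj (h : proj ρ K = proj ρ L) : fixDim ρ K = fixDim ρ L := by
  rw [fixDim, fixDim, h]

/-- Two subgroups over a common one with large fixed spaces fix a common vector. -/
theorem exists_common_fixed {A B T : Subgroup G} (hA : T ≤ A) (hB : T ≤ B)
    (h : fixDim ρ T < fixDim ρ A + fixDim ρ B) :
    ∃ v : V, v ≠ 0 ∧ (∀ g ∈ A, ρ g v = v) ∧ ∀ g ∈ B, ρ g v = v := by
  set RA := LinearMap.range (proj ρ A)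
  set RB := LinearMap.range (proj ρ B)
  have hle : ∀ {K : Subgroup G}, T ≤ K → LinearMap.range (proj ρ K) ≤ LinearMap.range (proj ρ T) := by
    intro K hK
    rw [← proj_mul_proj_of_le (ρ := ρ) hK, Module.End.mul_eq_comp]
    exact LinearMap.range_comp_le_range _ _
  have hsup : finrank ℂ ↥(RA ⊔ RB) ≤ fixDim ρ T := Submodule.finrank_mono (sup_le (hle hA) (hle hB))
  have hadd := Submodule.finrank_sup_add_finrank_inf_eq RA RB
  have hne : RA ⊓ RB ≠ ⊥ := by
    intro h0
    rw [h0, finrank_bot, add_zero] at hadd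
    have hadd' : finrank ℂ ↥(RA ⊔ RB) = fixDim ρ A + fixDim ρ B := hadd
    omega
  obtain ⟨v, hv, hv0⟩ := Submodule.exists_mem_ne_zero_of_ne_bot hne
  refine ⟨v, hv0, fun g hg => ?_, fun g hg => ?_⟩
  · obtain ⟨w, rfl⟩ := hv.1
    exact LinearMap.congr_fun (mul_proj (ρ := ρ) hg) w
  · obtain ⟨w, rfl⟩ := hv.2
    exact LinearMap.congr_fun (mul_proj (ρ := ρ) hg) w

/-- The subgroup fixing a vector. -/
noncomputable def vecStab (ρ : Representation ℂ G V) (v : V) : Subgroup G where
  carrier := {g | ρ g v = v}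
  mul_mem' {g k} hg hk := by
    show ρ (g * k) v = v
    rw [map_mul, Module.End.mul_apply, hk, hg]
  one_mem' := by
    show ρ 1 v = v
    rw [map_one, Module.End.one_apply]
  inv_mem' {g} hg := by
    show ρ g⁻¹ v = v
    have h : ρ g v = v := hg
    nth_rw 1 [← h]
    rw [← Module.End.mul_apply, ← map_mul, inv_mul_cancel, map_one, Module.End.one_apply]

theorem fixDim_vecStab_pos {v : V} (hv : v ≠ 0) : 0 < fixDim ρ (vecStab ρ v) := by
  by_contra h
  have h0 : proj ρ (vecStab ρ v) = 0 := proj_eq_zero (by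
    rw [← fixDim_trace, Nat.le_zero.mp (Nat.not_lt.mp h), Nat.cast_zero])
  refine hv ?_
  have h1 : proj ρ (vecStab ρ v) v = v := by
    rw [proj, LinearMap.smul_apply, LinearMap.sum_apply,
      Finset.sum_congr rfl (g := fun _ => v) fun k hk => mem_elems.mp hk, Finset.sum_const,
      card_elems, ← Nat.cast_smul_eq_nsmul ℂ, smul_smul,
      inv_mul_cancel₀ (elems_card_ne_zero _), one_smul]
  rw [← h1, h0, LinearMap.zero_apply]

/-- A rational algebraic integer among the values. -/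
theorem exists_int_of_rat_integral {x : ℂ} (hx : IsIntegral ℤ x) {a b : ℤ} (hb : b ≠ 0)
    (h : (b : ℂ) * x = a) : ∃ n : ℤ, x = n := by
  have hxq : x = ((a / b : ℚ) : ℂ) := by
    rw [Rat.cast_div, Rat.cast_intCast, Rat.cast_intCast, eq_div_iff (Int.cast_ne_zero.mpr hb),
      mul_comm, h]
  have hq : IsIntegral ℤ (a / b : ℚ) := by
    rw [← isIntegral_algebraMap_iff (A := ℚ) (B := ℂ) (algebraMap ℚ ℂ).injective]
    rwa [eq_ratCast, ← hxq]
  obtain ⟨n, hn⟩ := IsIntegrallyClosed.isIntegral_iff.mp hq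
  refine ⟨n, ?_⟩
  rw [hxq, ← hn, algebraMap_int_eq, eq_intCast, Rat.cast_intCast]

end Cfsg.Agent.M12Uniq
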