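import Cfsg.Agent.M12Uniq.Defs
import Mathlib.GroupTheory.Index
import Mathlib.GroupTheory.Sylow

/-!
# Consequences of the local data of a subgroup of type `3²`
-/

set_option autoImplicit false
set_option linter.unusedSectionVars false

open Subgroup

namespace Cfsg.Agent.M12Uniq

variable {G : Type*} [Group G] [Finite G]

theorem conj_mem_of_le_normalizer {K X : Subgroup G} (h : K ≤ normalizer (X : Set G)) {k x : G}
    (hk : k ∈ K) (hx : x ∈ X) : k * x * k⁻¹ ∈ X :=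
  (mem_normalizer_iff.mp (h hk) x).mp hx

/-- A quaternion group normal in the centralizer of the involution `z`. -/
structure QData (z h : G) (X : Subgroup G) : Prop where
  z2 : orderOf z = 2
  h3 : orderOf h = 3
  hz : h * z = z * h
  card : Nat.card X = 8
  le : X ≤ centralizer ({z} : Set G)
  zmem : z ∈ X
  norm : centralizer ({z} : Set G) ≤ normalizer (X : Set G)
  sq : ∀ x ∈ X, x ≠ 1 → x ≠ z → x * x = z
  no12 : ∀ g : G, orderOf g ≠ 12

namespace QData

variable {z h : G} {X : Subgroup G} (Q : QData z h X)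
include Q

theorem zz : z * z = 1 := by rw [← pow_two, ← Q.z2, pow_orderOf_eq_one]

theorem z_ne : z ≠ 1 := fun e => by
  have := Q.z2
  rw [e, orderOf_one] at this
  omega

theorem h_mem : h ∈ centralizer ({z} : Set G) := mem_centralizer_singleton_iff.mpr Q.hz

theorem z_comm {x : G} (hx : x ∈ X) : x * z = z * x := mem_centralizer_singleton_iff.mp (Q.le hx)

theorem inv_eq {x : G} (hx : x ∈ X) (h1 : x ≠ 1) (hz' : x ≠ z) : x⁻¹ = z * x := by
  refine inv_eq_of_mul_eq_one_right ?_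
  rw [← mul_assoc, Q.z_comm hx, mul_assoc, Q.sq x hx h1 hz', Q.zz]

theorem zx_ne {x : G} (h1 : x ≠ 1) (hz' : x ≠ z) : z * x ≠ 1 ∧ z * x ≠ z :=
  ⟨fun e => hz' (by rw [eq_inv_of_mul_eq_one_right e, inv_eq_of_mul_eq_one_left Q.zz]),
    fun e => h1 (mul_left_cancel (e.trans (mul_one z).symm))⟩

theorem order_four {x : G} (hx : x ∈ X) (h1 : x ≠ 1) (hz' : x ≠ z) : orderOf x = 4 := by
  have h2 : ¬ x ^ 2 ^ 1 = 1 := by rw [pow_one, pow_two, Q.sq x hx h1 hz']; exact Q.z_ne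
  have h4 : x ^ 2 ^ (1 + 1) = 1 := by
    rw [show 2 ^ (1 + 1) = 2 * 2 by norm_num, pow_mul, pow_two x, Q.sq x hx h1 hz', pow_two, Q.zz]
  exact orderOf_eq_prime_pow h2 h4

theorem h_pow : h * (h * h) = 1 := by
  have := pow_orderOf_eq_one h
  rwa [Q.h3, pow_succ', pow_two] at this

theorem conj_h_mem {x : G} (hx : x ∈ X) : h * x * h⁻¹ ∈ X :=
  conj_mem_of_le_normalizer Q.norm Q.h_mem hx

theorem conj_h_ne {x : G} (h1 : x ≠ 1) (hz' : x ≠ z) : h * x * h⁻¹ ≠ 1 ∧ h * x * h⁻¹ ≠ z :=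
  ⟨fun e => h1 (by simpa using e), fun e => hz' (by
    have := congrArg (fun g => h⁻¹ * g * h) e
    simp only [mul_assoc, inv_mul_cancel, mul_one, inv_mul_cancel_left, ← Q.hz] at this
    simpa [mul_assoc] using this)⟩

/-- An element of order 3 of the centralizer moves every nontrivial coset of `⟨z⟩`. -/
theorem h_moves {x : G} (hx : x ∈ X) (h1 : x ≠ 1) (hz' : x ≠ z) :
    h * x * h⁻¹ ≠ x ∧ h * x * h⁻¹ ≠ z * x := by
  have hne : h * x * h⁻¹ ≠ x := by
    intro e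
    have hc : Commute h x := mul_inv_eq_iff_eq_mul.mp e
    refine Q.no12 (h * x) ?_
    rw [hc.orderOf_mul_eq_mul_orderOf_of_coprime (by rw [Q.h3, Q.order_four hx h1 hz']; norm_num),
      Q.h3, Q.order_four hx h1 hz']
  refine ⟨hne, fun e => ?_⟩
  have hhz : h * z * h⁻¹ = z := by rw [Q.hz, mul_inv_cancel_right]
  have e3 : h * (h * (h * x * h⁻¹) * h⁻¹) * h⁻¹ = x := by
    calc h * (h * (h * x * h⁻¹) * h⁻¹) * h⁻¹ = (h * (h * h)) * x * (h * (h * h))⁻¹ := by group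
      _ = x := by rw [Q.h_pow, one_mul, inv_one, mul_one]
  have e2 : h * (h * x * h⁻¹) * h⁻¹ = x := by
    rw [e, show h * (z * x) * h⁻¹ = (h * z * h⁻¹) * (h * x * h⁻¹) by group, hhz, e, ← mul_assoc, Q.zz,
      one_mul]
  rw [e2] at e3
  exact hne e3

/-- Elements outside a common cyclic subgroup invert each other. -/
theorem conj_eq_inv {x y : G} (hx : x ∈ X) (h1 : x ≠ 1) (hz' : x ≠ z) (hy : y ∈ X) (hy1 : y ≠ 1)
    (hyz : y ≠ z) (hyx : y ≠ x) (hyzx : y ≠ z * x) : y⁻¹ * x * y = z * x := by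
  have hxy1 : x * y ≠ 1 := fun e => hyzx (by rw [← Q.inv_eq hx h1 hz', eq_inv_of_mul_eq_one_right e])
  have hxyz : x * y ≠ z := fun e => hyx (by
    apply mul_left_cancel (a := x)
    rw [e, Q.sq x hx h1 hz'])
  have e := Q.sq (x * y) (mul_mem hx hy) hxy1 hxyz
  have e1 : x * y * x = z * y⁻¹ := by rw [← e]; group
  rw [Q.inv_eq hy hy1 hyz, ← mul_assoc, Q.zz, one_mul] at e1
  rw [← Q.inv_eq hx h1 hz']
  calc y⁻¹ * x * y = y⁻¹ * (x * y * x) * x⁻¹ := by group
    _ = x⁻¹ := by rw [e1]; group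

/-- The six elements of order 4. -/
theorem mem_cases {x y : G} (hx : x ∈ X) (h1 : x ≠ 1) (hz' : x ≠ z) (hy : y ∈ X) (hy1 : y ≠ 1)
    (hyz : y ≠ z) :
    y = x ∨ y = z * x ∨ y = h * x * h⁻¹ ∨ y = z * (h * x * h⁻¹) ∨
      y = h * (h * x * h⁻¹) * h⁻¹ ∨ y = z * (h * (h * x * h⁻¹) * h⁻¹) := by
  classical
  set a := h * x * h⁻¹ with ha
  set b := h * a * h⁻¹ with hb
  have haX : a ∈ X := Q.conj_h_mem hx
  obtain ⟨ha1, haz⟩ := Q.conj_h_ne h1 hz'
  have hbX : b ∈ X := Q.conj_h_mem haX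
  obtain ⟨hb1, hbz⟩ := Q.conj_h_ne ha1 haz
  have hcube : h * b * h⁻¹ = x := by
    calc h * b * h⁻¹ = (h * (h * h)) * x * (h * (h * h))⁻¹ := by rw [hb, ha]; group
      _ = x := by rw [Q.h_pow, one_mul, inv_one, mul_one]
  obtain ⟨hax, haxz⟩ := Q.h_moves hx h1 hz'
  obtain ⟨hba, hbaz⟩ := Q.h_moves haX ha1 haz
  obtain ⟨hxb, hxbz⟩ := Q.h_moves hbX hb1 hbz
  rw [hcube] at hxb hxbz
  have hzc : ∀ {p q : G}, z * p = q → p = z * q := fun e => by rw [← e, ← mul_assoc, Q.zz, one_mul]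
  have hz1 : ∀ p : G, z * p ≠ p := fun p e => Q.z_ne (mul_right_cancel (e.trans (one_mul p).symm))
  let l : List G := [1, z, x, z * x, a, z * a, b, z * b]
  have hnd : l.Nodup := by
    simp only [l, List.nodup_cons, List.mem_cons, List.not_mem_nil, or_false, not_or,
      List.nodup_nil, and_true, not_false_eq_true]
    refine ⟨⟨Q.z_ne.symm, h1.symm, (Q.zx_ne h1 hz').1.symm, ha1.symm, (Q.zx_ne ha1 haz).1.symm,
      hb1.symm, (Q.zx_ne hb1 hbz).1.symm⟩, ⟨hz'.symm, (Q.zx_ne h1 hz').2.symm, haz.symm,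
      (Q.zx_ne ha1 haz).2.symm, hbz.symm, (Q.zx_ne hb1 hbz).2.symm⟩, ?_⟩
    refine ⟨⟨(hz1 x).symm, hax.symm, fun e => haxz (hzc e.symm), hxb, hxbz⟩,
      ⟨haxz.symm, fun e => hax (mul_left_cancel e).symm, fun e => hxbz (hzc e),
        fun e => hxb (mul_left_cancel e)⟩,
      ⟨(hz1 a).symm, hba.symm, fun e => hbaz (hzc e.symm)⟩,
      ⟨hbaz.symm, fun e => hba (mul_left_cancel e).symm⟩, (hz1 b).symm⟩
  have hzX : ∀ {p : G}, p ∈ X → z * p ∈ X := fun hp => mul_mem Q.zmem hp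
  have hsub : (l.toFinset : Set G) ⊆ X := by
    intro g hg
    simp only [l, List.coe_toFinset, List.mem_cons, List.not_mem_nil, or_false, Set.mem_ofPred_eq] at hg
    rcases hg with rfl | rfl | rfl | rfl | rfl | rfl | rfl | rfl
    · exact one_mem _
    · exact Q.zmem
    · exact hx
    · exact hzX hx
    · exact haX
    · exact hzX haX
    · exact hbX
    · exact hzX hbX
  have hcard : (l.toFinset : Set G).ncard = 8 := by
    rw [Set.ncard_coe_finset, List.toFinset_card_of_nodup hnd]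
    rfl
  have heq : (l.toFinset : Set G) = X := Set.eq_of_subset_of_ncard_le hsub (by
    rw [hcard, ← Nat.card_coe_set_eq]
    exact le_of_eq Q.card)
  have : y ∈ (l.toFinset : Set G) := by rw [heq]; exact hy
  simp only [l, List.coe_toFinset, List.mem_cons, List.not_mem_nil, or_false, Set.mem_ofPred_eq] at this
  rcases this with h' | h' | h'
  · exact absurd h' hy1
  · exact absurd h' hyz
  · exact h'

/-- A class function is constant on the elements of order 4. -/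
theorem const {α : Type*} (f : G → α) (hf : ∀ g k : G, f (k * g * k⁻¹) = f g) {x y : G}
    (hx : x ∈ X) (h1 : x ≠ 1) (hz' : x ≠ z) (hy : y ∈ X) (hy1 : y ≠ 1) (hyz : y ≠ z) :
    f y = f x := by
  have hzx : ∀ {p : G}, p ∈ X → p ≠ 1 → p ≠ z → f (z * p) = f p := by
    intro p hp hp1 hpz
    obtain ⟨ha, hza⟩ := Q.h_moves hp hp1 hpz
    have e := Q.conj_eq_inv hp hp1 hpz (Q.conj_h_mem hp) (Q.conj_h_ne hp1 hpz).1
      (Q.conj_h_ne hp1 hpz).2 ha hza
    have h2 := hf p (h * p * h⁻¹)⁻¹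
    rw [inv_inv, e] at h2
    exact h2
  have ha := Q.conj_h_ne h1 hz'
  have hb := Q.conj_h_ne ha.1 ha.2
  have haX := Q.conj_h_mem hx
  rcases Q.mem_cases hx h1 hz' hy hy1 hyz with rfl | rfl | rfl | rfl | rfl | rfl
  · rfl
  · exact hzx hx h1 hz'
  · exact hf _ _
  · rw [hzx haX ha.1 ha.2, hf]
  · rw [hf, hf]
  · rw [hzx (Q.conj_h_mem haX) hb.1 hb.2, hf, hf]

theorem exists_mem : ∃ x ∈ X, x ≠ 1 ∧ x ≠ z := by
  by_contra! hh
  have hsub : (X : Set G) ⊆ {1, z} := fun x hx => by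
    by_cases h1 : x = 1
    · exact Or.inl h1
    · exact Or.inr (hh x hx h1)
  have h2 : ({1, z} : Set G).ncard ≤ 2 := by
    rw [Set.ncard_pair Q.z_ne.symm]
  have h8 : (X : Set G).ncard = 8 := by rw [← Nat.card_coe_set_eq]; exact Q.card
  have := Set.ncard_le_ncard hsub (Set.toFinite _)
  omega

/-- An involution inverting `h` inverts a commutator outside `⟨z⟩`. -/
theorem exists_d {u : G} (hu : u ∈ centralizer ({z} : Set G)) (hu2 : u * u = 1)
    (huh : u * h * u⁻¹ = h⁻¹) :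
    ∃ r ∈ X, ∃ d ∈ X, d ≠ 1 ∧ d ≠ z ∧ u * d * u⁻¹ = d⁻¹ ∧ d * u = r * u * r⁻¹ := by
  have huinv : u⁻¹ = u := inv_eq_of_mul_eq_one_right hu2
  by_contra hcon
  push Not at hcon
  have hall : ∀ r ∈ X, u * r * u⁻¹ = r ∨ u * r * u⁻¹ = z * r := by
    intro r hr
    have hd : r * u * r⁻¹ * u⁻¹ ∈ X := by
      rw [show r * u * r⁻¹ * u⁻¹ = r * (u * r⁻¹ * u⁻¹) by group]
      exact mul_mem hr (conj_mem_of_le_normalizer Q.norm hu (inv_mem hr))
    have key : r * u * r⁻¹ * u⁻¹ = 1 ∨ r * u * r⁻¹ * u⁻¹ = z := by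
      by_contra hne
      push Not at hne
      refine hcon r hr _ hd hne.1 hne.2 ?_ ?_
      · rw [huinv]
        calc u * (r * u * r⁻¹ * u) * u = u * r * u * r⁻¹ * (u * u) := by group
          _ = u * r * u * r⁻¹ := by rw [hu2, mul_one]
          _ = (r * u * r⁻¹ * u)⁻¹ := by rw [mul_inv_rev, mul_inv_rev, mul_inv_rev, huinv]; group
      · group
    rcases key with e | e
    · left
      have h' : r * u * r⁻¹ = u := mul_inv_eq_one.mp e
      calc u * r * u⁻¹ = (r * u * r⁻¹) * r * u⁻¹ := by rw [h']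
        _ = r := by group
    · right
      have h' : r * u * r⁻¹ = z * u := mul_inv_eq_iff_eq_mul.mp e
      have huz : z * u = u * z := (mem_centralizer_singleton_iff.mp hu).symm
      calc u * r * u⁻¹ = z⁻¹ * (z * u) * r * u⁻¹ := by group
        _ = z⁻¹ * (r * u * r⁻¹) * r * u⁻¹ := by rw [h']
        _ = z * r := by rw [inv_eq_of_mul_eq_one_right Q.zz]; group
  obtain ⟨x, hx, h1, hz'⟩ := Q.exists_mem
  set a := h * x * h⁻¹ with ha
  have haX : a ∈ X := Q.conj_h_mem hx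
  obtain ⟨ha1, haz⟩ := Q.conj_h_ne h1 hz'
  set b := h * a * h⁻¹ with hb
  have hbX : b ∈ X := Q.conj_h_mem haX
  obtain ⟨hb1, hbz⟩ := Q.conj_h_ne ha1 haz
  have hbh : h⁻¹ * x * h = b := by
    calc h⁻¹ * x * h = (h * (h * h)) * (h⁻¹ * x * h) * (h * (h * h))⁻¹ := by
          rw [Q.h_pow, one_mul, inv_one, mul_one]
      _ = b := by rw [hb, ha]; group
  have e0 : u * a * u⁻¹ = h⁻¹ * (u * x * u⁻¹) * h := by
    rw [ha]
    calc u * (h * x * h⁻¹) * u⁻¹ = (u * h * u⁻¹) * (u * x * u⁻¹) * (u * h * u⁻¹)⁻¹ := by group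
      _ = h⁻¹ * (u * x * u⁻¹) * h := by rw [huh, inv_inv]
  obtain ⟨hba, hbaz⟩ := Q.h_moves haX ha1 haz
  rcases hall a haX with p | p <;> rcases hall x hx with q | q <;> rw [p, q] at e0
  · rw [hbh] at e0
    exact hba e0.symm
  · rw [show h⁻¹ * (z * x) * h = z * (h⁻¹ * x * h) by
      rw [← mul_assoc, ← mul_assoc, show h⁻¹ * z = z * h⁻¹ from (Commute.inv_left Q.hz).eq, mul_assoc z,
        mul_assoc z], hbh] at e0
    exact hbaz (show b = z * a from (by rw [← mul_assoc, Q.zz, one_mul] : b = z * (z * b)).trans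
      (congrArg (z * ·) e0.symm))
  · rw [hbh] at e0
    exact hbaz e0.symm
  · rw [show h⁻¹ * (z * x) * h = z * (h⁻¹ * x * h) by
      rw [← mul_assoc, ← mul_assoc, show h⁻¹ * z = z * h⁻¹ from (Commute.inv_left Q.hz).eq, mul_assoc z,
        mul_assoc z], hbh] at e0
    exact hba (mul_left_cancel e0).symm

end QData

namespace EData

variable (hc : Counts G) (e : EData G)

theorem zz : e.z * e.z = 1 := by rw [← pow_two, ← e.orderOf_z, pow_orderOf_eq_one]

theorem uu : e.u * e.u = 1 := by rw [← pow_two, ← e.orderOf_u, pow_orderOf_eq_one]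

theorem H_le_N : e.H ≤ normalizer (e.E : Set G) := e.H_eq ▸ inf_le_left

theorem H_le_C : e.H ≤ centralizer ({e.z} : Set G) := e.H_eq ▸ inf_le_right

theorem H'_le_C : e.H' ≤ centralizer ({e.z} : Set G) := by
  obtain ⟨c, hc, he⟩ := e.H'_conj
  rw [he]
  rintro _ ⟨x, hx, rfl⟩
  exact mul_mem (mul_mem hc (e.H_le_C hx)) (inv_mem hc)

theorem R_le_H' : e.R ≤ e.H' := by
  obtain ⟨c, hc, he⟩ := e.H'_conj
  rw [he]
  intro r hr
  refine ⟨c⁻¹ * r * c, e.R_le ?_, by simp [mul_assoc]⟩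
  simpa using conj_mem_of_le_normalizer e.R_normal (inv_mem hc) hr

theorem z_mem_H : e.z ∈ e.H := e.R_le e.z_mem_R

theorem E_inf_C : e.E ⊓ centralizer ({e.z} : Set G) = ⊥ := by
  rw [eq_bot_iff]
  rintro a ⟨ha, hz⟩
  rw [mem_bot]
  by_contra h1
  obtain ⟨h3, -⟩ := e.three_E a ha h1
  have h := e.inv_E a ha
  rw [← mem_centralizer_singleton_iff.mp hz, mul_inv_cancel_right] at h
  have h2 : a ^ 2 = 1 := by rw [pow_two, ← eq_inv_iff_mul_eq_one]; exact h
  have := orderOf_dvd_of_pow_eq_one h2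
  rw [h3] at this
  norm_num at this

theorem E_inf_H : e.E ⊓ e.H = ⊥ :=
  eq_bot_iff.mpr ((inf_le_inf_left _ e.H_le_C).trans e.E_inf_C.le)

include hc in
theorem qdata_R : QData e.z e.h e.R where
  z2 := e.orderOf_z
  h3 := e.orderOf_h
  hz := mem_centralizer_singleton_iff.mp (e.H_le_C e.h_mem)
  card := e.card_R
  le := e.R_le.trans e.H_le_C
  zmem := e.z_mem_R
  norm := e.R_normal
  sq r hr h1 hz := e.R_sq r hr fun hm => by
    obtain ⟨k, -, rfl⟩ : ∃ k ∈ Finset.range (orderOf e.z), e.z ^ k = r := by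
      classical
      rw [← Finset.mem_image, ← mem_powers_iff_mem_range_orderOf, mem_powers_iff_mem_zpowers]
      exact hm
    rcases Nat.mod_two_eq_zero_or_one k with hk | hk
    · exact h1 (by rw [← pow_mod_orderOf, e.orderOf_z, hk, pow_zero])
    · exact hz (by rw [← pow_mod_orderOf, e.orderOf_z, hk, pow_one])
  no12 g hg := by simpa [hg] using hc.no_order g

include hc in
theorem qdata_M : QData e.z e.h e.M where
  z2 := e.orderOf_z
  h3 := e.orderOf_h
  hz := mem_centralizer_singleton_iff.mp (e.H_le_C e.h_mem)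
  card := e.card_M
  le := e.M_le
  zmem := ((e.M_inf.symm ▸ mem_zpowers e.z : e.z ∈ e.R ⊓ e.M)).2
  norm := e.M_normal
  sq r hr h1 hz := e.M_sq r hr fun hm => by
    obtain ⟨k, -, rfl⟩ : ∃ k ∈ Finset.range (orderOf e.z), e.z ^ k = r := by
      classical
      rw [← Finset.mem_image, ← mem_powers_iff_mem_range_orderOf, mem_powers_iff_mem_zpowers]
      exact hm
    rcases Nat.mod_two_eq_zero_or_one k with hk | hk
    · exact h1 (by rw [← pow_mod_orderOf, e.orderOf_z, hk, pow_zero])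
    · exact hz (by rw [← pow_mod_orderOf, e.orderOf_z, hk, pow_one])
  no12 g hg := by simpa [hg] using hc.no_order g

include hc in
/-- The quaternion group acts freely on the nontrivial elements of `E`. -/
theorem R_free {r a : G} (hr : r ∈ e.R) (hr1 : r ≠ 1) (ha : a ∈ e.E) (ha1 : a ≠ 1) :
    r * a * r⁻¹ ≠ a := by
  intro he
  have hz : e.z * a * e.z⁻¹ = a := by
    by_cases hrz : r = e.z
    · rwa [← hrz]
    · rw [← (e.qdata_R hc).sq r hr hr1 hrz]
      calc r * r * a * (r * r)⁻¹ = r * (r * a * r⁻¹) * r⁻¹ := by group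
        _ = a := by rw [he, he]
  have hmem : a ∈ e.E ⊓ centralizer ({e.z} : Set G) :=
    ⟨ha, mem_centralizer_singleton_iff.mpr (mul_inv_eq_iff_eq_mul.mp hz).symm⟩
  rw [e.E_inf_C, mem_bot] at hmem
  exact ha1 hmem

/-- The stabiliser in `H` of a nontrivial element of `E`. -/
def stab (a : G) : Subgroup G := e.H ⊓ centralizer ({a} : Set G)

include hc in
theorem R_inf_stab {a : G} (ha : a ∈ e.E) (ha1 : a ≠ 1) : e.R ⊓ e.stab a = ⊥ := by
  rw [eq_bot_iff]
  rintro r ⟨hr, -, hra⟩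
  rw [mem_bot]
  by_contra hr1
  exact e.R_free hc hr hr1 ha ha1
    (mul_inv_eq_iff_eq_mul.mpr (mem_centralizer_singleton_iff.mp hra))

/-- A subgroup of `H` over `R` is `R` times a stabiliser. -/
theorem exists_decomp {K : Subgroup G} (hKH : K ≤ e.H) (hRK : e.R ≤ K) {a : G} (ha : a ∈ e.E)
    (ha1 : a ≠ 1) {k : G} (hk : k ∈ K) : ∃ r ∈ e.R, ∃ s ∈ K ⊓ e.stab a, k = r * s := by
  have hb : k * a * k⁻¹ ∈ e.E := conj_mem_of_le_normalizer e.H_le_N (hKH hk) ha
  have hb1 : k * a * k⁻¹ ≠ 1 := fun h => ha1 (by simpa using h)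
  obtain ⟨r, hr, hr'⟩ := e.R_trans a ha _ hb ha1 hb1
  refine ⟨r, hr, r⁻¹ * k, mem_inf.mpr ⟨K.mul_mem (K.inv_mem (hRK hr)) hk,
    mem_inf.mpr ⟨e.H.mul_mem (e.H.inv_mem (e.R_le hr)) (hKH hk),
      mem_centralizer_singleton_iff.mpr ?_⟩⟩, by group⟩
  apply mul_inv_eq_iff_eq_mul.mp
  calc r⁻¹ * k * a * (r⁻¹ * k)⁻¹ = r⁻¹ * (k * a * k⁻¹) * r := by group
    _ = a := by rw [← hr']; group

include hc in
theorem card_eq_stab {K : Subgroup G} (hKH : K ≤ e.H) (hRK : e.R ≤ K) {a : G} (ha : a ∈ e.E)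
    (ha1 : a ≠ 1) : Nat.card K = 8 * Nat.card ↥(K ⊓ e.stab a) := by
  rw [← e.card_R, ← Nat.card_prod]
  refine (Nat.card_eq_of_bijective (fun p : e.R × ↥(K ⊓ e.stab a) =>
    (⟨(p.1 : G) * p.2, mul_mem (hRK p.1.2) p.2.2.1⟩ : K)) ⟨?_, ?_⟩).symm
  · intro p q h
    have hd : Disjoint e.R (K ⊓ e.stab a) :=
      disjoint_iff.mpr (eq_bot_iff.mpr ((inf_le_inf_left _ inf_le_right).trans (e.R_inf_stab hc ha ha1).le))
    exact mul_injective_of_disjoint hd (congrArg Subtype.val h)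
  · rintro ⟨k, hk⟩
    obtain ⟨r, hr, s, hs, rfl⟩ := e.exists_decomp hKH hRK ha ha1 hk
    exact ⟨(⟨r, hr⟩, ⟨s, hs⟩), rfl⟩

include hc in
theorem h_ne_one : e.h ≠ 1 ∧ e.h⁻¹ ≠ e.h ∧ e.u ≠ 1 := by
  refine ⟨fun h => ?_, fun h => ?_, fun h => ?_⟩
  · have := e.orderOf_h; rw [h, orderOf_one] at this; omega
  · have h2 : e.h ^ 2 = 1 := by rw [pow_two]; nth_rw 1 [← h]; exact inv_mul_cancel _
    have := orderOf_dvd_of_pow_eq_one h2
    rw [e.orderOf_h] at this; norm_num at this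
  · have := e.orderOf_u; rw [h, orderOf_one] at this; omega

include hc in
/-- The six elements fixing the fixed point of `h` and `u`. -/
theorem exists_base : ∃ a ∈ e.E, a ≠ 1 ∧ e.h ∈ e.stab a ∧ e.u ∈ e.stab a ∧
    Nat.card (e.stab a) = 6 ∧ ∀ s ∈ e.stab a, s = 1 ∨ s = e.h ∨ s = e.h⁻¹ ∨ s = e.u ∨
      s = e.h * e.u ∨ s = e.h⁻¹ * e.u := by
  classical
  obtain ⟨a, ha, ha1, hu, hh⟩ := e.u_fix
  have hhs : e.h ∈ e.stab a :=
    ⟨e.h_mem, mem_centralizer_singleton_iff.mpr (mul_inv_eq_iff_eq_mul.mp hh)⟩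
  have hus : e.u ∈ e.stab a :=
    ⟨e.u_mem, mem_centralizer_singleton_iff.mpr (mul_inv_eq_iff_eq_mul.mp hu)⟩
  have h6 : Nat.card (e.stab a) = 6 := by
    have := e.card_eq_stab hc le_rfl e.R_le ha ha1
    rw [e.card_H, inf_eq_right.mpr (show e.stab a ≤ e.H from inf_le_left)] at this
    omega
  refine ⟨a, ha, ha1, hhs, hus, h6, ?_⟩
  obtain ⟨h1, hinv, hu1⟩ := e.h_ne_one hc
  have hord : ∀ {s : G}, s ∈ zpowers e.h → s ≠ e.u := by
    intro s hs he
    have hd := orderOf_dvd_natCard (⟨s, hs⟩ : zpowers e.h)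
    rw [orderOf_mk, he, e.orderOf_u, Nat.card_zpowers, e.orderOf_h] at hd
    norm_num at hd
  have p1 : e.h ∈ zpowers e.h := mem_zpowers _
  let l : List G := [1, e.h, e.h⁻¹, e.u, e.h * e.u, e.h⁻¹ * e.u]
  have hnd : l.Nodup := by
    simp only [l, List.nodup_cons, List.mem_cons, List.not_mem_nil, or_false, not_or,
      List.nodup_nil, and_true, not_false_eq_true]
    refine ⟨⟨h1.symm, fun h => h1 (inv_eq_one.mp h.symm), hu1.symm,
        fun h => hord (inv_mem p1) (eq_inv_of_mul_eq_one_right h.symm).symm,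
        fun h => hord p1 ((eq_inv_of_mul_eq_one_right h.symm).trans (inv_inv _)).symm⟩,
      ⟨hinv.symm, hord p1, fun h => hu1 (mul_left_cancel (h.symm.trans (mul_one _).symm)), fun h =>
        hord (mul_mem p1 p1) (eq_inv_mul_iff_mul_eq.mp h)⟩,
      ⟨hord (inv_mem p1), fun h => hord (mul_mem (inv_mem p1) (inv_mem p1))
        (inv_mul_eq_iff_eq_mul.mpr h), fun h => hu1 (mul_left_cancel (h.symm.trans (mul_one _).symm))⟩,
      ⟨fun h => h1 (mul_right_cancel (h.symm.trans (one_mul _).symm)),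
        fun h => h1 (inv_eq_one.mp (mul_right_cancel (h.symm.trans (one_mul _).symm)))⟩,
      fun h => hinv (mul_right_cancel h).symm⟩
  intro s hs
  have hsub : (l.toFinset : Set G) ⊆ e.stab a := by
    intro g hg
    simp only [l, List.coe_toFinset, List.mem_cons, List.not_mem_nil, or_false, Set.mem_ofPred_eq] at hg
    rcases hg with rfl | rfl | rfl | rfl | rfl | rfl
    · exact one_mem _
    · exact hhs
    · exact inv_mem hhs
    · exact hus
    · exact mul_mem hhs hus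
    · exact mul_mem (inv_mem hhs) hus
  have heq : (l.toFinset : Set G) = e.stab a := Set.eq_of_subset_of_ncard_le hsub (by
    rw [Set.ncard_coe_finset, List.toFinset_card_of_nodup hnd, ← Nat.card_coe_set_eq]
    exact le_of_eq h6)
  have : s ∈ (l.toFinset : Set G) := by rw [heq]; exact hs
  simpa [l] using this

theorem u_conj : e.h * e.u = e.h⁻¹ * e.u * e.h ∧ e.h⁻¹ * e.u = e.h * e.u * e.h⁻¹ := by
  have h3 : e.h * e.h = e.h⁻¹ := by
    refine eq_inv_of_mul_eq_one_right ?_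
    have := pow_orderOf_eq_one e.h
    rwa [e.orderOf_h, pow_succ', pow_two] at this
  have e1 : e.u * e.h = e.h⁻¹ * e.u := mul_inv_eq_iff_eq_mul.mp e.u_h
  have e2 : e.u * e.h⁻¹ = e.h * e.u := by
    have := congrArg (fun g => g⁻¹) e.u_h
    simp only [mul_inv_rev, inv_inv] at this
    rw [← mul_assoc] at this
    exact mul_inv_eq_iff_eq_mul.mp this
  constructor
  · rw [mul_assoc, e1, ← mul_assoc, ← mul_inv_rev, h3, inv_inv]
  · rw [mul_assoc, e2, ← mul_assoc, h3]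

theorem H_sup_H' : e.H ⊔ e.H' = centralizer ({e.z} : Set G) := by
  have hle : e.H ⊔ e.H' ≤ centralizer ({e.z} : Set G) := sup_le e.H_le_C e.H'_le_C
  refine eq_of_le_of_card_ge hle ?_
  rw [show Nat.card (centralizer ({e.z} : Set G)) = 192 from e.cC_z]
  have hd := card_dvd_of_le hle
  rw [show Nat.card (centralizer ({e.z} : Set G)) = 192 from e.cC_z] at hd
  have hmul : ∀ {A B : Subgroup G}, A ≤ B → Nat.card A * A.relIndex B = Nat.card B := fun {A B} h => by
    rw [relIndex, ← Nat.card_congr (subgroupOfEquivOfLe h).toEquiv]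
    exact (A.subgroupOf B).card_mul_index
  have h1 : Nat.card ↥(e.H ⊔ e.H') = Nat.card e.H * e.H.relIndex (e.H ⊔ e.H') :=
    (hmul le_sup_left).symm
  have h2 : Nat.card ↥(e.H ⊓ e.H') * e.H.relIndex e.H' = Nat.card e.H' := by
    rw [← inf_relIndex_right, hmul inf_le_right]
  have h3 : e.H.relIndex e.H' ≤ e.H.relIndex (e.H ⊔ e.H') :=
    relIndex_le_of_le_right le_sup_right (index_ne_zero_of_finite (H := e.H.subgroupOf (e.H ⊔ e.H')))
  have h48 : Nat.card e.H' = 48 := by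
    obtain ⟨c, -, he⟩ := e.H'_conj
    rw [he, card_map_of_injective (MulEquiv.injective _), e.card_H]
  rw [e.card_inf, h48] at h2
  rw [e.card_H] at h1
  obtain ⟨k, hk⟩ := hd
  rw [h1] at hk ⊢
  set r := e.H.relIndex (e.H ⊔ e.H')
  have : r ∣ 4 := ⟨k, by rw [mul_assoc] at hk; omega⟩
  have := Nat.le_of_dvd (by norm_num) this
  interval_cases r <;> omega

theorem H'_inf_N : e.H' ⊓ normalizer (e.E : Set G) = e.H ⊓ e.H' := by
  refine le_antisymm (fun x hx => ⟨?_, hx.1⟩) (le_inf inf_le_right (inf_le_left.trans e.H_le_N))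
  rw [e.H_eq]
  exact ⟨hx.2, e.H'_le_C hx.1⟩

end EData

end Cfsg.Agent.M12Uniq
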