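import Cfsg.Agent.M12Uniq.FixBase
import Cfsg.Agent.M12Uniq.FixLocal
import Cfsg.Agent.Lib.Steiner.M11.CharAux

/-!
# Fixed spaces in a character of degree 11
-/

set_option autoImplicit false
set_option linter.unusedSectionVars false
set_option maxHeartbeats 1000000

open Module Subgroup
open scoped ComplexConjugate

namespace Cfsg.Agent.M12Uniq

open Cfsg.Agent.M12Ord86
open Cfsg.Agent.SmallGroups.SelfCent.Setup (deg deg_spec triv)

variable {G : Type*} [Group G] [Fintype G] {V : Type*} [AddCommGroup V] [Module ℂ V]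
  [FiniteDimensional ℂ V]

/-- An irreducible representation of degree 11 of a simple group of order 95040. -/
structure Deg11 (ρ : Representation ℂ G V) : Prop where
  irr : ρ.IsIrreducible
  dim : finrank ℂ V = 11
  sum_zero : ∑ g : G, ρ.character g = 0
  integral : ∀ g : G, IsIntegral ℤ (ρ.character g)
  invol : ∀ t : G, orderOf t = 2 →
    ∃ n : ℤ, ρ.character t = n ∧ -11 < n ∧ n < 11 ∧ (4 : ℤ) ∣ 11 - n
  bound : ∀ (g : G) (v : ℤ), ρ.character g = v → v ^ 2 + 1 ≤ (cC g : ℤ)
  orth : ∀ (g k : G) (v x : ℤ), ρ.character g = v → ρ.character k = x →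
    ¬ IsConj g k → x ^ 2 + 1 = (cC k : ℤ) → 1 + v * x = 0

/-- The average over `E` of the translates: the trace on the fixed space of `E`. -/
noncomputable def psiE (ρ : Representation ℂ G V) (e : EData G) (k : G) : ℂ :=
  (9 : ℂ)⁻¹ * ∑ a ∈ elems e.E, ρ.character (a * k)

/-- The trace on the other part. -/
noncomputable def phiE (ρ : Representation ℂ G V) (e : EData G) (k : G) : ℂ :=
  ρ.character k - psiE ρ e k

namespace Deg11

variable {ρ : Representation ℂ G V} (hD : Deg11 ρ) (hc : Counts G) (e : EData G)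
include hD hc

theorem one_val : ρ.character (1 : G) = 11 := by
  rw [Representation.char_one, hD.dim]; norm_num

theorem conj_val (g k : G) : ρ.character (k * g * k⁻¹) = ρ.character g :=
  Representation.char_conj ρ g k

theorem val_of_cC {a b : G} (ha : orderOf a = 2) (hb : orderOf b = 2) (h : cC a = cC b) :
    ρ.character a = ρ.character b := by
  obtain ⟨k, hk⟩ := isConj_iff.mp (hc.invol_conj a b ha hb h)
  rw [← hk, hD.conj_val hc]

theorem sum_sup (K : Subgroup G) (hK : K ≤ e.H) :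
    (Nat.card K : ℂ) * fixDim ρ (e.E ⊔ K) = ∑ k ∈ elems K, psiE ρ e k := by
  have hn : K ≤ normalizer (e.E : Set G) := hK.trans e.H_le_N
  have hd : e.E ⊓ K = ⊥ := eq_bot_iff.mpr ((inf_le_inf_left _ hK).trans e.E_inf_H.le)
  have h := card_mul_fixDim (ρ := ρ) (K := e.E ⊔ K)
  rw [card_mul_of_disjoint hn hd, e.card_E, sum_elems_sup _ hn hd] at h
  simp only [psiE, ← Finset.mul_sum]
  rw [← h]
  push_cast
  ring

theorem sum_phi (K : Subgroup G) (hK : K ≤ e.H) :
    (Nat.card K : ℂ) * ((fixDim ρ K : ℂ) - fixDim ρ (e.E ⊔ K)) = ∑ k ∈ elems K, phiE ρ e k := by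
  simp only [phiE, Finset.sum_sub_distrib, ← hD.sum_sup hc e K hK, ← card_mul_fixDim]
  ring

theorem psi_conj {g k : G} (hg : g ∈ normalizer (e.E : Set G)) :
    psiE ρ e (g * k * g⁻¹) = psiE ρ e k := by
  unfold psiE
  congr 1
  symm
  refine Finset.sum_equiv (MulAut.conj g).toEquiv (fun x => ?_) (fun x _ => ?_)
  · simp only [mem_elems, MulEquiv.toEquiv_eq_coe, MulEquiv.coe_toEquiv, MulAut.conj_apply]
    exact mem_normalizer_iff.mp hg x
  · simp only [MulEquiv.toEquiv_eq_coe, MulEquiv.coe_toEquiv, MulAut.conj_apply]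
    rw [← hD.conj_val hc (x * k) g]
    congr 1
    group

theorem phi_conj {g k : G} (hg : g ∈ normalizer (e.E : Set G)) :
    phiE ρ e (g * k * g⁻¹) = phiE ρ e k := by
  rw [phiE, phiE, hD.conj_val hc, hD.psi_conj hc e hg]

theorem psi_free {k : G} (hk : k ∈ normalizer (e.E : Set G))
    (hfree : ∀ a ∈ e.E, a * k = k * a → a = 1) : psiE ρ e k = ρ.character k := by
  classical
  have key : ∑ a ∈ elems e.E, ρ.character (a * k) = ∑ b ∈ elems e.E, ρ.character k := by
    symm
    refine Finset.sum_bij (fun b _ => b * (k * b⁻¹ * k⁻¹)) (fun b hb => ?_) (fun b hb b' hb' h => ?_)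
      (fun a ha => ?_) (fun b hb => ?_)
    · rw [mem_elems] at hb ⊢
      exact mul_mem hb ((mem_normalizer_iff.mp hk _).mp (inv_mem hb))
    · rw [mem_elems] at hb hb'
      have h1 : b'⁻¹ * b * k = k * (b'⁻¹ * b) := by
        have := congrArg (fun g => b'⁻¹ * g * k * b) h
        simpa [mul_assoc] using this
      exact (inv_mul_eq_one.mp (hfree _ (mul_mem (inv_mem hb') hb) h1)).symm
    · let f : e.E → e.E := fun b => ⟨b * (k * b⁻¹ * k⁻¹),
        mul_mem b.2 ((mem_normalizer_iff.mp hk _).mp (inv_mem b.2))⟩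
      have hf : Function.Injective f := fun b b' h => Subtype.ext (by
        have h1 : (b' : G)⁻¹ * b * k = k * ((b' : G)⁻¹ * b) := by
          have := congrArg (fun g : e.E => (b' : G)⁻¹ * (g : G) * k * b) h
          simpa [f, mul_assoc] using this
        exact (inv_mul_eq_one.mp (hfree _ (mul_mem (inv_mem b'.2) b.2) h1)).symm)
      obtain ⟨b, hb⟩ := (Finite.injective_iff_surjective.mp hf) ⟨a, mem_elems.mp ha⟩
      exact ⟨b, mem_elems.mpr b.2, congrArg Subtype.val hb⟩
    · rw [← hD.conj_val hc k b]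
      congr 1
      group
  rw [psiE, key, Finset.sum_const, card_elems, e.card_E, nsmul_eq_mul]
  push_cast
  ring

theorem val_E {a : G} (ha : a ∈ e.E) (ha1 : a ≠ 1) : ρ.character a = 2 := by
  classical
  obtain ⟨h3, hcC⟩ := e.three_E a ha ha1
  set v := ρ.character a with hv
  have hconst : ∀ b ∈ e.E, b ≠ 1 → ρ.character b = v := fun b hb hb1 => by
    obtain ⟨r, -, hr⟩ := e.R_trans a ha b hb ha1 hb1
    rw [← hr, hD.conj_val hc]
  have key : ∀ K : Subgroup G, K ≤ e.E →
      (Nat.card K : ℂ) * fixDim ρ K = 11 + ((Nat.card K : ℂ) - 1) * v := by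
    intro K hK
    rw [card_mul_fixDim, ← Finset.add_sum_erase _ _ (mem_elems.mpr (one_mem K)), hD.one_val hc,
      Finset.sum_congr rfl (g := fun _ => v) (fun b hb => hconst b
        (hK (mem_elems.mp (Finset.mem_of_mem_erase hb))) (Finset.ne_of_mem_erase hb)),
      Finset.sum_const, Finset.card_erase_of_mem (mem_elems.mpr (one_mem K)), card_elems, nsmul_eq_mul,
      Nat.cast_sub Nat.card_pos]
    simp
  have h9 := key e.E le_rfl
  have hle : zpowers a ≤ e.E := zpowers_le.mpr ha
  have h3' := key (zpowers a) hle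
  have hmono : fixDim ρ e.E ≤ fixDim ρ (zpowers a) := fixDim_mono hle
  rw [e.card_E] at h9
  rw [Nat.card_zpowers, h3] at h3'
  push_cast at h9 h3'
  obtain ⟨w, hw⟩ := exists_int_of_rat_integral (hD.integral a) (a := 3 * (fixDim ρ (zpowers a) : ℤ) - 11)
    (b := 2) (by norm_num) (by push_cast; linear_combination -h3')
  rw [← hv] at hw
  have hb := hD.bound a w hw
  rw [show (cC a : ℤ) = 54 by exact_mod_cast hcC] at hb
  rw [hw] at h9 h3'
  have e9 : (9 : ℤ) * fixDim ρ e.E = 11 + 8 * w := by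
    have : (9 : ℂ) * fixDim ρ e.E = 11 + 8 * (w : ℂ) := by linear_combination h9
    exact_mod_cast this
  have e3 : (3 : ℤ) * fixDim ρ (zpowers a) = 11 + 2 * w := by
    have : (3 : ℂ) * fixDim ρ (zpowers a) = 11 + 2 * (w : ℂ) := by linear_combination h3'
    exact_mod_cast this
  have h1 : -8 < w := by nlinarith
  have h2 : w < 8 := by nlinarith
  have : w = 2 := by omega
  rw [hw, this]; norm_num

theorem psi_one : psiE ρ e 1 = 3 := by
  classical
  rw [psiE, ← Finset.add_sum_erase _ _ (mem_elems.mpr (one_mem e.E)), mul_one, hD.one_val hc,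
    Finset.sum_congr rfl (g := fun _ => (2 : ℂ)) (fun b hb => by
      rw [mul_one]
      exact hD.val_E hc e (mem_elems.mp (Finset.mem_of_mem_erase hb)) (Finset.ne_of_mem_erase hb)),
    Finset.sum_const, Finset.card_erase_of_mem (mem_elems.mpr (one_mem e.E)), card_elems, e.card_E]
  norm_num

theorem phi_one : phiE ρ e 1 = 8 := by
  rw [phiE, hD.one_val hc, hD.psi_one hc e]; norm_num

theorem z_fixed_iff {a : G} (ha : a ∈ e.E) (h : a * e.z = e.z * a) : a = 1 := by
  have hm : a ∈ e.E ⊓ centralizer ({e.z} : Set G) :=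
    mem_inf.mpr ⟨ha, mem_centralizer_singleton_iff.mpr h⟩
  rwa [e.E_inf_C, mem_bot] at hm

theorem psi_z : psiE ρ e e.z = ρ.character e.z :=
  hD.psi_free hc e (e.H_le_N e.z_mem_H) fun _ ha h => hD.z_fixed_iff hc e ha h

theorem val_h : ρ.character e.h = 2 := by
  obtain ⟨a, ha, ha1, -⟩ := e.exists_base hc
  obtain ⟨h3, hcC⟩ := e.three_E a ha ha1
  obtain ⟨k, hk⟩ := isConj_iff.mp (hc.three_conj a e.h h3 e.orderOf_h (hcC.trans e.cC_h.symm))
  rw [← hk, hD.conj_val hc, hD.val_E hc e ha ha1]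

theorem val_u : ρ.character e.u = ρ.character e.z :=
  hD.val_of_cC hc e.orderOf_u e.orderOf_z (e.cC_u.trans e.cC_z.symm)

theorem fixDim_E : fixDim ρ e.E = 3 := by
  have h := hD.sum_sup hc e ⊥ bot_le
  rw [show elems (⊥ : Subgroup G) = {1} from Finset.ext fun x => by simp [mem_elems],
    Finset.sum_singleton, hD.psi_one hc e, Subgroup.card_bot, sup_bot_eq, Nat.cast_one, one_mul] at h
  exact_mod_cast h

theorem sum_zpowers_z (f : G → ℂ) : ∑ k ∈ elems (zpowers e.z), f k = f 1 + f e.z := by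
  classical
  rw [elems_zpowers_two e.orderOf_z, Finset.sum_pair]
  intro h
  have := e.orderOf_z
  rw [← h, orderOf_one] at this
  omega

theorem val_z : ρ.character e.z = 3 ∨ ρ.character e.z = -1 := by
  obtain ⟨n, hn, -, -, h4⟩ := hD.invol e.z e.orderOf_z
  have h := hD.sum_sup hc e (zpowers e.z) (zpowers_le.mpr e.z_mem_H)
  rw [hD.sum_zpowers_z hc e, Nat.card_zpowers, e.orderOf_z, hD.psi_one hc e, hD.psi_z hc e, hn] at h
  have hle : fixDim ρ (e.E ⊔ zpowers e.z) ≤ fixDim ρ e.E := fixDim_mono le_sup_left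
  rw [hD.fixDim_E hc e] at hle
  have e2 : (2 : ℤ) * fixDim ρ (e.E ⊔ zpowers e.z) = 3 + n := by exact_mod_cast h
  obtain ⟨j, hj⟩ := h4
  rcases (show n = 3 ∨ n = -1 by omega) with rfl | rfl
  · left; rw [hn]; norm_num
  · right; rw [hn]; norm_num

theorem card_fixed {k : G} (hk : k ∈ e.H) (hk1 : k ≠ 1) {a : G} (ha : a ∈ e.E) (ha1 : a ≠ 1)
    (h : a * k = k * a) : Nat.card ↥(e.E ⊓ centralizer ({k} : Set G)) = 3 := by
  have hd := card_dvd_of_le (inf_le_left : e.E ⊓ centralizer ({k} : Set G) ≤ e.E)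
  rw [e.card_E] at hd
  have hmem : a ∈ e.E ⊓ centralizer ({k} : Set G) :=
    mem_inf.mpr ⟨ha, mem_centralizer_singleton_iff.mpr h⟩
  have hne : Nat.card ↥(e.E ⊓ centralizer ({k} : Set G)) ≠ 1 := fun h1 => ha1 (by
    rwa [Subgroup.eq_bot_of_card_eq _ h1, mem_bot] at hmem)
  have hne9 : Nat.card ↥(e.E ⊓ centralizer ({k} : Set G)) ≠ 9 := fun h9 => hk1 (by
    have heq := eq_of_le_of_card_ge (inf_le_left : e.E ⊓ centralizer ({k} : Set G) ≤ e.E)
      (by rw [h9, e.card_E])
    have hkE : k ∈ e.E := by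
      rw [← e.centralizer_E, mem_centralizer_iff]
      intro b hb
      rw [← heq] at hb
      exact mem_centralizer_singleton_iff.mp hb.2
    have := e.E_inf_H ▸ mem_inf.mpr ⟨hkE, hk⟩
    exact mem_bot.mp this)
  have h3 := (Nat.dvd_prime_pow Nat.prime_three).mp (show _ ∣ 3 ^ 2 from hd)
  obtain ⟨i, hi, hi'⟩ := h3
  interval_cases i <;> simp_all

/-- The sum over a group over `R` reduces to a point stabiliser. -/
theorem sum_phi_stab (K : Subgroup G) (hK : K ≤ e.H) (hR : e.R ≤ K) {a₀ : G} (ha : a₀ ∈ e.E)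
    (ha1 : a₀ ≠ 1) :
    ∑ k ∈ elems K, phiE ρ e k =
      8 + 4 * ((∑ s ∈ elems (K ⊓ e.stab a₀), phiE ρ e s) - 8) := by
  classical
  set A := (elems e.E).erase 1 with hA
  set B := (elems K).erase 1 with hB
  have h1 : ∀ k ∈ B, ∑ a ∈ A, (if a * k = k * a then phiE ρ e k else 0) = 2 * phiE ρ e k := by
    intro k hk
    obtain ⟨hk1, hkK⟩ := Finset.mem_erase.mp hk
    rw [mem_elems] at hkK
    by_cases hex : ∃ a ∈ e.E, a ≠ 1 ∧ a * k = k * a
    · obtain ⟨a, haE, ha', hak⟩ := hex
      rw [← Finset.sum_filter, Finset.sum_const, nsmul_eq_mul]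
      have : A.filter (fun a => a * k = k * a) = (elems (e.E ⊓ centralizer ({k} : Set G))).erase 1 := by
        ext b
        simp only [hA, Finset.mem_filter, Finset.mem_erase, mem_elems, mem_inf,
          mem_centralizer_singleton_iff]
        tauto
      rw [this, Finset.card_erase_of_mem (mem_elems.mpr (one_mem _)), card_elems,
        hD.card_fixed hc e (hK hkK) hk1 haE ha' hak]
      norm_num
    · push Not at hex
      rw [phiE, hD.psi_free hc e (e.H_le_N (hK hkK)) fun a haE h =>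
        by_contra fun hne => hex a haE hne h]
      simp
  have h2 : ∀ a ∈ A, ∑ k ∈ B, (if a * k = k * a then phiE ρ e k else 0) =
      (∑ s ∈ elems (K ⊓ e.stab a₀), phiE ρ e s) - 8 := by
    intro a hAa
    obtain ⟨hane, haE⟩ := Finset.mem_erase.mp hAa
    rw [mem_elems] at haE
    obtain ⟨r, hr, hra⟩ := e.R_trans a₀ ha a haE ha1 hane
    rw [← Finset.sum_filter, ← hD.phi_one hc e, eq_sub_iff_add_eq, add_comm,
      ← Finset.sum_insert (fun h => (Finset.mem_erase.mp (Finset.mem_filter.mp h).1).1 rfl)]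
    symm
    refine Finset.sum_equiv (MulAut.conj r).toEquiv (fun s => ?_) (fun s _ => ?_)
    · simp only [MulEquiv.toEquiv_eq_coe, MulEquiv.coe_toEquiv, MulAut.conj_apply, hB, Finset.mem_insert,
        Finset.mem_filter, Finset.mem_erase, mem_elems, mem_inf, EData.stab,
        mem_centralizer_singleton_iff]
      have hrK := hR hr
      constructor
      · rintro ⟨hsK, -, hs⟩
        by_cases hs1 : s = 1
        · left; simp [hs1]
        · right
          refine ⟨⟨fun h => hs1 (by simpa using h), mul_mem (mul_mem hrK hsK) (inv_mem hrK)⟩, ?_⟩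
          rw [← hra]
          calc r * a₀ * r⁻¹ * (r * s * r⁻¹) = r * (a₀ * s) * r⁻¹ := by group
            _ = r * (s * a₀) * r⁻¹ := by rw [hs]
            _ = r * s * r⁻¹ * (r * a₀ * r⁻¹) := by group
      · intro h
        have hsK : s ∈ K := by
          rcases h with h | ⟨⟨-, h⟩, -⟩
          · have : s = 1 := by simpa using h
            rw [this]; exact one_mem _
          · have := mul_mem (mul_mem (inv_mem hrK) h) hrK
            simpa [mul_assoc] using this
        refine ⟨hsK, hK hsK, ?_⟩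
        rcases h with h | ⟨-, h⟩
        · have : s = 1 := by simpa using h
          rw [this, mul_one, one_mul]
        · rw [← hra] at h
          have := congrArg (fun g => r⁻¹ * g * r) h
          simpa [mul_assoc] using this.symm
    · exact (hD.phi_conj hc e (e.H_le_N (e.R_le hr))).symm
  have h3 := Finset.sum_comm (s := B) (t := A)
    (f := fun k a => if a * k = k * a then phiE ρ e k else 0)
  rw [Finset.sum_congr rfl h1, Finset.sum_congr rfl h2, Finset.sum_const, ← Finset.mul_sum,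
    hA, Finset.card_erase_of_mem (mem_elems.mpr (one_mem _)), card_elems, e.card_E, nsmul_eq_mul,
    hB] at h3
  rw [← Finset.add_sum_erase _ _ (mem_elems.mpr (one_mem K)), hD.phi_one hc e]
  push_cast at h3
  linear_combination h3 / 2

theorem sum_stab_six (f : G → ℂ) (hf : ∀ g ∈ e.H, ∀ k, f (g * k * g⁻¹) = f k) {a : G}
    (hh : e.h ∈ e.stab a) (hu : e.u ∈ e.stab a) (h6 : Nat.card (e.stab a) = 6)
    (hall : ∀ s ∈ e.stab a, s = 1 ∨ s = e.h ∨ s = e.h⁻¹ ∨ s = e.u ∨
      s = e.h * e.u ∨ s = e.h⁻¹ * e.u) :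
    ∑ s ∈ elems (e.stab a), f s = f 1 + 2 * f e.h + 3 * f e.u := by
  classical
  let L : List G := [1, e.h, e.h⁻¹, e.u, e.h * e.u, e.h⁻¹ * e.u]
  have hsub : ∀ x ∈ L, x ∈ elems (e.stab a) := by
    intro x hx
    rw [mem_elems]
    simp only [L, List.mem_cons, List.not_mem_nil, or_false] at hx
    rcases hx with rfl | rfl | rfl | rfl | rfl | rfl
    · exact one_mem _
    · exact hh
    · exact inv_mem hh
    · exact hu
    · exact mul_mem hh hu
    · exact mul_mem (inv_mem hh) hu
  have heq : elems (e.stab a) = L.toFinset := by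
    refine Finset.Subset.antisymm (fun x hx => ?_) (fun x hx => hsub x (List.mem_toFinset.mp hx))
    have := hall x (mem_elems.mp hx)
    simpa [L] using this
  have hnd : L.Nodup := by
    have h : L.toFinset.card = L.length := by rw [← heq, card_elems, h6]; rfl
    rw [List.card_toFinset] at h
    exact List.dedup_eq_self.mp ((List.dedup_sublist L).eq_of_length h)
  rw [heq, List.sum_toFinset _ hnd]
  have hinv : f e.h⁻¹ = f e.h := by rw [← e.u_h, hf _ e.u_mem]
  have h2 : f (e.h * e.u) = f e.u := by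
    rw [e.u_conj.1]
    nth_rw 2 [← inv_inv e.h]
    exact hf _ (inv_mem e.h_mem) _
  have h3 : f (e.h⁻¹ * e.u) = f e.u := by
    rw [e.u_conj.2]
    exact hf _ e.h_mem _
  simp only [L, List.map_cons, List.map_nil, List.sum_cons, List.sum_nil, hinv, h2, h3]
  ring

/-- The values forced by integrality of dimensions. -/
theorem core : psiE ρ e e.h = 0 ∧ psiE ρ e e.u = 1 ∧
    fixDim ρ e.H + fixDim ρ (e.E ⊔ (e.H ⊓ e.H')) =
      fixDim ρ (e.H ⊓ e.H') + fixDim ρ (e.E ⊔ e.H) := by
  classical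
  obtain ⟨a, ha, ha1, hh, hu, h6, hall⟩ := e.exists_base hc
  have hclassφ : ∀ g ∈ e.H, ∀ k, phiE ρ e (g * k * g⁻¹) = phiE ρ e k :=
    fun g hg k => hD.phi_conj hc e (e.H_le_N hg)
  have hclassψ : ∀ g ∈ e.H, ∀ k, psiE ρ e (g * k * g⁻¹) = psiE ρ e k :=
    fun g hg k => hD.psi_conj hc e (e.H_le_N hg)
  have hS : e.H ⊓ e.stab a = e.stab a := inf_eq_right.mpr inf_le_left
  have eH : (48 : ℂ) * ((fixDim ρ e.H : ℂ) - fixDim ρ (e.E ⊔ e.H)) =
      8 + 4 * (2 * phiE ρ e e.h + 3 * phiE ρ e e.u) := by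
    have := hD.sum_phi hc e e.H le_rfl
    rw [e.card_H] at this
    push_cast at this
    rw [this, hD.sum_phi_stab hc e e.H le_rfl e.R_le ha ha1, hS,
      hD.sum_stab_six hc e _ hclassφ hh hu h6 hall, hD.phi_one hc e]
    ring
  set T := e.H ⊓ e.H' with hT
  have hTR : e.R ≤ T := le_inf e.R_le e.R_le_H'
  have hTc : Nat.card T = 16 := e.card_inf
  have hT2 : Nat.card ↥(T ⊓ e.stab a) = 2 := by
    have := e.card_eq_stab hc (K := T) inf_le_left hTR ha ha1
    omega
  obtain ⟨s, hs, hs2⟩ : ∃ s ∈ T ⊓ e.stab a, orderOf s = 2 := by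
    obtain ⟨s, hs⟩ := exists_prime_orderOf_dvd_card' (G := ↥(T ⊓ e.stab a)) 2 (by rw [hT2])
    exact ⟨s, s.2, by rw [orderOf_coe, hs]⟩
  have hsval : phiE ρ e s = phiE ρ e e.u := by
    rcases hall s hs.2 with rfl | rfl | rfl | rfl | rfl | rfl
    · rw [orderOf_one] at hs2; omega
    · rw [e.orderOf_h] at hs2; omega
    · rw [orderOf_inv, e.orderOf_h] at hs2; omega
    · rfl
    · rw [e.u_conj.1]
      nth_rw 2 [← inv_inv e.h]
      exact hclassφ _ (inv_mem e.h_mem) _
    · rw [e.u_conj.2]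
      exact hclassφ _ e.h_mem _
  have eT : (16 : ℂ) * ((fixDim ρ T : ℂ) - fixDim ρ (e.E ⊔ T)) = 8 + 4 * phiE ρ e e.u := by
    have := hD.sum_phi hc e T inf_le_left
    rw [hTc] at this
    push_cast at this
    have hel : elems (T ⊓ e.stab a) = {1, s} := by
      refine (Finset.eq_of_subset_of_card_le (fun x hx => ?_) ?_).symm
      · simp only [Finset.mem_insert, Finset.mem_singleton] at hx
        rw [mem_elems]
        rcases hx with rfl | rfl
        · exact one_mem _
        · exact hs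
      · rw [card_elems, hT2, Finset.card_pair]
        rintro rfl
        rw [orderOf_one] at hs2; omega
    rw [this, hD.sum_phi_stab hc e T inf_le_left hTR ha ha1, hel, Finset.sum_pair, hD.phi_one hc e,
      hsval]
    · ring
    · rintro rfl
      rw [orderOf_one] at hs2; omega
  -- the rotation
  have hzh : zpowers e.h ≤ e.H := zpowers_le.mpr e.h_mem
  have helh : elems (zpowers e.h) = ({1, e.h, e.h⁻¹} : Finset G) := by
    obtain ⟨h1, h2, -⟩ := e.h_ne_one hc
    refine (Finset.eq_of_subset_of_card_le (fun x hx => ?_) ?_).symm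
    · simp only [Finset.mem_insert, Finset.mem_singleton] at hx
      rw [mem_elems]
      rcases hx with rfl | rfl | rfl
      · exact one_mem _
      · exact mem_zpowers _
      · exact inv_mem (mem_zpowers _)
    · rw [card_elems, Nat.card_zpowers, e.orderOf_h, Finset.card_insert_of_notMem (by simp [h1, eq_comm (a := (1 : G))]),
        Finset.card_pair h2.symm]
  have eh := hD.sum_sup hc e (zpowers e.h) hzh
  obtain ⟨h1, h2, -⟩ := e.h_ne_one hc
  rw [helh, Nat.card_zpowers, e.orderOf_h, Finset.sum_insert (by simp [h1, eq_comm (a := (1 : G))]),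
    Finset.sum_pair h2.symm, hD.psi_one hc e] at eh
  have hpinv : psiE ρ e e.h⁻¹ = psiE ρ e e.h := by rw [← e.u_h, hclassψ _ e.u_mem]
  rw [hpinv] at eh
  have hle := fixDim_mono (ρ := ρ) (le_sup_left : e.E ≤ e.E ⊔ zpowers e.h)
  rw [hD.fixDim_E hc e] at hle
  -- the reflection
  have helu : elems (zpowers e.u) = ({1, e.u} : Finset G) := elems_zpowers_two e.orderOf_u
  have eu := hD.sum_sup hc e (zpowers e.u) (zpowers_le.mpr e.u_mem)
  rw [helu, Nat.card_zpowers, e.orderOf_u, Finset.sum_pair (e.h_ne_one hc).2.2.symm,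
    hD.psi_one hc e] at eu
  have hleu := fixDim_mono (ρ := ρ) (le_sup_left : e.E ≤ e.E ⊔ zpowers e.u)
  rw [hD.fixDim_E hc e] at hleu
  -- the stabiliser
  have es := hD.sum_sup hc e (e.stab a) inf_le_left
  rw [hD.sum_stab_six hc e _ hclassψ hh hu h6 hall, h6, hD.psi_one hc e] at es
  have hφh : phiE ρ e e.h = 2 - psiE ρ e e.h := by rw [phiE, hD.val_h hc e]
  rw [hφh] at eH
  set x := psiE ρ e e.h
  set y := phiE ρ e e.u with hy
  set nh := fixDim ρ (e.E ⊔ zpowers e.h)
  set nu := fixDim ρ (e.E ⊔ zpowers e.u)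
  set ns := fixDim ρ (e.E ⊔ e.stab a)
  set A := fixDim ρ e.H
  set B := fixDim ρ (e.E ⊔ e.H)
  set C := fixDim ρ T
  set D := fixDim ρ (e.E ⊔ T)
  have hx : x = (3 * (nh : ℂ) - 3) / 2 := by push_cast at eh; linear_combination -eh / 2
  have hxy : (16 : ℤ) * ((A : ℤ) - B - C + D) = -4 * (nh : ℤ) + 4 := by
    have : (16 : ℂ) * ((A : ℂ) - B - C + D) = -4 * (nh : ℂ) + 4 := by
      rw [hx] at eH
      linear_combination eH / 3 - eT
    exact_mod_cast this
  have hnh : nh = 1 := by omega
  have hψu : psiE ρ e e.u = 2 * (nu : ℂ) - 3 := by push_cast at eu; linear_combination -eu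
  have hx0 : x = 0 := by rw [hx, hnh]; norm_num
  refine ⟨hx0, ?_, by omega⟩
  have hns : (6 : ℤ) * ns = 6 * (nu : ℤ) - 6 := by
    have : (6 : ℂ) * ns = 6 * (nu : ℂ) - 6 := by
      push_cast at es
      rw [hx0, hψu] at es
      linear_combination es
    exact_mod_cast this
  have hy' : y = ρ.character e.z - (2 * (nu : ℂ) - 3) := by rw [hy, phiE, hD.val_u hc e, hψu]
  rcases hD.val_z hc e with hz | hz
  · have : (4 : ℤ) * ((C : ℤ) - D) = 8 - 2 * (nu : ℤ) := by
      have : (4 : ℂ) * ((C : ℂ) - D) = 8 - 2 * (nu : ℂ) := by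
        rw [hy', hz] at eT
        linear_combination eT / 4
      exact_mod_cast this
    have : nu = 2 := by omega
    rw [hψu, this]; norm_num
  · have : (4 : ℤ) * ((C : ℤ) - D) = 4 - 2 * (nu : ℤ) := by
      have : (4 : ℂ) * ((C : ℂ) - D) = 4 - 2 * (nu : ℂ) := by
        rw [hy', hz] at eT
        linear_combination eT / 4
      exact_mod_cast this
    have : nu = 2 := by omega
    rw [hψu, this]; norm_num

end Deg11

end Cfsg.Agent.M12Uniq
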