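import Cfsg.Agent.M12Uniq.FixSolvable
import Cfsg.Agent.M12Uniq.FixChar

/-!
# A subgroup of index 12
-/

set_option autoImplicit false
set_option linter.unusedSectionVars false
set_option maxHeartbeats 1000000

open Module Subgroup
open scoped ComplexConjugate

namespace Cfsg.Agent.M12Uniq

open Cfsg.Agent.M12Ord86
open Cfsg.Agent.SmallGroups.SelfCent (deg_eq_one_iff)
open Cfsg.Agent.SmallGroups.SelfCent.Setup (deg deg_spec triv deg_triv)

universe u

variable {G : Type u} [Group G] [Fintype G]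

theorem not_comm_of_counts (hc : Counts G) : ¬ IsMulCommutative G := by
  intro h
  obtain ⟨z, -, hz⟩ := hc.exists_z
  have htop : centralizer ({z} : Set G) = ⊤ := eq_top_iff.mpr fun g _ =>
    mem_centralizer_singleton_iff.mpr (isMulCommutative_iff.mp h g z)
  rw [cC, htop, Subgroup.card_top, hc.card] at hz
  norm_num at hz

theorem charDegree_deg (χ : Cfsg.IrrCharacter G) : Cfsg.charDegree (χ : G → ℂ) = deg χ := by
  rw [Cfsg.charDegree, (deg_spec χ).2.2]
  simp

/-- An irreducible representation of degree 11 with the properties used. -/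
theorem exists_deg11 (hc : Counts G) (hf : CharFacts G) :
    ∃ (n : ℕ) (ρ : Representation ℂ G (Fin n → ℂ)) (χ : Cfsg.IrrCharacter G),
      (χ : G → ℂ) = ρ.character ∧ deg χ = 11 ∧ Deg11 ρ := by
  classical
  have := hc.simple
  obtain ⟨χ, hχ⟩ := hf.exists_eleven
  rw [charDegree_deg] at hχ
  obtain ⟨n, ρ, hirr, hρ⟩ := χ.2
  have hne : χ ≠ triv := fun h => by rw [h, deg_triv] at hχ; omega
  have hnc := not_comm_of_counts hc
  have hsq : ∀ g : G, ∀ (S : Finset (Cfsg.IrrCharacter G)),
      ∑ ψ ∈ S, Complex.normSq ((ψ : G → ℂ) g) ≤ (cC g : ℝ) := by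
    intro g S
    have h := CharCore.sum_apply_mul_conj g g
    rw [if_pos (IsConj.refl g)] at h
    have h1 : ∑ ψ : Cfsg.IrrCharacter G, Complex.normSq ((ψ : G → ℂ) g) = (cC g : ℝ) := by
      apply Complex.ofReal_injective
      push_cast
      rw [cC, ← h]
      exact Finset.sum_congr rfl fun ψ _ => (Complex.mul_conj _).symm
    rw [← h1]
    exact Finset.sum_le_univ_sum_of_nonneg fun ψ => Complex.normSq_nonneg _
  refine ⟨n, ρ, χ, hρ.symm, hχ, hirr, ?_, ?_, fun g => ?_, fun t ht => ?_, fun g v hv => ?_,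
    fun g k v x hv hx hgk hxk => ?_⟩
  · have h := (deg_spec χ).2.2
    rw [← hρ, Representation.char_one, hχ] at h
    exact_mod_cast h
  · have h := CharCore.classInner_irr_of_ne hne
    simp only [Cfsg.classInner, triv, Pi.one_apply, map_one, mul_one, mul_eq_zero, inv_eq_zero,
      Nat.cast_eq_zero, Nat.card_pos.ne', false_or] at h
    rw [hρ]
    exact h
  · rw [hρ]; exact BlocksCore.isIntegral_irr χ g
  · rw [hρ]
    obtain ⟨m, h1, h2, h3, h4⟩ := Steiner.M11.involution_value hnc hne ht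
    rw [hχ] at h2 h3 h4
    exact ⟨m, h1, h2, h3, h4⟩
  · rw [hρ] at hv
    have h := Steiner.M11.sum_sq_le (G := G) {triv, χ} (fun ψ => if ψ = triv then 1 else v) (w := g)
      (fun ψ hψ => by
        simp only [Finset.mem_insert, Finset.mem_singleton] at hψ
        rcases hψ with rfl | rfl
        · simp [triv]
        · rw [if_neg hne, hv])
    rw [Finset.sum_pair hne.symm, if_pos rfl, if_neg hne] at h
    rw [cC]
    linarith
  · rw [hρ] at hv hx
    have hzero : ∀ ψ : Cfsg.IrrCharacter G, ψ ≠ triv → ψ ≠ χ → (ψ : G → ℂ) k = 0 := by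
      intro ψ h1 h2
      have h := hsq k {ψ, triv, χ}
      rw [Finset.sum_insert (by simp [h1, h2]), Finset.sum_pair hne.symm, hx,
        Complex.normSq_intCast] at h
      simp only [triv, Pi.one_apply, map_one] at h
      have hxk' : (x : ℝ) ^ 2 + 1 = (cC k : ℝ) := by exact_mod_cast hxk
      exact Complex.normSq_eq_zero.mp (le_antisymm (by nlinarith) (Complex.normSq_nonneg _))
    have h := CharCore.sum_apply_mul_conj g k
    rw [if_neg hgk, ← Finset.sum_subset (Finset.subset_univ ({triv, χ} : Finset _)) (fun ψ _ hψ => by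
      simp only [Finset.mem_insert, Finset.mem_singleton, not_or] at hψ
      rw [hzero ψ hψ.1 hψ.2, map_zero, mul_zero]), Finset.sum_pair hne.symm, hv, hx] at h
    simp only [triv, Pi.one_apply, map_one, mul_one, map_intCast] at h
    exact_mod_cast h

/-- The index of a subgroup is the value at `1` of the permutation character. -/
theorem exists_mult (L : Subgroup G) :
    ∃ m : Cfsg.IrrCharacter G → ℕ,
      (∀ ψ : Cfsg.IrrCharacter G, ∑ h ∈ elems L, (ψ : G → ℂ) h = (Nat.card L : ℂ) * m ψ) ∧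
      ∑ ψ : Cfsg.IrrCharacter G, deg ψ * m ψ = L.index := by
  classical
  have hex : ∀ ψ : Cfsg.IrrCharacter G, ∃ m : ℕ,
      ∑ h ∈ elems L, (ψ : G → ℂ) h = (Nat.card L : ℂ) * m := fun ψ => by
    obtain ⟨m, hm⟩ := Steiner.M11.exists_sum_eq ψ L
    exact ⟨m, by rw [← hm]; exact Finset.sum_subtype (elems L) (fun _ => mem_elems) _⟩
  choose m hm using hex
  refine ⟨m, hm, ?_⟩
  have h1 : ∀ g : G, ∑ ψ : Cfsg.IrrCharacter G, (ψ : G → ℂ) g * (deg ψ : ℂ) =
      if g = 1 then (Nat.card G : ℂ) else 0 := by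
    intro g
    have h := CharCore.sum_apply_mul_conj g 1
    rw [Finset.sum_congr rfl (g := fun ψ : Cfsg.IrrCharacter G => (ψ : G → ℂ) g * (deg ψ : ℂ))
      (fun ψ _ => by rw [(deg_spec ψ).2.2, Complex.conj_natCast])] at h
    rw [h]
    by_cases hg : g = 1
    · subst hg
      rw [if_pos (IsConj.refl 1), if_pos rfl,
        show centralizer ({(1 : G)} : Set G) = ⊤ from eq_top_iff.mpr fun x _ =>
          mem_centralizer_singleton_iff.mpr (by simp), Subgroup.card_top]
    · rw [if_neg (fun hc => hg (isConj_one_left.mp hc)), if_neg hg]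
  have h2 : ∑ g ∈ elems L, ∑ ψ : Cfsg.IrrCharacter G, (ψ : G → ℂ) g * (deg ψ : ℂ) =
      (Nat.card G : ℂ) := by
    rw [Finset.sum_congr rfl fun g _ => h1 g, Finset.sum_ite_eq', if_pos (mem_elems.mpr (one_mem L))]
  rw [Finset.sum_comm] at h2
  simp only [← Finset.sum_mul, hm] at h2
  have h3 : Nat.card L * ∑ ψ : Cfsg.IrrCharacter G, deg ψ * m ψ = Nat.card L * L.index := by
    rw [L.card_mul_index, ← Nat.cast_inj (R := ℂ), ← h2, Nat.cast_mul, Nat.cast_sum, Finset.mul_sum]
    exact Finset.sum_congr rfl fun ψ _ => by push_cast; ring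
  exact Nat.eq_of_mul_eq_mul_left Nat.card_pos h3

theorem relIndex_card {A B : Subgroup G} (h : A ≤ B) : Nat.card A * A.relIndex B = Nat.card B := by
  rw [relIndex, ← Nat.card_congr (subgroupOfEquivOfLe h).toEquiv]
  exact (A.subgroupOf B).card_mul_index

theorem card_conj (A : Subgroup G) (b : G) :
    Nat.card (A.map (MulAut.conj b).toMonoidHom) = Nat.card A :=
  card_map_of_injective (MulEquiv.injective _)

theorem mem_conj_iff {A : Subgroup G} {b x : G} :
    x ∈ A.map (MulAut.conj b).toMonoidHom ↔ b⁻¹ * x * b ∈ A := by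
  constructor
  · rintro ⟨a, ha, rfl⟩
    simpa [mul_assoc] using ha
  · intro h
    exact ⟨_, h, by simp [mul_assoc]⟩

theorem k_cases (k : ℕ) (h1 : 18 ≤ k) (h2 : k ≤ 55) (hm : k % 3 = 1) (hd : k ∣ 660) :
    k = 22 ∨ k = 55 := by
  interval_cases k <;> omega

theorem le_eight (c : ℕ) (hd : c ∣ 16) (h : c ≠ 16) : c ≤ 8 := by
  have := Nat.le_of_dvd (by norm_num) hd
  interval_cases c <;> omega

namespace EData

variable (hc : Counts G) (e : EData G)

theorem N_eq : e.E ⊔ e.H = normalizer (e.E : Set G) := by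
  refine eq_of_le_of_card_ge (sup_le le_normalizer e.H_le_N) ?_
  rw [card_mul_of_disjoint e.H_le_N e.E_inf_H, e.card_E, e.card_H, e.card_N]

theorem T_le_N : e.H ⊓ e.H' ≤ normalizer (e.E : Set G) := inf_le_left.trans e.H_le_N

theorem E_inf_T : e.E ⊓ (e.H ⊓ e.H') = ⊥ :=
  eq_bot_iff.mpr ((inf_le_inf_left _ inf_le_left).trans e.E_inf_H.le)

theorem card_A : Nat.card ↥(e.E ⊔ (e.H ⊓ e.H')) = 144 := by
  rw [card_mul_of_disjoint e.T_le_N e.E_inf_T, e.card_E, e.card_inf]

theorem R_le_T : e.R ≤ e.H ⊓ e.H' := le_inf e.R_le e.R_le_H'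

theorem mem_A {x : G} (hx : x ∈ e.E ⊔ (e.H ⊓ e.H')) :
    ∃ a ∈ e.E, ∃ t ∈ e.H ⊓ e.H', x = a * t := by
  have hx' : x ∈ (↑(e.E ⊔ (e.H ⊓ e.H')) : Set G) := hx
  rw [coe_mul_of_right_le_normalizer_left _ _ e.T_le_N] at hx'
  obtain ⟨a, ha, t, ht, rfl⟩ := hx'
  exact ⟨a, ha, t, ht, rfl⟩

theorem three_mem_E {x : G} (hx : x ∈ e.E ⊔ (e.H ⊓ e.H')) (h3 : x ^ 3 = 1) : x ∈ e.E := by
  obtain ⟨a, ha, t, ht, rfl⟩ := e.mem_A hx
  have hn := e.T_le_N ht
  have h1 : t * a * t⁻¹ ∈ e.E := (mem_normalizer_iff.mp hn a).mp ha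
  have h2 : t * (t * a * t⁻¹) * t⁻¹ ∈ e.E := (mem_normalizer_iff.mp hn _).mp h1
  have key : t * t * t ∈ e.E := by
    have e1 : (a * (t * a * t⁻¹) * (t * (t * a * t⁻¹) * t⁻¹)) * (t * t * t) = 1 := by
      rw [← h3, pow_succ, pow_two]; group
    rw [eq_inv_of_mul_eq_one_right e1]
    exact inv_mem (mul_mem (mul_mem ha h1) h2)
  have h4 : t * t * t ∈ (⊥ : Subgroup G) :=
    e.E_inf_T ▸ mem_inf.mpr ⟨key, mul_mem (mul_mem ht ht) ht⟩
  have h5 : t ^ 3 = 1 := by rw [pow_succ, pow_two]; exact mem_bot.mp h4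
  have hd1 := orderOf_dvd_of_pow_eq_one h5
  have hd2 := Subgroup.orderOf_dvd_natCard _ ht
  rw [e.card_inf] at hd2
  have := Nat.dvd_gcd hd1 hd2
  norm_num at this
  rw [this, mul_one]
  exact ha

/-- A subgroup of order 16 of `E T` over `R` is `T`. -/
theorem eq_T {X : Subgroup G} (hX : X ≤ e.E ⊔ (e.H ⊓ e.H')) (hR : e.R ≤ X)
    (h16 : Nat.card X = 16) : X = e.H ⊓ e.H' := by
  refine eq_of_le_of_card_ge (fun x hx => ?_) (by rw [e.card_inf, h16])
  have hnorm : (e.R.subgroupOf X).Normal := by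
    refine Subgroup.normal_of_index_eq_two ?_
    have h := (e.R.subgroupOf X).card_mul_index
    rw [Nat.card_congr (subgroupOfEquivOfLe hR).toEquiv, e.card_R, h16] at h
    omega
  obtain ⟨a, ha, t, ht, rfl⟩ := e.mem_A (hX hx)
  have h1 : a * t * e.z * (a * t)⁻¹ ∈ e.R := by
    have := hnorm.conj_mem ⟨e.z, hR e.z_mem_R⟩ (mem_subgroupOf.mpr e.z_mem_R) ⟨a * t, hx⟩
    exact mem_subgroupOf.mp this
  have htz : t * e.z = e.z * t := mem_centralizer_singleton_iff.mp (e.H_le_C ht.1)
  have h2 : a * t * e.z * (a * t)⁻¹ = (a * a) * e.z := by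
    calc a * t * e.z * (a * t)⁻¹ = a * (t * e.z) * t⁻¹ * a⁻¹ := by group
      _ = a * (e.z * a⁻¹ * e.z⁻¹) * e.z := by rw [htz]; group
      _ = (a * a) * e.z := by rw [e.inv_E _ (inv_mem ha), inv_inv]
  rw [h2] at h1
  have haa : a * a ∈ e.R := (mul_mem_cancel_right e.z_mem_R).mp h1
  have h0 : a * a = 1 := by
    have : a * a ∈ (⊥ : Subgroup G) := e.E_inf_H ▸ mem_inf.mpr ⟨mul_mem ha ha, e.R_le haa⟩
    exact mem_bot.mp this
  by_cases ha1 : a = 1
  · rw [ha1, one_mul]; exact ht
  · have hd := orderOf_dvd_of_pow_eq_one (x := a) (n := 2) (by rw [pow_two, h0])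
    rw [(e.three_E a ha ha1).1] at hd
    norm_num at hd

/-- Some element of `H'` does not normalise `H ⊓ H'`. -/
theorem exists_mover :
    ∃ b ∈ e.H', b ∉ normalizer ((e.H ⊓ e.H' : Subgroup G) : Set G) := by
  by_contra! hall
  obtain ⟨c, -, hH'⟩ := e.H'_conj
  have hsub : ∀ k ∈ e.H', k * k = 1 → k ∈ e.H ⊓ e.H' := by
    intro k hk hkk
    by_contra hkT
    have hk1 : k ≠ 1 := fun h => hkT (h ▸ one_mem _)
    have h2 : orderOf k = 2 := orderOf_eq_prime (by rw [pow_two, hkk]) hk1
    have hn : zpowers k ≤ normalizer ((e.H ⊓ e.H' : Subgroup G) : Set G) :=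
      zpowers_le.mpr (hall k hk)
    have hd : (e.H ⊓ e.H') ⊓ zpowers k = ⊥ := by
      classical
      rw [eq_bot_iff]
      rintro x ⟨hx1, hx2⟩
      rw [mem_bot]
      have hx2' := mem_elems.mpr hx2
      rw [elems_zpowers_two h2] at hx2'
      simp only [Finset.mem_insert, Finset.mem_singleton] at hx2'
      rcases hx2' with h | h
      · exact h
      · exact absurd (h ▸ hx1) hkT
    have hle : (e.H ⊓ e.H') ⊔ zpowers k ≤ e.H' := sup_le inf_le_right (zpowers_le.mpr hk)
    have hdvd := card_dvd_of_le hle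
    rw [card_mul_of_disjoint hn hd, e.card_inf, Nat.card_zpowers, h2, hH', card_conj,
      e.card_H] at hdvd
    norm_num at hdvd
  set S := (e.H ⊓ e.H').map (MulAut.conj c⁻¹).toMonoidHom with hS
  have hle : e.H ≤ S := by
    refine e.H_gen.trans ((closure_le _).mpr ?_)
    rintro g ⟨k, hk, rfl⟩
    rw [SetLike.mem_coe, hS, mem_conj_iff, inv_inv]
    refine hsub _ ?_ ?_
    · rw [hH', mem_conj_iff]
      have := mul_mem (mul_mem hk e.u_mem) (inv_mem hk)
      simpa [mul_assoc] using this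
    · calc c * (k * e.u * k⁻¹) * c⁻¹ * (c * (k * e.u * k⁻¹) * c⁻¹)
          = c * k * (e.u * e.u) * k⁻¹ * c⁻¹ := by group
        _ = 1 := by rw [e.uu]; group
  have := card_le_of_le hle
  rw [hS, card_conj, e.card_inf, e.card_H] at this
  omega

end EData

/-- An irreducible character of degree 6 cannot exist. -/
theorem deg_ne_six (hc : Counts G) (e : EData G) (ψ : Cfsg.IrrCharacter G) (hne : ψ ≠ triv) :
    deg ψ ≠ 6 := by
  classical
  intro h6
  have := hc.simple
  obtain ⟨a, ha, ha1, -⟩ := e.exists_base hc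
  obtain ⟨m, ρ, hirr, hρ⟩ := ψ.2
  have hint : IsIntegral ℤ (ρ.character a) := hρ ▸ BlocksCore.isIntegral_irr ψ a
  have hone : ρ.character (1 : G) = 6 := by
    rw [hρ, (deg_spec ψ).2.2, h6]; norm_num
  have hfin : finrank ℂ (Fin m → ℂ) = 6 := by
    rw [Representation.char_one] at hone; exact_mod_cast hone
  set v := ρ.character a with hv
  have hconst : ∀ b ∈ e.E, b ≠ 1 → ρ.character b = v := fun b hb hb1 => by
    obtain ⟨r, -, hr⟩ := e.R_trans a ha b hb ha1 hb1
    rw [← hr, Representation.char_conj]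
  have key : ∀ K : Subgroup G, K ≤ e.E →
      (Nat.card K : ℂ) * fixDim ρ K = 6 + ((Nat.card K : ℂ) - 1) * v := by
    intro K hK
    rw [card_mul_fixDim, ← Finset.add_sum_erase _ _ (mem_elems.mpr (one_mem K)), hone,
      Finset.sum_congr rfl (g := fun _ => v) (fun b hb => hconst b
        (hK (mem_elems.mp (Finset.mem_of_mem_erase hb))) (Finset.ne_of_mem_erase hb)),
      Finset.sum_const, Finset.card_erase_of_mem (mem_elems.mpr (one_mem K)), card_elems, nsmul_eq_mul,
      Nat.cast_sub Nat.card_pos]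
    simp
  have h9 := key e.E le_rfl
  have hle : zpowers a ≤ e.E := zpowers_le.mpr ha
  have h3 := key (zpowers a) hle
  have hub : fixDim ρ (zpowers a) ≤ 6 := hfin ▸ Submodule.finrank_le _
  rw [e.card_E] at h9
  rw [Nat.card_zpowers, (e.three_E a ha ha1).1] at h3
  push_cast at h9 h3
  obtain ⟨w, hw⟩ := exists_int_of_rat_integral hint (a := 3 * (fixDim ρ (zpowers a) : ℤ) - 6)
    (b := 2) (by norm_num) (by push_cast; linear_combination -h3)
  rw [hw] at h9 h3
  have e9 : (9 : ℤ) * fixDim ρ e.E = 6 + 8 * w := by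
    have : (9 : ℂ) * fixDim ρ e.E = 6 + 8 * (w : ℂ) := by linear_combination h9
    exact_mod_cast this
  have e3 : (3 : ℤ) * fixDim ρ (zpowers a) = 6 + 2 * w := by
    have : (3 : ℂ) * fixDim ρ (zpowers a) = 6 + 2 * (w : ℂ) := by linear_combination h3
    exact_mod_cast this
  have hw6 : w = 6 := by omega
  have hval : ρ.character a = (finrank ℂ (Fin m → ℂ) : ℂ) := by
    rw [← hv, hw, hw6, hfin]; norm_num
  have hid : ρ a = 1 := (CharCore.character_eq_finrank_iff ρ a).mp hval
  let φ : G →* Module.End ℂ (Fin m → ℂ) := ρ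
  rcases φ.normal_ker.eq_bot_or_eq_top with hb | hb
  · have : a ∈ φ.ker := MonoidHom.mem_ker.mpr hid
    rw [hb, mem_bot] at this
    exact ha1 this
  · have hz : ρ e.z = 1 := MonoidHom.mem_ker.mp (hb ▸ mem_top e.z : e.z ∈ φ.ker)
    obtain ⟨n, hn, -, hlt, -⟩ :=
      Steiner.M11.involution_value (not_comm_of_counts hc) hne e.orderOf_z
    rw [← hρ, (CharCore.character_eq_finrank_iff ρ e.z).mpr hz, hfin] at hn
    rw [h6] at hlt
    have : (6 : ℤ) = n := by exact_mod_cast hn
    push_cast at hlt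
    omega

/-- Degrees of the nontrivial constituents do not add up to 7 or 18. -/
theorem deg_sum (hc : Counts G) (hf : CharFacts G) (e : EData G)
    (S : Finset (Cfsg.IrrCharacter G)) (hS : triv ∉ S) (m : Cfsg.IrrCharacter G → ℕ) :
    ∑ ψ ∈ S, deg ψ * m ψ ≠ 7 ∧ ∑ ψ ∈ S, deg ψ * m ψ ≠ 18 := by
  have := hc.simple
  let P : ℕ → Prop := fun n => n = 0 ∨ n = 5 ∨ n = 10 ∨ n = 11 ∨ n = 12 ∨ n = 15 ∨ n = 16 ∨
    n = 17 ∨ 19 ≤ n
  have hadd : ∀ a b, P a → P b → P (a + b) := fun a b ha hb => by simp only [P] at ha hb ⊢; omega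
  have h : P (∑ ψ ∈ S, deg ψ * m ψ) := by
    refine Finset.sum_induction _ P hadd (Or.inl rfl) fun ψ hψ => ?_
    have hne : ψ ≠ triv := fun h => hS (h ▸ hψ)
    have h1 : deg ψ ≠ 1 := fun h => hne ((deg_eq_one_iff (not_comm_of_counts hc) ψ).mp h)
    have h6 := deg_ne_six hc e ψ hne
    have h0 := (deg_spec ψ).1
    have hmod := hf.degree_mod ψ
    rw [charDegree_deg] at hmod
    simp only [Finset.mem_insert, Finset.mem_singleton] at hmod
    have hd : P (deg ψ) := by simp only [P]; omega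
    induction m ψ with
    | zero => exact Or.inl (mul_zero _)
    | succ k ih => rw [Nat.mul_succ]; exact hadd _ _ ih hd
  simp only [P] at h
  omega

/-- A vector fixed by two local subgroups gives a subgroup of index 12. -/
theorem index_twelve (hc : Counts G) (hf : CharFacts G) {n : ℕ}
    {ρ : Representation ℂ G (Fin n → ℂ)} {χ : Cfsg.IrrCharacter G}
    (hχ : (χ : G → ℂ) = ρ.character) (hχ11 : deg χ = 11) (hD : Deg11 ρ) (e : EData G)
    (hline : 1 ≤ fixDim ρ (e.E ⊔ e.H)) : ∃ L : Subgroup G, L.index = 12 := by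
  classical
  set T := e.H ⊓ e.H' with hT
  set A := e.E ⊔ T with hA
  -- the fixed vector
  have hH' : fixDim ρ e.H' = fixDim ρ e.H := by
    obtain ⟨c, -, he⟩ := e.H'_conj
    have h : ∑ k ∈ elems e.H', ρ.character k = ∑ k ∈ elems e.H, ρ.character k := by
      symm
      refine Finset.sum_equiv (MulAut.conj c).toEquiv (fun x => ?_) (fun x _ => ?_)
      · simp only [mem_elems, MulEquiv.toEquiv_eq_coe, MulEquiv.coe_toEquiv, MulAut.conj_apply, he,
          mem_conj_iff]
        simp [mul_assoc]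
      · simp [Representation.char_conj]
    rw [← card_mul_fixDim, ← card_mul_fixDim, he, card_conj, e.card_H, ← he] at h
    exact_mod_cast mul_left_cancel₀ (by norm_num) h
  obtain ⟨-, -, hcore⟩ := hD.core hc e
  obtain ⟨v, hv0, hvA, hvB⟩ := exists_common_fixed (ρ := ρ) (A := A) (B := e.H') (T := T)
    le_sup_right inf_le_right (by
      rw [← hT, ← hA] at hcore
      rw [hH']
      omega)
  set L := vecStab ρ v with hL
  have hAL : A ≤ L := hvA
  have hH'L : e.H' ≤ L := hvB
  -- multiplicities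
  obtain ⟨mu, hmu, hidx⟩ := exists_mult L
  have hLc : (Nat.card L : ℂ) ≠ 0 := elems_card_ne_zero L
  have htriv : mu triv = 1 := by
    have h := hmu triv
    simp only [triv, Pi.one_apply, Finset.sum_const, card_elems, nsmul_eq_mul, mul_one] at h
    exact_mod_cast (mul_left_cancel₀ hLc ((mul_one _).trans h)).symm
  have hmuχ : 1 ≤ mu χ := by
    have h := hmu χ
    rw [hχ, ← card_mul_fixDim] at h
    have h' : fixDim ρ L = mu χ := by exact_mod_cast mul_left_cancel₀ hLc h
    have := fixDim_vecStab_pos (ρ := ρ) hv0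
    rw [← hL] at this
    omega
  have hne : χ ≠ triv := fun h => by rw [h, deg_triv] at hχ11; omega
  set rest := ∑ ψ ∈ (Finset.univ.erase triv).erase χ, deg ψ * mu ψ with hrest
  have hsplit : L.index = 1 + 11 * mu χ + rest := by
    rw [← hidx, ← Finset.add_sum_erase _ _ (Finset.mem_univ triv),
      ← Finset.add_sum_erase _ _ (Finset.mem_erase.mpr ⟨hne, Finset.mem_univ χ⟩), deg_triv, htriv,
      hχ11, ← hrest]
    ring
  have hnrest := deg_sum hc hf e ((Finset.univ.erase triv).erase χ) (by simp) mu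
  rw [← hrest] at hnrest
  have hord := L.card_mul_index
  rw [hc.card] at hord
  -- the normaliser
  set N := normalizer (e.E : Set G) with hN
  by_cases hNL : N ≤ L
  · have hHL : e.H ≤ L := e.H_le_N.trans hNL
    have hCL : centralizer ({e.z} : Set G) ≤ L := e.H_sup_H' ▸ sup_le hHL hH'L
    have h1 := card_dvd_of_le hNL
    rw [e.card_N] at h1
    have h2 := card_dvd_of_le hCL
    rw [show Nat.card (centralizer ({e.z} : Set G)) = 192 from e.cC_z] at h2
    have h3 : 1728 ∣ Nat.card L := by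
      have := Nat.lcm_dvd h1 h2
      rw [show Nat.lcm 432 192 = 1728 by norm_num [Nat.lcm]] at this
      exact this
    obtain ⟨j, hj⟩ := h3
    have h55 : j * L.index = 55 := by rw [hj] at hord; linarith
    have hd : L.index ∣ 55 := Dvd.intro_left _ h55
    have hle := Nat.le_of_dvd (by norm_num) hd
    have hi : L.index = 55 := by
      by_contra hne55
      have : 12 ≤ L.index := by omega
      interval_cases h : L.index <;> omega
    rw [hi] at h55
    have hj1 : j = 1 := by omega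
    exact (no_1728 hc e L hNL hCL (by rw [hj, hj1])).elim
  have hAN : A ≤ N := sup_le le_normalizer e.T_le_N
  have hNLA : N ⊓ L = A := by
    refine (eq_of_le_of_card_ge (le_inf hAN hAL) ?_).symm
    obtain ⟨q, hq⟩ := card_dvd_of_le (le_inf hAN hAL)
    obtain ⟨q', hq'⟩ := card_dvd_of_le (inf_le_left : N ⊓ L ≤ N)
    rw [e.card_A] at hq
    rw [e.card_N, hq] at hq'
    rw [hq, e.card_A]
    have hq3 : q * q' = 3 := by linarith
    have hd : q ∣ 3 := Dvd.intro _ hq3
    rcases (Nat.dvd_prime Nat.prime_three).mp hd with h | h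
    · rw [h]
    · exfalso
      refine hNL (le_trans (le_of_eq ?_) (inf_le_right : N ⊓ L ≤ L) : N ≤ L)
      refine (eq_of_le_of_card_ge inf_le_left ?_).symm
      rw [hq, h, e.card_N]
  have hEL : e.E ≤ L := le_sup_left.trans hAL
  have hEn : (normalizer (e.E : Set G)).subgroupOf L = normalizer ((e.E.subgroupOf L : Subgroup L) : Set L) := by
    ext x
    rw [mem_subgroupOf, mem_normalizer_iff, mem_normalizer_iff]
    constructor
    · intro h y
      simp only [mem_subgroupOf]
      simpa using h y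
    · intro h y
      constructor
      · intro hy
        simpa [mem_subgroupOf] using (h ⟨y, hEL hy⟩).mp (by simpa [mem_subgroupOf] using hy)
      · intro hy
        have hyL : y ∈ L := by
          have := mul_mem (mul_mem (inv_mem x.2) (hEL hy)) x.2
          simpa [mul_assoc] using this
        simpa [mem_subgroupOf] using (h ⟨y, hyL⟩).mpr (by simpa [mem_subgroupOf] using hy)
  have hnc : Nat.card (normalizer ((e.E.subgroupOf L : Subgroup L) : Set L)) = 144 := by
    rw [← hEn, ← inf_subgroupOf_right, hNLA, Nat.card_congr (subgroupOfEquivOfLe hAL).toEquiv,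
      e.card_A]
  have hEc : Nat.card (e.E.subgroupOf L) = 3 ^ 2 := by
    rw [Nat.card_congr (subgroupOfEquivOfLe hEL).toEquiv, e.card_E]; norm_num
  obtain ⟨k, hk⟩ := card_dvd_of_le hAL
  rw [e.card_A] at hk
  have hki : k * L.index = 660 := by rw [hk] at hord; linarith
  have hk3 : ¬ 3 ∣ k := by
    intro h3
    have hdvd : 3 ^ (2 + 1) ∣ Nat.card L := by
      rw [hk]
      obtain ⟨q, rfl⟩ := h3
      exact ⟨16 * q, by ring⟩
    have := Sylow.prime_pow_dvd_card_normalizer (hdvd := hdvd) hEc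
    rw [hnc] at this
    norm_num at this
  have : Fact (Nat.Prime 3) := ⟨Nat.prime_three⟩
  have hfac : (Nat.card L).factorization 3 = 2 := by
    have hk0 : k ≠ 0 := fun h => by rw [h] at hki; omega
    rw [hk, Nat.factorization_mul (by norm_num) hk0, Finsupp.add_apply,
      Nat.factorization_eq_zero_of_not_dvd hk3, show (144 : ℕ) = 3 ^ 2 * 16 by norm_num,
      Nat.factorization_mul (by norm_num) (by norm_num), Finsupp.add_apply,
      Nat.Prime.factorization_pow Nat.prime_three, Finsupp.single_eq_same,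
      Nat.factorization_eq_zero_of_not_dvd (by norm_num)]
  let P : Sylow 3 L := Sylow.ofCard (e.E.subgroupOf L) (by rw [hEc, hfac])
  have hmod : k % 3 = 1 := by
    have h1 := card_sylow_modEq_one 3 L
    rw [P.card_eq_index_normalizer] at h1
    have h2 := (normalizer ((e.E.subgroupOf L : Subgroup L) : Set L)).card_mul_index
    rw [hnc, hk] at h2
    have h3 : (normalizer (P : Set L)).index = k :=
      Nat.eq_of_mul_eq_mul_left (by norm_num : 0 < 144) h2
    rw [h3] at h1
    exact h1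
  -- moving the Sylow subgroup
  obtain ⟨b, hb, hbT⟩ := e.exists_mover
  have hbC := e.H'_le_C hb
  have hbL := hH'L hb
  have hbN : b ∉ N := fun h => hbT (by
    have hm : b ∈ e.H' ⊓ normalizer (e.E : Set G) := mem_inf.mpr ⟨hb, h⟩
    rw [e.H'_inf_N] at hm
    exact le_normalizer hm)
  set B := A.map (MulAut.conj b).toMonoidHom with hB
  set X := A ⊓ B with hX
  have hBL : B ≤ L := by
    rintro _ ⟨x, hx, rfl⟩
    exact mul_mem (mul_mem hbL (hAL hx)) (inv_mem hbL)
  have hcount : 144 ≤ Nat.card X * k := by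
    have h1 : Nat.card X * B.relIndex A = 144 := by
      rw [hX, inf_comm, ← inf_relIndex_right, relIndex_card inf_le_right, e.card_A]
    have h2 : Nat.card B * B.relIndex L = Nat.card L := relIndex_card hBL
    have h3 : B.relIndex A ≤ B.relIndex L :=
      relIndex_le_of_le_right hAL (index_ne_zero_of_finite (H := B.subgroupOf L))
    rw [hB, card_conj, e.card_A, hk, ← hB] at h2
    have h4 : B.relIndex L = k := Nat.eq_of_mul_eq_mul_left (by norm_num : 0 < 144) h2
    rw [h4] at h3
    rw [← h1]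
    exact Nat.mul_le_mul_left _ h3
  have hbR : ∀ r ∈ e.R, b⁻¹ * r * b ∈ e.R := fun r hr => by
    simpa using conj_mem_of_le_normalizer e.R_normal (inv_mem hbC) hr
  have hXd : Nat.card X ∣ 144 := e.card_A ▸ card_dvd_of_le inf_le_left
  have hX3 : ¬ 3 ∣ Nat.card X := by
    intro h3
    obtain ⟨x, hx⟩ := exists_prime_orderOf_dvd_card' (G := X) 3 h3
    rw [← orderOf_coe] at hx
    have hx3 : (x : G) ^ 3 = 1 := hx ▸ pow_orderOf_eq_one _
    have hxE : (x : G) ∈ e.E := e.three_mem_E x.2.1 hx3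
    have hxE' : b⁻¹ * x * b ∈ e.E := by
      refine e.three_mem_E (mem_conj_iff.mp x.2.2) ?_
      rw [pow_succ, pow_two]
      calc b⁻¹ * (x : G) * b * (b⁻¹ * x * b) * (b⁻¹ * x * b) = b⁻¹ * ((x : G) * x * x) * b := by group
        _ = 1 := by rw [← pow_two, ← pow_succ, hx3]; group
    have hx1 : (x : G) ≠ 1 := fun h => by rw [h, orderOf_one] at hx; omega
    refine hbN ?_
    have hall : ∀ a ∈ e.E, b⁻¹ * a * b ∈ e.E := by
      intro a ha
      by_cases ha1 : a = 1
      · simp [ha1]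
      obtain ⟨r, hr, hra⟩ := e.R_trans _ hxE a ha hx1 ha1
      rw [← hra, show b⁻¹ * (r * x * r⁻¹) * b =
        (b⁻¹ * r * b) * (b⁻¹ * x * b) * (b⁻¹ * r * b)⁻¹ by group]
      exact conj_mem_of_le_normalizer e.H_le_N (e.R_le (hbR r hr)) hxE'
    have hle : e.E.map (MulAut.conj b⁻¹).toMonoidHom ≤ e.E := by
      rintro _ ⟨a, ha, rfl⟩
      simpa using hall a ha
    have heq := eq_of_le_of_card_ge hle (by rw [card_conj])
    rw [hN, mem_normalizer_iff]
    intro a
    constructor
    · intro ha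
      have ha' : a ∈ e.E.map (MulAut.conj b⁻¹).toMonoidHom := by rw [heq]; exact ha
      rw [mem_conj_iff, inv_inv] at ha'
      exact ha'
    · intro ha
      have := hall _ ha
      simpa [mul_assoc] using this
  have hX16 : Nat.card X ≠ 16 := by
    intro h16
    have hRA : e.R ≤ A := e.R_le_T.trans le_sup_right
    have hRX : e.R ≤ X := le_inf hRA fun r hr => mem_conj_iff.mpr (hRA (hbR r hr))
    have hXT : X = T := e.eq_T inf_le_left hRX h16
    have hY : X.map (MulAut.conj b⁻¹).toMonoidHom = T := by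
      refine e.eq_T ?_ ?_ (by rw [card_conj, h16])
      · rintro _ ⟨x, hx, rfl⟩
        simpa using mem_conj_iff.mp hx.2
      · intro r hr
        rw [mem_conj_iff, inv_inv]
        exact hRX (conj_mem_of_le_normalizer e.R_normal hbC hr)
    rw [hXT] at hY
    refine hbT ?_
    rw [mem_normalizer_iff]
    intro y
    show y ∈ T ↔ b * y * b⁻¹ ∈ T
    nth_rw 1 [← hY]
    rw [mem_conj_iff, inv_inv]
  have hX9 : Nat.card X ∣ 16 := by
    refine (Nat.Coprime.dvd_of_dvd_mul_left (k := Nat.card X) (n := 16) (m := 3 * 3) ?_ hXd)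
    exact (Nat.Coprime.mul_right ((Nat.prime_three.coprime_iff_not_dvd).mpr hX3).symm
      ((Nat.prime_three.coprime_iff_not_dvd).mpr hX3).symm)
  have hk18 : 18 ≤ k := by
    have hle := Nat.le_of_dvd (by norm_num) hX9
    have : Nat.card X ≤ 8 := le_eight _ hX9 hX16
    nlinarith
  have hk55 : k ≤ 55 := by
    have : 12 ≤ L.index := by omega
    nlinarith
  have hkd : k ∣ 660 := Dvd.intro _ hki
  have : k = 22 ∨ k = 55 := k_cases k hk18 hk55 hmod hkd
  rcases this with rfl | rfl
  · exfalso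
    have hmle : mu χ ≤ 2 := by omega
    interval_cases h : mu χ <;> omega
  · exact ⟨L, by omega⟩

/-- The subgroup of index 12. -/
theorem exists_index_twelve {G : Type u} [Group G] [Finite G] (hc : Counts G) (hf : CharFacts G)
    (e e' : EData G) (hz : e'.z = e.z) (hR : e'.R = e.M) : ∃ L : Subgroup G, L.index = 12 := by
  have := Fintype.ofFinite G
  obtain ⟨n, ρ, χ, hχ, hχ11, hD⟩ := exists_deg11 hc hf
  rcases hD.exists_line hc e e' hz hR with h | h
  · exact index_twelve hc hf hχ hχ11 hD e h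
  · exact index_twelve hc hf hχ hχ11 hD e' h

end Cfsg.Agent.M12Uniq
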