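import Cfsg.Agent.M12Uniq.FixSeven

/-!
# The normaliser of one of the two subgroups of type `3²` fixes a vector
-/

set_option autoImplicit false
set_option linter.unusedSectionVars false
set_option maxHeartbeats 1000000

open Module Subgroup

namespace Cfsg.Agent.M12Uniq

open Cfsg.Agent.M12Ord86

variable {G : Type*} [Group G] [Fintype G] {V : Type*} [AddCommGroup V] [Module ℂ V]
  [FiniteDimensional ℂ V]

theorem mem_normalizer_sup {A B : Subgroup G} {g : G} (hA : g ∈ normalizer (A : Set G))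
    (hB : g ∈ normalizer (B : Set G)) : g ∈ normalizer ((A ⊔ B : Subgroup G) : Set G) := by
  have key : ∀ {A : Subgroup G}, g ∈ normalizer (A : Set G) →
      A.map (MulAut.conj g).toMonoidHom = A := by
    intro A hA
    ext x
    simp only [Subgroup.mem_map, MulEquiv.coe_toMonoidHom, MulAut.conj_apply]
    constructor
    · rintro ⟨y, hy, rfl⟩
      exact (mem_normalizer_iff.mp hA y).mp hy
    · intro hx
      refine ⟨g⁻¹ * x * g, (mem_normalizer_iff.mp hA _).mpr ?_, by group⟩
      simpa [mul_assoc] using hx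
  have h : (A ⊔ B).map (MulAut.conj g).toMonoidHom = A ⊔ B := by rw [Subgroup.map_sup, key hA, key hB]
  refine mem_normalizer_iff.mpr fun x => ⟨fun hx => ?_, fun hx => ?_⟩
  · show g * x * g⁻¹ ∈ A ⊔ B
    rw [← h]; exact ⟨x, hx, rfl⟩
  · show x ∈ A ⊔ B
    have hx' : g * x * g⁻¹ ∈ (A ⊔ B).map (MulAut.conj g).toMonoidHom := h.symm ▸ hx
    obtain ⟨y, hy, e⟩ := hx'
    have : y = x := (MulAut.conj g).injective e
    rwa [this] at hy

/-- The elements fixing an endomorphism on the left. -/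
noncomputable def endStab (ρ : Representation ℂ G V) (X : Module.End ℂ V) : Subgroup G where
  carrier := {g | ρ g * X = X}
  mul_mem' {a b} ha hb := by
    show ρ (a * b) * X = X
    rw [map_mul, mul_assoc, hb, ha]
  one_mem' := by
    show ρ 1 * X = X
    rw [map_one, one_mul]
  inv_mem' {a} ha := by
    show ρ a⁻¹ * X = X
    have h : ρ a * X = X := ha
    nth_rw 1 [← h]
    rw [← mul_assoc, ← map_mul, inv_mul_cancel, map_one, one_mul]

theorem rho_conj_fix {ρ : Representation ℂ G V} {X : Module.End ℂ V} {g k : G}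
    (hg : ρ g * X = X * ρ g) (hginv : ρ g⁻¹ * X = X * ρ g⁻¹) (hk : ρ k * X = X) :
    ρ (g * k * g⁻¹) * X = X := by
  rw [map_mul, map_mul, mul_assoc, hginv, mul_assoc, ← mul_assoc (ρ k), hk, ← mul_assoc, hg, mul_assoc,
    ← map_mul, mul_inv_cancel, map_one, mul_one]

theorem zpowers_four {d z : G} (hd : orderOf d = 4) (hdd : d * d = z) [DecidableEq G] :
    elems (zpowers d) = {1, d, z, d⁻¹} := by
  classical
  ext x
  rw [mem_elems, ← mem_powers_iff_mem_zpowers, mem_powers_iff_mem_range_orderOf, hd]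
  simp only [Finset.mem_image, Finset.mem_range, Finset.mem_insert, Finset.mem_singleton]
  have h3 : d ^ 3 = d⁻¹ := by
    refine eq_inv_of_mul_eq_one_left ?_
    rw [← pow_succ, show 3 + 1 = 4 from rfl, ← hd, pow_orderOf_eq_one]
  constructor
  · rintro ⟨i, hi, rfl⟩
    interval_cases i
    · left; exact pow_zero d
    · right; left; exact pow_one d
    · right; right; left; rw [pow_two, hdd]
    · right; right; right; exact h3
  · rintro (rfl | rfl | rfl | rfl)
    · exact ⟨0, by norm_num, pow_zero d⟩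
    · exact ⟨1, by norm_num, pow_one x⟩
    · exact ⟨2, by norm_num, by rw [pow_two, hdd]⟩
    · exact ⟨3, by norm_num, h3⟩

namespace Deg11

variable {ρ : Representation ℂ G V} (hD : Deg11 ρ) (hc : Counts G) (e : EData G)
include hD hc

theorem u_ne_z : e.u ≠ e.z := fun h => e.u_notMem (h ▸ e.z_mem_R)

theorem uz : e.u * e.z = e.z * e.u := mem_centralizer_singleton_iff.mp (e.H_le_C e.u_mem)

theorem zu_le : zpowers e.u ≤ normalizer (zpowers e.z : Set G) := by
  rw [zpowers_le]
  refine centralizer_le_normalizer _ (mem_centralizer_iff.mpr fun x hx => ?_)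
  obtain ⟨k, rfl⟩ := hx
  exact (Commute.zpow_left (hD.uz hc e).symm k).eq

theorem zu_disjoint : zpowers e.z ⊓ zpowers e.u = ⊥ := by
  classical
  rw [eq_bot_iff]
  intro x hx
  obtain ⟨h1, h2⟩ := mem_inf.mp hx
  rw [← mem_elems, elems_zpowers_two e.orderOf_z] at h1
  rw [← mem_elems, elems_zpowers_two e.orderOf_u] at h2
  simp only [Finset.mem_insert, Finset.mem_singleton] at h1 h2
  rw [mem_bot]
  rcases h1 with h1 | h1 <;> rcases h2 with h2 | h2 <;> first
    | exact h1
    | exact h2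
    | exact absurd (h2.symm.trans h1) (hD.u_ne_z hc e)

/-- Either the normaliser fixes a vector, or the values at the quaternion group are `-1`. -/
theorem line : 1 ≤ fixDim ρ (e.E ⊔ e.H) ∨ (ρ.character e.z = 3 ∧
    ∀ r ∈ e.R, r ≠ 1 → r ≠ e.z → ρ.character r = -1) := by
  classical
  obtain ⟨hψh, hψu, -⟩ := hD.core hc e
  have hclass : ∀ g ∈ e.H, ∀ k, psiE ρ e (g * k * g⁻¹) = psiE ρ e k :=
    fun g hg k => hD.psi_conj hc e (e.H_le_N hg)
  rcases hD.val_z hc e with hz | hz
  · -- the involution fixes the whole fixed space of `E`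
    have Q := e.qdata_R hc
    obtain ⟨r0, hr0, hr01, hr0z⟩ := Q.exists_mem
    set x := ρ.character r0 with hxdef
    have hfree : ∀ r ∈ e.R, r ≠ 1 → psiE ρ e r = ρ.character r := fun r hr hr1 =>
      hD.psi_free hc e (e.H_le_N (e.R_le hr)) fun a ha h => by_contra fun ha1 =>
        e.R_free hc hr hr1 ha ha1 (mul_inv_eq_iff_eq_mul.mpr h.symm)
    have hval : ∀ r ∈ e.R, r ≠ 1 → r ≠ e.z → psiE ρ e r = x := fun r hr h1 h2 => by
      rw [hfree r hr h1, Q.const ρ.character (fun g k => hD.conj_val hc g k) hr0 hr01 hr0z hr h1 h2]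
    have hR := hD.sum_sup hc e e.R e.R_le
    rw [← Finset.add_sum_erase _ _ (mem_elems.mpr (one_mem e.R)),
      ← Finset.add_sum_erase _ _ (Finset.mem_erase.mpr ⟨Q.z_ne, mem_elems.mpr e.z_mem_R⟩),
      hD.psi_one hc e, hD.psi_z hc e, hz, Finset.sum_congr rfl (g := fun _ => x) (fun r hr => by
        obtain ⟨h2, hr'⟩ := Finset.mem_erase.mp hr
        obtain ⟨h1, hr''⟩ := Finset.mem_erase.mp hr'
        exact hval r (mem_elems.mp hr'') h1 h2),
      Finset.sum_const, Finset.card_erase_of_mem (Finset.mem_erase.mpr ⟨Q.z_ne, mem_elems.mpr e.z_mem_R⟩),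
      Finset.card_erase_of_mem (mem_elems.mpr (one_mem e.R)), card_elems, e.card_R, nsmul_eq_mul] at hR
    set F := fixDim ρ (e.E ⊔ e.R) with hF
    obtain ⟨w, hw⟩ := exists_int_of_rat_integral (hD.integral r0) (a := 8 * (F : ℤ) - 6) (b := 6)
      (by norm_num) (by push_cast at hR ⊢; linear_combination -hR)
    have hle := fixDim_mono (ρ := ρ) (le_sup_left : e.E ≤ e.E ⊔ e.R)
    rw [hD.fixDim_E hc e, ← hF] at hle
    have eF : (8 : ℤ) * F = 6 + 6 * w := by
      have : (8 : ℂ) * F = 6 + 6 * (w : ℂ) := by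
        rw [← hxdef] at hw
        rw [hw] at hR; push_cast at hR; linear_combination hR
      exact_mod_cast this
    rcases (show F = 0 ∨ F = 3 by omega) with h0 | h3
    · refine Or.inr ⟨hz, fun r hr h1 h2 => ?_⟩
      have hwm : w = -1 := by omega
      rw [← hfree r hr h1, hval r hr h1 h2, hxdef, hw, hwm]
      norm_num
    · left
      obtain ⟨a, ha, ha1, hh, hu, h6, hall⟩ := e.exists_base hc
      have hs := hD.sum_sup hc e (e.stab a) inf_le_left
      rw [hD.sum_stab_six hc e _ hclass hh hu h6 hall, h6, hD.psi_one hc e, hψh, hψu] at hs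
      have hK : fixDim ρ (e.E ⊔ e.stab a) = 1 := by
        have : (6 : ℂ) * fixDim ρ (e.E ⊔ e.stab a) = 6 := by push_cast at hs; linear_combination hs
        have : 6 * fixDim ρ (e.E ⊔ e.stab a) = 6 := by exact_mod_cast this
        omega
      set P := proj ρ (e.E ⊔ e.stab a) with hP
      have hER : proj ρ (e.E ⊔ e.R) = proj ρ e.E :=
        proj_eq_of_fixDim le_sup_left (by rw [hD.fixDim_E hc e, ← hF, h3])
      have hfix : e.E ⊔ e.H ≤ endStab ρ P := by
        refine sup_le (fun g hg => mul_proj (mem_sup_left hg)) fun g hg => ?_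
        obtain ⟨r, hr, s, hs', rfl⟩ := e.exists_decomp le_rfl e.R_le ha ha1 hg
        refine mul_mem ?_ (show s ∈ endStab ρ P from mul_proj (mem_sup_right hs'.2))
        show ρ r * P = P
        rw [hP, ← proj_mul_proj_of_le (ρ := ρ) (le_sup_left : e.E ≤ e.E ⊔ e.stab a), ← mul_assoc, ← hER,
          mul_proj (mem_sup_right hr)]
      have := proj_eq_of_fix (ρ := ρ) (sup_le_sup_left inf_le_left e.E : e.E ⊔ e.stab a ≤ e.E ⊔ e.H)
        (fun g hg => hfix hg)
      rw [fixDim_eq_of_proj this, hK]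
  · -- the involution fixes a line, and so does `u`
    left
    have hzH : zpowers e.z ≤ e.H := zpowers_le.mpr e.z_mem_H
    have h1 := hD.sum_sup hc e (zpowers e.z) hzH
    rw [hD.sum_zpowers_z hc e, Nat.card_zpowers, e.orderOf_z, hD.psi_one hc e, hD.psi_z hc e, hz] at h1
    have hK1 : fixDim ρ (e.E ⊔ zpowers e.z) = 1 := by
      have : (2 : ℂ) * fixDim ρ (e.E ⊔ zpowers e.z) = 2 := by push_cast at h1; linear_combination h1
      have : 2 * fixDim ρ (e.E ⊔ zpowers e.z) = 2 := by exact_mod_cast this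
      omega
    set Z2 := zpowers e.z ⊔ zpowers e.u with hZ2
    have hZ2H : Z2 ≤ e.H := sup_le hzH (zpowers_le.mpr e.u_mem)
    have h2 := hD.sum_sup hc e Z2 hZ2H
    have Q := e.qdata_R hc
    have huu := e.uu
    obtain ⟨r, hr, d, hd, hd1, hdz, hud, hdu⟩ := Q.exists_d (e.H_le_C e.u_mem) huu e.u_h
    have hzu : psiE ρ e (e.z * e.u) = psiE ρ e e.u := by
      have e1 : e.u * d⁻¹ = d * e.u := by
        rw [← hud]
        calc e.u * (e.u * d * e.u⁻¹) = (e.u * e.u) * d * e.u⁻¹ := by group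
          _ = d * e.u := by rw [huu, one_mul, inv_eq_of_mul_eq_one_right huu]
      have e2 : d * e.u * d⁻¹ = e.z * e.u := by
        rw [mul_assoc, e1, ← mul_assoc, Q.sq d hd hd1 hdz]
      rw [← e2, hclass d (e.R_le hd)]
    rw [hZ2, sum_elems_sup _ (hD.zu_le hc e) (hD.zu_disjoint hc e), elems_zpowers_two e.orderOf_u,
      Finset.sum_pair (fun h => (e.h_ne_one hc).2.2 h.symm), hD.sum_zpowers_z hc e, hD.sum_zpowers_z hc e,
      card_mul_of_disjoint (hD.zu_le hc e) (hD.zu_disjoint hc e), Nat.card_zpowers, Nat.card_zpowers,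
      e.orderOf_z, e.orderOf_u, one_mul, one_mul, mul_one, hzu, hψu, hD.psi_one hc e, hD.psi_z hc e, hz]
      at h2
    have hK2 : fixDim ρ (e.E ⊔ Z2) = 1 := by
      have : (4 : ℂ) * fixDim ρ (e.E ⊔ Z2) = 4 := by push_cast at h2; linear_combination h2
      have : 4 * fixDim ρ (e.E ⊔ Z2) = 4 := by exact_mod_cast this
      omega
    set P := proj ρ (e.E ⊔ zpowers e.z) with hP
    have hle : e.E ⊔ zpowers e.z ≤ e.E ⊔ Z2 := sup_le_sup_left le_sup_left _
    have hpeq : proj ρ (e.E ⊔ Z2) = P := proj_eq_of_fixDim hle (by rw [hK2, hK1])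
    have hu : ρ e.u * P = P := by
      rw [← hpeq]
      exact mul_proj (mem_sup_right (mem_sup_right (mem_zpowers _)))
    have hcomm : ∀ k ∈ e.H, ρ k * P = P * ρ k := fun k hk => commute_proj (mem_normalizer_sup
      (e.H_le_N hk) (centralizer_le_normalizer _ (mem_centralizer_iff.mpr fun x hx => by
        obtain ⟨i, rfl⟩ := hx
        exact (Commute.zpow_left (mem_centralizer_singleton_iff.mp (e.H_le_C hk)).symm i).eq)))
    have hfix : e.E ⊔ e.H ≤ endStab ρ P := by
      refine sup_le (fun g hg => mul_proj (mem_sup_left hg)) ?_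
      refine e.H_gen.trans ((closure_le _).mpr ?_)
      rintro g ⟨k, hk, rfl⟩
      exact rho_conj_fix (hcomm k hk) (hcomm k⁻¹ (inv_mem hk)) hu
    have := proj_eq_of_fix (ρ := ρ) (sup_le_sup_left hzH e.E : e.E ⊔ zpowers e.z ≤ e.E ⊔ e.H)
      (fun g hg => hfix hg)
    rw [fixDim_eq_of_proj this, hK1]

/-- A quaternion group with values `-1`: the involution `u` fixes the fixed space of some `d`. -/
theorem exists_quat {X : Subgroup G} (Q : QData e.z e.h X) (hu : e.u ∉ X) (hz : ρ.character e.z = 3)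
    (hX : ∀ x ∈ X, x ≠ 1 → x ≠ e.z → ρ.character x = -1) :
    ∃ r ∈ X, ∃ d ∈ X, d ≠ 1 ∧ d ≠ e.z ∧ d * e.u = r * e.u * r⁻¹ ∧
      fixDim ρ (zpowers d) = 3 ∧ ρ e.u * proj ρ (zpowers d) = proj ρ (zpowers d) := by
  classical
  have huu := e.uu
  have huC := e.H_le_C e.u_mem
  obtain ⟨r, hr, d, hd, hd1, hdz, hud, hdu⟩ := Q.exists_d huC huu e.u_h
  have hd4 := Q.order_four hd hd1 hdz
  have hdd := Q.sq d hd hd1 hdz
  have hinv := Q.inv_eq hd hd1 hdz
  obtain ⟨hne1, hne2⟩ := Q.zx_ne hd1 hdz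
  have hdinv1 : d⁻¹ ≠ 1 := fun h => hd1 (inv_eq_one.mp h)
  have hdinvz : d⁻¹ ≠ e.z := hinv ▸ hne2
  have hddne : d ≠ d⁻¹ := fun h => by
    have := orderOf_dvd_of_pow_eq_one (show d ^ 2 = 1 by rw [pow_two]; nth_rw 2 [h]; rw [mul_inv_cancel])
    rw [hd4] at this; norm_num at this
  have hel := zpowers_four hd4 hdd
  have hsum : ∀ f : G → ℂ, ∑ a ∈ elems (zpowers d), f a = f 1 + (f d + (f e.z + f d⁻¹)) := by
    intro f
    rw [hel, Finset.sum_insert (by simp [Ne.symm hd1, Q.z_ne.symm, hdinv1.symm]),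
      Finset.sum_insert (by simp [hdz, hddne]), Finset.sum_pair hdinvz.symm]
  have hF := card_mul_fixDim (ρ := ρ) (K := zpowers d)
  rw [hsum, Nat.card_zpowers, hd4, hD.one_val hc, hX d hd hd1 hdz, hz,
    hX d⁻¹ (inv_mem hd) hdinv1 hdinvz] at hF
  have hF3 : fixDim ρ (zpowers d) = 3 := by
    have : (4 : ℂ) * fixDim ρ (zpowers d) = 12 := by push_cast at hF; linear_combination hF
    have : 4 * fixDim ρ (zpowers d) = 12 := by exact_mod_cast this
    omega
  have hn : zpowers e.u ≤ normalizer (zpowers d : Set G) := by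
    rw [zpowers_le, mem_normalizer_iff]
    intro x
    have hc' : ∀ y : G, y ∈ zpowers d → e.u * y * e.u⁻¹ ∈ zpowers d := by
      rintro y ⟨i, rfl⟩
      rw [← conj_zpow, hud]
      exact zpow_mem (inv_mem (mem_zpowers d)) i
    refine ⟨hc' x, fun h => ?_⟩
    have := hc' _ h
    rw [inv_eq_of_mul_eq_one_right huu] at this
    simpa [mul_assoc, huu, ← mul_assoc e.u e.u] using this
  have hdis : zpowers d ⊓ zpowers e.u = ⊥ := by
    rw [eq_bot_iff]
    intro x hx
    obtain ⟨h1, h2⟩ := mem_inf.mp hx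
    rw [← mem_elems, elems_zpowers_two e.orderOf_u] at h2
    simp only [Finset.mem_insert, Finset.mem_singleton] at h2
    rcases h2 with rfl | rfl
    · exact one_mem _
    · exact absurd (zpowers_le.mpr hd h1) hu
  have e1 : ρ.character (d * e.u) = 3 := by rw [hdu, hD.conj_val hc, hD.val_u hc e, hz]
  have e3 : ρ.character (d⁻¹ * e.u) = 3 := by
    rw [show d⁻¹ * e.u = e.u * (d * e.u) * e.u⁻¹ by
      rw [← hud]; calc e.u * d * e.u⁻¹ * e.u = e.u * d := by group
        _ = e.u * (d * e.u) * e.u⁻¹ := by group, hD.conj_val hc, e1]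
  have e2 : ρ.character (e.z * e.u) = 3 := by
    have : e.z * e.u = d * e.u * d⁻¹ := by
      rw [← hdd, mul_assoc, mul_assoc d e.u]
      congr 1
      rw [← hud]
      calc d * e.u = (e.u * e.u) * d * e.u := by rw [huu, one_mul]
        _ = e.u * (e.u * d * e.u⁻¹) := by rw [inv_eq_of_mul_eq_one_right huu]; group
    rw [this, hD.conj_val hc, hD.val_u hc e, hz]
  have hF2 := card_mul_fixDim (ρ := ρ) (K := zpowers d ⊔ zpowers e.u)
  rw [sum_elems_sup _ hn hdis, elems_zpowers_two e.orderOf_u,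
    Finset.sum_pair (fun h => (e.h_ne_one hc).2.2 h.symm), hsum, hsum, card_mul_of_disjoint hn hdis,
    Nat.card_zpowers, Nat.card_zpowers, hd4, e.orderOf_u] at hF2
  simp only [mul_one, one_mul] at hF2
  rw [hD.one_val hc, hX d hd hd1 hdz, hz, hX d⁻¹ (inv_mem hd) hdinv1 hdinvz, hD.val_u hc e, hz, e1, e2,
    e3] at hF2
  have hF2' : fixDim ρ (zpowers d ⊔ zpowers e.u) = 3 := by
    have : (8 : ℂ) * fixDim ρ (zpowers d ⊔ zpowers e.u) = 24 := by
      push_cast at hF2; linear_combination hF2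
    have : 8 * fixDim ρ (zpowers d ⊔ zpowers e.u) = 24 := by exact_mod_cast this
    omega
  refine ⟨r, hr, d, hd, hd1, hdz, hdu, hF3, ?_⟩
  rw [← proj_eq_of_fixDim (ρ := ρ) (le_sup_left : zpowers d ≤ zpowers d ⊔ zpowers e.u) (by rw [hF2', hF3])]
  exact mul_proj (mem_sup_right (mem_zpowers _))

/-- The two quaternion groups cannot both have values `-1`. -/
theorem not_both (hz : ρ.character e.z = 3)
    (hR : ∀ r ∈ e.R, r ≠ 1 → r ≠ e.z → ρ.character r = -1)
    (hM : ∀ m ∈ e.M, m ≠ 1 → m ≠ e.z → ρ.character m = -1) : False := by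
  classical
  have QR := e.qdata_R hc
  have QM := e.qdata_M hc
  have hzl : zpowers e.z ≤ e.R := zpowers_le.mpr e.z_mem_R
  have huM : e.u ∉ e.M := by
    intro h
    have h4 := QM.order_four h (e.h_ne_one hc).2.2 (hD.u_ne_z hc e)
    rw [e.orderOf_u] at h4
    omega
  obtain ⟨-, -, d, hd, hd1, hdz, -, hdF, hdu⟩ := hD.exists_quat hc e QR e.u_notMem hz hR
  obtain ⟨m, hm, c, hcM, hc1, hcz, hcu, hcF, -⟩ := hD.exists_quat hc e QM huM hz hM
  set P := proj ρ (zpowers d) with hP
  have hmd : ∀ {k : G}, k * d = d * k → ρ k * P = P * ρ k := fun {k} h =>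
    commute_proj (centralizer_le_normalizer _ (mem_centralizer_iff.mpr fun x hx => by
      obtain ⟨i, rfl⟩ := hx
      exact (Commute.zpow_left (show Commute d k from h.symm) i).eq))
  have hcd : d * c = c * d := e.M_comm d hd c hcM
  have hmd1 : m * d = d * m := (e.M_comm d hd m hm).symm
  have hcP : ρ c * P = P := by
    rw [show c = (m * e.u * m⁻¹) * e.u⁻¹ from eq_mul_inv_of_mul_eq hcu,
      inv_eq_of_mul_eq_one_right e.uu, map_mul, mul_assoc, hdu]
    exact rho_conj_fix (hmd hmd1) (hmd ((show Commute m d from hmd1).inv_left.eq)) hdu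
  set K := zpowers d ⊔ zpowers c with hK
  have hKfix : ∀ g ∈ K, ρ g * P = P := by
    have : K ≤ endStab ρ P := sup_le (zpowers_le.mpr (mul_proj (mem_zpowers d))) (zpowers_le.mpr hcP)
    exact fun g hg => this hg
  have hKP : proj ρ K = P := proj_eq_of_fix le_sup_left hKfix
  have hKc : proj ρ K = proj ρ (zpowers c) := proj_eq_of_fixDim le_sup_right (by
    rw [fixDim_eq_of_proj hKP, hdF, hcF])
  have hdfix : ρ d * proj ρ (zpowers c) = proj ρ (zpowers c) := by
    rw [← hKc]; exact mul_proj (mem_sup_left (mem_zpowers _))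
  have hcc := QM.sq c hcM hc1 hcz
  have hc4 := QM.order_four hcM hc1 hcz
  have hcinv := QM.inv_eq hcM hc1 hcz
  -- the trace
  have htr : ∑ k ∈ elems (zpowers c), ρ.character (d * k) = 12 := by
    have := congrArg (LinearMap.trace ℂ V) hdfix
    rw [← fixDim_trace, hcF, proj, mul_smul_comm, Finset.mul_sum, map_smul, map_sum, smul_eq_mul,
      Nat.card_zpowers, hc4] at this
    simp only [← map_mul] at this
    push_cast at this
    have e' : ∑ k ∈ elems (zpowers c), LinearMap.trace ℂ V (ρ (d * k)) = 12 := by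
      linear_combination 4 * this
    exact e'
  have hcci : c⁻¹ ≠ c := fun h => by
    have := orderOf_dvd_of_pow_eq_one (show c ^ 2 = 1 by rw [pow_two]; nth_rw 1 [← h]; rw [inv_mul_cancel])
    rw [hc4] at this; norm_num at this
  have hzc := QM.zx_ne hc1 hcz
  rw [zpowers_four hc4 hcc, Finset.sum_insert (by
      simp [Ne.symm hc1, QM.z_ne.symm, Ne.symm (fun h => hc1 (inv_eq_one.mp h) : c⁻¹ ≠ 1)]),
    Finset.sum_insert (by simp [hcz, hcci.symm]), Finset.sum_pair (hcinv ▸ hzc.2).symm, mul_one,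
    hR d hd hd1 hdz] at htr
  have hdz' : ρ.character (d * e.z) = -1 := by
    rw [QR.z_comm hd]
    exact hR _ (mul_mem e.z_mem_R hd) (QR.zx_ne hd1 hdz).1 (QR.zx_ne hd1 hdz).2
  rw [hdz', hcinv] at htr
  -- the involutions
  have hnotR : c ∉ e.R := by
    intro h
    have hmem : c ∈ e.R ⊓ e.M := mem_inf.mpr ⟨h, hcM⟩
    rw [e.M_inf, ← mem_elems, elems_zpowers_two e.orderOf_z] at hmem
    simp only [Finset.mem_insert, Finset.mem_singleton] at hmem
    rcases hmem with h' | h'
    · exact hc1 h'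
    · exact hcz h'
  have hzzc : ∀ {x : G}, x ∈ e.M → x ≠ 1 → x ≠ e.z → x ∉ e.R → orderOf (d * x) = 2 := by
    intro x hx hx1 hxz hxR
    refine orderOf_eq_prime ?_ fun h => hxR ?_
    · rw [pow_two, mul_assoc, ← mul_assoc x, ← e.M_comm d hd x hx, mul_assoc d x, ← mul_assoc,
        QR.sq d hd hd1 hdz, QM.sq x hx hx1 hxz, e.zz]
    · rw [eq_inv_of_mul_eq_one_right h]; exact inv_mem hd
  have hzcR : e.z * c ∉ e.R := fun h => hnotR (by
    have := mul_mem e.z_mem_R h
    rwa [← mul_assoc, e.zz, one_mul] at this)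
  have ho1 := hzzc hcM hc1 hcz hnotR
  have ho2 := hzzc (mul_mem QM.zmem hcM) hzc.1 hzc.2 hzcR
  obtain ⟨n1, hn1, -, hn1', ⟨j1, hj1⟩⟩ := hD.invol _ ho1
  obtain ⟨n2, hn2, -, hn2', ⟨j2, hj2⟩⟩ := hD.invol _ ho2
  rw [hn1, hn2] at htr
  have hsum : n1 + n2 = 14 := by
    have : ((n1 : ℂ) + n2) = 14 := by linear_combination htr
    exact_mod_cast this
  have h7 : n1 = 7 := by omega
  rcases hc.invol _ ho1 with h192 | h240
  · have := hD.val_of_cC hc ho1 e.orderOf_z (h192.trans e.cC_z.symm)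
    rw [hn1, hz, h7] at this
    norm_num at this
  · exact hD.seven_false hc ho1 h240 (by rw [hn1, h7]; norm_num)

/-- For one of two linked subgroups of type `3²` the normaliser fixes a vector. -/
theorem exists_line (e' : EData G) (hz : e'.z = e.z) (hR : e'.R = e.M) :
    1 ≤ fixDim ρ (e.E ⊔ e.H) ∨ 1 ≤ fixDim ρ (e'.E ⊔ e'.H) := by
  rcases hD.line hc e with h | ⟨h3, hRv⟩
  · exact Or.inl h
  rcases hD.line hc e' with h | ⟨-, hMv⟩
  · exact Or.inr h
  exact (hD.not_both hc e h3 hRv fun m hm h1 h2 => hMv m (hR ▸ hm) h1 (hz ▸ h2)).elim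

end Deg11

end Cfsg.Agent.M12Uniq
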