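import Cfsg.Agent.M12Uniq.FixChar

/-!
# No involution has value 7 in a character of degree 11
-/

set_option autoImplicit false
set_option linter.unusedSectionVars false
set_option maxHeartbeats 1000000

open Module Subgroup
open scoped ComplexConjugate

namespace Cfsg.Agent.M12Uniq

open Cfsg.Agent.M12Ord86

/-- Squares of sums of algebraic integers are sums of squares modulo two. -/
theorem exists_sq_sum {ι : Type*} (s : Finset ι) (f : ι → ℂ) (hf : ∀ i, IsIntegral ℤ (f i)) :
    ∃ a : ℂ, IsIntegral ℤ a ∧ (∑ i ∈ s, f i) ^ 2 - ∑ i ∈ s, f i ^ 2 = 2 * a := by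
  classical
  induction s using Finset.induction_on with
  | empty => exact ⟨0, isIntegral_zero, by simp⟩
  | insert i s hi ih =>
    obtain ⟨a, ha, e⟩ := ih
    refine ⟨a + f i * ∑ j ∈ s, f j, ha.add ((hf i).mul (IsIntegral.sum _ fun j _ => hf j)), ?_⟩
    rw [Finset.sum_insert hi, Finset.sum_insert hi]
    linear_combination e

variable {G : Type*} [Group G] [Fintype G] {V : Type*} [AddCommGroup V] [Module ℂ V]
  [FiniteDimensional ℂ V]

namespace Deg11

variable {ρ : Representation ℂ G V} (hD : Deg11 ρ) (hc : Counts G)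
include hD hc

theorem even_sq_sub {g : G} {x v : ℤ} (hx : ρ.character g = x) (hv : ρ.character (g * g) = v) :
    2 ∣ x ^ 2 - v := by
  obtain ⟨b, ω, hω, -, -, hk⟩ := CharCore.exists_eigenvalues ρ g
  have hint : ∀ i, IsIntegral ℤ (ω i) := fun i => IsIntegral.of_pow (orderOf_pos g)
    (by rw [hω i]; exact isIntegral_one)
  obtain ⟨a, ha, e⟩ := exists_sq_sum Finset.univ ω hint
  have h1 : ρ.character g = ∑ i, ω i := by
    have := hk 1
    simpa using this
  have h2 : ρ.character (g * g) = ∑ i, ω i ^ 2 := by
    rw [← pow_two]; exact hk 2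
  rw [← h1, ← h2, hx, hv] at e
  obtain ⟨n, hn⟩ := exists_int_of_rat_integral ha (a := x ^ 2 - v) (b := 2) (by norm_num)
    (by push_cast; linear_combination -e)
  refine ⟨n, ?_⟩
  rw [hn] at e
  exact_mod_cast e

theorem seven_false {w : G} (hw : orderOf w = 2) (h240 : cC w = 240) (h7 : ρ.character w = 7) :
    False := by
  classical
  haveI : Fact (Nat.Prime 5) := ⟨by norm_num⟩
  obtain ⟨q', hq'⟩ := exists_prime_orderOf_dvd_card' (G := ↥(centralizer ({w} : Set G))) 5
    (by rw [show Nat.card ↥(centralizer ({w} : Set G)) = 240 from h240]; norm_num)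
  set q : G := (q' : G) with hqdef
  have hq : orderOf q = 5 := by rw [hqdef, orderOf_coe, hq']
  have hqw : q * w = w * q := mem_centralizer_singleton_iff.mp q'.2
  have hq1 : q ≠ 1 := fun h => by rw [h, orderOf_one] at hq; omega
  have hcq := hc.five q hq
  set C := centralizer ({q} : Set G) with hC
  have hCc : Nat.card C = 10 := hcq
  -- the centraliser
  have hnw : zpowers w ≤ normalizer (zpowers q : Set G) := by
    rw [zpowers_le]
    exact centralizer_le_normalizer _ (mem_centralizer_iff.mpr fun x hx => by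
      obtain ⟨k, rfl⟩ := hx
      exact (Commute.zpow_left hqw k).eq)
  have hd : zpowers q ⊓ zpowers w = ⊥ := disjoint_iff.mp (disjoint_of_coprime_natCard (by
    rw [Nat.card_zpowers, Nat.card_zpowers, hq, hw]; norm_num))
  have hsup : zpowers q ⊔ zpowers w = C := by
    refine eq_of_le_of_card_ge (sup_le (zpowers_le.mpr ?_) (zpowers_le.mpr ?_)) ?_
    · exact mem_centralizer_singleton_iff.mpr rfl
    · exact mem_centralizer_singleton_iff.mpr hqw.symm
    · rw [hCc, card_mul_of_disjoint hnw hd, Nat.card_zpowers, Nat.card_zpowers, hq, hw]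
  have huniq : ∀ s ∈ C, orderOf s = 2 → s = w := by
    intro s hs hs2
    rw [← hsup] at hs
    have hs' : s ∈ (↑(zpowers q ⊔ zpowers w) : Set G) := hs
    rw [coe_mul_of_right_le_normalizer_left _ _ hnw] at hs'
    obtain ⟨a, ha, b, hb, rfl⟩ := hs'
    have hab : Commute a b := by
      obtain ⟨i, rfl⟩ := ha
      obtain ⟨j, rfl⟩ := hb
      exact (Commute.zpow_zpow hqw i j)
    have hb2 : b * b = 1 := by
      have := mem_elems.mpr hb
      rw [elems_zpowers_two hw] at this
      simp only [Finset.mem_insert, Finset.mem_singleton] at this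
      rcases this with rfl | rfl
      · exact one_mul _
      · rw [← pow_two, ← hw, pow_orderOf_eq_one]
    have h2 : (a * b) ^ 2 = 1 := by rw [← hs2, pow_orderOf_eq_one]
    rw [hab.mul_pow, pow_two b, hb2, mul_one] at h2
    have h5 : a ^ 5 = 1 := by
      obtain ⟨i, rfl⟩ := ha
      rw [← zpow_natCast, ← zpow_mul, mul_comm, zpow_mul, zpow_natCast, ← hq, pow_orderOf_eq_one,
        one_zpow]
    have ha1 : a = 1 := by
      have := pow_gcd_eq_one.mpr ⟨h2, h5⟩
      simpa using this
    subst ha1
    simp only [one_mul] at hs2 ⊢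
    have := mem_elems.mpr hb
    rw [elems_zpowers_two hw] at this
    simp only [Finset.mem_insert, Finset.mem_singleton] at this
    rcases this with rfl | rfl
    · rw [orderOf_one] at hs2; omega
    · rfl
  -- the normaliser moves `q` to every generator
  have hgen : ∀ a ∈ zpowers q, a ≠ 1 → ∃ k : G, k * q * k⁻¹ = a ∧ k * w * k⁻¹ = w := by
    set N := normalizer (zpowers q : Set G) with hN
    have hNc : (elems N).card = 40 := by
      rw [card_elems, hN]; exact hc.five_norm _ (by rw [Nat.card_zpowers, hq])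
    set T := (elems (zpowers q)).erase 1 with hT
    have hTc : T.card = 4 := by
      rw [hT, Finset.card_erase_of_mem (mem_elems.mpr (one_mem _)), card_elems, Nat.card_zpowers, hq]
    have himg : (elems N).image (fun k => k * q * k⁻¹) ⊆ T := by
      intro a ha
      obtain ⟨k, hk, rfl⟩ := Finset.mem_image.mp ha
      rw [mem_elems] at hk
      refine Finset.mem_erase.mpr ⟨fun h => hq1 (by simpa using h), mem_elems.mpr ?_⟩
      exact (mem_normalizer_iff.mp hk q).mp (mem_zpowers q)
    have hfib : ∀ a ∈ (elems N).image (fun k => k * q * k⁻¹),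
        ((elems N).filter fun k => k * q * k⁻¹ = a).card ≤ 10 := by
      intro a ha
      obtain ⟨k₀, -, rfl⟩ := Finset.mem_image.mp ha
      rw [← hCc, ← card_elems]
      refine Finset.card_le_card_of_injOn (fun k => k₀⁻¹ * k) (fun k hk => ?_)
        (fun k _ k' _ h => mul_left_cancel h)
      have hk' := (Finset.mem_filter.mp hk).2
      refine mem_elems.mpr (mem_centralizer_singleton_iff.mpr ?_)
      apply mul_inv_eq_iff_eq_mul.mp
      calc k₀⁻¹ * k * q * (k₀⁻¹ * k)⁻¹ = k₀⁻¹ * (k * q * k⁻¹) * k₀ := by group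
        _ = q := by rw [hk']; group
    have h40 := Finset.card_le_mul_card_image (elems N) 10 hfib
    have heq : (elems N).image (fun k => k * q * k⁻¹) = T :=
      Finset.eq_of_subset_of_card_le himg (by omega)
    intro a ha ha1
    have : a ∈ (elems N).image (fun k => k * q * k⁻¹) :=
      heq ▸ Finset.mem_erase.mpr ⟨ha1, mem_elems.mpr ha⟩
    obtain ⟨k, -, hk⟩ := Finset.mem_image.mp this
    refine ⟨k, hk, huniq _ ?_ ?_⟩
    · refine mem_centralizer_singleton_iff.mpr ?_
      have hqa : q ∈ zpowers a := by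
        have hle : zpowers a ≤ zpowers q := zpowers_le.mpr ha
        have heq' : zpowers a = zpowers q := eq_of_le_of_card_ge hle (by
          rw [Nat.card_zpowers, Nat.card_zpowers, ← hk,
            show k * q * k⁻¹ = MulAut.conj k q by simp, MulEquiv.orderOf_eq])
        rw [heq']; exact mem_zpowers q
      obtain ⟨i, hi⟩ := hqa
      rw [← hi]
      refine (Commute.zpow_right ?_ i).eq
      rw [← hk]
      show k * w * k⁻¹ * (k * q * k⁻¹) = k * q * k⁻¹ * (k * w * k⁻¹)
      calc k * w * k⁻¹ * (k * q * k⁻¹) = k * (w * q) * k⁻¹ := by group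
        _ = k * (q * w) * k⁻¹ := by rw [hqw]
        _ = _ := by group
    · rw [show k * w * k⁻¹ = MulAut.conj k w by simp, MulEquiv.orderOf_eq, hw]
  -- the value at `q`
  have hconst : ∀ a ∈ zpowers q, a ≠ 1 → ρ.character a = ρ.character q ∧
      ρ.character (a * w) = ρ.character (q * w) := by
    intro a ha ha1
    obtain ⟨k, hk, hkw⟩ := hgen a ha ha1
    refine ⟨by rw [← hk, hD.conj_val hc], ?_⟩
    rw [← hD.conj_val hc (q * w) k, show k * (q * w) * k⁻¹ = (k * q * k⁻¹) * (k * w * k⁻¹) by group,
      hk, hkw]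
  have hTc : ((elems (zpowers q)).erase 1).card = 4 := by
    rw [Finset.card_erase_of_mem (mem_elems.mpr (one_mem _)), card_elems, Nat.card_zpowers, hq]
  have hsq : ∑ a ∈ elems (zpowers q), ρ.character a = 11 + 4 * ρ.character q := by
    rw [← Finset.add_sum_erase _ _ (mem_elems.mpr (one_mem _)), hD.one_val hc,
      Finset.sum_congr rfl (g := fun _ => ρ.character q) (fun a ha => (hconst a
        (mem_elems.mp (Finset.mem_of_mem_erase ha)) (Finset.ne_of_mem_erase ha)).1),
      Finset.sum_const, hTc, nsmul_eq_mul]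
    norm_num
  have hsqw : ∑ a ∈ elems (zpowers q), ρ.character (a * w) = 7 + 4 * ρ.character (q * w) := by
    rw [← Finset.add_sum_erase _ _ (mem_elems.mpr (one_mem _)), one_mul, h7,
      Finset.sum_congr rfl (g := fun _ => ρ.character (q * w)) (fun a ha => (hconst a
        (mem_elems.mp (Finset.mem_of_mem_erase ha)) (Finset.ne_of_mem_erase ha)).2),
      Finset.sum_const, hTc, nsmul_eq_mul]
    norm_num
  have hK := card_mul_fixDim (ρ := ρ) (K := zpowers q)
  rw [hsq, Nat.card_zpowers, hq] at hK
  set F1 := fixDim ρ (zpowers q)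
  obtain ⟨v, hv⟩ := exists_int_of_rat_integral (hD.integral q) (a := 5 * (F1 : ℤ) - 11)
    (b := 4) (by norm_num) (by push_cast at hK ⊢; linear_combination -hK)
  have hbv := hD.bound q v hv
  rw [show (cC q : ℤ) = 10 by exact_mod_cast hcq] at hbv
  have ev : (5 : ℤ) * F1 = 11 + 4 * v := by
    have : (5 : ℂ) * F1 = 11 + 4 * (v : ℂ) := by
      rw [hv] at hK; push_cast at hK; linear_combination hK
    exact_mod_cast this
  have hv1 : v = 1 := by
    have h1 : -4 < v := by nlinarith
    have h2 : v < 4 := by nlinarith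
    omega
  -- the value at `q * w`
  have hK2 := card_mul_fixDim (ρ := ρ) (K := zpowers q ⊔ zpowers w)
  have hw1 : w ≠ 1 := fun h => by rw [h, orderOf_one] at hw; omega
  rw [sum_elems_sup _ hnw hd, elems_zpowers_two hw, Finset.sum_pair hw1.symm, hsqw,
    card_mul_of_disjoint hnw hd, Nat.card_zpowers, Nat.card_zpowers, hq, hw] at hK2
  simp only [mul_one] at hK2
  rw [hsq, hv, hv1] at hK2
  set F2 := fixDim ρ (zpowers q ⊔ zpowers w)
  obtain ⟨x, hx⟩ := exists_int_of_rat_integral (hD.integral (q * w)) (a := 10 * (F2 : ℤ) - 22)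
    (b := 4) (by norm_num) (by push_cast at hK2 ⊢; linear_combination -hK2)
  have ex : (10 : ℤ) * F2 = 22 + 4 * x := by
    have : (10 : ℂ) * F2 = 22 + 4 * (x : ℂ) := by
      rw [hx] at hK2; push_cast at hK2; linear_combination hK2
    exact_mod_cast this
  have ho : orderOf (q * w) = 10 := by
    rw [(show Commute q w from hqw).orderOf_mul_eq_mul_orderOf_of_coprime (by rw [hq, hw]; norm_num),
      hq, hw]
  have hC10 : cC (q * w) = 10 := by
    have hle : centralizer ({q * w} : Set G) ≤ C := by
      intro g hg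
      have hg' : Commute g (q * w) := mem_centralizer_singleton_iff.mp hg
      refine mem_centralizer_singleton_iff.mpr ?_
      have : (q * w) ^ 6 = q := by
        have e1 : q ^ 6 = q := by rw [← pow_mod_orderOf, hq]; norm_num
        have e2 : w ^ 6 = 1 := by rw [← pow_mod_orderOf, hw]; norm_num
        rw [(show Commute q w from hqw).mul_pow, e1, e2, mul_one]
      rw [← this]
      exact (hg'.pow_right 6).eq
    have hge : C ≤ centralizer ({q * w} : Set G) := by
      rw [← hsup]
      refine sup_le (zpowers_le.mpr ?_) (zpowers_le.mpr ?_)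
      · exact mem_centralizer_singleton_iff.mpr ((Commute.refl q).mul_right hqw).eq
      · exact mem_centralizer_singleton_iff.mpr ((show Commute w q from hqw.symm).mul_right (Commute.refl w)).eq
    show Nat.card ↥(centralizer ({q * w} : Set G)) = 10
    rw [le_antisymm hle hge, hCc]
  have hbx := hD.bound (q * w) x hx
  rw [show (cC (q * w) : ℤ) = 10 by exact_mod_cast hC10] at hbx
  have hqq : ρ.character (q * w * (q * w)) = ((1 : ℤ) : ℂ) := by
    have : q * w * (q * w) = q * q := by
      rw [mul_assoc, ← mul_assoc w, ← hqw, mul_assoc q w w, ← pow_two w, ← hw, pow_orderOf_eq_one,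
        mul_one]
    rw [this, (hconst (q * q) (mul_mem (mem_zpowers q) (mem_zpowers q)) (fun h => by
      have := orderOf_dvd_of_pow_eq_one (show q ^ 2 = 1 by rw [pow_two, h])
      rw [hq] at this; norm_num at this)).1, hv, hv1]
  have hpar := hD.even_sq_sub hc hx hqq
  have hx3 : x = -3 := by
    have h1 : -4 < x := by nlinarith
    have h2 : x < 4 := by nlinarith
    obtain ⟨j, hj⟩ := hpar
    interval_cases x <;> omega
  have := hD.orth q (q * w) v x hv hx (fun h => by
    obtain ⟨k, hk⟩ := isConj_iff.mp h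
    rw [← hk, show k * q * k⁻¹ = MulAut.conj k q by simp, MulEquiv.orderOf_eq, hq] at ho
    omega) (by rw [hx3, show (cC (q * w) : ℤ) = 10 by exact_mod_cast hC10]; norm_num)
  rw [hv1, hx3] at this
  norm_num at this

end Deg11

end Cfsg.Agent.M12Uniq
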