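import Cfsg.Agent.M12Uniq.FixLine
import Cfsg.Agent.Lib.CharCore.Burnside
import Cfsg.Agent.Lib.Solvable.Basic

/-!
# No subgroup of order 1728 contains the two local subgroups
-/

set_option autoImplicit false
set_option linter.unusedSectionVars false

open Subgroup

namespace Cfsg.Agent.M12Uniq

open Cfsg.Agent.M12Ord86

variable {G : Type*} [Group G] [Fintype G]

theorem nine_product {M : Type*} [CommMonoid M] (x p q r s t u v w : M) (hx : x * x = 1)
    (h : x * (p * (q * (r * (s * (t * (u * (v * w))))))) = 1) :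
    x = x * p * q * (x * r * s) * (x * t * u) * (x * v * w) := by
  have e : x * p * q * (x * r * s) * (x * t * u) * (x * v * w) =
      (x * x) * x * (x * (p * (q * (r * (s * (t * (u * (v * w)))))))) := by ac_rfl
  rw [e, hx, h, one_mul, mul_one]

theorem exists_ne_one_of_card {K : Subgroup G} (h : 1 < Nat.card K) : ∃ x ∈ K, x ≠ 1 := by
  by_contra! hh
  rw [show K = ⊥ from eq_bot_iff.mpr fun g hg => mem_bot.mpr (hh g hg), Subgroup.card_bot] at h
  omega

theorem commute_pair {K : Subgroup G} (hKc : ∀ x ∈ K, ∀ y ∈ K, x * y = y * x) {a x y : G}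
    (hK : Nat.card K = 4) (hx : x ∈ K) (hx1 : x ≠ 1) (hy : y ∈ K) (hy1 : y ≠ 1) (hyx : y ≠ x)
    (hxx : x * x = 1) (hyy : y * y = 1) (ha : a * x * a⁻¹ = x) (haK : ∀ g ∈ K, a * g * a⁻¹ ∈ K)
    (ha3 : a * (a * a) = 1) : ∀ g ∈ K, a * g * a⁻¹ = g := by
  classical
  have hxy1 : x * y ≠ 1 := fun h => hyx (by rw [← mul_left_cancel (h.trans hxx.symm)])
  have hxyx : x * y ≠ x := fun h => hy1 (mul_left_cancel (h.trans (mul_one x).symm))
  have hxyy : x * y ≠ y := fun h => hx1 (mul_right_cancel (h.trans (one_mul y).symm))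
  let l : List G := [1, x, y, x * y]
  have hnd : l.Nodup := by simp [l, Ne.symm hx1, Ne.symm hy1, Ne.symm hxy1, hxyx.symm, hxyy.symm, hyx.symm]
  have hsub : (l.toFinset : Set G) ⊆ K := by
    intro g hg
    simp only [l, List.coe_toFinset, List.mem_cons, List.not_mem_nil, or_false, Set.mem_ofPred_eq] at hg
    rcases hg with rfl | rfl | rfl | rfl
    · exact one_mem _
    · exact hx
    · exact hy
    · exact mul_mem hx hy
  have heq : (l.toFinset : Set G) = K := Set.eq_of_subset_of_ncard_le hsub (by
    rw [Set.ncard_coe_finset, List.toFinset_card_of_nodup hnd, ← Nat.card_coe_set_eq]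
    exact le_of_eq hK)
  have hcases : ∀ g ∈ K, g = 1 ∨ g = x ∨ g = y ∨ g = x * y := fun g hg => by
    have : g ∈ (l.toFinset : Set G) := by rw [heq]; exact hg
    simpa [l] using this
  have hay : a * y * a⁻¹ = y := by
    rcases hcases _ (haK y hy) with h | h | h | h
    · exact absurd (by simpa using h) hy1
    · exact absurd (by simpa using h.trans ha.symm : y = x) hyx
    · exact h
    · exfalso
      have h2 : a * (a * y * a⁻¹) * a⁻¹ = y := by
        rw [h, show a * (x * y) * a⁻¹ = (a * x * a⁻¹) * (a * y * a⁻¹) by group, ha, h, ← mul_assoc, hxx,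
          one_mul]
      have h3 : a * (a * (a * y * a⁻¹) * a⁻¹) * a⁻¹ = y := by
        calc a * (a * (a * y * a⁻¹) * a⁻¹) * a⁻¹ = (a * (a * a)) * y * (a * (a * a))⁻¹ := by group
          _ = y := by rw [ha3, one_mul, inv_one, mul_one]
      rw [h2, h] at h3
      exact hxyy h3
  intro g hg
  rcases hcases g hg with rfl | rfl | rfl | rfl
  · group
  · exact ha
  · exact hay
  · rw [show a * (x * y) * a⁻¹ = (a * x * a⁻¹) * (a * y * a⁻¹) by group, ha, hay]

set_option maxHeartbeats 1000000 in
theorem no_1728 (hc : Counts G) (e : EData G) (L : Subgroup G)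
    (hN : normalizer (e.E : Set G) ≤ L) (hC : centralizer ({e.z} : Set G) ≤ L)
    (hcard : Nat.card L = 1728) : False := by
  classical
  haveI : Fact (Nat.Prime 2) := ⟨Nat.prime_two⟩
  haveI : Fact (Nat.Prime 3) := ⟨Nat.prime_three⟩
  haveI : Group.IsSolvable L := Cfsg.Agent.CharCore.isSolvable_of_card_eq_prime_pow_mul
    Nat.prime_two Nat.prime_three _ L 6 3 rfl (by rw [hcard]; norm_num)
  haveI : Nontrivial L := Finite.one_lt_card_iff_nontrivial.mp (by rw [hcard]; norm_num)
  obtain ⟨N, p, hNn, hNne, -, hp, -, hNc, hNp, d, hd0, hNd⟩ :=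
    Cfsg.Agent.Solvable.exists_minimal_normal_elementary L
  set K := N.map L.subtype with hK
  have hKcard : Nat.card K = p ^ d := by rw [hK, card_map_of_injective L.subtype_injective, hNd]
  have hKL : K ≤ L := map_subtype_le N
  have hKnorm : L ≤ normalizer (K : Set G) := by
    intro g hg
    refine mem_normalizer_iff.mpr fun x => ⟨fun hx => ?_, fun hx => ?_⟩
    · obtain ⟨y, hy, rfl⟩ := hx
      exact ⟨⟨g, hg⟩ * y * ⟨g, hg⟩⁻¹, hNn.conj_mem y hy _, rfl⟩
    · obtain ⟨y, hy, hyx⟩ := hx
      refine ⟨⟨g, hg⟩⁻¹ * y * ⟨g, hg⟩, by simpa using hNn.conj_mem y hy (⟨g, hg⟩⁻¹), ?_⟩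
      show g⁻¹ * (y : G) * g = x
      rw [show (y : G) = g * x * g⁻¹ from hyx]
      group
  have hKc : ∀ x ∈ K, ∀ y ∈ K, x * y = y * x := by
    rintro _ ⟨x, hx, rfl⟩ _ ⟨y, hy, rfl⟩
    exact congrArg (L.subtype) (congrArg Subtype.val (hNc.is_comm.comm (⟨x, hx⟩ : N) ⟨y, hy⟩))
  have hKp : ∀ x ∈ K, x ^ p = 1 := by
    rintro _ ⟨x, hx, rfl⟩
    rw [← map_pow, hNp x hx, map_one]
  have hKne : K ≠ ⊥ := fun h => hNne ((map_eq_bot_iff_of_injective _ L.subtype_injective).mp h)
  have hEL : e.E ≤ L := le_normalizer.trans hN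
  have hRL : e.R ≤ L := (e.R_le.trans e.H_le_N).trans hN
  have hEK : e.E ≤ normalizer (K : Set G) := hEL.trans hKnorm
  have hEE := e.centralizer_E
  have hpd : p ^ d ∣ 1728 := by
    rw [← hKcard, ← hcard]; exact card_dvd_of_le hKL
  have hp23 : p = 2 ∨ p = 3 := by
    have h1 : p ∣ 2 ^ 6 * 3 ^ 3 := (dvd_pow_self p hd0.ne').trans hpd
    rcases hp.dvd_mul.mp h1 with h | h
    · exact Or.inl ((Nat.prime_dvd_prime_iff_eq hp Nat.prime_two).mp (hp.dvd_of_dvd_pow h))
    · exact Or.inr ((Nat.prime_dvd_prime_iff_eq hp Nat.prime_three).mp (hp.dvd_of_dvd_pow h))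
  have key : ∀ {k a : G}, k ∈ K → a ∈ e.E → k * a * k⁻¹ * a⁻¹ ∈ K := fun {k a} hk ha => by
    rw [show k * a * k⁻¹ * a⁻¹ = k * (a * k⁻¹ * a⁻¹) by group]
    exact mul_mem hk ((mem_normalizer_iff.mp (hEK ha) _).mp (inv_mem hk))
  rcases hp23 with rfl | rfl
  · -- an elementary abelian `2`-group
    have hKE : K ⊓ e.E = ⊥ := disjoint_iff.mp (disjoint_of_coprime_natCard (by
      rw [hKcard, e.card_E]
      exact Nat.Coprime.pow d 2 (by norm_num : Nat.Coprime 2 3)))
    have hKN : ∀ k ∈ K, k ∈ normalizer (e.E : Set G) → k = 1 := by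
      intro k hk hkN
      have hkE : k ∈ e.E := by
        rw [← hEE, mem_centralizer_iff]
        intro a ha
        have h1 : k * a * k⁻¹ * a⁻¹ ∈ K ⊓ e.E :=
          mem_inf.mpr ⟨key hk ha, mul_mem ((mem_normalizer_iff.mp hkN a).mp ha) (inv_mem ha)⟩
        rw [hKE, mem_bot, mul_inv_eq_one, mul_inv_eq_iff_eq_mul] at h1
        exact h1.symm
      have : k ∈ K ⊓ e.E := mem_inf.mpr ⟨hk, hkE⟩
      rwa [hKE, mem_bot] at this
    -- centralisers of elements of `E`
    have hCa : ∀ a ∈ e.E, a ≠ 1 → ∀ x ∈ K, ∀ y ∈ K, a * x = x * a → a * y = y * a →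
        x = 1 ∨ y = 1 ∨ x = y := by
      intro a ha ha1 x hx y hy hxa hya
      set D := K ⊓ centralizer ({a} : Set G) with hD
      have h54 : Nat.card D ∣ 54 := by
        rw [← (e.three_E a ha ha1).2]; exact card_dvd_of_le inf_le_right
      have h2 : Nat.card D ∣ 2 ^ d := hKcard ▸ card_dvd_of_le inf_le_left
      have hD2 : Nat.card D ≤ 2 := by
        obtain ⟨i, hi, hi'⟩ := (Nat.dvd_prime_pow Nat.prime_two).mp h2
        rw [hi'] at h54 ⊢
        rcases Nat.lt_or_ge i 2 with h | h
        · interval_cases i <;> norm_num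
        · have h4 : 4 ∣ 54 := (pow_dvd_pow 2 h).trans h54
          norm_num at h4
      by_contra hcon
      push Not at hcon
      have hsub : ({1, x, y} : Set G) ⊆ (D : Set G) := by
        rintro g (rfl | rfl | rfl)
        · exact one_mem _
        · exact mem_inf.mpr ⟨hx, mem_centralizer_singleton_iff.mpr hxa.symm⟩
        · exact mem_inf.mpr ⟨hy, mem_centralizer_singleton_iff.mpr hya.symm⟩
      have := Set.ncard_le_ncard hsub (Set.toFinite _)
      rw [Set.ncard_insert_of_notMem (by simp [Ne.symm hcon.1, Ne.symm hcon.2.1]),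
        Set.ncard_pair hcon.2.2, ← Nat.card_coe_set_eq] at this
      exact absurd (this.trans hD2) (by norm_num)
    have hzK : ∀ x ∈ K, e.z * x * e.z⁻¹ ∈ K := fun x hx =>
      (mem_normalizer_iff.mp (hKnorm (hC (mem_centralizer_singleton_iff.mpr rfl))) x).mp hx
    have hfix : ∀ a ∈ e.E, a ≠ 1 → ∀ x ∈ K, a * x = x * a → e.z * x = x * e.z := by
      intro a ha ha1 x hx hxa
      have hza := e.inv_E a ha
      have hy : a * (e.z * x * e.z⁻¹) = (e.z * x * e.z⁻¹) * a := by
        have h1 : a⁻¹ * x = x * a⁻¹ := ((show Commute a x from hxa).inv_left).eq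
        have h2 : e.z * (a⁻¹ * x) * e.z⁻¹ = e.z * (x * a⁻¹) * e.z⁻¹ := by rw [h1]
        rwa [show e.z * (a⁻¹ * x) * e.z⁻¹ = (e.z * a * e.z⁻¹)⁻¹ * (e.z * x * e.z⁻¹) by group,
          show e.z * (x * a⁻¹) * e.z⁻¹ = (e.z * x * e.z⁻¹) * (e.z * a * e.z⁻¹)⁻¹ by group, hza,
          inv_inv] at h2
      rcases hCa a ha ha1 x hx _ (hzK x hx) hxa hy with h | h | h
      · rw [h, mul_one, one_mul]
      · have : x = 1 := by simpa using h
        rw [this, mul_one, one_mul]
      · exact mul_inv_eq_iff_eq_mul.mp h.symm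
    -- every element of `K` is a product of such elements
    have hKle : K ≤ centralizer ({e.z} : Set G) := by
      obtain ⟨a, ha, ha1⟩ := exists_ne_one_of_card (e.card_E ▸ by norm_num : 1 < Nat.card e.E)
      obtain ⟨b, hb, hb'⟩ : ∃ b ∈ e.E, b ∉ zpowers a := by
        by_contra! hh
        have h1 := card_dvd_of_le (show e.E ≤ zpowers a from hh)
        rw [e.card_E, Nat.card_zpowers, (e.three_E a ha ha1).1] at h1
        norm_num at h1
      have p3 : ∀ c ∈ e.E, c * (c * c) = 1 := by
        intro c hc'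
        by_cases hc1 : c = 1
        · rw [hc1]; group
        · have := pow_orderOf_eq_one c
          rwa [(e.three_E c hc' hc1).1, pow_succ', pow_two] at this
      intro x hx
      let cj : G → G := fun g => g * x * g⁻¹
      have hcj : ∀ g ∈ e.E, cj g ∈ K := fun g hg => (mem_normalizer_iff.mp (hEK hg) x).mp hx
      let y : G → G := fun c => cj 1 * cj c * cj (c * c)
      have hyK : ∀ c ∈ e.E, y c ∈ K := fun c hc' =>
        mul_mem (mul_mem (hcj 1 (one_mem _)) (hcj c hc')) (hcj _ (mul_mem hc' hc'))
      have hyc : ∀ c ∈ e.E, c ≠ 1 → e.z * y c = y c * e.z := by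
        intro c hc' hc1
        refine hfix c hc' hc1 _ (hyK c hc') (mul_inv_eq_iff_eq_mul.mp ?_)
        have e1 : c * cj 1 * c⁻¹ = cj c := by simp [cj]
        have e2 : c * cj c * c⁻¹ = cj (c * c) := by simp [cj, mul_assoc]
        have e3 : c * cj (c * c) * c⁻¹ = cj 1 := by
          show c * (c * c * x * (c * c)⁻¹) * c⁻¹ = 1 * x * 1⁻¹
          rw [show c * (c * c * x * (c * c)⁻¹) * c⁻¹ = (c * (c * c)) * x * (c * (c * c))⁻¹ by group, p3 c hc']
        show c * (cj 1 * cj c * cj (c * c)) * c⁻¹ = cj 1 * cj c * cj (c * c)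
        rw [show c * (cj 1 * cj c * cj (c * c)) * c⁻¹ =
            (c * cj 1 * c⁻¹) * (c * cj c * c⁻¹) * (c * cj (c * c) * c⁻¹) by group, e1, e2, e3,
          hKc (cj c * cj (c * c)) (mul_mem (hcj c hc') (hcj _ (mul_mem hc' hc'))) (cj 1)
            (hcj 1 (one_mem _))]
        simp only [cj, mul_assoc]
      -- the product over all of `E`
      letI : CommGroup K := { (inferInstance : Group K) with
        mul_comm := fun p q => Subtype.ext (hKc p p.2 q q.2) }
      let C' : e.E → K := fun g => ⟨cj g, hcj g g.2⟩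
      set P : K := ∏ g : e.E, C' g with hP
      have hP1 : (P : G) = 1 := by
        have hfixP : ∀ c : e.E, (c : G) * P * (c : G)⁻¹ = P := by
          intro c
          let f : K →* K := MonoidHom.mk' (fun k => ⟨c * k * (c : G)⁻¹,
            (mem_normalizer_iff.mp (hEK c.2) k).mp k.2⟩) fun p q => Subtype.ext (by simp [mul_assoc])
          have : f P = P := by
            rw [hP, map_prod]
            exact Fintype.prod_equiv (Equiv.mulLeft c) _ _ fun g => Subtype.ext (by simp [f, C', cj, mul_assoc])
          exact congrArg Subtype.val this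
        have hPE : (P : G) ∈ K ⊓ e.E := mem_inf.mpr ⟨P.2, by
          rw [← hEE, mem_centralizer_iff]
          intro c hc'
          exact mul_inv_eq_iff_eq_mul.mp (hfixP ⟨c, hc'⟩)⟩
        rwa [hKE, mem_bot] at hPE
      let A : e.E := ⟨a, ha⟩
      let B : e.E := ⟨b, hb⟩
      have hAB : Commute A B := Subtype.ext (e.comm_E a ha b hb)
      let l : List e.E := [1, A, A * A, B, B * B, A * B, A * B * (A * B), A * (B * B),
        A * (B * B) * (A * (B * B))]
      have hl : l.Nodup ∧ l.toFinset = Finset.univ := by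
        have hmap : l = [(0, 0), (1, 0), (2, 0), (0, 1), (0, 2), (1, 1), (2, 2), (1, 2), (2, 4)].map
            (fun q : ℕ × ℕ => A ^ q.1 * B ^ q.2) := by
          simp only [l, List.map_cons, List.map_nil, pow_zero, pow_one, one_mul, mul_one, pow_two]
          have e1 : A * B * (A * B) = A * A * (B * B) := by
            rw [← pow_two, hAB.mul_pow, pow_two, pow_two]
          have e2 : A * (B * B) * (A * (B * B)) = A * A * B ^ 4 := by
            rw [← pow_two, (hAB.mul_right hAB).mul_pow, pow_two, pow_two, show (4 : ℕ) = 2 + 2 from rfl,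
              pow_add, pow_two]
          rw [e1, e2]
        have hA3 : A ^ 3 = 1 := Subtype.ext (by
          rw [pow_succ', pow_two]; exact p3 a ha)
        have hB3 : B ^ 3 = 1 := Subtype.ext (by
          rw [pow_succ', pow_two]; exact p3 b hb)
        have hinj : ∀ i j i' j' : Fin 3, A ^ (i : ℕ) * B ^ (j : ℕ) = A ^ (i' : ℕ) * B ^ (j' : ℕ) →
            i = i' ∧ j = j' := by
          intro i j i' j' he
          have ho : orderOf A = 3 := by rw [← Subgroup.orderOf_coe]; exact (e.three_E a ha ha1).1
          have hBo : orderOf B = 3 := by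
            rw [← Subgroup.orderOf_coe]
            exact (e.three_E b hb (fun h => hb' (h ▸ one_mem _))).1
          have hBA : B ∉ zpowers A := fun h => hb' (by
            obtain ⟨k, hk⟩ := h
            exact ⟨k, by rw [← show (A ^ k : e.E).1 = b from congrArg Subtype.val hk]; simp [A]⟩)
          have hdis : zpowers A ⊓ zpowers B = ⊥ := by
            by_contra hne
            have hd := card_dvd_of_le (inf_le_right : zpowers A ⊓ zpowers B ≤ zpowers B)
            rw [Nat.card_zpowers, hBo] at hd
            rcases (Nat.dvd_prime Nat.prime_three).mp hd with h | h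
            · exact hne (Subgroup.eq_bot_of_card_eq _ h)
            · refine hBA ?_
              have := eq_of_le_of_card_ge (inf_le_right : zpowers A ⊓ zpowers B ≤ zpowers B)
                (by rw [h, Nat.card_zpowers, hBo])
              exact (mem_inf.mp (this.symm ▸ mem_zpowers B : B ∈ zpowers A ⊓ zpowers B)).1
          have h := mul_injective_of_disjoint (disjoint_iff.mpr hdis)
            (a₁ := (⟨A ^ (i : ℕ), pow_mem (mem_zpowers A) _⟩, ⟨B ^ (j : ℕ), pow_mem (mem_zpowers B) _⟩))
            (a₂ := (⟨A ^ (i' : ℕ), pow_mem (mem_zpowers A) _⟩, ⟨B ^ (j' : ℕ), pow_mem (mem_zpowers B) _⟩))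
            he
          simp only [Prod.mk.injEq, Subtype.mk.injEq] at h
          exact ⟨Fin.ext (pow_injOn_Iio_orderOf (by simp [ho]) (by simp [ho]) h.1),
            Fin.ext (pow_injOn_Iio_orderOf (by simp [hBo]) (by simp [hBo]) h.2)⟩
        have hlf : l = [((0 : Fin 3), (0 : Fin 3)), (1, 0), (2, 0), (0, 1), (0, 2), (1, 1), (2, 2), (1, 2),
            (2, 1)].map (fun q => A ^ (q.1 : ℕ) * B ^ (q.2 : ℕ)) := by
          rw [hmap]
          simp only [List.map_cons, List.map_nil, Fin.isValue, Fin.val_zero, Fin.val_one, Fin.val_two]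
          rw [show B ^ 4 = B ^ 1 by rw [show (4 : ℕ) = 3 + 1 from rfl, pow_add, hB3, one_mul]]
        have hnd : l.Nodup := by
          rw [hlf]
          refine List.Nodup.map (fun q q' h => ?_) (by decide)
          obtain ⟨h1, h2⟩ := hinj _ _ _ _ h
          exact Prod.ext h1 h2
        refine ⟨hnd, Finset.eq_univ_of_card _ ?_⟩
        rw [List.toFinset_card_of_nodup hnd, Fintype.card_eq_nat_card, e.card_E]
        rfl
      have hprod : P = (l.map C').prod := by rw [hP, ← hl.2, List.prod_toFinset _ hl.1]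
      have hxeq : x = y a * y b * y (a * b) * y (a * (b * b)) := by
        have hxx : (⟨x, hx⟩ : K) * ⟨x, hx⟩ = 1 := Subtype.ext (by
          show x * x = 1
          rw [← pow_two]; exact hKp x hx)
        have hc1 : C' 1 = ⟨x, hx⟩ := Subtype.ext (by simp [C', cj])
        have h := hprod
        simp only [l, List.map_cons, List.map_nil, List.prod_cons, List.prod_nil, mul_one, hc1] at h
        have hP' : P = 1 := Subtype.ext hP1
        rw [hP'] at h
        have : (⟨x, hx⟩ : K) = (C' 1 * C' A * C' (A * A)) * (C' 1 * C' B * C' (B * B)) *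
            (C' 1 * C' (A * B) * C' (A * B * (A * B))) *
            (C' 1 * C' (A * (B * B)) * C' (A * (B * B) * (A * (B * B)))) := by
          rw [hc1]
          exact nine_product _ _ _ _ _ _ _ _ _ hxx h.symm
        exact congrArg Subtype.val this
      refine mem_centralizer_singleton_iff.mpr ?_
      have hab1 : a * b ≠ 1 := fun h => hb' (by
        rw [eq_inv_of_mul_eq_one_right h]; exact inv_mem (mem_zpowers a))
      have habb1 : a * (b * b) ≠ 1 := fun h => hb' (by
        have hbb : b * b = a⁻¹ := eq_inv_of_mul_eq_one_right h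
        have hb4 : b = (b * b) * (b * b) := by
          rw [show (b * b) * (b * b) = (b * (b * b)) * b by group, p3 b hb, one_mul]
        rw [hb4, hbb]
        exact mul_mem (inv_mem (mem_zpowers a)) (inv_mem (mem_zpowers a)))
      have c1 : Commute e.z (y a) := hyc a ha ha1
      have c2 : Commute e.z (y b) := hyc b hb (fun h => hb' (h ▸ one_mem _))
      have c3 : Commute e.z (y (a * b)) := hyc _ (mul_mem ha hb) hab1
      have c4 : Commute e.z (y (a * (b * b))) := hyc _ (mul_mem ha (mul_mem hb hb)) habb1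
      rw [hxeq]
      exact (((c1.mul_right c2).mul_right c3).mul_right c4).symm.eq
    -- hence it is small
    have hdis : K ⊓ e.H = ⊥ := eq_bot_iff.mpr fun k hk =>
      mem_bot.mpr (hKN k (mem_inf.mp hk).1 (e.H_le_N (mem_inf.mp hk).2))
    have hle : Nat.card ↥(K ⊔ e.H) ∣ 192 := by
      have := card_dvd_of_le (sup_le hKle e.H_le_C)
      rwa [show Nat.card ↥(centralizer ({e.z} : Set G)) = 192 from e.cC_z] at this
    rw [card_mul_of_disjoint ((e.H_le_C.trans hC).trans hKnorm) hdis, hKcard, e.card_H] at hle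
    have hd2 : d ≤ 2 := by
      by_contra hcon
      have h8 : 2 ^ 3 * 48 ∣ 192 := (Nat.mul_dvd_mul_right (pow_dvd_pow 2 (by omega)) 48).trans hle
      norm_num at h8
    obtain ⟨x, hx, hx1⟩ := exists_ne_one_of_card (hKcard ▸ Nat.one_lt_two_pow hd0.ne' : 1 < Nat.card K)
    -- some nontrivial element of `E` fixes `x`
    obtain ⟨a, ha, ha1, hax⟩ : ∃ a ∈ e.E, a ≠ 1 ∧ a * x * a⁻¹ = x := by
      by_contra! hh
      have hinj : Set.InjOn (fun g => g * x * g⁻¹) (elems e.E) := by
        intro g hg g' hg' he
        rw [Finset.mem_coe, mem_elems] at hg hg'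
        by_contra hne
        refine hh (g'⁻¹ * g) (mul_mem (inv_mem hg') hg) (fun h => hne (inv_mul_eq_one.mp h).symm) ?_
        have he' : g * x * g⁻¹ = g' * x * g'⁻¹ := he
        calc g'⁻¹ * g * x * (g'⁻¹ * g)⁻¹ = g'⁻¹ * (g * x * g⁻¹) * g' := by group
          _ = x := by rw [he']; group
      have h9 : (elems e.E).card ≤ (elems K).card := Finset.card_le_card_of_injOn _ (fun g hg => by
        exact mem_elems.mpr ((mem_normalizer_iff.mp (hEK (mem_elems.mp hg)) x).mp hx)) hinj
      rw [card_elems, card_elems, e.card_E, hKcard] at h9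
      have : 2 ^ d ≤ 2 ^ 2 := Nat.pow_le_pow_right (by norm_num) hd2
      omega
    have hxa : a * x = x * a := mul_inv_eq_iff_eq_mul.mp hax
    rcases (show d = 1 ∨ d = 2 by omega) with rfl | rfl
    · -- order two: `x` is central
      have hxE : x ∈ e.E := by
        rw [← hEE, mem_centralizer_iff]
        intro c hc'
        have hcx : c * x * c⁻¹ ∈ K := (mem_normalizer_iff.mp (hEK hc') x).mp hx
        have hset : ∀ g ∈ K, g = 1 ∨ g = x := by
          intro g hg
          by_contra hcon
          push Not at hcon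
          have hsub : ({1, x, g} : Set G) ⊆ (K : Set G) := by
            rintro q (rfl | rfl | rfl)
            · exact one_mem _
            · exact hx
            · exact hg
          have := Set.ncard_le_ncard hsub (Set.toFinite _)
          rw [Set.ncard_insert_of_notMem (by simp [Ne.symm hx1, Ne.symm hcon.1]),
            Set.ncard_pair (Ne.symm hcon.2), ← Nat.card_coe_set_eq] at this
          rw [show Nat.card ((K : Set G) : Type _) = 2 ^ 1 from hKcard] at this
          norm_num at this
        rcases hset _ hcx with h | h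
        · exact absurd (by simpa using h) hx1
        · exact mul_inv_eq_iff_eq_mul.mp h
      have : x ∈ K ⊓ e.E := mem_inf.mpr ⟨hx, hxE⟩
      rw [hKE, mem_bot] at this
      exact hx1 this
    · -- order four: `a` fixes all
      obtain ⟨w, hw, hw1, hwx⟩ : ∃ w ∈ K, w ≠ 1 ∧ w ≠ x := by
        by_contra! hh
        have hsub : (K : Set G) ⊆ {1, x} := fun g hg => by
          by_cases h1 : g = 1
          · exact Or.inl h1
          · exact Or.inr (hh g hg h1)
        have := Set.ncard_le_ncard hsub (Set.toFinite _)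
        rw [Set.ncard_pair (Ne.symm hx1), ← Nat.card_coe_set_eq,
          show Nat.card ((K : Set G) : Type _) = 2 ^ 2 from hKcard] at this
        norm_num at this
      have ha3 : a * (a * a) = 1 := by
        have := pow_orderOf_eq_one a
        rwa [(e.three_E a ha ha1).1, pow_succ', pow_two] at this
      have hall := commute_pair hKc (a := a) (by rw [hKcard]; norm_num) hx hx1 hw hw1 hwx
        (by rw [← pow_two]; exact hKp x hx) (by rw [← pow_two]; exact hKp w hw) hax
        (fun g hg => (mem_normalizer_iff.mp (hEK ha) g).mp hg) ha3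
      rcases hCa a ha ha1 x hx w hw hxa (mul_inv_eq_iff_eq_mul.mp (hall w hw)) with h | h | h
      · exact hx1 h
      · exact hw1 h
      · exact hwx h.symm
  · -- an elementary abelian `3`-group
    have hd3 : d ≤ 3 := by
      by_contra hcon
      have : 3 ^ 4 ∣ 1728 := (pow_dvd_pow 3 (by omega)).trans hpd
      norm_num at this
    have hmeet : K ⊓ e.E ≠ ⊥ := by
      intro hdis
      have hsup : Nat.card ↥(K ⊔ e.E) ∣ 1728 := hcard ▸ card_dvd_of_le (sup_le hKL hEL)
      rw [card_mul_of_disjoint hEK hdis, hKcard, e.card_E] at hsup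
      have hd1 : d = 1 := by
        by_contra hcon
        have : 3 ^ 2 * 9 ∣ 1728 := (Nat.mul_dvd_mul_right (pow_dvd_pow 3 (by omega)) 9).trans hsup
        norm_num at this
      subst hd1
      obtain ⟨x, hx, hx1⟩ := exists_ne_one_of_card (hKcard ▸ by norm_num : 1 < Nat.card K)
      have hxx : x * x ≠ x ∧ x * x ≠ 1 := by
        refine ⟨fun h => hx1 (mul_left_cancel (h.trans (mul_one x).symm)), fun h => hx1 ?_⟩
        have := hKp x hx
        rwa [pow_succ, pow_two, h, one_mul] at this
      have hset : ∀ g ∈ K, g = 1 ∨ g = x ∨ g = x * x := by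
        intro g hg
        by_contra hcon
        push Not at hcon
        have hsub : ({1, x, x * x, g} : Set G) ⊆ (K : Set G) := by
          rintro q (rfl | rfl | rfl | rfl)
          · exact one_mem _
          · exact hx
          · exact mul_mem hx hx
          · exact hg
        have := Set.ncard_le_ncard hsub (Set.toFinite _)
        rw [Set.ncard_insert_of_notMem (by simp [Ne.symm hx1, Ne.symm hxx.2, Ne.symm hcon.1]),
          Set.ncard_insert_of_notMem (by simp [Ne.symm hxx.1, Ne.symm hcon.2.1]),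
          Set.ncard_pair (Ne.symm hcon.2.2), ← Nat.card_coe_set_eq,
          show Nat.card ((K : Set G) : Type _) = 3 ^ 1 from hKcard] at this
        norm_num at this
      have hxE : x ∈ e.E := by
        rw [← hEE, mem_centralizer_iff]
        intro c hc'
        rcases hset _ ((mem_normalizer_iff.mp (hEK hc') x).mp hx) with h | h | h
        · exact absurd (by simpa using h) hx1
        · exact mul_inv_eq_iff_eq_mul.mp h
        · exfalso
          by_cases hc1 : c = 1
          · subst hc1; simp at h; exact hx1 h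
          have hc3 : c * (c * c) = 1 := by
            have := pow_orderOf_eq_one c
            rwa [(e.three_E c hc' hc1).1, pow_succ', pow_two] at this
          have h2 : c * (x * x) * c⁻¹ = x := by
            rw [show c * (x * x) * c⁻¹ = (c * x * c⁻¹) * (c * x * c⁻¹) by group, h]
            have := hKp x hx
            rw [pow_succ, pow_two] at this
            rw [show x * x * (x * x) = (x * x * x) * x by group, this, one_mul]
          have h3 : c * (c * (c * x * c⁻¹) * c⁻¹) * c⁻¹ = x := by
            calc c * (c * (c * x * c⁻¹) * c⁻¹) * c⁻¹ = (c * (c * c)) * x * (c * (c * c))⁻¹ := by group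
              _ = x := by rw [hc3, one_mul, inv_one, mul_one]
          rw [h, h2, h] at h3
          exact hxx.1 h3
      have : x ∈ K ⊓ e.E := mem_inf.mpr ⟨hx, hxE⟩
      rw [hdis, mem_bot] at this
      exact hx1 this
    obtain ⟨a, haKE, ha1⟩ : ∃ a ∈ K ⊓ e.E, a ≠ 1 := by
      by_contra! hh
      exact hmeet (eq_bot_iff.mpr fun g hg => mem_bot.mpr (hh g hg))
    obtain ⟨haK, ha⟩ := mem_inf.mp haKE
    have hEleK : e.E ≤ K := by
      intro b hb
      by_cases hb1 : b = 1
      · rw [hb1]; exact one_mem _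
      obtain ⟨r, hr, rfl⟩ := e.R_trans a ha b hb ha1 hb1
      exact (mem_normalizer_iff.mp (hKnorm (hRL hr)) a).mp haK
    have hKleE : K ≤ e.E := by
      intro k hk
      rw [← hEE, mem_centralizer_iff]
      intro c hc'
      exact hKc c (hEleK hc') k hk
    have hKE : K = e.E := le_antisymm hKleE hEleK
    have hCN : centralizer ({e.z} : Set G) ≤ normalizer (e.E : Set G) := hKE ▸ hC.trans hKnorm
    have := card_dvd_of_le hCN
    rw [show Nat.card ↥(centralizer ({e.z} : Set G)) = 192 from e.cC_z, e.card_N] at this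
    norm_num at this

end Cfsg.Agent.M12Uniq
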