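import Cfsg.Agent.M12Rec99.Index12
import Cfsg.Agent.M12Uniq.Defs

/-!
Identification: a simple group of order 95040 with a subgroup of index 12 is M₁₂ (helper99; proof in
`Cfsg.Agent.M12Rec99`).
-/

set_option autoImplicit false

namespace Cfsg.Agent.M12Uniq

open scoped Pointwise

/-- A simple group of order 95040 with a subgroup of index 12 is isomorphic to the dodecad
stabiliser. -/
theorem nonempty_mulEquiv_dodecad_of_index_twelve {G : Type*} [Group G] [Finite G]
    (hG : Cfsg.IsM12 G) (L : Subgroup G) (hL : L.index = 12) (d : Finset Cfsg.GolayPt)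
    (hd : d ∈ Cfsg.dodecads) : Nonempty (G ≃* ↥(MulAction.stabilizer Cfsg.M24 d)) :=
  M12Rec99.nonempty_mulEquiv_of_index_twelve hG L hL hd

/-- A simple group of order 95040 with a subgroup of index 12 is isomorphic to M₁₂. (The normaliser
hypothesis of the interface is not needed.) -/
theorem isoM12_of_index_twelve {G : Type*} [Group G] [Finite G] (hG : Cfsg.IsM12 G)
    (_hN : ∀ P : Subgroup G, Nat.card P = 11 →
      Nat.card (Subgroup.normalizer (P : Set G)) = 55)
    (L : Subgroup G) (hL : L.index = 12) : Cfsg.Spor.IsoM12 G := by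
  obtain ⟨a, ha, had⟩ := Golay.exists_conj12 Golay.squareDodecad_mem
  obtain ⟨f⟩ := M12Rec99.nonempty_mulEquiv_of_index_twelve hG L hL Golay.squareDodecad_mem
  exact ⟨f.trans (Golay.stabEquivM12 ha had)⟩

end Cfsg.Agent.M12Uniq
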