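import Cfsg.Agent.M12Uniq.Local
import Cfsg.Agent.M12Uniq.CharsFacts
import Cfsg.Agent.M12Uniq.FixIndex
import Cfsg.Agent.M12Uniq.Ident

/-!
# A group with the class data of `M₁₂` is `M₁₂`
-/

set_option autoImplicit false

open scoped Pointwise

namespace Cfsg.Agent.M12Uniq

universe u

/-- A group with the class data of `M₁₂` has a subgroup of index 12. -/
theorem exists_index_twelve_of_counts {G : Type u} [Group G] [Finite G] (hc : Counts G) :
    ∃ L : Subgroup G, L.index = 12 := by
  obtain ⟨e, e', hz, hR⟩ := exists_eData_pair hc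
  exact exists_index_twelve hc (charFacts hc e) e e' hz hR

/-- A group with the class data of `M₁₂` is `M₁₂`. -/
theorem isoM12_of_counts {G : Type u} [Group G] [Finite G] (hc : Counts G) :
    Cfsg.Spor.IsoM12 G := by
  obtain ⟨L, hL⟩ := exists_index_twelve_of_counts hc
  exact isoM12_of_index_twelve ⟨hc.simple, hc.card⟩ hc.sylow11 L hL

/-- The same, as the stabilizer of a dodecad. -/
theorem nonempty_mulEquiv_dodecad_of_counts {G : Type u} [Group G] [Finite G] (hc : Counts G)
    {d : Finset Cfsg.GolayPt} (hd : d ∈ Cfsg.dodecads) :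
    Nonempty (G ≃* ↥(MulAction.stabilizer Cfsg.M24 d)) := by
  obtain ⟨L, hL⟩ := exists_index_twelve_of_counts hc
  exact nonempty_mulEquiv_dodecad_of_index_twelve ⟨hc.simple, hc.card⟩ L hL d hd

end Cfsg.Agent.M12Uniq
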