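import Cfsg.Agent.M12Uniq.LocalE

/-!
# The centralizer of the 2-central involution, relative to an `Elem` (helper46)

`R` is the quaternion group of `H`; it is normal in `C(z)`, its centralizer `M` there is again
quaternion of order 8, and any other quaternion group with `z`, normal in `C(z)`, is `M`.
-/

set_option autoImplicit false

open Subgroup

namespace Cfsg.Agent.M12Uniq.Loc.Elem

universe u

variable {G : Type u} [Group G] (F : Elem G)

/-- The quaternion group of `H`. -/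
def R : Subgroup G := closure (F.el '' {q | q ∈ Model.quat})

/-- Its centralizer in `C(z)`. -/
def M : Subgroup G := centralizer (F.R : Set G) ⊓ centralizer ({F.z} : Set G)

/-- An element of order 3 fixing `a`. -/
noncomputable def h : G := F.el Model.mU

/-- An involution fixing `a`. -/
noncomputable def u : G := F.el Model.mR

/-- An element of order 4 with `a ↦ b ↦ a⁻¹`. -/
noncomputable def r : G := F.el Model.mJ

variable [Finite G]

theorem mem_R (hc : Counts G) {g : G} : g ∈ F.R ↔ ∃ q ∈ Model.quat, F.el q = g := by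
  constructor
  · intro hg
    induction hg using closure_induction with
    | mem g hg => exact hg
    | one => exact ⟨_, Model.consts.2.2.2.2.2.2.2.2.2.1, F.el_one hc⟩
    | mul g g' _ _ ih ih' =>
      obtain ⟨p, hp, rfl⟩ := ih
      obtain ⟨q, hq, rfl⟩ := ih'
      exact ⟨_, Model.quat_mul p hp q hq,
        F.el_mul hc (Model.quat_det p hp) (Model.quat_det q hq)⟩
    | inv g _ ih =>
      obtain ⟨p, hp, rfl⟩ := ih
      obtain ⟨q, hq, hpq⟩ := Model.quat_inv p hp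
      refine ⟨q, hq, (inv_eq_of_mul_eq_one_right ?_).symm⟩
      rw [← F.el_mul hc (Model.quat_det p hp) (Model.quat_det q hq), hpq, F.el_one hc]
  · rintro ⟨q, hq, rfl⟩
    exact subset_closure ⟨q, hq, rfl⟩

theorem R_le_H (hc : Counts G) : F.R ≤ F.H := by
  intro g hg
  obtain ⟨q, hq, rfl⟩ := (F.mem_R hc).mp hg
  exact F.el_mem hc (Model.quat_det q hq)

theorem R_le_C (hc : Counts G) : F.R ≤ centralizer ({F.z} : Set G) :=
  (F.R_le_H hc).trans inf_le_right

theorem card_R (hc : Counts G) : Nat.card F.R = 8 := by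
  let f : {q // q ∈ Model.quat} → F.R := fun q => ⟨F.el q, (F.mem_R hc).mpr ⟨q, q.2, rfl⟩⟩
  have hf : Function.Bijective f := by
    constructor
    · intro p q hpq
      exact Subtype.ext (F.el_inj hc (Model.quat_det _ p.2) (Model.quat_det _ q.2)
        (congrArg Subtype.val hpq))
    · rintro ⟨g, hg⟩
      obtain ⟨q, hq, rfl⟩ := (F.mem_R hc).mp hg
      exact ⟨⟨q, hq⟩, rfl⟩
  rw [← Nat.card_eq_of_bijective f hf, Nat.card_eq_fintype_card,
    Fintype.card_of_subtype Model.quat.toFinset (fun q => List.mem_toFinset),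
    List.toFinset_card_of_nodup Model.quat_nodup]
  rfl

theorem z_mem_R (hc : Counts G) : F.z ∈ F.R :=
  (F.mem_R hc).mpr ⟨_, Model.consts.2.2.2.2.2.2.2.2.1, F.el_negI hc⟩

theorem zpowers_z {g : G} : g ∈ zpowers F.z ↔ g = 1 ∨ g = F.z := by
  constructor
  · intro hg
    obtain ⟨k, rfl⟩ := mem_zpowers_iff.mp hg
    rcases Int.even_or_odd k with ⟨m, rfl⟩ | ⟨m, rfl⟩
    · left
      rw [← two_mul, zpow_mul, show F.z ^ (2 : ℤ) = 1 by
        rw [zpow_two, sq_of_orderOf F.orderOf_z], one_zpow]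
    · right
      rw [zpow_add, zpow_mul, show F.z ^ (2 : ℤ) = 1 by
        rw [zpow_two, sq_of_orderOf F.orderOf_z], one_zpow, one_mul, zpow_one]
  · rintro (rfl | rfl)
    · exact one_mem _
    · exact mem_zpowers _

theorem R_sq (hc : Counts G) {g : G} (hg : g ∈ F.R) (hgz : g ∉ zpowers F.z) : g * g = F.z := by
  obtain ⟨q, hq, rfl⟩ := (F.mem_R hc).mp hg
  rcases Model.quat_sq q hq with h | h | h
  · exact absurd (F.zpowers_z.mpr (Or.inl (h ▸ F.el_one hc))) hgz
  · exact absurd (F.zpowers_z.mpr (Or.inr (h ▸ F.el_negI hc))) hgz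
  · rw [← F.el_mul hc (Model.quat_det q hq) (Model.quat_det q hq), h, F.el_negI hc]

theorem H_normalizes_R (hc : Counts G) {k g : G} (hk : k ∈ F.H) (hg : g ∈ F.R) :
    k * g * k⁻¹ ∈ F.R := by
  obtain ⟨m, hm, rfl⟩ := F.exists_el hc hk
  obtain ⟨q, hq, rfl⟩ := (F.mem_R hc).mp hg
  obtain ⟨q', hq', h⟩ := Model.quat_normal m hm q hq
  exact (F.mem_R hc).mpr
    ⟨q', hq', (F.el_conj hc hm (Model.quat_det q hq) (Model.quat_det q' hq') h).symm⟩

theorem R_trans (hc : Counts G) {x y : G} (hx : x ∈ F.E) (hy : y ∈ F.E) (hx1 : x ≠ 1)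
    (hy1 : y ≠ 1) : ∃ g ∈ F.R, g * x * g⁻¹ = y := by
  obtain ⟨v, rfl⟩ := F.exists_vec hx
  obtain ⟨w, rfl⟩ := F.exists_vec hy
  obtain ⟨q, hq, hqv⟩ := Model.quat_trans v w (fun h => hx1 (by rw [h, F.vec_zero]))
    (fun h => hy1 (by rw [h, F.vec_zero]))
  exact ⟨_, (F.mem_R hc).mpr ⟨q, hq, rfl⟩,
    by rw [(F.acts_el hc (Model.quat_det q hq)).apply, hqv]⟩

theorem r_mem (hc : Counts G) : F.r ∈ F.R :=
  (F.mem_R hc).mpr ⟨_, Model.consts.2.2.2.2.2.2.1, rfl⟩

theorem acts_r (hc : Counts G) : F.Acts F.r Model.mJ :=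
  F.acts_el hc Model.det_const.2.2.2.2.2.1

theorem acts_h (hc : Counts G) : F.Acts F.h Model.mU := F.acts_el hc Model.det_const.2.2.1

theorem acts_u (hc : Counts G) : F.Acts F.u Model.mR := F.acts_el hc Model.det_const.2.2.2.1

theorem h_a (hc : Counts G) : Fix F.h F.a := by
  rw [Fix, (F.acts_h hc).2.1]; simp [Model.mU, vec]

theorem h_b (hc : Counts G) : F.h * F.b * F.h⁻¹ = F.a * F.b := by
  rw [(F.acts_h hc).2.2]; simp [Model.mU, vec]

theorem u_a (hc : Counts G) : Fix F.u F.a := by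
  rw [Fix, (F.acts_u hc).2.1]; simp [Model.mR, vec]

theorem u_b (hc : Counts G) : Inv F.u F.b := by
  rw [Inv, (F.acts_u hc).2.2, cube_inv F.cube_b]; simp [Model.mR, vec]

theorem r_a (hc : Counts G) : F.r * F.a * F.r⁻¹ = F.b := by
  rw [(F.acts_r hc).2.1]; simp [Model.mJ, vec]

theorem r_b (hc : Counts G) : F.r * F.b * F.r⁻¹ = F.a⁻¹ := by
  rw [(F.acts_r hc).2.2, cube_inv F.cube_a]; simp [Model.mJ, vec]

theorem fix_z_of_mem_H {g : G} (hg : g ∈ F.H) : Fix F.z g :=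
  (fix_of_mem_centralizer hg.2).symm

theorem orderOf_u (hc : Counts G) : orderOf F.u = 2 := by
  refine orderOf_eq_prime ?_ ?_
  · rw [pow_two, u, ← F.el_mul hc Model.det_const.2.2.2.1 Model.det_const.2.2.2.1,
      Model.consts.1, F.el_one hc]
  · intro h
    have := F.el_inj hc Model.det_const.2.2.2.1 Model.det_const.1 (h.trans (F.el_one hc).symm)
    revert this
    decide

theorem h_cube (hc : Counts G) : F.h ^ 3 = 1 := by
  rw [h, ← F.el_cube hc Model.det_const.2.2.1, Model.consts.2.2.2.2.2.2.2.2.2.2.2.2.1,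
    F.el_one hc]

theorem orderOf_h (hc : Counts G) : orderOf F.h = 3 := by
  refine orderOf_three (F.h_cube hc) ?_
  intro h
  have := F.el_inj hc Model.det_const.2.2.1 Model.det_const.1 (h.trans (F.el_one hc).symm)
  revert this
  decide

theorem u_h (hc : Counts G) : Inv F.u F.h := by
  have d := Model.det_const
  rw [Inv, cube_inv (F.h_cube hc), pow_two, u, h, ← F.el_mul hc d.2.2.1 d.2.2.1]
  exact F.el_conj hc d.2.2.2.1 d.2.2.1 (F.el_det hc d.2.2.1 d.2.2.1)
    Model.consts.2.2.2.2.2.1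

theorem h_notMem_E (hc : Counts G) : F.h ∉ F.E := fun hh =>
  ne_one_of_orderOf (F.orderOf_h hc) (by norm_num)
    (F.eq_one_of_fix hh (F.fix_z_of_mem_H (F.acts_h hc).1))

theorem h_notMem_zpowers (hc : Counts G) : F.h ∉ zpowers F.a := fun hh =>
  F.h_notMem_E hc (zpowers_le.mpr F.a_mem hh)

theorem h_mem_P (hc : Counts G) (D : XData F.a) : F.h ∈ D.P :=
  D.mem_P _ (F.h_a hc) (by rw [show 27 = 3 * 9 from rfl, pow_mul, F.h_cube hc, one_pow])

theorem cC_h (hc : Counts G) : cC F.h = 54 := by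
  obtain ⟨D⟩ := F.xData_a hc
  exact D.cC_fixed hc (sq_of_orderOf F.orderOf_z) F.inv_a (F.h_mem_P hc D)
    (F.h_notMem_zpowers hc) (F.fix_z_of_mem_H (F.acts_h hc).1)

theorem cC_u (hc : Counts G) : cC F.u = 192 := by
  obtain ⟨D⟩ := F.xData_a hc
  exact D.cC_invol hc (F.orderOf_u hc) (F.u_a hc)

/-- Every element of order 3 of `H` is conjugate to `h` in `H`. -/
theorem three_conj_H (hc : Counts G) {g : G} (hg : g ∈ F.H) (h3 : g ^ 3 = 1) (h1 : g ≠ 1) :
    ∃ k ∈ F.H, k * F.h * k⁻¹ = g := by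
  obtain ⟨m, hm, rfl⟩ := F.exists_el hc hg
  have hm1 : m ≠ Model.one := fun e => h1 (e ▸ F.el_one hc)
  have hm3 : Model.cube m = Model.one := by
    refine F.el_inj hc ?_ Model.det_const.1 ?_
    · exact F.el_det hc hm (F.el_det hc hm hm)
    · rw [F.el_cube hc hm, h3, F.el_one hc]
  obtain ⟨k, hk, hkm⟩ := Model.conj_mU m hm hm1 hm3
  exact ⟨_, F.el_mem hc hk, F.el_conj hc hk Model.det_const.2.2.1 hm hkm⟩

theorem cC_H_inter (hc : Counts G) :
    centralizer ({F.z} : Set G) ⊓ centralizer ({F.h} : Set G) ≤ F.H := by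
  set K := centralizer ({F.z} : Set G) ⊓ centralizer ({F.h} : Set G) with hK
  have hK6 : Nat.card K = 6 := hc.z_three F.z F.h F.orderOf_z F.cC_z (F.orderOf_h hc)
    (F.fix_z_of_mem_H (F.acts_h hc).1).comm
  have hzK : F.z ∈ F.H ⊓ K := ⟨F.z_mem_H, mem_centralizer_of_fix (fix_self _),
    mem_centralizer_of_fix (F.fix_z_of_mem_H (F.acts_h hc).1)⟩
  have hhK : F.h ∈ F.H ⊓ K := ⟨(F.acts_h hc).1,
    mem_centralizer_of_fix (F.fix_z_of_mem_H (F.acts_h hc).1).symm,
    mem_centralizer_of_fix (fix_self _)⟩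
  have h2 := Subgroup.orderOf_dvd_natCard _ hzK
  have h3 := Subgroup.orderOf_dvd_natCard _ hhK
  rw [F.orderOf_z] at h2
  rw [F.orderOf_h hc] at h3
  have := eq_of_le_card (inf_le_right : F.H ⊓ K ≤ K)
    (by rw [hK6]; exact Nat.le_of_dvd Nat.card_pos (by omega))
  rw [← this]
  exact inf_le_left

theorem mem_H_of_conj_h (hc : Counts G) {c : G} (hcz : c ∈ centralizer ({F.z} : Set G))
    (hch : c * F.h * c⁻¹ ∈ F.H) : c ∈ F.H := by
  obtain ⟨k, hk, hkc⟩ := F.three_conj_H hc hch (by rw [conj_pow, F.h_cube hc]; simp)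
    (by rw [Ne, conj_eq_one_iff]; exact ne_one_of_orderOf (F.orderOf_h hc) (by norm_num))
  have : k⁻¹ * c ∈ F.H := by
    refine F.cC_H_inter hc ⟨Subgroup.mul_mem _ (Subgroup.inv_mem _ hk.2) hcz, mem_centralizer_of_fix ?_⟩
    rw [Fix]
    calc k⁻¹ * c * F.h * (k⁻¹ * c)⁻¹ = k⁻¹ * (c * F.h * c⁻¹) * k := by group
      _ = F.h := by rw [← hkc]; group
  have := mul_mem hk this
  rwa [mul_inv_cancel_left] at this

/-- The intersection of `H` with a conjugate. -/
def cap (c : G) : Subgroup G := F.H ⊓ F.H.map (MulAut.conj c).toMonoidHom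

theorem mem_map_iff {c g : G} :
    g ∈ F.H.map (MulAut.conj c).toMonoidHom ↔ c⁻¹ * g * c ∈ F.H := by
  refine Subgroup.mem_map_equiv.trans ?_
  simp [MulAut.conj_symm_apply]

theorem no_three_cap (hc : Counts G) {c g : G} (hcz : c ∈ centralizer ({F.z} : Set G))
    (hcH : c ∉ F.H) (hg : g ∈ F.cap c) (h3 : g ^ 3 = 1) : g = 1 := by
  by_contra hg1
  obtain ⟨k, hk, hkg⟩ := F.three_conj_H hc hg.1 h3 hg1
  have h' : c⁻¹ * k * F.h * (c⁻¹ * k)⁻¹ ∈ F.H := by
    have e : c⁻¹ * k * F.h * (c⁻¹ * k)⁻¹ = c⁻¹ * g * c := by rw [← hkg]; group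
    rw [e]
    exact (F.mem_map_iff).mp hg.2
  have hm := F.mem_H_of_conj_h hc (mul_mem (inv_mem hcz) hk.2) h'
  exact hcH (inv_mem_iff.mp ((F.H.mul_mem_cancel_right hk).mp hm))

theorem card_cap (hc : Counts G) {c : G} (hcz : c ∈ centralizer ({F.z} : Set G)) (hcH : c ∉ F.H) :
    Nat.card (F.cap c) = 16 := by
  set H' := F.H.map (MulAut.conj c).toMonoidHom with hH'
  have hH'C : H' ≤ centralizer ({F.z} : Set G) := by
    rintro g ⟨k, hk, rfl⟩
    exact mul_mem (mul_mem hcz hk.2) (inv_mem hcz)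
  have h48 : Nat.card H' = 48 := by
    rw [hH', Subgroup.card_map_of_injective (MulAut.conj c).injective, F.card_H hc]
  have hidx : H'.relIndex (centralizer ({F.z} : Set G)) = 4 := by
    have := Subgroup.relIndex_mul_relIndex ⊥ H' _ bot_le hH'C
    rw [relIndex_bot_left, relIndex_bot_left, h48,
      show Nat.card (centralizer ({F.z} : Set G)) = 192 from F.cC_z] at this
    omega
  have hle := Subgroup.relIndex_le_of_le_right (H := H') (inf_le_right : F.H ≤ _)
    (by rw [hidx]; norm_num)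
  rw [hidx, ← inf_relIndex_right] at hle
  have hmul := Subgroup.relIndex_mul_relIndex ⊥ (H' ⊓ F.H) F.H bot_le inf_le_right
  rw [relIndex_bot_left, relIndex_bot_left, F.card_H hc, inf_comm] at hmul
  rw [inf_comm] at hle
  change Nat.card (F.cap c) * (F.cap c).relIndex F.H = 48 at hmul
  change (F.cap c).relIndex F.H ≤ 4 at hle
  have h3 : ¬ 3 ∣ Nat.card (F.cap c) := by
    intro h
    have : Fact (Nat.Prime 3) := ⟨by norm_num⟩
    obtain ⟨g, hg⟩ := exists_prime_orderOf_dvd_card' (G := F.cap c) 3 h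
    have := F.no_three_cap hc hcz hcH g.2
      (cube_of_orderOf (by rw [Subgroup.orderOf_coe, hg]))
    rw [← orderOf_eq_one_iff, Subgroup.orderOf_coe, hg] at this
    norm_num at this
  interval_cases (F.cap c).relIndex F.H <;> omega

theorem R_le_cap (hc : Counts G) {c : G} (hcz : c ∈ centralizer ({F.z} : Set G)) (hcH : c ∉ F.H) :
    F.R ≤ F.cap c := by
  have : Fact (Nat.Prime 2) := ⟨Nat.prime_two⟩
  have hR : IsPGroup 2 F.R := IsPGroup.of_card (n := 3) (by rw [F.card_R hc]; rfl)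
  have hT : IsPGroup 2 (F.cap c) := IsPGroup.of_card (n := 4) (by rw [F.card_cap hc hcz hcH]; rfl)
  have hnorm : F.cap c ≤ normalizer (F.R : Set G) := by
    intro k hk
    rw [Subgroup.mem_normalizer_iff]
    intro g
    refine ⟨fun hg => F.H_normalizes_R hc hk.1 hg, fun hg => ?_⟩
    have := F.H_normalizes_R hc (inv_mem hk.1) hg
    rwa [show k⁻¹ * (k * g * k⁻¹) * k⁻¹⁻¹ = g by group] at this
  obtain ⟨n, hn⟩ := (hT.to_sup_of_normal_right' hR hnorm).exists_card_eq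
  have hdvd : Nat.card (F.cap c ⊔ F.R : Subgroup G) ∣ 48 := by
    rw [← F.card_H hc]
    exact Subgroup.card_dvd_of_le (sup_le inf_le_left (F.R_le_H hc))
  have hn4 : n ≤ 4 := by
    by_contra hn4
    have : 32 ∣ 48 := (pow_dvd_pow 2 (show 5 ≤ n by omega)).trans (hn ▸ hdvd)
    norm_num at this
  have heq := eq_of_le_card (le_sup_left : F.cap c ≤ F.cap c ⊔ F.R)
    (by rw [hn, F.card_cap hc hcz hcH]; exact Nat.pow_le_pow_right (by norm_num) hn4)
  exact le_sup_right.trans heq.ge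

theorem exists_notMem_H (hc : Counts G) :
    ∃ c ∈ centralizer ({F.z} : Set G), c ∉ F.H := by
  by_contra h
  push Not at h
  have := Subgroup.card_dvd_of_le (show centralizer ({F.z} : Set G) ≤ F.H from h)
  rw [F.card_H hc, show Nat.card (centralizer ({F.z} : Set G)) = 192 from F.cC_z] at this
  norm_num at this

theorem conj_R_mem_H (hc : Counts G) {d g : G} (hd : d ∈ centralizer ({F.z} : Set G))
    (hg : g ∈ F.R) : d * g * d⁻¹ ∈ F.H := by
  by_cases hdH : d ∈ F.H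
  · exact F.R_le_H hc (F.H_normalizes_R hc hdH hg)
  · have := (F.mem_map_iff).mp (F.R_le_cap hc (inv_mem hd) (fun h => hdH (inv_mem_iff.mp h)) hg).2
    simpa using this

theorem C_normalizes_R (hc : Counts G) {c g : G} (hcz : c ∈ centralizer ({F.z} : Set G))
    (hg : g ∈ F.R) : c * g * c⁻¹ ∈ F.R := by
  set g' := c * g * c⁻¹ with hg'
  have hK : ∀ d ∈ centralizer ({F.z} : Set G), d * g' * d⁻¹ ∈ F.H := by
    intro d hd
    have := F.conj_R_mem_H hc (mul_mem hd hcz) hg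
    rwa [show d * c * g * (d * c)⁻¹ = d * g' * d⁻¹ by rw [hg']; group] at this
  obtain ⟨m, hm, hmg⟩ := F.exists_el hc (show g' ∈ F.H by simpa using hK 1 (one_mem _))
  by_contra hnR
  obtain ⟨n, hn, q, hq, hq1, hq3, hnq⟩ := Model.comm_order_three m hm
    (fun hmq => hnR ((F.mem_R hc).mpr ⟨m, hmq, hmg⟩))
  obtain ⟨c₀, hc₀, hc₀H⟩ := F.exists_notMem_H hc
  have hkn := F.el_mem hc hn
  have hqe : F.el q = F.el n * g' * (F.el n)⁻¹ * g'⁻¹ := by
    have e := congrArg F.el hnq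
    rw [F.el_mul hc hn hm, F.el_mul hc hq (F.el_det hc hm hn), F.el_mul hc hm hn, hmg] at e
    rw [e]; group
  have hqK : ∀ d ∈ centralizer ({F.z} : Set G), d * F.el q * d⁻¹ ∈ F.H := by
    intro d hd
    rw [show d * F.el q * d⁻¹ =
      ((d * F.el n) * g' * (d * F.el n)⁻¹) * (d * g' * d⁻¹)⁻¹ by rw [hqe]; group]
    exact mul_mem (hK _ (mul_mem hd hkn.2)) (inv_mem (hK d hd))
  have hqm : F.el q ∈ F.cap c₀ := by
    refine ⟨F.el_mem hc hq, (F.mem_map_iff).mpr ?_⟩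
    simpa using hqK c₀⁻¹ (inv_mem hc₀)
  have h1 := F.no_three_cap hc hc₀ hc₀H (mul_mem hqm hqm) (by
    rw [← F.el_mul hc hq hq, ← F.el_cube hc (F.el_det hc hq hq), hq3, F.el_one hc])
  rw [← F.el_mul hc hq hq] at h1
  exact hq1 (F.el_inj hc (F.el_det hc hq hq) Model.det_const.1 (h1.trans (F.el_one hc).symm))

theorem centralizer_le_normalizer_R (hc : Counts G) :
    centralizer ({F.z} : Set G) ≤ normalizer (F.R : Set G) := by
  intro k hk
  rw [Subgroup.mem_normalizer_iff]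
  intro g
  refine ⟨fun hg => F.C_normalizes_R hc hk hg, fun hg => ?_⟩
  have := F.C_normalizes_R hc (inv_mem hk) hg
  rwa [show k⁻¹ * (k * g * k⁻¹) * k⁻¹⁻¹ = g by group] at this

theorem M_le : F.M ≤ centralizer ({F.z} : Set G) := inf_le_right

theorem M_comm {g m : G} (hg : g ∈ F.R) (hm : m ∈ F.M) : g * m = m * g :=
  (Subgroup.mem_centralizer_iff.mp hm.1) g hg

theorem C_normalizes_M (hc : Counts G) {c m : G} (hcz : c ∈ centralizer ({F.z} : Set G))
    (hm : m ∈ F.M) : c * m * c⁻¹ ∈ F.M := by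
  refine ⟨Subgroup.mem_centralizer_iff.mpr fun g hg => ?_,
    Subgroup.mul_mem _ (Subgroup.mul_mem _ hcz hm.2) (Subgroup.inv_mem _ hcz)⟩
  have h := F.M_comm (F.C_normalizes_R hc (inv_mem hcz) (SetLike.mem_coe.mp hg)) hm
  rw [inv_inv] at h
  calc g * (c * m * c⁻¹) = c * (c⁻¹ * g * c * m) * c⁻¹ := by group
    _ = c * (m * (c⁻¹ * g * c)) * c⁻¹ := by rw [h]
    _ = c * m * c⁻¹ * g := by group

theorem centralizer_le_normalizer_M (hc : Counts G) :
    centralizer ({F.z} : Set G) ≤ normalizer (F.M : Set G) := by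
  intro k hk
  rw [Subgroup.mem_normalizer_iff]
  intro g
  refine ⟨fun hg => F.C_normalizes_M hc hk hg, fun hg => ?_⟩
  have := F.C_normalizes_M hc (inv_mem hk) hg
  rwa [show k⁻¹ * (k * g * k⁻¹) * k⁻¹⁻¹ = g by group] at this

theorem z_mem_M (hc : Counts G) : F.z ∈ F.M :=
  ⟨Subgroup.mem_centralizer_iff.mpr fun g hg =>
    ((F.fix_z_of_mem_H (F.R_le_H hc hg)).comm).symm, mem_centralizer_of_fix (fix_self _)⟩

theorem mem_centralizer_R (hc : Counts G) {g : G}
    (hJ : Fix g (F.el Model.mJ)) (hK : Fix g (F.el Model.mK)) :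
    g ∈ centralizer (F.R : Set G) := by
  rw [Subgroup.mem_centralizer_iff]
  intro x hx
  obtain ⟨q, hq, rfl⟩ := (F.mem_R hc).mp hx
  have dJ := Model.det_const.2.2.2.2.2.1
  have dK := Model.det_const.2.2.2.2.2.2
  have dJ2 := F.el_det hc dJ dJ
  have dJ3 := F.el_det hc dJ dJ2
  have hgen := Model.quat_gen q hq
  simp only [List.mem_cons, List.not_mem_nil, or_false] at hgen
  refine (fix_iff.mp ?_).symm
  rcases hgen with rfl | rfl | rfl | rfl | rfl | rfl | rfl | rfl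
  · rw [F.el_one hc]; exact Fix.one g
  · exact hJ
  · rw [F.el_mul hc dJ dJ]; exact hJ.mul hJ
  · rw [F.el_mul hc dJ dJ2, F.el_mul hc dJ dJ]; exact hJ.mul (hJ.mul hJ)
  · exact hK
  · rw [F.el_mul hc dJ dK]; exact hJ.mul hK
  · rw [F.el_mul hc dJ2 dK, F.el_mul hc dJ dJ]; exact (hJ.mul hJ).mul hK
  · rw [F.el_mul hc dJ3 dK, F.el_mul hc dJ dJ2, F.el_mul hc dJ dJ]
    exact (hJ.mul (hJ.mul hJ)).mul hK

theorem exists_H_mul_M (hc : Counts G) {c : G} (hcz : c ∈ centralizer ({F.z} : Set G)) :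
    ∃ k ∈ F.H, k⁻¹ * c ∈ F.M := by
  have dJ := Model.det_const.2.2.2.2.2.1
  have dK := Model.det_const.2.2.2.2.2.2
  have C := Model.consts
  have hJq : Model.mJ ∈ Model.quat := C.2.2.2.2.2.2.1
  have hKq : Model.mK ∈ Model.quat := C.2.2.2.2.2.2.2.1
  obtain ⟨p, hp, hpe⟩ :=
    (F.mem_R hc).mp (F.C_normalizes_R hc hcz ((F.mem_R hc).mpr ⟨_, hJq, rfl⟩))
  obtain ⟨q, hq, hqe⟩ :=
    (F.mem_R hc).mp (F.C_normalizes_R hc hcz ((F.mem_R hc).mpr ⟨_, hKq, rfl⟩))
  have dp := Model.quat_det p hp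
  have dq := Model.quat_det q hq
  have dN := Model.det_const.2.1
  have hcz' : c * F.z * c⁻¹ = F.z := fix_of_mem_centralizer hcz
  have hpp : Model.mul p p = Model.negI := F.el_inj hc (F.el_det hc dp dp) dN (by
    rw [F.el_mul hc dp dp, hpe, conj_mul, ← F.el_mul hc dJ dJ, C.2.2.2.2.1, F.el_negI hc, hcz'])
  have hqq : Model.mul q q = Model.negI := F.el_inj hc (F.el_det hc dq dq) dN (by
    rw [F.el_mul hc dq dq, hqe, conj_mul, ← F.el_mul hc dK dK,
      C.2.2.2.2.2.2.2.2.2.2.2.2.2.2.1, F.el_negI hc, hcz'])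
  have hpq : Model.mul p q = Model.mul Model.negI (Model.mul q p) :=
    F.el_inj hc (F.el_det hc dp dq) (F.el_det hc dN (F.el_det hc dq dp)) (by
      rw [F.el_mul hc dp dq, F.el_mul hc dN (F.el_det hc dq dp), F.el_mul hc dq dp, hpe, hqe,
        conj_mul, conj_mul, ← F.el_mul hc dJ dK, C.2.2.2.2.2.2.2.2.2.2.2.2.2.1,
        F.el_mul hc dN (F.el_det hc dK dJ), F.el_mul hc dK dJ, F.el_negI hc]
      conv_rhs => rw [← hcz']
      group)
  obtain ⟨m, hm, hmJ, hmK⟩ := Model.quat_aut p hp q hq hpp hqq hpq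
  have e1 := F.el_conj hc hm dJ dp hmJ
  have e2 := F.el_conj hc hm dK dq hmK
  refine ⟨F.el m, F.el_mem hc hm, F.mem_centralizer_R hc ?_ ?_,
    Subgroup.mul_mem _ (Subgroup.inv_mem _ (F.el_mem hc hm).2) hcz⟩
  · rw [Fix]
    calc (F.el m)⁻¹ * c * F.el Model.mJ * ((F.el m)⁻¹ * c)⁻¹
        = (F.el m)⁻¹ * (c * F.el Model.mJ * c⁻¹) * F.el m := by group
      _ = F.el Model.mJ := by rw [← hpe, ← e1]; group
  · rw [Fix]
    calc (F.el m)⁻¹ * c * F.el Model.mK * ((F.el m)⁻¹ * c)⁻¹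
        = (F.el m)⁻¹ * (c * F.el Model.mK * c⁻¹) * F.el m := by group
      _ = F.el Model.mK := by rw [← hqe, ← e2]; group

theorem M_inf_H (hc : Counts G) {g : G} (hm : g ∈ F.M) (hh : g ∈ F.H) : g ∈ zpowers F.z := by
  obtain ⟨m, hdm, rfl⟩ := F.exists_el hc hh
  have C := Model.consts
  have dJ := Model.det_const.2.2.2.2.2.1
  have dK := Model.det_const.2.2.2.2.2.2
  have hcomm : ∀ q ∈ Model.quat, Model.mul m q = Model.mul q m := fun q hq => by
    have dq := Model.quat_det q hq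
    refine F.el_inj hc (F.el_det hc hdm dq) (F.el_det hc dq hdm) ?_
    rw [F.el_mul hc hdm dq, F.el_mul hc dq hdm]
    exact (F.M_comm ((F.mem_R hc).mpr ⟨q, hq, rfl⟩) hm).symm
  rcases Model.quat_cent m hdm (hcomm _ C.2.2.2.2.2.2.1) (hcomm _ C.2.2.2.2.2.2.2.1) with h | h
  · exact F.zpowers_z.mpr (Or.inl (h ▸ F.el_one hc))
  · exact F.zpowers_z.mpr (Or.inr (h ▸ F.el_negI hc))

theorem R_inf_M (hc : Counts G) : F.R ⊓ F.M = zpowers F.z :=
  le_antisymm (fun _ hg => F.M_inf_H hc hg.2 (F.R_le_H hc hg.1))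
    (zpowers_le.mpr ⟨F.z_mem_R hc, F.z_mem_M hc⟩)

theorem card_M (hc : Counts G) : Nat.card F.M = 8 := by
  choose k hk hkM using fun c : centralizer ({F.z} : Set G) => F.exists_H_mul_M hc c.2
  let f : F.H × F.M → centralizer ({F.z} : Set G) × zpowers F.z := fun p =>
    (⟨p.1 * p.2, mul_mem p.1.2.2 p.2.2.2⟩,
      ⟨(k ⟨p.1 * p.2, mul_mem p.1.2.2 p.2.2.2⟩)⁻¹ * p.1, by
        refine F.M_inf_H hc ?_ (mul_mem (inv_mem (hk _)) p.1.2)
        have := mul_mem (hkM ⟨p.1 * p.2, mul_mem p.1.2.2 p.2.2.2⟩) (inv_mem p.2.2)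
        simpa [mul_assoc] using this⟩)
  have hf : Function.Bijective f := by
    constructor
    · rintro ⟨a, b⟩ ⟨a', b'⟩ h
      have h1 : (a : G) * b = a' * b' := congrArg (fun t => (t.1 : G)) h
      have h2 : (k ⟨a * b, mul_mem a.2.2 b.2.2⟩)⁻¹ * (a : G) =
          (k ⟨a' * b', mul_mem a'.2.2 b'.2.2⟩)⁻¹ * a' := congrArg (fun t => (t.2 : G)) h
      simp only [h1] at h2
      have h3 : (a : G) = a' := mul_left_cancel h2
      rw [h3] at h1
      exact Prod.ext (Subtype.ext h3) (Subtype.ext (mul_left_cancel h1))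
    · rintro ⟨⟨c, hcm⟩, ⟨ζ, hζ⟩⟩
      have hζH : ζ ∈ F.H := zpowers_le.mpr F.z_mem_H hζ
      have hζM : ζ ∈ F.M := zpowers_le.mpr (F.z_mem_M hc) hζ
      refine ⟨(⟨k ⟨c, hcm⟩ * ζ, mul_mem (hk _) hζH⟩,
        ⟨ζ⁻¹ * ((k ⟨c, hcm⟩)⁻¹ * c), mul_mem (inv_mem hζM) (hkM ⟨c, hcm⟩)⟩), ?_⟩
      have e : k ⟨c, hcm⟩ * ζ * (ζ⁻¹ * ((k ⟨c, hcm⟩)⁻¹ * c)) = c := by group
      refine Prod.ext (Subtype.ext e) (Subtype.ext ?_)
      simp only [f, e]
      group
  have h := Nat.card_eq_of_bijective f hf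
  rw [Nat.card_prod, Nat.card_prod, F.card_H hc, Nat.card_zpowers, F.orderOf_z,
    show Nat.card (centralizer ({F.z} : Set G)) = 192 from F.cC_z] at h
  omega

theorem z_comm_M {m : G} (hm : m ∈ F.M) : F.z * m = m * F.z :=
  mem_centralizer_singleton.mp hm.2

/-- `h` fixes no non-trivial coset of `⟨z⟩` in `M`. -/
theorem h_fpf (hc : Counts G) {m : G} (hm : m ∈ F.M)
    (hh : (F.h * m * F.h⁻¹) * m⁻¹ ∈ zpowers F.z) : m ∈ zpowers F.z := by
  set e := (F.h * m * F.h⁻¹) * m⁻¹ with he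
  have h1 : F.h * m * F.h⁻¹ = e * m := by rw [he, inv_mul_cancel_right]
  clear_value e
  have hfe : Fix F.h e := by
    rcases F.zpowers_z.mp hh with h | h <;> rw [h]
    · exact Fix.one _
    · exact (F.fix_z_of_mem_H (F.acts_h hc).1).symm
  have he2 : e * e = 1 := by
    rcases F.zpowers_z.mp hh with h | h <;> rw [h]
    · rw [one_mul]
    · exact sq_of_orderOf F.orderOf_z
  have h2 : F.h * (F.h * (F.h * m * F.h⁻¹) * F.h⁻¹) * F.h⁻¹ = e * e * e * m := by
    have e2 : F.h * (e * m) * F.h⁻¹ = e * e * m := by rw [← conj_mul, hfe, h1, mul_assoc]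
    rw [h1, e2, ← conj_mul, h1, ← conj_mul, hfe, mul_assoc (e * e) e m]
  have h3 : F.h * (F.h * (F.h * m * F.h⁻¹) * F.h⁻¹) * F.h⁻¹ = m := by
    calc F.h * (F.h * (F.h * m * F.h⁻¹) * F.h⁻¹) * F.h⁻¹
        = F.h ^ 3 * m * (F.h ^ 3)⁻¹ := by rw [pow_succ, pow_two]; group
      _ = m := by rw [F.h_cube hc]; group
  rw [h3, he2, one_mul] at h2
  have he1 : e = 1 := mul_eq_right.mp h2.symm
  refine F.M_inf_H hc hm (F.cC_H_inter hc ⟨hm.2, mem_centralizer_of_fix ?_⟩)
  exact (show Fix F.h m by rw [Fix, h1, he1, one_mul]).symm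

theorem conj_h_mem (hc : Counts G) {m : G} (hm : m ∈ F.M) : F.h * m * F.h⁻¹ ∈ F.M :=
  F.C_normalizes_M hc (F.acts_h hc).1.2 hm

theorem h_conj_zpowers (hc : Counts G) {m : G} (hm : m ∈ F.M) :
    F.h * m * F.h⁻¹ ∈ zpowers F.z ↔ m ∈ zpowers F.z := by
  have hfix : ∀ {g : G}, g ∈ zpowers F.z → ∀ k ∈ F.H, k * g * k⁻¹ = g := by
    intro g hg k hk
    rcases F.zpowers_z.mp hg with rfl | rfl
    · simp
    · exact (F.fix_z_of_mem_H hk).symm
  constructor
  · intro h
    have := hfix h F.h⁻¹ (inv_mem (F.acts_h hc).1)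
    rw [show F.h⁻¹ * (F.h * m * F.h⁻¹) * F.h⁻¹⁻¹ = m by group] at this
    exact this ▸ h
  · intro h
    rw [hfix h _ (F.acts_h hc).1]
    exact h

theorem fix_h_zpowers (hc : Counts G) {g : G} (hg : g ∈ zpowers F.z) : Fix F.h g := by
  rcases F.zpowers_z.mp hg with rfl | rfl
  · exact Fix.one _
  · exact (F.fix_z_of_mem_H (F.acts_h hc).1).symm

theorem fix_M_zpowers {p g : G} (hp : p ∈ F.M) (hg : g ∈ zpowers F.z) : Fix p g := by
  rcases F.zpowers_z.mp hg with rfl | rfl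
  · exact Fix.one _
  · exact fix_iff.mpr (F.z_comm_M hp).symm

theorem sq_zpowers {g : G} (hg : g ∈ zpowers F.z) : g * g = 1 := by
  rcases F.zpowers_z.mp hg with rfl | rfl
  · exact one_mul 1
  · exact sq_of_orderOf F.orderOf_z

theorem h_three (hc : Counts G) (m : G) :
    F.h * (F.h * (F.h * m * F.h⁻¹) * F.h⁻¹) * F.h⁻¹ = m := by
  calc F.h * (F.h * (F.h * m * F.h⁻¹) * F.h⁻¹) * F.h⁻¹
      = F.h ^ 3 * m * (F.h ^ 3)⁻¹ := by rw [pow_succ, pow_two]; group
    _ = m := by rw [F.h_cube hc]; group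

/-- `h` permutes the three non-trivial cosets of `⟨z⟩` in `M` cyclically. -/
theorem M_cosets (hc : Counts G) {m : G} (hm : m ∈ F.M) (hm0 : m ∉ zpowers F.z) {g : G}
    (hg : g ∈ F.M) : g ∈ zpowers F.z ∨ ∃ ζ ∈ zpowers F.z, g = m * ζ ∨
      g = F.h * m * F.h⁻¹ * ζ ∨ g = F.h * (F.h * m * F.h⁻¹) * F.h⁻¹ * ζ := by
  set m' := F.h * m * F.h⁻¹ with hm'
  set m'' := F.h * m' * F.h⁻¹ with hm''
  have hm'M := F.conj_h_mem hc hm
  have hm''M := F.conj_h_mem hc hm'M
  have hm'0 : m' ∉ zpowers F.z := fun h => hm0 ((F.h_conj_zpowers hc hm).mp h)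
  have hm''0 : m'' ∉ zpowers F.z := fun h => hm'0 ((F.h_conj_zpowers hc hm'M).mp h)
  let x : Fin 4 → G := ![1, m, m', m'']
  have hxM : ∀ i, x i ∈ F.M := fun i => by fin_cases i <;> first | exact one_mem _ | assumption
  let f : Fin 4 × zpowers F.z → F.M := fun p =>
    ⟨x p.1 * p.2, mul_mem (hxM _) (zpowers_le.mpr (F.z_mem_M hc) p.2.2)⟩
  have hne : ∀ i j, (x i)⁻¹ * x j ∈ zpowers F.z → i = j := by
    have e1 : ∀ {p : G}, p ∈ F.M → p ∉ zpowers F.z →
        p⁻¹ * (F.h * p * F.h⁻¹) ∉ zpowers F.z := by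
      intro p hp hp0 hcon
      refine hp0 (F.h_fpf hc hp ?_)
      rw [show F.h * p * F.h⁻¹ * p⁻¹ = p * (p⁻¹ * (F.h * p * F.h⁻¹)) * p⁻¹ by group,
        F.fix_M_zpowers hp hcon]
      exact hcon
    have hnm : ∀ {p : G}, p ∉ zpowers F.z → (1 : G)⁻¹ * p ∉ zpowers F.z := fun h => by simpa using h
    have hnm' : ∀ {p : G}, p ∉ zpowers F.z → p⁻¹ * 1 ∉ zpowers F.z := fun h => by simpa using h
    have hsw : ∀ {p q : G}, p⁻¹ * q ∉ zpowers F.z → q⁻¹ * p ∉ zpowers F.z := fun h h' =>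
      h (by simpa using inv_mem h')
    have e31 : m''⁻¹ * m ∉ zpowers F.z := by
      have := e1 hm''M hm''0
      rwa [show F.h * m'' * F.h⁻¹ = m from F.h_three hc m] at this
    intro i j hij
    fin_cases i <;> fin_cases j <;> first
      | rfl
      | exact absurd hij (hnm (by assumption))
      | exact absurd hij (hnm' (by assumption))
      | exact absurd hij (e1 hm hm0)
      | exact absurd hij (e1 hm'M hm'0)
      | exact absurd hij e31
      | exact absurd hij (hsw (e1 hm hm0))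
      | exact absurd hij (hsw (e1 hm'M hm'0))
      | exact absurd hij (hsw e31)
  have hf : Function.Bijective f := by
    refine (Nat.bijective_iff_injective_and_card f).mpr ⟨?_, ?_⟩
    · rintro ⟨i, ζ⟩ ⟨j, η⟩ h
      have h' : x i * (ζ : G) = x j * η := congrArg Subtype.val h
      have hij : i = j := hne i j (by
        rw [show (x i)⁻¹ * x j = (ζ : G) * (η : G)⁻¹ by
          rw [inv_mul_eq_iff_eq_mul, ← mul_assoc, h']; group]
        exact mul_mem ζ.2 (inv_mem η.2))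
      subst hij
      exact Prod.ext rfl (Subtype.ext (mul_left_cancel h'))
    · rw [Nat.card_prod, Nat.card_fin, Nat.card_zpowers, F.orderOf_z, F.card_M hc]
  obtain ⟨⟨i, ζ⟩, hiζ⟩ := hf.2 ⟨g, hg⟩
  have hgi : x i * (ζ : G) = g := congrArg Subtype.val hiζ
  rw [← hgi]
  fin_cases i
  · left
    show (1 : G) * (ζ : G) ∈ zpowers F.z
    rw [one_mul]; exact ζ.2
  · exact Or.inr ⟨ζ, ζ.2, Or.inl rfl⟩
  · exact Or.inr ⟨ζ, ζ.2, Or.inr (Or.inl rfl)⟩
  · exact Or.inr ⟨ζ, ζ.2, Or.inr (Or.inr rfl)⟩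

theorem sq_mem (hc : Counts G) {m : G} (hm : m ∈ F.M) : m * m ∈ zpowers F.z := by
  by_cases hm0 : m ∈ zpowers F.z
  · exact mul_mem hm0 hm0
  by_contra hsq
  rcases F.M_cosets hc hm hm0 (mul_mem hm hm) with h | ⟨ζ, hζ, hcase⟩
  · exact hsq h
  set m' := F.h * m * F.h⁻¹ with hm'
  set m'' := F.h * m' * F.h⁻¹ with hm''
  have hm'M := F.conj_h_mem hc hm
  have hm''M := F.conj_h_mem hc hm'M
  have hfz : Fix F.h ζ := F.fix_h_zpowers hc hζ
  have h3 : F.h * m'' * F.h⁻¹ = m := F.h_three hc m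
  have hstep : ∀ {p q : G}, p * p = q * ζ →
      (F.h * p * F.h⁻¹) * (F.h * p * F.h⁻¹) = F.h * q * F.h⁻¹ * ζ := by
    intro p q hpq
    rw [conj_mul, hpq, ← conj_mul, hfz]
  have hsqz : ∀ {p : G}, p ∈ F.M → (p * ζ) * (p * ζ) = p * p := by
    intro p hp
    calc p * ζ * (p * ζ) = p * (ζ * p) * ζ := by group
      _ = p * p * (ζ * ζ) := by rw [← (F.fix_M_zpowers hp hζ).comm]; group
      _ = p * p := by rw [F.sq_zpowers hζ, mul_one]
  have h8 : (m * m) * (m * m) * ((m * m) * (m * m)) = 1 := by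
    have := pow_card_eq_one (F.card_M hc) hm
    rw [← this]
    simp only [pow_succ, pow_zero, one_mul, mul_assoc]
  rcases hcase with h | h | h
  · have hmz : m = ζ := mul_left_cancel h
    exact hm0 (hmz ▸ hζ)
  · have s1 := hstep h
    have s2 := hstep s1
    rw [h3] at s2
    rw [h, hsqz hm'M, s1, hsqz hm''M, s2] at h8
    exact hm0 (eq_inv_of_mul_eq_one_left h8 ▸ inv_mem hζ)
  · have s1 := hstep h
    rw [h3] at s1
    have s2 := hstep s1
    rw [h, hsqz hm''M, s2, hsqz hm'M, s1] at h8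
    exact hm0 (eq_inv_of_mul_eq_one_left h8 ▸ inv_mem hζ)

theorem M_sq_eq (hc : Counts G) : ∃ s : G, (s = 1 ∨ s = F.z) ∧
    ∀ m ∈ F.M, m ∉ zpowers F.z → m * m = s := by
  obtain ⟨m, hm, hm0⟩ : ∃ m ∈ F.M, m ∉ zpowers F.z := by
    by_contra h
    push Not at h
    have := Subgroup.card_dvd_of_le (show F.M ≤ zpowers F.z from h)
    rw [F.card_M hc, Nat.card_zpowers, F.orderOf_z] at this
    norm_num at this
  refine ⟨m * m, F.zpowers_z.mp (F.sq_mem hc hm), fun g hg hg0 => ?_⟩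
  have hm'M := F.conj_h_mem hc hm
  have hm''M := F.conj_h_mem hc hm'M
  have hfs : F.h * (m * m) * F.h⁻¹ = m * m := F.fix_h_zpowers hc (F.sq_mem hc hm)
  rcases F.M_cosets hc hm hm0 hg with h | ⟨ζ, hζ, hcase⟩
  · exact absurd h hg0
  have hsqz : ∀ {p : G}, p ∈ F.M → (p * ζ) * (p * ζ) = p * p := by
    intro p hp
    calc p * ζ * (p * ζ) = p * (ζ * p) * ζ := by group
      _ = p * p * (ζ * ζ) := by rw [← (F.fix_M_zpowers hp hζ).comm]; group
      _ = p * p := by rw [F.sq_zpowers hζ, mul_one]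
  rcases hcase with rfl | rfl | rfl
  · exact hsqz hm
  · rw [hsqz hm'M, conj_mul, hfs]
  · rw [hsqz hm''M, conj_mul, conj_mul, hfs, hfs]

theorem M_sq (hc : Counts G) {m : G} (hm : m ∈ F.M) (hm0 : m ∉ zpowers F.z) : m * m = F.z := by
  obtain ⟨s, hs | hs, hall⟩ := F.M_sq_eq hc
  swap
  · rw [hall m hm hm0, hs]
  exfalso
  subst hs
  have hone : ∀ g ∈ F.M, g * g = 1 := by
    intro g hg
    by_cases h : g ∈ zpowers F.z
    · rcases F.zpowers_z.mp h with rfl | rfl
      · simp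
      · exact sq_of_orderOf F.orderOf_z
    · exact hall g hg h
  let q : Fin 3 → Model.Mat := ![Model.mJ, Model.mK, Model.mul Model.mJ Model.mK]
  have hq : ∀ i, q i ∈ Model.quat ∧ Model.mul (q i) (q i) = Model.negI := by decide
  have hqne : ∀ i j, q i = q j ∨ q i = Model.mul Model.negI (q j) → i = j := by decide
  let ri : Fin 3 → G := fun i => F.el (q i)
  have hri : ∀ i, ri i ∈ F.R := fun i => (F.mem_R hc).mpr ⟨_, (hq i).1, rfl⟩
  have hri2 : ∀ i, ri i * ri i = F.z := fun i => by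
    show F.el (q i) * F.el (q i) = F.z
    rw [← F.el_mul hc (Model.quat_det _ (hq i).1) (Model.quat_det _ (hq i).1), (hq i).2,
      F.el_negI hc]
  -- twenty-four square roots of `z`
  have hsqrt : 24 ≤ Nat.card {g : G // g * g = F.z} := by
    let f : Fin 3 × F.M → {g : G // g * g = F.z} := fun p => ⟨ri p.1 * p.2, by
      calc ri p.1 * (p.2 : G) * (ri p.1 * p.2) = ri p.1 * ((p.2 : G) * ri p.1) * p.2 := by group
        _ = ri p.1 * ri p.1 * ((p.2 : G) * p.2) := by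
            rw [← F.M_comm (hri p.1) p.2.2]; group
        _ = F.z := by rw [hri2, hone _ p.2.2, mul_one]⟩
    have hf : Function.Injective f := by
      rintro ⟨i, m⟩ ⟨j, m'⟩ h
      have h' : ri i * (m : G) = ri j * m' := congrArg Subtype.val h
      have h2 : (ri j)⁻¹ * ri i ∈ zpowers F.z := by
        have e : (ri j)⁻¹ * ri i = (m' : G) * (m : G)⁻¹ := by
          rw [inv_mul_eq_iff_eq_mul, ← mul_assoc, ← h']; group
        rw [← F.R_inf_M hc]
        exact ⟨Subgroup.mul_mem _ (Subgroup.inv_mem _ (hri j)) (hri i), e ▸ Subgroup.mul_mem _ m'.2 (Subgroup.inv_mem _ m.2)⟩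
      have hij : i = j := hqne i j (by
        have dj := Model.quat_det _ (hq j).1
        have di := Model.quat_det _ (hq i).1
        rcases F.zpowers_z.mp h2 with h3 | h3
        · exact Or.inl (F.el_inj hc di dj (inv_mul_eq_one.mp h3).symm)
        · refine Or.inr (F.el_inj hc di (F.el_det hc Model.det_const.2.1 dj) ?_)
          rw [F.el_mul hc Model.det_const.2.1 dj, F.el_negI hc,
            (F.fix_z_of_mem_H (F.R_le_H hc (hri j))).comm, ← h3, mul_inv_cancel_left])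
      subst hij
      exact Prod.ext rfl (Subtype.ext (mul_left_cancel h'))
    have := Nat.card_le_card_of_injective f hf
    rwa [Nat.card_prod, Nat.card_fin, F.card_M hc] at this
  have hcls := SmallGroups.card_conj_mul_centralizer F.z
  rw [show Nat.card (centralizer ({F.z} : Set G)) = 192 from F.cC_z, hc.card] at hcls
  choose p hp using fun y : {g : G // IsConj F.z g} => isConj_iff.mp y.2
  let f : {g : G // IsConj F.z g} × {g : G // g * g = F.z} → {g : G // orderOf g = 4} := fun t =>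
    ⟨p t.1 * t.2 * (p t.1)⁻¹, by
      rw [orderOf_conj]
      have : Fact (Nat.Prime 2) := ⟨Nat.prime_two⟩
      refine orderOf_eq_prime_pow (p := 2) (n := 1) ?_ ?_
      · rw [pow_one, pow_two, t.2.2]
        exact ne_one_of_orderOf F.orderOf_z (by norm_num)
      · rw [show 2 ^ (1 + 1) = 2 * 2 from rfl, pow_mul, pow_two (t.2 : G), t.2.2, pow_two,
          sq_of_orderOf F.orderOf_z]⟩
  have hf : Function.Injective f := by
    rintro ⟨y, g⟩ ⟨y', g'⟩ h
    have h' : p y * (g : G) * (p y)⁻¹ = p y' * g' * (p y')⁻¹ := congrArg Subtype.val h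
    have hy : y = y' := by
      refine Subtype.ext ?_
      rw [← hp y, ← hp y', ← g.2]
      conv_rhs => rw [g.2, ← g'.2]
      rw [← conj_mul, ← conj_mul, h']
    subst hy
    exact Prod.ext rfl (Subtype.ext (mul_left_cancel (mul_right_cancel h')))
  have := Nat.card_le_card_of_injective f hf
  rw [Nat.card_prod, hc.count_four] at this
  nlinarith

/-- A quaternion group with `z`, normal in `C(z)`, other than `R`, is `M`. -/
theorem eq_M (hc : Counts G) {S : Subgroup G} (hS : S ≤ centralizer ({F.z} : Set G))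
    (hcard : Nat.card S = 8) (hn : centralizer ({F.z} : Set G) ≤ normalizer (S : Set G))
    (hsq : ∀ w ∈ S, w ∉ zpowers F.z → w * w = F.z) (hne : S ≠ F.R) : S = F.M := by
  have C := Model.consts
  have hinf : ∀ g, g ∈ F.R → g ∈ S → g ∈ zpowers F.z := by
    intro g hgR hgS
    by_contra hg
    refine hne (eq_of_le_card (H := F.R) (K := S) ?_ (by rw [hcard, F.card_R hc])).symm
    have hzS : F.z ∈ S := hsq g hgS hg ▸ mul_mem hgS hgS
    intro y hy
    by_cases hy0 : y ∈ zpowers F.z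
    · exact zpowers_le.mpr hzS hy0
    obtain ⟨p, hp, rfl⟩ := (F.mem_R hc).mp hgR
    obtain ⟨q, hq, rfl⟩ := (F.mem_R hc).mp hy
    have hsqm : ∀ {t : Model.Mat}, t ∈ Model.quat → F.el t ∉ zpowers F.z →
        Model.mul t t = Model.negI := fun {t} ht ht0 =>
      F.el_inj hc (F.el_det hc (Model.quat_det t ht) (Model.quat_det t ht)) Model.det_const.2.1
        (by rw [F.el_mul hc (Model.quat_det t ht) (Model.quat_det t ht),
          F.R_sq hc ((F.mem_R hc).mpr ⟨t, ht, rfl⟩) ht0, F.el_negI hc])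
    obtain ⟨m, hm, hmpq⟩ := Model.quat_conj p hp q hq (hsqm hp hg) (hsqm hq hy0)
    rw [← F.el_conj hc hm (Model.quat_det p hp) (Model.quat_det q hq) hmpq]
    exact (Subgroup.mem_normalizer_iff.mp (hn (F.el_mem hc hm).2) _).mp hgS
  refine eq_of_le_card (fun w hw => ?_) (by rw [hcard, F.card_M hc])
  by_cases hwz : w ∈ zpowers F.z
  · exact zpowers_le.mpr (F.z_mem_M hc) hwz
  have hsgn : ∀ t ∈ Model.quat, ∃ s : Bool, w * F.el t * w⁻¹ =
      if s then F.z * F.el t else F.el t := by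
    intro t ht
    have htR := (F.mem_R hc).mpr ⟨t, ht, rfl⟩
    set c := w * F.el t * w⁻¹ * (F.el t)⁻¹ with hcd
    have hcR : c ∈ F.R := mul_mem (F.C_normalizes_R hc (hS hw) htR) (inv_mem htR)
    have hcS : c ∈ S := by
      rw [hcd, show w * F.el t * w⁻¹ * (F.el t)⁻¹ = w * (F.el t * w⁻¹ * (F.el t)⁻¹) by group]
      exact mul_mem hw ((Subgroup.mem_normalizer_iff.mp (hn (F.R_le_C hc htR)) _).mp (inv_mem hw))
    have hce : w * F.el t * w⁻¹ = c * F.el t := by rw [hcd, inv_mul_cancel_right]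
    rcases F.zpowers_z.mp (hinf c hcR hcS) with h | h
    · exact ⟨false, by simpa [h] using hce⟩
    · exact ⟨true, by simpa [h] using hce⟩
  obtain ⟨s, hs⟩ := hsgn _ C.2.2.2.2.2.2.1
  obtain ⟨t, ht⟩ := hsgn _ C.2.2.2.2.2.2.2.1
  obtain ⟨q, hq, hqJ, hqK⟩ := Model.quat_signs s t
  have dq := Model.quat_det q hq
  have dN := Model.det_const.2.1
  have hact : ∀ (b : Bool) (j : Model.Mat), Model.det j ≠ 0 →
      Model.mul q j = (if b then Model.mul Model.negI (Model.mul j q) else Model.mul j q) →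
      F.el q * F.el j * (F.el q)⁻¹ = if b then F.z * F.el j else F.el j := by
    intro b j dj hb
    have e := congrArg F.el hb
    rw [F.el_mul hc dq dj] at e
    cases b
    · rw [if_neg (by simp)] at e ⊢
      rw [e, F.el_mul hc dj dq, mul_inv_cancel_right]
    · rw [if_pos rfl] at e ⊢
      rw [e, F.el_mul hc dN (F.el_det hc dj dq), F.el_mul hc dj dq, F.el_negI hc, ← mul_assoc,
        mul_inv_cancel_right]
  have e1 := hact s _ Model.det_const.2.2.2.2.2.1 hqJ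
  have e2 := hact t _ Model.det_const.2.2.2.2.2.2 hqK
  set m := (F.el q)⁻¹ * w with hmd
  have hqR : F.el q ∈ F.R := (F.mem_R hc).mpr ⟨q, hq, rfl⟩
  have hmM : m ∈ F.M := by
    refine ⟨F.mem_centralizer_R hc ?_ ?_, Subgroup.mul_mem _ (Subgroup.inv_mem _ (F.R_le_C hc hqR)) (hS hw)⟩
    · rw [Fix, hmd, show (F.el q)⁻¹ * w * F.el Model.mJ * ((F.el q)⁻¹ * w)⁻¹ =
        (F.el q)⁻¹ * (w * F.el Model.mJ * w⁻¹) * F.el q by group, hs, ← e1]
      group
    · rw [Fix, hmd, show (F.el q)⁻¹ * w * F.el Model.mK * ((F.el q)⁻¹ * w)⁻¹ =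
        (F.el q)⁻¹ * (w * F.el Model.mK * w⁻¹) * F.el q by group, ht, ← e2]
      group
  have hwe : w = F.el q * m := by rw [hmd, mul_inv_cancel_left]
  by_cases hq0 : F.el q ∈ zpowers F.z
  · rw [hwe]; exact mul_mem (zpowers_le.mpr (F.z_mem_M hc) hq0) hmM
  by_cases hm0 : m ∈ zpowers F.z
  · exfalso
    refine hwz (hinf w ?_ hw)
    rw [hwe]
    exact mul_mem hqR (zpowers_le.mpr (F.z_mem_R hc) hm0)
  exfalso
  have h1 : w * w = 1 := by
    calc w * w = F.el q * (m * F.el q) * m := by rw [hwe]; group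
      _ = F.el q * F.el q * (m * m) := by rw [← F.M_comm hqR hmM]; group
      _ = 1 := by rw [F.R_sq hc hqR hq0, F.M_sq hc hmM hm0, sq_of_orderOf F.orderOf_z]
  rw [hsq w hw hwz] at h1
  exact ne_one_of_orderOf F.orderOf_z (by norm_num) h1

theorem exists_conj_u (hc : Counts G) :
    ∃ c ∈ centralizer ({F.z} : Set G), c ∉ F.H ∧ F.u ∈ F.H.map (MulAut.conj c).toMonoidHom := by
  obtain ⟨c, hcz, hcH⟩ := F.exists_notMem_H hc
  obtain ⟨g, hg, hgR⟩ : ∃ g ∈ F.cap c, g ∉ F.R := by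
    by_contra h
    push Not at h
    have := Subgroup.card_dvd_of_le (show F.cap c ≤ F.R from h)
    rw [F.card_cap hc hcz hcH, F.card_R hc] at this
    norm_num at this
  obtain ⟨m, hm, rfl⟩ := F.exists_el hc hg.1
  have d1 := Model.det_const.1
  rcases Model.refl_coset m hm (fun h => hgR ((F.mem_R hc).mpr ⟨m, h, rfl⟩)) with
    ⟨hne, h3⟩ | ⟨hne, h3⟩ | ⟨q, hq, k, hk, hgk⟩
  · refine absurd (F.el_inj hc hm d1 ?_) hne
    rw [F.el_one hc]
    exact F.no_three_cap hc hcz hcH hg (by rw [← F.el_cube hc hm, h3, F.el_one hc])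
  · refine absurd (F.el_inj hc (F.el_det hc hm hm) d1 ?_) hne
    rw [F.el_one hc, F.el_mul hc hm hm]
    exact F.no_three_cap hc hcz hcH (mul_mem hg hg) (by
      rw [← F.el_mul hc hm hm, ← F.el_cube hc (F.el_det hc hm hm), h3, F.el_one hc])
  · have dq := Model.quat_det q hq
    have dR := Model.det_const.2.2.2.1
    have e := F.el_conj hc hk dR (F.el_det hc hm dq) hgk.symm
    rw [F.el_mul hc hm dq] at e
    have hmem : F.el m * F.el q ∈ F.cap c :=
      mul_mem hg (F.R_le_cap hc hcz hcH ((F.mem_R hc).mpr ⟨q, hq, rfl⟩))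
    have hkH := F.el_mem hc hk
    refine ⟨(F.el k)⁻¹ * c, mul_mem (inv_mem hkH.2) hcz,
      fun h => hcH ((F.H.mul_mem_cancel_left (inv_mem hkH)).mp h), (F.mem_map_iff).mpr ?_⟩
    rw [show ((F.el k)⁻¹ * c)⁻¹ * F.u * ((F.el k)⁻¹ * c) =
      c⁻¹ * (F.el k * F.el Model.mR * (F.el k)⁻¹) * c by rw [u]; group, e]
    exact (F.mem_map_iff).mp hmem.2

theorem H_gen (hc : Counts G) :
    F.H ≤ closure {g : G | ∃ k ∈ F.H, g = k * F.u * k⁻¹} := by
  set K := closure {g : G | ∃ k ∈ F.H, g = k * F.u * k⁻¹} with hK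
  have d := Model.det_const
  have hu : F.u ∈ K := subset_closure ⟨1, one_mem _, by simp⟩
  have hX : ∀ X ∈ [Model.mul Model.mR Model.mU, Model.mul Model.mR Model.mJ, Model.mR'],
      Model.det X ≠ 0 → F.el X ∈ K := by
    intro X hX dX
    obtain ⟨k, hk, hkX⟩ := Model.refl_conj X hX
    exact subset_closure ⟨_, F.el_mem hc hk, (F.el_conj hc hk d.2.2.2.1 dX hkX).symm⟩
  have hR' : F.el Model.mR' ∈ K := hX _ (by simp) d.2.2.2.2.1
  have hU : F.el Model.mU ∈ K := by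
    have := mul_mem (inv_mem hu) (hX _ (by simp) (F.el_det hc d.2.2.2.1 d.2.2.1))
    rwa [F.el_mul hc d.2.2.2.1 d.2.2.1, u, inv_mul_cancel_left] at this
  have hJ : F.el Model.mJ ∈ K := by
    have := mul_mem (inv_mem hu) (hX _ (by simp) (F.el_det hc d.2.2.2.1 d.2.2.2.2.2.1))
    rwa [F.el_mul hc d.2.2.2.1 d.2.2.2.2.2.1, u, inv_mul_cancel_left] at this
  have hD : ∀ t ∈ Model.diag, Model.det t ≠ 0 ∧ F.el t ∈ K := by
    intro t ht
    simp only [Model.diag, List.mem_cons, List.not_mem_nil, or_false] at ht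
    rcases ht with rfl | rfl | rfl | rfl
    · exact ⟨d.1, by rw [F.el_one hc]; exact one_mem _⟩
    · exact ⟨d.2.2.2.1, hu⟩
    · exact ⟨d.2.2.2.2.1, hR'⟩
    · refine ⟨d.2.1, ?_⟩
      rw [← Model.consts.2.1, F.el_mul hc d.2.2.2.1 d.2.2.2.2.1]
      exact mul_mem hu hR'
  have hpow : ∀ i : Fin 3, Model.det (Model.powU i) ≠ 0 ∧ F.el (Model.powU i) ∈ K := by
    intro i
    fin_cases i
    · exact ⟨d.1, by show F.el Model.one ∈ K; rw [F.el_one hc]; exact one_mem _⟩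
    · exact ⟨d.2.2.1, hU⟩
    · refine ⟨F.el_det hc d.2.2.1 d.2.2.1, ?_⟩
      show F.el (Model.mul Model.mU Model.mU) ∈ K
      rw [F.el_mul hc d.2.2.1 d.2.2.1]
      exact mul_mem hU hU
  intro g hg
  obtain ⟨m, hm, rfl⟩ := F.exists_el hc hg
  obtain ⟨t, ht, i, h | ⟨l, h⟩⟩ := Model.bruhat m hm
  · rw [h, F.el_mul hc (hpow i).1 (hD t ht).1]
    exact mul_mem (hpow i).2 (hD t ht).2
  · have d1 := F.el_det hc (hpow l).1 (hD t ht).1
    rw [h, F.el_mul hc (hpow i).1 (F.el_det hc d.2.2.2.2.2.1 d1),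
      F.el_mul hc d.2.2.2.2.2.1 d1, F.el_mul hc (hpow l).1 (hD t ht).1]
    exact mul_mem (hpow i).2 (mul_mem hJ (mul_mem (hpow l).2 (hD t ht).2))

theorem exists_eData (hc : Counts G) :
    ∃ e : EData G, e.z = F.z ∧ e.R = F.R ∧ e.M = F.M := by
  obtain ⟨c, hcz, hcH, hu⟩ := F.exists_conj_u hc
  refine ⟨{
    z := F.z
    h := F.h
    u := F.u
    E := F.E
    H := F.H
    H' := F.H.map (MulAut.conj c).toMonoidHom
    R := F.R
    M := F.M
    orderOf_z := F.orderOf_z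
    cC_z := F.cC_z
    card_E := F.card_E
    comm_E := fun a ha b hb => F.comm_E ha hb
    three_E := fun a ha h1 => F.three a ha h1
    inv_E := fun a ha => F.inv_z ha
    centralizer_E := F.centralizer_E hc
    card_N := F.card_N hc
    H_eq := rfl
    card_H := F.card_H hc
    card_R := F.card_R hc
    R_le := F.R_le_H hc
    z_mem_R := F.z_mem_R hc
    R_normal := F.centralizer_le_normalizer_R hc
    R_trans := fun a ha b hb ha1 hb1 => F.R_trans hc ha hb ha1 hb1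
    h_mem := (F.acts_h hc).1
    orderOf_h := F.orderOf_h hc
    cC_h := F.cC_h hc
    u_mem := (F.acts_u hc).1
    u_mem' := hu
    u_notMem := ?_
    orderOf_u := F.orderOf_u hc
    cC_u := F.cC_u hc
    u_h := F.u_h hc
    u_fix := ⟨F.a, F.a_mem, F.a_ne, F.u_a hc, F.h_a hc⟩
    H'_conj := ⟨c, hcz, rfl⟩
    card_inf := F.card_cap hc hcz hcH
    H'_not_le := ?_
    H_gen := F.H_gen hc
    card_M := F.card_M hc
    M_le := F.M_le
    M_comm := fun r hr m hm => F.M_comm hr hm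
    M_inf := F.R_inf_M hc
    M_normal := F.centralizer_le_normalizer_M hc
    M_sq := fun m hm hm0 => F.M_sq hc hm hm0
    R_sq := fun r hr hr0 => F.R_sq hc hr hr0 }, rfl, rfl, rfl⟩
  · intro h
    obtain ⟨q, hq, hqu⟩ := (F.mem_R hc).mp h
    exact Model.consts.2.2.2.2.2.2.2.2.2.2.1
      (F.el_inj hc (Model.quat_det q hq) Model.det_const.2.2.2.1 hqu ▸ hq)
  · intro hle
    have hmem : c * F.h * c⁻¹ ∈ F.H.map (MulAut.conj c).toMonoidHom :=
      Subgroup.mem_map.mpr ⟨F.h, (F.acts_h hc).1, rfl⟩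
    exact hcH (F.mem_H_of_conj_h hc hcz
      ⟨hle hmem, Subgroup.mul_mem _ (Subgroup.mul_mem _ hcz (F.acts_h hc).1.2) (Subgroup.inv_mem _ hcz)⟩)

end Cfsg.Agent.M12Uniq.Loc.Elem
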