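import Mathlib.Data.Fintype.Prod
import Mathlib.Data.ZMod.Defs
import Mathlib.Algebra.Group.Fin.Basic

/-!
# `GL₂(3)` as pairs of columns over `Fin 3`, with the finite facts used in the local analysis of
`M₁₂` (helper46)
-/

set_option autoImplicit false

namespace Cfsg.Agent.M12Uniq.Loc.Model

/-- Vectors. -/
abbrev V : Type := Fin 3 × Fin 3

/-- Matrices, as the images of the two basis vectors. -/
abbrev Mat : Type := V × V

def act (m : Mat) (v : V) : V := (v.1 * m.1.1 + v.2 * m.2.1, v.1 * m.1.2 + v.2 * m.2.2)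

def mul (m n : Mat) : Mat := (act m n.1, act m n.2)

def det (m : Mat) : Fin 3 := m.1.1 * m.2.2 - m.1.2 * m.2.1

def one : Mat := ((1, 0), (0, 1))
def negI : Mat := ((2, 0), (0, 2))
def mU : Mat := ((1, 0), (1, 1))
def mR : Mat := ((1, 0), (0, 2))
def mR' : Mat := ((2, 0), (0, 1))
def mJ : Mat := ((0, 1), (2, 0))
def mK : Mat := ((1, 1), (1, 2))

/-- The quaternion group. -/
def quat : List Mat :=
  [one, negI, ((0, 1), (2, 0)), ((0, 2), (1, 0)), ((1, 1), (1, 2)), ((2, 2), (2, 1)),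
    ((2, 1), (1, 1)), ((1, 2), (2, 2))]

def cube (g : Mat) : Mat := mul g (mul g g)

def powU (i : Fin 3) : Mat := if i = 0 then one else if i = 1 then mU else mul mU mU

def diag : List Mat := [one, mR, mR', negI]

set_option maxRecDepth 100000
set_option maxHeartbeats 4000000
set_option synthInstance.maxHeartbeats 1000000
set_option synthInstance.maxSize 4000

theorem det_ne_zero_of_inj : ∀ m : Mat, (∀ v : V, act m v = (0, 0) → v = (0, 0)) → det m ≠ 0 := by
  decide +kernel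

theorem card_det : (Finset.univ.filter fun m : Mat => det m ≠ 0).card = 48 := by
  decide +kernel

theorem det_const : det one ≠ 0 ∧ det negI ≠ 0 ∧ det mU ≠ 0 ∧ det mR ≠ 0 ∧ det mR' ≠ 0 ∧
    det mJ ≠ 0 ∧ det mK ≠ 0 := by decide +kernel

theorem quat_det : ∀ q ∈ quat, det q ≠ 0 := by decide +kernel

theorem quat_mul : ∀ p ∈ quat, ∀ q ∈ quat, mul p q ∈ quat := by decide +kernel

theorem quat_inv : ∀ p ∈ quat, ∃ q ∈ quat, mul p q = one := by decide +kernel

theorem quat_sq : ∀ q ∈ quat, q = one ∨ q = negI ∨ mul q q = negI := by decide +kernel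

theorem quat_nodup : quat.Nodup := by decide +kernel

theorem quat_trans : ∀ v w : V, v ≠ (0, 0) → w ≠ (0, 0) → ∃ q ∈ quat, act q v = w := by
  decide +kernel

theorem quat_normal : ∀ m : Mat, det m ≠ 0 → ∀ q ∈ quat, ∃ q' ∈ quat, mul m q = mul q' m := by
  decide +kernel

theorem quat_conj : ∀ p ∈ quat, ∀ q ∈ quat, mul p p = negI → mul q q = negI →
    ∃ m : Mat, det m ≠ 0 ∧ mul m p = mul q m := by
  decide +kernel

theorem quat_aut : ∀ p ∈ quat, ∀ q ∈ quat, mul p p = negI → mul q q = negI →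
    mul p q = mul negI (mul q p) →
    ∃ m : Mat, det m ≠ 0 ∧ mul m mJ = mul p m ∧ mul m mK = mul q m := by
  decide +kernel

theorem quat_gen : ∀ q ∈ quat, q ∈ [one, mJ, mul mJ mJ, mul mJ (mul mJ mJ), mK, mul mJ mK,
    mul (mul mJ mJ) mK, mul (mul mJ (mul mJ mJ)) mK] := by
  decide +kernel

theorem quat_cent : ∀ m : Mat, det m ≠ 0 → mul m mJ = mul mJ m → mul m mK = mul mK m →
    m = one ∨ m = negI := by
  decide +kernel

theorem quat_signs : ∀ s t : Bool, ∃ q ∈ quat,
    mul q mJ = (if s then mul negI (mul mJ q) else mul mJ q) ∧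
    mul q mK = (if t then mul negI (mul mK q) else mul mK q) := by
  decide +kernel

theorem conj_mU : ∀ g : Mat, det g ≠ 0 → g ≠ one → cube g = one →
    ∃ k : Mat, det k ≠ 0 ∧ mul k mU = mul g k := by
  decide +kernel

theorem comm_order_three : ∀ g : Mat, det g ≠ 0 → g ∉ quat →
    ∃ n : Mat, det n ≠ 0 ∧ ∃ q : Mat, det q ≠ 0 ∧ mul q q ≠ one ∧ cube (mul q q) = one ∧
      mul n g = mul q (mul g n) := by
  decide +kernel

theorem refl_coset : ∀ g : Mat, det g ≠ 0 → g ∉ quat →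
    (g ≠ one ∧ cube g = one) ∨ (mul g g ≠ one ∧ cube (mul g g) = one) ∨
      ∃ q ∈ quat, ∃ k : Mat, det k ≠ 0 ∧ mul (mul g q) k = mul k mR := by
  decide +kernel

theorem bruhat : ∀ m : Mat, det m ≠ 0 → ∃ d ∈ diag, ∃ i : Fin 3,
    m = mul (powU i) d ∨ ∃ l : Fin 3, m = mul (powU i) (mul mJ (mul (powU l) d)) := by
  decide +kernel

theorem refl_conj : ∀ X ∈ [mul mR mU, mul mR mJ, mR'],
    ∃ k : Mat, det k ≠ 0 ∧ mul k mR = mul X k := by
  decide +kernel

theorem consts : mul mR mR = one ∧ mul mR mR' = negI ∧ mul mR negI = mR' ∧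
    mul mJ mR = mul mR' mJ ∧ mul mJ mJ = negI ∧ mul mR mU = mul (mul mU mU) mR ∧
    mJ ∈ quat ∧ mK ∈ quat ∧ negI ∈ quat ∧ one ∈ quat ∧ mR ∉ quat ∧ mul mJ mR' = mul mR mJ ∧
    cube mU = one ∧ mul mJ mK = mul negI (mul mK mJ) ∧ mul mK mK = negI ∧
    mul negI negI = one := by
  decide +kernel

end Cfsg.Agent.M12Uniq.Loc.Model
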