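import Cfsg.Agent.M12Uniq.LocalThree
import Cfsg.Agent.M12Uniq.LocalModel

/-!
# An elementary abelian group of order 9 inverted by a 2-central involution (helper46)

Its normalizer has order 432 and the centralizer `H` of the involution there is `GL₂(3)`, which
`el` maps explicitly.
-/

set_option autoImplicit false

open Subgroup

namespace Cfsg.Agent.M12Uniq.Loc

universe u

variable {G : Type u} [Group G]

/-- A basis `a`, `b` of an elementary abelian group of order 9, inverted by the involution `z`. -/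
structure Elem (G : Type u) [Group G] where
  z : G
  a : G
  b : G
  orderOf_z : orderOf z = 2
  cC_z : cC z = 192
  comm : a * b = b * a
  cube_a : a ^ 3 = 1
  a_ne : a ≠ 1
  cube_b : b ^ 3 = 1
  b_notMem : b ∉ zpowers a
  inv_a : Inv z a
  inv_b : Inv z b
  three : ∀ g ∈ pairGrp a b, g ≠ 1 → orderOf g = 3 ∧ cC g = 54

namespace Elem

variable (F : Elem G)

/-- The group. -/
def E : Subgroup G := pairGrp F.a F.b

/-- Its normalizer. -/
def N : Subgroup G := normalizer (F.E : Set G)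

/-- The centralizer of the involution in the normalizer. -/
def H : Subgroup G := F.N ⊓ centralizer ({F.z} : Set G)

/-- Coordinates. -/
def vec (v : Model.V) : G := F.a ^ v.1.val * F.b ^ v.2.val

theorem a_mem : F.a ∈ F.E := left_mem_pairGrp _ _

theorem b_mem : F.b ∈ F.E := right_mem_pairGrp _ _

theorem comm_E {g g' : G} (hg : g ∈ F.E) (hg' : g' ∈ F.E) : g * g' = g' * g :=
  pairGrp_comm F.comm F.cube_a F.cube_b hg hg'

theorem cube_E {g : G} (hg : g ∈ F.E) : g ^ 3 = 1 := pairGrp_cube F.comm F.cube_a F.cube_b hg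

theorem card_E : Nat.card F.E = 9 :=
  card_pairGrp F.comm F.cube_a F.a_ne F.cube_b F.b_notMem

theorem vec_mem (v : Model.V) : F.vec v ∈ F.E := pow_mul_pow_mem _ _ _ _

theorem vec_e1 : F.vec (1, 0) = F.a := by simp [vec]

theorem vec_e2 : F.vec (0, 1) = F.b := by simp [vec]

theorem vec_zero : F.vec (0, 0) = 1 := by simp [vec]

theorem pow_add_three {g : G} (hg : g ^ 3 = 1) (i j : Fin 3) :
    g ^ (i + j).val = g ^ i.val * g ^ j.val := by
  rw [← pow_add, Fin.val_add, ← pow_mod_three hg]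

theorem pow_mul_three {g : G} (hg : g ^ 3 = 1) (i j : Fin 3) :
    g ^ (i * j).val = (g ^ j.val) ^ i.val := by
  rw [← pow_mul, Fin.val_mul, ← pow_mod_three hg, mul_comm]

theorem vec_add (v w : Model.V) : F.vec (v + w) = F.vec v * F.vec w := by
  simp only [vec, Prod.fst_add, Prod.snd_add, pow_add_three F.cube_a, pow_add_three F.cube_b]
  have h := (Commute.pow_pow (show Commute F.a F.b from F.comm) w.1.val v.2.val).eq
  calc F.a ^ v.1.val * F.a ^ w.1.val * (F.b ^ v.2.val * F.b ^ w.2.val)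
      = F.a ^ v.1.val * (F.a ^ w.1.val * F.b ^ v.2.val) * F.b ^ w.2.val := by group
    _ = F.a ^ v.1.val * (F.b ^ v.2.val * F.a ^ w.1.val) * F.b ^ w.2.val := by rw [h]
    _ = _ := by group

theorem vec_pow (v : Model.V) (i : Fin 3) : F.vec v ^ i.val = F.vec (i * v.1, i * v.2) := by
  rw [vec, (Commute.pow_pow (show Commute F.a F.b from F.comm) _ _).mul_pow, vec,
    pow_mul_three F.cube_a, pow_mul_three F.cube_b]

theorem vec_inj {v w : Model.V} (h : F.vec v = F.vec w) : v = w := by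
  have h' := pow_mul_pow_inj F.cube_a F.a_ne F.cube_b F.b_notMem h
  rw [Nat.mod_eq_of_lt v.1.isLt, Nat.mod_eq_of_lt w.1.isLt, Nat.mod_eq_of_lt v.2.isLt,
    Nat.mod_eq_of_lt w.2.isLt] at h'
  exact Prod.ext (Fin.ext h'.1) (Fin.ext h'.2)

theorem exists_vec {g : G} (hg : g ∈ F.E) : ∃ v, F.vec v = g := by
  obtain ⟨i, hi, j, hj, rfl⟩ := (mem_pairGrp_iff F.comm F.cube_a F.cube_b).mp hg
  exact ⟨(⟨i, hi⟩, ⟨j, hj⟩), rfl⟩

theorem inv_z {g : G} (hg : g ∈ F.E) : Inv F.z g := by
  obtain ⟨i, -, j, -, rfl⟩ := (mem_pairGrp_iff F.comm F.cube_a F.cube_b).mp hg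
  exact (F.inv_a.pow i).mul (F.inv_b.pow j)
    (Commute.pow_pow (show Commute F.a F.b from F.comm) i j).eq

theorem eq_one_of_fix {g : G} (hg : g ∈ F.E) (h : Fix F.z g) : g = 1 :=
  eq_one_of_inv_fix (F.inv_z hg) h (F.cube_E hg)

/-- `g` acts on `E` by the matrix `m`. -/
def Acts (g : G) (m : Model.Mat) : Prop :=
  g ∈ F.H ∧ g * F.a * g⁻¹ = F.vec m.1 ∧ g * F.b * g⁻¹ = F.vec m.2

variable {F}

theorem Acts.apply {g : G} {m : Model.Mat} (h : F.Acts g m) (v : Model.V) :
    g * F.vec v * g⁻¹ = F.vec (Model.act m v) := by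
  have e : g * F.vec v * g⁻¹ = (g * F.a * g⁻¹) ^ v.1.val * (g * F.b * g⁻¹) ^ v.2.val := by
    rw [conj_pow, conj_pow, conj_mul]; rfl
  rw [e, h.2.1, h.2.2, F.vec_pow, F.vec_pow, ← F.vec_add]
  rfl

theorem Acts.mul {g g' : G} {m m' : Model.Mat} (h : F.Acts g m) (h' : F.Acts g' m') :
    F.Acts (g * g') (Model.mul m m') := by
  refine ⟨mul_mem h.1 h'.1, ?_, ?_⟩
  · show g * g' * F.a * (g * g')⁻¹ = F.vec (Model.act m m'.1)
    rw [← h.apply, ← h'.2.1]; group
  · show g * g' * F.b * (g * g')⁻¹ = F.vec (Model.act m m'.2)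
    rw [← h.apply, ← h'.2.2]; group

theorem Acts.det {g : G} {m : Model.Mat} (h : F.Acts g m) : Model.det m ≠ 0 := by
  refine Model.det_ne_zero_of_inj m fun v hv => F.vec_inj ?_
  have := h.apply v
  rw [hv, F.vec_zero, conj_eq_one_iff] at this
  rw [this, F.vec_zero]

theorem Acts.unique {g : G} {m m' : Model.Mat} (h : F.Acts g m) (h' : F.Acts g m') : m = m' :=
  Prod.ext (F.vec_inj (h.2.1.symm.trans h'.2.1)) (F.vec_inj (h.2.2.symm.trans h'.2.2))

variable (F) [Finite G]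

theorem xData_a (hc : Counts G) : Nonempty (XData F.a) :=
  exists_xData hc (F.three F.a F.a_mem F.a_ne).1 (F.three F.a F.a_mem F.a_ne).2

theorem mem_P {x y : G} (D : XData x) (hx : x ∈ F.E) (hy : y ∈ F.E) : y ∈ D.P :=
  D.mem_P y (fix_of_comm (F.comm_E hy hx))
    (by rw [show 27 = 3 * 9 from rfl, pow_mul, F.cube_E hy, one_pow])

theorem centralizer_E (hc : Counts G) : centralizer (F.E : Set G) = F.E := by
  refine le_antisymm (fun g hg => ?_) fun g hg h hh => F.comm_E hh hg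
  obtain ⟨D⟩ := F.xData_a hc
  exact D.cent_pair hc (F.mem_P D F.a_mem F.b_mem) F.b_notMem
    (fix_of_comm ((Subgroup.mem_centralizer_iff.mp hg) _ F.a_mem).symm)
    (fix_of_comm ((Subgroup.mem_centralizer_iff.mp hg) _ F.b_mem).symm)

theorem eq_one_of_centralises (hc : Counts G) {g : G} (hg : g ∈ F.H)
    (ha : Fix g F.a) (hb : Fix g F.b) : g = 1 := by
  have hE : g ∈ F.E := by
    rw [← F.centralizer_E hc, Subgroup.mem_centralizer_iff]
    intro e he
    obtain ⟨i, -, j, -, rfl⟩ :=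
      (mem_pairGrp_iff F.comm F.cube_a F.cube_b).mp (show e ∈ pairGrp F.a F.b from he)
    exact ((ha.pow i).mul (hb.pow j)).comm.symm
  exact F.eq_one_of_fix hE (fix_of_mem_centralizer hg.2).symm

variable {F}

theorem Acts.inj (hc : Counts G) {g g' : G} {m : Model.Mat} (h : F.Acts g m) (h' : F.Acts g' m) :
    g = g' := by
  have : g'⁻¹ * g = 1 := by
    refine F.eq_one_of_centralises hc (mul_mem (inv_mem h'.1) h.1) ?_ ?_
    · rw [Fix]
      calc g'⁻¹ * g * F.a * (g'⁻¹ * g)⁻¹ = g'⁻¹ * (g * F.a * g⁻¹) * g' := by group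
        _ = F.a := by rw [h.2.1, ← h'.2.1]; group
    · rw [Fix]
      calc g'⁻¹ * g * F.b * (g'⁻¹ * g)⁻¹ = g'⁻¹ * (g * F.b * g⁻¹) * g' := by group
        _ = F.b := by rw [h.2.2, ← h'.2.2]; group
  exact (inv_mul_eq_one.mp this).symm

variable (F)

theorem mem_N_of_conj {g : G} (ha : g * F.a * g⁻¹ ∈ F.E) (hb : g * F.b * g⁻¹ ∈ F.E) :
    g ∈ F.N := by
  have hle : F.E.map (MulAut.conj g).toMonoidHom ≤ F.E := by
    refine map_le_iff_le_comap.mpr (pairGrp_le ?_ ?_)
    · simpa using ha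
    · simpa using hb
  have heq := eq_of_le_card hle (by
    rw [Subgroup.card_map_of_injective (MulAut.conj g).injective])
  rw [N, Subgroup.mem_normalizer_iff]
  intro h
  constructor
  · intro hh
    rw [← heq]
    exact ⟨h, hh, rfl⟩
  · intro hh
    have h2 : g * h * g⁻¹ ∈ F.E.map (MulAut.conj g).toMonoidHom := by rw [heq]; exact hh
    obtain ⟨k, hk, hk'⟩ := Subgroup.mem_map.mp h2
    have : k = h := (MulAut.conj g).injective hk'
    exact this ▸ hk

theorem z_mem_H : F.z ∈ F.H :=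
  ⟨F.mem_N_of_conj (F.inv_a ▸ inv_mem F.a_mem) (F.inv_b ▸ inv_mem F.b_mem),
    mem_centralizer_of_fix (fix_self _)⟩

theorem shift (hc : Counts G) {x y : G} (hx : x ∈ F.E) (hy : y ∈ F.E) (hx1 : x ≠ 1)
    (hyx : y ∉ zpowers x) : ∃ p ∈ F.N, p * y * p⁻¹ = x * y := by
  obtain ⟨D⟩ := exists_xData hc (F.three x hx hx1).1 (F.three x hx hx1).2
  obtain ⟨p, hp, hpy⟩ := D.exists_shift (F.mem_P D hx hy) hyx (mem_zpowers x)
  refine ⟨p, ?_, hpy⟩
  have hxE : pairGrp x y = F.E := eq_of_le_card (pairGrp_le hx hy) (by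
    rw [card_pairGrp (F.comm_E hx hy) (F.cube_E hx) hx1 (F.cube_E hy) hyx, F.card_E])
  have hcl : ∀ e ∈ F.E, p * e * p⁻¹ ∈ F.E := by
    intro e he
    obtain ⟨i, -, j, -, rfl⟩ :=
      (mem_pairGrp_iff (F.comm_E hx hy) (F.cube_E hx) (F.cube_E hy)).mp (hxE ▸ he)
    rw [← conj_mul, show p * x ^ i * p⁻¹ = x ^ i from (D.fix p hp).pow i, ← conj_pow, hpy]
    exact mul_mem (pow_mem hx i) (pow_mem (mul_mem hx hy) j)
  exact F.mem_N_of_conj (hcl _ F.a_mem) (hcl _ F.b_mem)

theorem centralizer_le_N (hc : Counts G) : centralizer ({F.a} : Set G) ≤ F.N := by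
  obtain ⟨D⟩ := F.xData_a hc
  have hb := F.mem_P D F.a_mem F.b_mem
  have hPN : D.P ≤ F.N := by
    intro p hp
    refine F.mem_N_of_conj (by rw [show p * F.a * p⁻¹ = F.a from D.fix p hp]; exact F.a_mem) ?_
    obtain ⟨c, hcm, hcb⟩ := D.conj_mem hp hb
    rw [hcb]
    exact mul_mem (zpowers_le.mpr F.a_mem hcm) F.b_mem
  obtain ⟨t, ht, htx⟩ := D.exists_involution
  have htN : t ∈ F.N := by
    refine F.mem_N_of_conj (by rw [show t * F.a * t⁻¹ = F.a from htx]; exact F.a_mem) ?_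
    obtain ⟨i, hi⟩ := D.conj_mem_inv_mul hc ht htx hb
    rw [hi]
    exact mul_mem (inv_mem F.b_mem) (pow_mem F.a_mem i)
  set K := centralizer ({F.a} : Set G) ⊓ F.N with hK
  have h27 : 27 ∣ Nat.card K := by
    rw [← D.card_P]
    exact Subgroup.card_dvd_of_le fun p hp => ⟨mem_centralizer_of_fix (D.fix p hp), hPN hp⟩
  have h2 : 2 ∣ Nat.card K := by
    rw [← ht]
    exact Subgroup.orderOf_dvd_natCard _ ⟨mem_centralizer_of_fix htx, htN⟩
  have h54 : 54 ∣ Nat.card K := by omega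
  have : K = centralizer ({F.a} : Set G) := eq_of_le_card inf_le_left (by
    rw [show Nat.card (centralizer ({F.a} : Set G)) = 54 from D.cC_x]
    exact Nat.le_of_dvd Nat.card_pos h54)
  rw [← this]
  exact inf_le_right

theorem conj_pow_N (hc : Counts G) (v : Model.V) (hv : v ≠ (0, 0)) :
    ∃ n ∈ F.N, n * F.a * n⁻¹ = F.vec v := by
  have hab : F.a ∉ zpowers F.b := by
    intro h
    obtain ⟨i, -, hi⟩ := (zpowers_iff F.cube_b).mp h
    have := pow_mul_pow_inj F.cube_a F.a_ne F.cube_b F.b_notMem (i := 1) (j := 0) (i' := 0)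
      (j' := i) (by simp [← hi])
    simp at this
  have hb1 : F.b ≠ 1 := fun h => F.b_notMem (h ▸ one_mem _)
  obtain ⟨p, hp, hpa⟩ := F.shift hc F.b_mem F.a_mem hb1 hab
  obtain ⟨q, hq, hqb⟩ := F.shift hc F.a_mem F.b_mem F.a_ne F.b_notMem
  have hzN : F.z ∈ F.N := F.z_mem_H.1
  have hmove : ∀ (v : Model.V) (g : G), g ∈ F.N → (∃ n ∈ F.N, n * F.a * n⁻¹ = F.vec v) →
      ∀ w, g * F.vec v * g⁻¹ = F.vec w → ∃ n ∈ F.N, n * F.a * n⁻¹ = F.vec w := by
    rintro v g hg ⟨n, hn, hnv⟩ w hw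
    exact ⟨g * n, mul_mem hg hn, by rw [← hw, ← hnv]; group⟩
  have hneg : ∀ v, F.z * F.vec v * F.z⁻¹ = F.vec (2 * v.1, 2 * v.2) := by
    intro v
    rw [show F.z * F.vec v * F.z⁻¹ = (F.vec v)⁻¹ from F.inv_z (F.vec_mem v),
      cube_inv (F.cube_E (F.vec_mem v))]
    exact F.vec_pow v 2
  have h10 : ∃ n ∈ F.N, n * F.a * n⁻¹ = F.vec (1, 0) := ⟨1, one_mem _, by simp [vec_e1]⟩
  have h11 : ∃ n ∈ F.N, n * F.a * n⁻¹ = F.vec (1, 1) :=
    hmove _ p hp h10 _ (by
      rw [F.vec_e1, hpa, show ((1, 1) : Model.V) = (0, 1) + (1, 0) from rfl, F.vec_add,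
        F.vec_e1, F.vec_e2])
  have h12 : ∃ n ∈ F.N, n * F.a * n⁻¹ = F.vec (1, 2) := by
    obtain ⟨p', hp', hpa'⟩ := F.shift hc (inv_mem F.b_mem) F.a_mem (by simpa using hb1)
      (by rwa [zpowers_inv])
    refine hmove _ p' hp' h10 _ ?_
    rw [F.vec_e1, hpa', show ((1, 2) : Model.V) = (0, 2) + (1, 0) from rfl, F.vec_add, F.vec_e1,
      cube_inv F.cube_b]
    simp [vec]
  have h01 : ∃ n ∈ F.N, n * F.a * n⁻¹ = F.vec (0, 1) := by
    refine hmove (1, 1) q⁻¹ (inv_mem hq) h11 _ ?_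
    rw [show ((1, 1) : Model.V) = (1, 0) + (0, 1) from rfl, F.vec_add, F.vec_e1, F.vec_e2, ← hqb]
    group
  have hm : ∀ v, (∃ n ∈ F.N, n * F.a * n⁻¹ = F.vec v) →
      ∃ n ∈ F.N, n * F.a * n⁻¹ = F.vec (2 * v.1, 2 * v.2) :=
    fun v h => hmove v _ hzN h _ (hneg v)
  obtain ⟨i, j⟩ := v
  fin_cases i <;> fin_cases j
  · exact absurd rfl hv
  · exact h01
  · exact hm _ h01
  · exact h10
  · exact h11
  · exact h12
  · exact hm _ h10
  · exact hm _ h12
  · exact hm _ h11

theorem card_N (hc : Counts G) : Nat.card F.N = 432 := by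
  have h := SmallGroups.card_conj_mul_centralizer (G := F.N)
    ⟨F.a, le_normalizer F.a_mem⟩
  have hcN : Nat.card (centralizer ({⟨F.a, le_normalizer F.a_mem⟩} : Set F.N)) = 54 := by
    rw [← (F.three F.a F.a_mem F.a_ne).2]
    refine Nat.card_congr ⟨fun g => ⟨(g : F.N), ?_⟩,
      fun g => ⟨⟨(g : G), F.centralizer_le_N hc g.2⟩, ?_⟩, fun g => rfl, fun g => rfl⟩
    · exact mem_centralizer_singleton.mpr
        (congrArg Subtype.val (mem_centralizer_singleton.mp g.2))
    · exact mem_centralizer_singleton.mpr (Subtype.ext (mem_centralizer_singleton.mp g.2))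
  have hcl : Nat.card {g : F.N // IsConj ⟨F.a, le_normalizer F.a_mem⟩ g} = 8 := by
    have hbij : ∀ g : F.N, IsConj (⟨F.a, le_normalizer F.a_mem⟩ : F.N) g ↔
        ∃ v : Model.V, v ≠ (0, 0) ∧ F.vec v = g := by
      intro g
      constructor
      · intro hg
        obtain ⟨c, hc'⟩ := isConj_iff.mp hg
        have hmem : (g : G) ∈ F.E := by
          rw [← hc']
          exact (Subgroup.mem_normalizer_iff.mp c.2 F.a).mp F.a_mem
        obtain ⟨v, hv⟩ := F.exists_vec hmem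
        refine ⟨v, fun h0 => F.a_ne ?_, hv⟩
        rw [h0, F.vec_zero, ← hc'] at hv
        simpa [conj_eq_one_iff] using hv.symm
      · rintro ⟨v, hv, hvg⟩
        obtain ⟨n, hn, hna⟩ := F.conj_pow_N hc v hv
        exact isConj_iff.mpr ⟨⟨n, hn⟩, Subtype.ext (hna.trans hvg)⟩
    rw [show (8 : ℕ) = Nat.card {v : Model.V // v ≠ (0, 0)} by
      rw [Nat.card_eq_fintype_card]; decide]
    refine (Nat.card_eq_of_bijective
      (fun v => ⟨⟨F.vec v.1, le_normalizer (F.vec_mem _)⟩,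
        (hbij _).mpr ⟨v.1, v.2, rfl⟩⟩) ⟨?_, ?_⟩).symm
    · intro v w h
      exact Subtype.ext (F.vec_inj (congrArg (fun t => ((t : F.N) : G)) (congrArg Subtype.val h)))
    · rintro ⟨g, hg⟩
      obtain ⟨v, hv, hvg⟩ := (hbij g).mp hg
      exact ⟨⟨v, hv⟩, Subtype.ext (Subtype.ext hvg)⟩
  rw [hcl, hcN] at h
  omega

theorem card_H (hc : Counts G) : Nat.card F.H = 48 := by
  let f : F.E × F.H → F.N := fun p => ⟨p.1 * p.2, mul_mem (le_normalizer p.1.2) p.2.2.1⟩
  have hf : Function.Bijective f := by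
    constructor
    · rintro ⟨e, k⟩ ⟨e', k'⟩ h
      have h' : (e : G) * k = e' * k' := congrArg Subtype.val h
      have hm : (e' : G)⁻¹ * e = k' * (k : G)⁻¹ := by
        rw [inv_mul_eq_iff_eq_mul, ← mul_assoc, ← h']; group
      have h1 : (e' : G)⁻¹ * e = 1 := by
        refine F.eq_one_of_fix (mul_mem (inv_mem e'.2) e.2) ?_
        rw [hm]
        exact (fix_of_mem_centralizer (mul_mem k'.2 (inv_mem k.2) : (k' : G) * (k : G)⁻¹ ∈ F.H).2).symm
      rw [h1] at hm
      exact Prod.ext (Subtype.ext (inv_mul_eq_one.mp h1).symm)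
        (Subtype.ext (mul_inv_eq_one.mp hm.symm).symm)
    · rintro ⟨n, hn⟩
      have hzz : F.z * F.z = 1 := sq_of_orderOf F.orderOf_z
      set z' := n * F.z * n⁻¹ with hz'
      have hinv : ∀ e ∈ F.E, Inv z' e := by
        intro e he
        have hmem : n⁻¹ * e * n ∈ F.E := by
          simpa using (Subgroup.mem_normalizer_iff.mp (inv_mem hn) e).mp he
        have h := (F.inv_z hmem).map n
        rwa [show n * (n⁻¹ * e * n) * n⁻¹ = e by group, ← hz'] at h
      set e := z' * F.z with hed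
      have he : e ∈ F.E := by
        rw [← F.centralizer_E hc, Subgroup.mem_centralizer_iff]
        exact fun g hg => ((hinv g hg).mul_left_inv (F.inv_z hg)).comm.symm
      set d := e * e with hdd
      have hd : d ∈ F.E := mul_mem he he
      have hdz : d * F.z * d⁻¹ = z' := by
        have h3 := F.cube_E he
        calc d * F.z * d⁻¹ = d * (F.z * d⁻¹ * F.z⁻¹) * F.z := by group
          _ = d * d * F.z := by
              rw [show F.z * d⁻¹ * F.z⁻¹ = d⁻¹⁻¹ from (F.inv_z hd).inv, inv_inv]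
          _ = e ^ 3 * e * F.z := by rw [hdd, pow_succ, pow_two]; group
          _ = z' * (F.z * F.z) := by rw [h3, one_mul, hed]; group
          _ = z' := by rw [hzz, mul_one]
      refine ⟨⟨⟨d, hd⟩, ⟨d⁻¹ * n, F.N.mul_mem (F.N.inv_mem (le_normalizer hd)) hn, ?_⟩⟩,
        Subtype.ext (mul_inv_cancel_left d n)⟩
      refine mem_centralizer_of_fix ?_
      rw [Fix]
      calc d⁻¹ * n * F.z * (d⁻¹ * n)⁻¹ = d⁻¹ * (n * F.z * n⁻¹) * d := by group
        _ = F.z := by rw [← hz', ← hdz]; group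
  have h := Nat.card_eq_of_bijective f hf
  rw [Nat.card_prod, F.card_E, F.card_N hc] at h
  omega

theorem exists_acts {g : G} (hg : g ∈ F.H) : ∃ m, F.Acts g m := by
  have hn := Subgroup.mem_normalizer_iff.mp hg.1
  obtain ⟨v, hv⟩ := F.exists_vec ((hn F.a).mp F.a_mem)
  obtain ⟨w, hw⟩ := F.exists_vec ((hn F.b).mp F.b_mem)
  exact ⟨(v, w), hg, hv.symm, hw.symm⟩

theorem exists_acts_of_det (hc : Counts G) {m : Model.Mat} (hm : Model.det m ≠ 0) :
    ∃ g, F.Acts g m := by
  let f : F.H → {m : Model.Mat // Model.det m ≠ 0} := fun g =>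
    ⟨(F.exists_acts g.2).choose, (F.exists_acts g.2).choose_spec.det⟩
  have hf : Function.Bijective f := by
    refine (Nat.bijective_iff_injective_and_card f).mpr ⟨?_, ?_⟩
    · intro g g' h
      have h' : (F.exists_acts g.2).choose = (F.exists_acts g'.2).choose :=
        congrArg Subtype.val h
      exact Subtype.ext ((F.exists_acts g.2).choose_spec.inj hc
        (h' ▸ (F.exists_acts g'.2).choose_spec))
    · rw [F.card_H hc, Nat.card_eq_fintype_card, Fintype.card_subtype, Model.card_det]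
  obtain ⟨g, hg⟩ := hf.2 ⟨m, hm⟩
  refine ⟨g, ?_⟩
  have h' : (F.exists_acts g.2).choose = m := congrArg Subtype.val hg
  exact h' ▸ (F.exists_acts g.2).choose_spec

open Classical in
/-- The element of `H` with a given matrix. -/
noncomputable def el (m : Model.Mat) : G := if h : ∃ g, F.Acts g m then h.choose else 1

theorem acts_el (hc : Counts G) {m : Model.Mat} (hm : Model.det m ≠ 0) : F.Acts (F.el m) m := by
  rw [el, dif_pos (F.exists_acts_of_det hc hm)]
  exact (F.exists_acts_of_det hc hm).choose_spec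

theorem el_eq (hc : Counts G) {g : G} {m : Model.Mat} (h : F.Acts g m) : F.el m = g :=
  (F.acts_el hc h.det).inj hc h

theorem el_mul (hc : Counts G) {m m' : Model.Mat} (hm : Model.det m ≠ 0) (hm' : Model.det m' ≠ 0) :
    F.el (Model.mul m m') = F.el m * F.el m' :=
  F.el_eq hc ((F.acts_el hc hm).mul (F.acts_el hc hm'))

include F in
theorem el_det (hc : Counts G) {m m' : Model.Mat} (hm : Model.det m ≠ 0)
    (hm' : Model.det m' ≠ 0) : Model.det (Model.mul m m') ≠ 0 :=
  ((F.acts_el hc hm).mul (F.acts_el hc hm')).det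

theorem el_inj (hc : Counts G) {m m' : Model.Mat} (hm : Model.det m ≠ 0)
    (hm' : Model.det m' ≠ 0) (h : F.el m = F.el m') : m = m' :=
  (F.acts_el hc hm).unique (h ▸ F.acts_el hc hm')

theorem el_mem (hc : Counts G) {m : Model.Mat} (hm : Model.det m ≠ 0) : F.el m ∈ F.H :=
  (F.acts_el hc hm).1

theorem exists_el (hc : Counts G) {g : G} (hg : g ∈ F.H) :
    ∃ m, Model.det m ≠ 0 ∧ F.el m = g := by
  obtain ⟨m, hm⟩ := F.exists_acts hg
  exact ⟨m, hm.det, F.el_eq hc hm⟩

theorem el_one (hc : Counts G) : F.el Model.one = 1 :=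
  F.el_eq hc ⟨one_mem _, by simp [Model.one, vec_e1], by simp [Model.one, vec_e2]⟩

theorem el_negI (hc : Counts G) : F.el Model.negI = F.z :=
  F.el_eq hc ⟨F.z_mem_H,
    by rw [show F.z * F.a * F.z⁻¹ = F.a⁻¹ from F.inv_a, cube_inv F.cube_a]; simp [Model.negI, vec],
    by rw [show F.z * F.b * F.z⁻¹ = F.b⁻¹ from F.inv_b, cube_inv F.cube_b]; simp [Model.negI, vec]⟩

theorem el_conj (hc : Counts G) {k x y : Model.Mat} (hk : Model.det k ≠ 0)
    (hx : Model.det x ≠ 0) (hy : Model.det y ≠ 0) (h : Model.mul k x = Model.mul y k) :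
    F.el k * F.el x * (F.el k)⁻¹ = F.el y := by
  rw [mul_inv_eq_iff_eq_mul, ← F.el_mul hc hk hx, ← F.el_mul hc hy hk, h]

theorem el_cube (hc : Counts G) {g : Model.Mat} (hg : Model.det g ≠ 0) :
    F.el (Model.cube g) = F.el g ^ 3 := by
  rw [Model.cube, F.el_mul hc hg (F.el_det hc hg hg), F.el_mul hc hg hg, pow_succ, pow_two]
  group

end Elem

/-- An involution `t` of `C(x)`, an involution `w` commuting with it and inverting `x`, and an
element of `P` inverted by `t` and fixed by `w` give an `Elem`. -/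
theorem XData.cC_inverter [Finite G] {x : G} (D : XData x) (hc : Counts G) {t w : G}
    (ht : orderOf t = 2) (htx : Fix t x) (hw : w * w = 1) (hwt : Fix w t) (hwx : Inv w x) :
    orderOf (t * w) = 2 ∧ cC (t * w) = 192 ∧ Inv (t * w) x := by
  have hinv : Inv (t * w) x := htx.mul_left_inv hwx
  have htt := sq_of_orderOf ht
  have hsq : t * w * (t * w) = 1 := by
    calc t * w * (t * w) = t * (w * t) * w := by group
      _ = (t * t) * (w * w) := by rw [hwt.comm]; group
      _ = 1 := by rw [htt, hw, one_mul]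
  have hne : t * w ≠ 1 := by
    intro h
    have h' : Inv (1 : G) x := h ▸ hinv
    exact D.x_ne_one (eq_one_of_sq_cube (by simpa [Inv] using h') D.cube_x)
  have ho : orderOf (t * w) = 2 := orderOf_eq_prime (by rw [pow_two, hsq]) hne
  have hst : Fix (t * w) t := (fix_self t).mul_left hwt
  obtain ⟨y, hy, hny, hty, hsy⟩ := D.exists_fixed hc ht htx hsq hst hinv
  refine ⟨ho, hc.cent54 y (t * w) (orderOf_three (D.cube y hy) fun h => hny (h ▸ one_mem _))
    (D.cC_fixed hc hsq hinv hy hny hsy) ho hsy.comm.symm, hinv⟩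

/-- The `Elem` of a pair of commuting involutions at an element of order 3. -/
noncomputable def XData.toElem [Finite G] {x : G} (D : XData x) (hc : Counts G) {t w y : G}
    (ht : orderOf t = 2) (htx : Fix t x) (hw : w * w = 1) (hwt : Fix w t) (hwx : Inv w x)
    (hy : y ∈ D.P) (hny : y ∉ zpowers x) (hty : Inv t y) (hwy : Fix w y) : Elem G where
  z := t * w
  a := x
  b := y
  orderOf_z := (D.cC_inverter hc ht htx hw hwt hwx).1
  cC_z := (D.cC_inverter hc ht htx hw hwt hwx).2.1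
  comm := D.comm_x hy
  cube_a := D.cube_x
  a_ne := D.x_ne_one
  cube_b := D.cube y hy
  b_notMem := hny
  inv_a := (D.cC_inverter hc ht htx hw hwt hwx).2.2
  inv_b := hty.mul_left_fix hwy
  three := fun _ hg hg1 => D.cC_pair hc hw hwx hy hny hwy hg hg1

theorem exists_elem [Finite G] (hc : Counts G) : Nonempty (Elem G) := by
  obtain ⟨x, hx, hcx⟩ := hc.exists_x
  obtain ⟨D⟩ := exists_xData hc hx hcx
  obtain ⟨t, ht, htx⟩ := D.exists_involution
  obtain ⟨w, hw, hwt, hwx⟩ := D.exists_inverter hc ht htx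
  obtain ⟨y, hy, hny, hty, hwy⟩ := D.exists_fixed hc ht htx (sq_of_orderOf hw) hwt hwx
  exact ⟨D.toElem hc ht htx (sq_of_orderOf hw) hwt hwx hy hny hty hwy⟩

end Cfsg.Agent.M12Uniq.Loc
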