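import Cfsg.Agent.M12Uniq.LocalCz

/-!
# Both quaternion groups occur (helper46)

If every elementary abelian group inverted by a given 2-central involution had the same quaternion
group, the normalizer of one of them would have thirteen cosets in a subgroup, but 13 does not
divide 95040.
-/

set_option autoImplicit false

open Subgroup

namespace Cfsg.Agent.M12Uniq.Loc

universe u

variable {G : Type u} [Group G]

theorem mem_right_of_fix {k x y g : G} (hc : x * y = y * x) (hx : x ^ 3 = 1) (hy : y ^ 3 = 1)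
    (hkx : Inv k x) (hky : Fix k y) (hg : g ∈ pairGrp x y) (hkg : Fix k g) :
    ∃ j : ℕ, g = y ^ j := by
  obtain ⟨i, -, j, -, rfl⟩ := (mem_pairGrp_iff hc hx hy).mp hg
  refine ⟨j, ?_⟩
  have h1 : Fix k (x ^ i) := by
    have := hkg.mul (hky.pow j).inv
    rwa [mul_inv_cancel_right] at this
  rw [eq_one_of_inv_fix (hkx.pow i) h1
    (by rw [← pow_mul, mul_comm, pow_mul, hx, one_pow]), one_mul]

theorem mem_left_of_fix {k x y g : G} (hc : x * y = y * x) (hx : x ^ 3 = 1) (hy : y ^ 3 = 1)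
    (hkx : Fix k x) (hky : Inv k y) (hg : g ∈ pairGrp x y) (hkg : Fix k g) :
    ∃ i : ℕ, g = x ^ i := by
  obtain ⟨i, -, j, -, rfl⟩ := (mem_pairGrp_iff hc hx hy).mp hg
  refine ⟨i, ?_⟩
  have h1 : Fix k (y ^ j) := by
    have := (hkx.pow i).inv.mul hkg
    rwa [inv_mul_cancel_left] at this
  rw [eq_one_of_inv_fix (hky.pow j) h1
    (by rw [← pow_mul, mul_comm, pow_mul, hy, one_pow]), mul_one]

namespace Elem

variable [Finite G] (F : Elem G)

theorem exists_E_mul_H (hc : Counts G) {g : G} (hg : g ∈ F.N) :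
    ∃ e ∈ F.E, ∃ k ∈ F.H, g = e * k := by
  let f : F.E × F.H → F.N := fun p => ⟨p.1 * p.2, mul_mem (le_normalizer p.1.2) p.2.2.1⟩
  have hf : Function.Bijective f := by
    refine (Nat.bijective_iff_injective_and_card f).mpr ⟨?_, ?_⟩
    · rintro ⟨e, k⟩ ⟨e', k'⟩ h
      have h' : (e : G) * k = e' * k' := congrArg Subtype.val h
      have hm : (e' : G)⁻¹ * e = k' * (k : G)⁻¹ := by
        rw [inv_mul_eq_iff_eq_mul, ← mul_assoc, ← h']; group
      have h1 : (e' : G)⁻¹ * e = 1 := F.eq_one_of_fix (mul_mem (inv_mem e'.2) e.2)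
        (hm ▸ F.fix_z_of_mem_H (mul_mem k'.2 (inv_mem k.2)))
      rw [h1] at hm
      exact Prod.ext (Subtype.ext (inv_mul_eq_one.mp h1).symm)
        (Subtype.ext (mul_inv_eq_one.mp hm.symm).symm)
    · rw [Nat.card_prod, F.card_E, F.card_H hc, F.card_N hc]
  obtain ⟨⟨e, k⟩, hek⟩ := hf.2 ⟨g, hg⟩
  exact ⟨e, e.2, k, k.2, (congrArg Subtype.val hek).symm⟩

theorem el_powU (hc : Counts G) (i : Fin 3) :
    Model.det (Model.powU i) ≠ 0 ∧ F.el (Model.powU i) = F.h ^ i.val := by
  have d := Model.det_const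
  fin_cases i
  · refine ⟨d.1, ?_⟩
    show F.el Model.one = F.h ^ 0
    rw [F.el_one hc, pow_zero]
  · refine ⟨d.2.2.1, ?_⟩
    show F.el Model.mU = F.h ^ 1
    rw [pow_one, h]
  · refine ⟨F.el_det hc d.2.2.1 d.2.2.1, ?_⟩
    show F.el (Model.mul Model.mU Model.mU) = F.h ^ 2
    rw [pow_two, F.el_mul hc d.2.2.1 d.2.2.1, h]

theorem el_mR' (hc : Counts G) : F.el Model.mR' = F.u * F.z := by
  rw [← Model.consts.2.2.1, F.el_mul hc Model.det_const.2.2.2.1 Model.det_const.2.1,
    F.el_negI hc, u]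

/-- The four diagonal elements. -/
def InD (g : G) : Prop := g = 1 ∨ g = F.u ∨ g = F.z ∨ g = F.u * F.z

theorem el_diag (hc : Counts G) {m : Model.Mat} (hm : m ∈ Model.diag) :
    Model.det m ≠ 0 ∧ F.InD (F.el m) := by
  have d := Model.det_const
  simp only [Model.diag, List.mem_cons, List.not_mem_nil, or_false] at hm
  rcases hm with rfl | rfl | rfl | rfl
  · exact ⟨d.1, Or.inl (F.el_one hc)⟩
  · exact ⟨d.2.2.2.1, Or.inr (Or.inl rfl)⟩
  · exact ⟨d.2.2.2.2.1, Or.inr (Or.inr (Or.inr (F.el_mR' hc)))⟩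
  · exact ⟨d.2.1, Or.inr (Or.inr (Or.inl (F.el_negI hc)))⟩

/-- The elements of `H`, by the Bruhat decomposition. -/
theorem H_forms (hc : Counts G) {k : G} (hk : k ∈ F.H) : ∃ D, F.InD D ∧ ∃ i : ℕ,
    k = F.h ^ i * D ∨ ∃ l : ℕ, k = F.h ^ i * (F.r * (F.h ^ l * D)) := by
  obtain ⟨m, hm, rfl⟩ := F.exists_el hc hk
  obtain ⟨t, ht, i, h' | ⟨l, h'⟩⟩ := Model.bruhat m hm
  · obtain ⟨dt, hD⟩ := F.el_diag hc ht
    exact ⟨_, hD, i, Or.inl (by
      rw [h', F.el_mul hc (F.el_powU hc i).1 dt, (F.el_powU hc i).2])⟩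
  · obtain ⟨dt, hD⟩ := F.el_diag hc ht
    have dJ := Model.det_const.2.2.2.2.2.1
    have d1 := F.el_det hc (F.el_powU hc l).1 dt
    exact ⟨_, hD, i, Or.inr ⟨l, by
      rw [h', F.el_mul hc (F.el_powU hc i).1 (F.el_det hc dJ d1), F.el_mul hc dJ d1,
        F.el_mul hc (F.el_powU hc l).1 dt, (F.el_powU hc i).2, (F.el_powU hc l).2]
      rfl⟩⟩

/-- The hypothesis refuted here. -/
theorem not_all_R_eq (hc : Counts G) :
    ¬ ∀ A B : Elem G, A.z = B.z → A.R = B.R := by
  intro hyp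
  obtain ⟨F⟩ := exists_elem hc
  set a := F.a with had
  set b := F.b with hbd
  set z := F.z with hzd
  set h := F.h with hhd
  set u := F.u with hud
  set r := F.r with hrd
  have hzz : z * z = 1 := sq_of_orderOf F.orderOf_z
  have hou : orderOf u = 2 := F.orderOf_u hc
  have huu : u * u = 1 := sq_of_orderOf hou
  have huH : u ∈ F.H := (F.acts_u hc).1
  have hrH : r ∈ F.H := (F.acts_r hc).1
  have hhH : h ∈ F.H := (F.acts_h hc).1
  have fzu : Fix z u := F.fix_z_of_mem_H huH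
  have fzh : Fix z h := F.fix_z_of_mem_H hhH
  have fha : Fix h a := F.h_a hc
  have hh3 : h ^ 3 = 1 := F.h_cube hc
  have hhE := F.h_notMem_zpowers hc
  have iuh : Inv u h := F.u_h hc
  set w := u * z with hwd
  have fwu : Fix w u := (fix_self u).mul_left fzu
  have fwz : Fix w z := fzu.symm.mul_left (fix_self z)
  have hwuz : w * u = z := by
    calc w * u = u * (z * u) := by rw [hwd]; group
      _ = u * u * z := by rw [fzu.comm]; group
      _ = z := by rw [huu, one_mul]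
  have hww : w * w = 1 := by
    calc w * w = w * u * z := by rw [hwd]; group
      _ = 1 := by rw [hwuz, hzz]
  have iwa : Inv w a := (F.u_a hc).mul_left_inv F.inv_a
  have fwb : Fix w b := (F.u_b hc).mul_left_inv F.inv_b
  have iwh : Inv w h := iuh.mul_left_fix fzh
  -- the datum at `a`
  obtain ⟨Da⟩ := F.xData_a hc
  let A : Elem G := Da.toElem hc hou (F.u_a hc) hzz fzu F.inv_a (F.h_mem_P hc Da) hhE iuh fzh
  have hAz : A.z = w := rfl
  have hAa : A.a = a := rfl
  have hAb : A.b = h := rfl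
  have hhT : h ∈ A.E := A.b_mem
  have haT : a ∈ A.E := A.a_mem
  have huA : A.Acts u Model.mR := by
    refine ⟨⟨A.mem_N_of_conj ?_ ?_, mem_centralizer_of_fix (hAz ▸ fwu.symm)⟩, ?_, ?_⟩
    · rw [hAa, show u * a * u⁻¹ = a from F.u_a hc]; exact haT
    · rw [hAb, show u * h * u⁻¹ = h⁻¹ from iuh]; exact inv_mem hhT
    · rw [hAa, show u * a * u⁻¹ = a from F.u_a hc]; simp [vec, Model.mR, hAa]
    · rw [hAb, show u * h * u⁻¹ = h⁻¹ from iuh, cube_inv hh3]; simp [vec, Model.mR, hAb]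
  have hba : Fix b a := fix_iff.mpr F.comm.symm
  have hbh : b * h * b⁻¹ = a⁻¹ * h := by
    have e : h * b * h⁻¹ = a * b := F.h_b hc
    calc b * h * b⁻¹ = a⁻¹ * (a * b) * h * b⁻¹ := by group
      _ = a⁻¹ * (h * b * h⁻¹) * h * b⁻¹ := by rw [e]
      _ = a⁻¹ * h := by group
  have hbA : A.Acts b (Model.powU 2) := by
    refine ⟨⟨A.mem_N_of_conj ?_ ?_, mem_centralizer_of_fix (hAz ▸ fwb.symm)⟩, ?_, ?_⟩
    · rw [hAa, show b * a * b⁻¹ = a from hba]; exact haT
    · rw [hAb, hbh]; exact mul_mem (inv_mem haT) hhT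
    · rw [hAa, show b * a * b⁻¹ = a from hba]
      simp [vec, Model.powU, Model.mul, Model.act, Model.mU, hAa]
    · rw [hAb, hbh, cube_inv F.cube_a]
      simp [vec, Model.powU, Model.mul, Model.act, Model.mU, hAa, hAb, ← had]
  set n := A.r with hnd
  have hnA : n ∈ A.H := (A.acts_r hc).1
  have hna : n * a * n⁻¹ = h := A.r_a hc
  have hnh : n * h * n⁻¹ = a⁻¹ := A.r_b hc
  have hAu : A.u = u := A.el_eq hc huA
  have hnw : Fix n w := hAz ▸ (A.fix_z_of_mem_H hnA).symm
  have hnn : n * n = w := by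
    rw [hnd, Elem.r, ← A.el_mul hc Model.det_const.2.2.2.2.2.1 Model.det_const.2.2.2.2.2.1,
      Model.consts.2.2.2.2.1, A.el_negI hc, hAz]
  have hnu : n * u * n⁻¹ = z := by
    rw [← hAu, hnd, Elem.r, Elem.u,
      A.el_conj hc Model.det_const.2.2.2.2.2.1 Model.det_const.2.2.2.1 Model.det_const.2.2.2.2.1
        Model.consts.2.2.2.1, A.el_mR' hc, hAu, hAz, hwd, ← mul_assoc, huu, one_mul]
  have hnz : n * z * n⁻¹ = u := by
    have e : z = u * w := by rw [hwd, ← mul_assoc, huu, one_mul]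
    calc n * z * n⁻¹ = (n * u * n⁻¹) * (n * w * n⁻¹) := by rw [e]; group
      _ = z * w := by rw [hnu, show n * w * n⁻¹ = w from hnw]
      _ = z * u * z := by rw [hwd]; group
      _ = u * (z * z) := by rw [fzu.comm]; group
      _ = u := by rw [hzz, mul_one]
  -- the element `d`
  set d := n * b * n⁻¹ with hdd
  have hdA : d ∈ A.H := mul_mem (mul_mem hnA hbA.1) (inv_mem hnA)
  have fdh : Fix d h := by have := hba.map n; rwa [hna] at this
  have izd : Inv z d := by have := (F.u_b hc).map n; rwa [hnu] at this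
  have iud : Inv u d := by have := F.inv_b.map n; rwa [hnz] at this
  have fwd : Fix w d := by
    have := fwb.map n
    rwa [show n * w * n⁻¹ = w from hnw] at this
  have hb1 : b ≠ 1 := fun e => F.b_notMem (by rw [← hbd, e]; exact one_mem _)
  have hd3 : d ^ 3 = 1 := by rw [hdd, conj_pow, F.cube_b]; simp
  have hd1 : d ≠ 1 := by rw [hdd, Ne, conj_eq_one_iff]; exact hb1
  have hdord : orderOf d = 3 := orderOf_three hd3 hd1
  have hdc : cC d = 54 := by rw [hdd, cC_conj]; exact (F.three b F.b_mem hb1).2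
  -- the datum at `d`
  obtain ⟨Dd⟩ := exists_xData hc hdord hdc
  have how : orderOf w = 2 := A.orderOf_z
  obtain ⟨g, hg, hgd, iwg, fug⟩ := Dd.exists_fixed hc how fwd huu fwu.symm iud
  let B : Elem G := Dd.toElem hc how fwd huu fwu.symm iud hg hgd iwg fug
  have hBz : B.z = F.z := hwuz
  -- conjugation by `r`
  have hru : r * u * r⁻¹ = w := by
    rw [hrd, Elem.r, hud, Elem.u,
      F.el_conj hc Model.det_const.2.2.2.2.2.1 Model.det_const.2.2.2.1 Model.det_const.2.2.2.2.1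
        Model.consts.2.2.2.1, F.el_mR' hc]
  have hrz : r * z * r⁻¹ = z := (F.fix_z_of_mem_H hrH).symm
  have hrw : r * w * r⁻¹ = u := by
    calc r * w * r⁻¹ = (r * u * r⁻¹) * (r * z * r⁻¹) := by rw [hwd]; group
      _ = u * (z * z) := by rw [hru, hrz, hwd]; group
      _ = u := by rw [hzz, mul_one]
  set f := r * d * r⁻¹ with hfd
  have fuf : Fix u f := by have := fwd.map r; rwa [hrw] at this
  have izf : Inv z f := by have := izd.map r; rwa [hrz] at this
  have hf3 : f ^ 3 = 1 := by rw [hfd, conj_pow, hd3]; simp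
  have hf1 : f ≠ 1 := by rw [hfd, Ne, conj_eq_one_iff]; exact hd1
  have hfB : f ∈ B.E := by
    have hrB : r ∈ B.H := B.R_le_H hc ((hyp B F hBz) ▸ F.r_mem hc)
    exact (Subgroup.mem_normalizer_iff.mp hrB.1 d).mp B.a_mem
  -- the datum at `hR`
  set hR := r * h * r⁻¹ with hRd
  have fzR : Fix z hR := by have := fzh.map r; rwa [hrz] at this
  have iwR : Inv w hR := by have := iuh.map r; rwa [hru] at this
  have iuR : Inv u hR := by have := iwh.map r; rwa [hrw] at this
  have hR3 : hR ^ 3 = 1 := by rw [hRd, conj_pow, hh3]; simp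
  have hR1 : hR ≠ 1 := by
    rw [hRd, Ne, conj_eq_one_iff]; exact ne_one_of_orderOf (F.orderOf_h hc) (by norm_num)
  obtain ⟨DR⟩ := exists_xData hc (orderOf_three hR3 hR1) (by rw [hRd, cC_conj]; exact F.cC_h hc)
  have ffR : Fix f hR := fdh.map r
  have hfP : f ∈ DR.P := DR.mem_P f ffR (by rw [show 27 = 3 * 9 from rfl, pow_mul, hf3, one_pow])
  have hfn : f ∉ zpowers hR := by
    intro e
    obtain ⟨i, -, hi⟩ := (zpowers_iff hR3).mp e
    exact hf1 (eq_one_of_inv_fix izf (hi ▸ fzR.pow i) hf3)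
  let C : Elem G := DR.toElem hc F.orderOf_z fzR huu fzu.symm iuR hfP hfn izf fuf
  have hCz : C.z = A.z := by
    show z * u = w
    rw [fzu.comm]
  have hnC : n ∈ C.H := C.R_le_H hc ((hyp C A hCz) ▸ A.r_mem hc)
  have hnR : ∀ x ∈ C.E, n * x * n⁻¹ ∈ C.E := fun x hx =>
    (Subgroup.mem_normalizer_iff.mp hnC.1 x).mp hx
  -- `n r n` and `r n r` agree on `E`
  set s := r * n * r with hsd
  have hsa : s * a * s⁻¹ = f := by
    calc s * a * s⁻¹ = r * (n * (r * a * r⁻¹) * n⁻¹) * r⁻¹ := by rw [hsd]; group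
      _ = f := by rw [show r * a * r⁻¹ = b from F.r_a hc, ← hdd, ← hfd]
  have hsb : s * b * s⁻¹ = hR⁻¹ := by
    calc s * b * s⁻¹ = r * (n * (r * b * r⁻¹) * n⁻¹) * r⁻¹ := by rw [hsd]; group
      _ = r * (n * a * n⁻¹)⁻¹ * r⁻¹ := by rw [show r * b * r⁻¹ = a⁻¹ from F.r_b hc]; group
      _ = hR⁻¹ := by rw [hna, hRd]; group
  have hmap : F.E.map (MulAut.conj s).toMonoidHom = C.E := by
    refine eq_of_le_card (map_le_iff_le_comap.mpr (pairGrp_le ?_ ?_)) ?_
    · simp only [mem_comap, MulEquiv.coe_toMonoidHom, MulAut.conj_apply]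
      rw [← had, hsa]; exact C.b_mem
    · simp only [mem_comap, MulEquiv.coe_toMonoidHom, MulAut.conj_apply]
      rw [← hbd, hsb]; exact inv_mem C.a_mem
    · rw [Subgroup.card_map_of_injective (MulAut.conj s).injective, F.card_E, C.card_E]
  set k := s⁻¹ * (n * r * n) with hkd
  have hkN : k ∈ F.N := by
    have key : ∀ x ∈ F.E, (n * r * n) * x * (n * r * n)⁻¹ ∈ C.E → k * x * k⁻¹ ∈ F.E := by
      intro x _ hx
      rw [← hmap] at hx
      obtain ⟨y, hy, hy'⟩ := Subgroup.mem_map.mp hx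
      have hy2 : s * y * s⁻¹ = (n * r * n) * x * (n * r * n)⁻¹ := hy'
      have e : k * x * k⁻¹ = y := by
        calc k * x * k⁻¹ = s⁻¹ * ((n * r * n) * x * (n * r * n)⁻¹) * s := by rw [hkd]; group
          _ = y := by rw [← hy2]; group
      rw [e]; exact hy
    refine F.mem_N_of_conj (key a F.a_mem ?_) (key b F.b_mem ?_)
    · rw [show (n * r * n) * a * (n * r * n)⁻¹ = n * (r * (n * a * n⁻¹) * r⁻¹) * n⁻¹ by group, hna,
        ← hRd]
      exact hnR _ C.a_mem
    · rw [show (n * r * n) * b * (n * r * n)⁻¹ = n * (r * (n * b * n⁻¹) * r⁻¹) * n⁻¹ by group,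
        ← hdd, ← hfd]
      exact hnR _ C.b_mem
  have hnrn : n * r * n = r * n * (r * k) := by rw [hkd, hsd]; group
  -- what `n` moves inside `N`
  have hrN : r ∈ F.N := hrH.1
  have huN : u ∈ F.N := huH.1
  have hzN : z ∈ F.N := F.z_mem_H.1
  have hwN : w ∈ F.N := mul_mem huN hzN
  have hTN : A.E ≤ F.N := pairGrp_le (le_normalizer F.a_mem) hhH.1
  have hnT : ∀ x ∈ A.E, n * x * n⁻¹ ∈ F.N ∧ n⁻¹ * x * n ∈ F.N := fun x hx =>
    ⟨hTN ((Subgroup.mem_normalizer_iff.mp hnA.1 x).mp hx), hTN (by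
      have := (Subgroup.mem_normalizer_iff.mp (inv_mem hnA.1) x).mp hx
      rwa [inv_inv] at this)⟩
  have hnD : ∀ D, F.InD D → D ∈ F.N ∧ n * D * n⁻¹ ∈ F.N ∧ n⁻¹ * D * n ∈ F.N := by
    intro D hD
    have e1 : n⁻¹ * u * n = z := by rw [← hnz]; group
    have e2 : n⁻¹ * z * n = u := by rw [← hnu]; group
    rcases hD with rfl | rfl | rfl | rfl
    · simp
    · exact ⟨huN, hnu ▸ hzN, e1 ▸ hzN⟩
    · exact ⟨hzN, hnz ▸ huN, e2 ▸ huN⟩
    · rw [← hud, ← hzd]
      refine ⟨hwN, ?_, ?_⟩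
      · rw [show n * (u * z) * n⁻¹ = (n * u * n⁻¹) * (n * z * n⁻¹) by group, hnu, hnz]
        exact mul_mem hzN huN
      · rw [show n⁻¹ * (u * z) * n = (n⁻¹ * u * n) * (n⁻¹ * z * n) by group, e1, e2]
        exact mul_mem hzN huN
  -- normal forms in `N`
  have hbT : ∀ (q : ℕ), ∀ x ∈ A.E, b ^ q * x * (b ^ q)⁻¹ ∈ A.E := fun q x hx =>
    (Subgroup.mem_normalizer_iff.mp (pow_mem hbA.1.1 q) x).mp hx
  have forms : ∀ y ∈ F.N, ∃ D, F.InD D ∧
      ((∃ x ∈ A.E, ∃ q : ℕ, y = x * b ^ q * D) ∨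
        ∃ x ∈ A.E, ∃ x' ∈ A.E, y = x * r * x' * D) := by
    intro y hy
    obtain ⟨e, he, k', hk', rfl⟩ := F.exists_E_mul_H hc hy
    obtain ⟨p, -, q, -, rfl⟩ := (mem_pairGrp_iff F.comm F.cube_a F.cube_b).mp he
    obtain ⟨D, hD, i, hcase⟩ := F.H_forms hc hk'
    set x := a ^ p * (b ^ q * h ^ i * (b ^ q)⁻¹) with hx
    have hxm : x ∈ A.E := mul_mem (pow_mem haT p) (hbT q _ (pow_mem hhT i))
    refine ⟨D, hD, ?_⟩
    rcases hcase with rfl | ⟨l, rfl⟩
    · exact Or.inl ⟨x, hxm, q, by rw [hx, ← had, ← hbd, ← hhd]; group⟩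
    · refine Or.inr ⟨x, hxm, a ^ q * h ^ l, mul_mem (pow_mem haT q) (pow_mem hhT l), ?_⟩
      have e : b ^ q = r * a ^ q * r⁻¹ := by rw [← conj_pow, hrd, had, F.r_a hc]
      calc a ^ p * b ^ q * (h ^ i * (r * (h ^ l * D)))
          = x * b ^ q * r * (h ^ l * D) := by rw [hx]; group
        _ = x * (r * a ^ q * r⁻¹) * r * (h ^ l * D) := by rw [e]
        _ = x * r * (a ^ q * h ^ l) * D := by group
  -- the set `N ∪ N n N`
  let P : G → Prop := fun g => g ∈ F.N ∨ ∃ p ∈ F.N, ∃ q ∈ F.N, g = p * n * q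
  have hPl : ∀ {p g : G}, p ∈ F.N → P g → P (p * g) := by
    rintro p g hp (hg' | ⟨p', hp', q, hq, rfl⟩)
    · exact Or.inl (mul_mem hp hg')
    · exact Or.inr ⟨p * p', mul_mem hp hp', q, hq, by group⟩
  have hPr : ∀ {g q : G}, P g → q ∈ F.N → P (g * q) := by
    rintro g q (hg' | ⟨p', hp', q', hq', rfl⟩) hq
    · exact Or.inl (mul_mem hg' hq)
    · exact Or.inr ⟨p', hp', q' * q, mul_mem hq' hq, by group⟩
  have hbN : b ∈ F.N := le_normalizer F.b_mem
  have hApow : ∀ i : Fin 3, Model.det (Model.powU i) ≠ 0 ∧ A.el (Model.powU i) ∈ F.N := by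
    intro i
    refine ⟨(A.el_powU hc i).1, ?_⟩
    rw [(A.el_powU hc i).2]
    refine pow_mem ?_ _
    have e2 : A.h * A.h = b := by
      have e' := (A.el_powU hc 2).2
      rw [A.el_eq hc hbA] at e'
      rw [← pow_two]; exact e'.symm
    have e : A.h = b * b := by
      rw [← e2]
      calc A.h = A.h ^ 3 * A.h := by rw [A.h_cube hc, one_mul]
        _ = A.h * A.h * (A.h * A.h) := by rw [pow_succ, pow_two]; group
    rw [e]
    exact mul_mem hbN hbN
  have hAP : ∀ g ∈ A.H, P g := by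
    intro g hg'
    obtain ⟨D, hD, i, hcase⟩ := A.H_forms hc hg'
    have hDN : D ∈ F.N := by
      rcases hD with e | e | e | e <;> rw [e]
      · exact one_mem _
      · exact hAu ▸ huN
      · exact hAz ▸ hwN
      · exact mul_mem (hAu ▸ huN) (hAz ▸ hwN)
    have hhN : A.h ∈ F.N := by
      have := (hApow 1).2
      rwa [(A.el_powU hc 1).2, show ((1 : Fin 3) : ℕ) = 1 from rfl, pow_one] at this
    rcases hcase with rfl | ⟨l, rfl⟩
    · exact Or.inl (mul_mem (pow_mem hhN i) hDN)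
    · exact Or.inr ⟨_, pow_mem hhN i, _, mul_mem (pow_mem hhN l) hDN,
        by rw [hnd]; group⟩
  have hnPn : ∀ y ∈ F.N, P (n * y * n) := by
    intro y hy
    obtain ⟨D, hD, hcase⟩ := forms y hy
    rcases hcase with ⟨x, hx, q, rfl⟩ | ⟨x, hx, x', hx', rfl⟩
    · have e : n * (x * b ^ q * D) * n =
          (n * x * n⁻¹) * d ^ q * ((n * D * n⁻¹) * (n * n)) := by
        rw [hdd, conj_pow]; group
      rw [e, hnn]
      exact hPr (hPl (hnT x hx).1 (hAP _ (pow_mem hdA q))) (mul_mem (hnD D hD).2.1 hwN)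
    · have e : n * (x * r * x' * D) * n =
          (n * x * n⁻¹) * (n * r * n) * ((n⁻¹ * x' * n) * (n⁻¹ * D * n)) := by group
      rw [e, hnrn]
      refine Or.inr ⟨(n * x * n⁻¹) * r, mul_mem (hnT x hx).1 hrN,
        (r * k) * ((n⁻¹ * x' * n) * (n⁻¹ * D * n)), ?_, by group⟩
      exact mul_mem (mul_mem hrN hkN) (mul_mem (hnT x' hx').2 (hnD D hD).2.2)
  have hninv : n⁻¹ = n * w := inv_eq_of_mul_eq_one_right (by rw [← mul_assoc, hnn, hww])
  let L : Subgroup G :=
    { carrier := {g | P g}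
      one_mem' := Or.inl (one_mem _)
      mul_mem' := by
        rintro g g' (hg' | ⟨p, hp, q, hq, rfl⟩) hg''
        · exact hPl hg' hg''
        · rcases hg'' with hg'' | ⟨p', hp', q', hq', rfl⟩
          · exact Or.inr ⟨p, hp, q * g', mul_mem hq hg'', by group⟩
          · show P (p * n * q * (p' * n * q'))
            rw [show p * n * q * (p' * n * q') = p * (n * (q * p') * n) * q' by group]
            exact hPr (hPl hp (hnPn _ (mul_mem hq hp'))) hq'
      inv_mem' := by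
        rintro g (hg' | ⟨p, hp, q, hq, rfl⟩)
        · exact Or.inl (inv_mem hg')
        · exact Or.inr ⟨q⁻¹, inv_mem hq, w * p⁻¹, mul_mem hwN (inv_mem hp),
            by rw [mul_inv_rev, mul_inv_rev, hninv]; group⟩ }
  have hNL : F.N ≤ L := fun g hg' => Or.inl hg'
  have hnL : n ∈ L := Or.inr ⟨1, one_mem _, 1, one_mem _, by group⟩
  have hbL : b ∈ L := hNL hbN
  have hhL : h ∈ L := hNL hhH.1
  have hrL : r ∈ L := hNL hrN
  -- no new elements of `E` in `N ∩ n N n⁻¹`
  have hdN : d ∉ F.N := by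
    intro hd'
    obtain ⟨e, he, k', hk', hek⟩ := F.exists_E_mul_H hc hd'
    have hcl : ∀ x ∈ F.E, k' * x * k'⁻¹ ∈ F.E := fun x hx =>
      (Subgroup.mem_normalizer_iff.mp hk'.1 x).mp hx
    have hcl' : ∀ x ∈ F.E, k'⁻¹ * x * k' ∈ F.E := fun x hx => by
      have := (Subgroup.mem_normalizer_iff.mp (inv_mem hk'.1) x).mp hx
      rwa [inv_inv] at this
    have hi : e⁻¹ * k' = k'⁻¹ * e⁻¹ := by
      calc e⁻¹ * k' = (z * e * z⁻¹) * (z * k' * z⁻¹) := by
            rw [show z * e * z⁻¹ = e⁻¹ from F.inv_z he,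
              show z * k' * z⁻¹ = k' from F.fix_z_of_mem_H hk']
        _ = z * d * z⁻¹ := by rw [hek]; group
        _ = k'⁻¹ * e⁻¹ := by rw [show z * d * z⁻¹ = d⁻¹ from izd, hek, mul_inv_rev]
    have hkk : k' * k' = 1 := by
      refine F.eq_one_of_fix ?_ (F.fix_z_of_mem_H (mul_mem hk' hk'))
      have e1 : k' * k' = e * (k'⁻¹ * e⁻¹ * k') := by rw [← hi]; group
      rw [e1]
      exact mul_mem he (hcl' _ (inv_mem he))
    have hkE : k' ∈ F.E := by
      have e1 : e * (k' * e * k'⁻¹) * (k' * k' * e * (k' * k')⁻¹) * (k' * k') * k' = 1 := by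
        rw [← hd3, hek, pow_succ, pow_two]; group
      rw [hkk, mul_one] at e1
      have e2 := eq_inv_of_mul_eq_one_right e1
      rw [e2]
      exact inv_mem (mul_mem (mul_mem he (hcl e he)) (by simpa using he))
    have hdE : d ∈ F.E := hek ▸ mul_mem he hkE
    obtain ⟨p, -, q, -, hpq⟩ := (mem_pairGrp_iff F.comm F.cube_a F.cube_b).mp hdE
    have h1 : h * d * h⁻¹ = d := fdh.symm
    have h2 : h * d * h⁻¹ = a ^ (p + q) * b ^ q := by
      have e1 : h * b * h⁻¹ = a * b := F.h_b hc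
      rw [hpq, ← conj_mul, ← had, ← hbd, show h * a ^ p * h⁻¹ = a ^ p from fha.pow p, ← conj_pow,
        e1, (show Commute a b from F.comm).mul_pow, ← mul_assoc, pow_add]
    rw [h2] at h1
    have h3 := pow_mul_pow_inj F.cube_a F.a_ne F.cube_b F.b_notMem (h1.trans hpq)
    have hq0 : q % 3 = 0 := by omega
    rw [pow_mod_three F.cube_b q, hq0, pow_zero, mul_one] at hpq
    exact hd1 (eq_one_of_inv_fix iud (hpq ▸ (F.u_a hc).pow p) hd3)
  have hE : ∀ e ∈ F.E, n⁻¹ * e * n ∈ F.N → e ∈ zpowers a := by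
    intro e he hen
    obtain ⟨p, -, q, -, rfl⟩ := (mem_pairGrp_iff F.comm F.cube_a F.cube_b).mp he
    rw [← had, ← hbd] at hen ⊢
    have hq : d ^ q ∈ F.N := by
      have e1 : n⁻¹ * b ^ q * n ∈ F.N := by
        have := mul_mem (inv_mem (hnT _ (pow_mem haT p)).2) hen
        rwa [show (n⁻¹ * a ^ p * n)⁻¹ * (n⁻¹ * (a ^ p * b ^ q) * n) = n⁻¹ * b ^ q * n by group]
          at this
      have e2 : d ^ q = w * (n⁻¹ * b ^ q * n) * w⁻¹ := by
        rw [hdd, conj_pow, ← hnn]
        have e3 : n * n * b ^ q = b ^ q * (n * n) := by rw [hnn]; exact (fwb.pow q).comm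
        calc n * b ^ q * n⁻¹ = n * (b ^ q * (n * n)) * (n * n)⁻¹ * n⁻¹ := by group
          _ = n * (n * n * b ^ q) * (n * n)⁻¹ * n⁻¹ := by rw [e3]
          _ = n * n * (n * b ^ q * n⁻¹) * (n * n)⁻¹ := by group
          _ = n * n * (n⁻¹ * (n * n * b ^ q) * n⁻¹) * (n * n)⁻¹ := by group
          _ = n * n * (n⁻¹ * (b ^ q * (n * n)) * n⁻¹) * (n * n)⁻¹ := by rw [e3]
          _ = _ := by group
      rw [e2]
      exact mul_mem (mul_mem hwN e1) (inv_mem hwN)
    have hq0 : q % 3 = 0 := by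
      by_contra hq0
      have : q % 3 = 1 ∨ q % 3 = 2 := by omega
      rw [pow_mod_three hd3] at hq
      rcases this with e | e <;> rw [e] at hq
      · exact hdN (by simpa using hq)
      · rw [← cube_inv hd3] at hq
        exact hdN (inv_mem_iff.mp hq)
    rw [pow_mod_three F.cube_b q, hq0, pow_zero, mul_one]
    exact pow_mem (mem_zpowers a) p
  -- coset representatives
  let x : Fin 3 ⊕ (Fin 3 × Fin 3) → G :=
    Sum.elim (fun q => b ^ q.val) (fun ij => h ^ ij.1.val * r * b ^ ij.2.val)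
  have hxN : ∀ t, x t ∈ F.N := by
    rintro (q | ⟨i, j⟩)
    · exact pow_mem hbN _
    · exact mul_mem (mul_mem (pow_mem hhH.1 _) hrN) (pow_mem hbN _)
  have hsame : ∀ t t', n⁻¹ * ((x t)⁻¹ * x t') * n ∈ F.N → t = t' := by
    intro t t' htt
    have hmem : (x t)⁻¹ * x t' ∈ F.N := mul_mem (inv_mem (hxN t)) (hxN t')
    have hline : ∃ m : ℕ, x t' * a * (x t')⁻¹ = (x t * a * (x t)⁻¹) ^ m := by
      set y := (x t)⁻¹ * x t' with hy
      have h1 : y * a * y⁻¹ ∈ F.E := (Subgroup.mem_normalizer_iff.mp hmem a).mp F.a_mem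
      have h2 : n⁻¹ * (y * a * y⁻¹) * n ∈ F.N := by
        rw [show n⁻¹ * (y * a * y⁻¹) * n =
          (n⁻¹ * y * n) * (n⁻¹ * a * n) * (n⁻¹ * y * n)⁻¹ by group]
        exact mul_mem (mul_mem htt (hnT a haT).2) (inv_mem htt)
      obtain ⟨m, -, hm⟩ := (zpowers_iff F.cube_a).mp (hE _ h1 h2)
      refine ⟨m, ?_⟩
      rw [conj_pow, ← had] at *
      rw [← hm, hy]; group
    obtain ⟨m, hm⟩ := hline
    have himg : ∀ i : ℕ, ∀ j : ℕ, h ^ i * r * b ^ j * a * (h ^ i * r * b ^ j)⁻¹ = a ^ i * b := by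
      intro i j
      have hbaj : b ^ j * a * (b ^ j)⁻¹ = a := (hba.symm.pow j).symm
      calc h ^ i * r * b ^ j * a * (h ^ i * r * b ^ j)⁻¹
          = h ^ i * (r * (b ^ j * a * (b ^ j)⁻¹) * r⁻¹) * (h ^ i)⁻¹ := by group
        _ = h ^ i * b * (h ^ i)⁻¹ := by rw [hbaj, show r * a * r⁻¹ = b from F.r_a hc]
        _ = a ^ i * b := by
            clear hm
            induction i with
            | zero => simp
            | succ i ih =>
              have e1 : h * b * h⁻¹ = a * b := F.h_b hc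
              calc h ^ (i + 1) * b * (h ^ (i + 1))⁻¹
                  = h * (h ^ i * b * (h ^ i)⁻¹) * h⁻¹ := by rw [pow_succ']; group
                _ = h * a ^ i * h⁻¹ * (h * b * h⁻¹) := by rw [ih]; group
                _ = a ^ (i + 1) * b := by
                    rw [show h * a ^ i * h⁻¹ = a ^ i from fha.pow i, e1, ← mul_assoc, ← pow_succ]
    have hbq : ∀ q : ℕ, b ^ q * a * (b ^ q)⁻¹ = a := fun q => (hba.symm.pow q).symm
    have hnob : ∀ i m : ℕ, a ^ i * b ≠ a ^ m := fun i m e => by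
      have := pow_mul_pow_inj F.cube_a F.a_ne F.cube_b F.b_notMem (i := i) (j := 1) (i' := m)
        (j' := 0) (by simpa using e)
      omega
    have hbeq : ∀ q q' : ℕ, q < 3 → q' < 3 → n⁻¹ * ((b ^ q)⁻¹ * b ^ q') * n ∈ F.N → q = q' := by
      intro q q' hq hq' hmem'
      obtain ⟨i, -, hi⟩ := (zpowers_iff F.cube_a).mp
        (hE _ (mul_mem (inv_mem (pow_mem F.b_mem q)) (pow_mem F.b_mem q')) hmem')
      rw [inv_mul_eq_iff_eq_mul, ← had] at hi
      have hi' : b ^ q' = a ^ i * b ^ q := by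
        rw [hi, (Commute.pow_pow (show Commute a b from F.comm) i q).eq]
      have := pow_mul_pow_inj F.cube_a F.a_ne F.cube_b F.b_notMem (i := 0) (j := q') (i' := i)
        (j' := q) (by simpa using hi')
      omega
    rcases t with q | ⟨i, j⟩ <;> rcases t' with q' | ⟨i', j'⟩ <;>
      simp only [x, Sum.elim_inl, Sum.elim_inr] at hm htt
    · exact congrArg Sum.inl (Fin.ext (hbeq _ _ q.isLt q'.isLt htt))
    · rw [himg, hbq] at hm
      exact absurd hm (hnob _ _)
    · rw [himg, hbq, (Commute.pow_left (show Commute a b from F.comm) i.val).mul_pow, ← pow_mul]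
        at hm
      have h4 := pow_mul_pow_inj F.cube_a F.a_ne F.cube_b F.b_notMem (i := 1) (j := 0)
        (i' := i.val * m) (j' := m) (by simpa using hm)
      have : m % 3 = 0 := by omega
      have : i.val * m % 3 = 0 := by rw [Nat.mul_mod, this]; simp
      omega
    · rw [himg, himg, (Commute.pow_left (show Commute a b from F.comm) i.val).mul_pow, ← pow_mul]
        at hm
      have h4 := pow_mul_pow_inj F.cube_a F.a_ne F.cube_b F.b_notMem (i := i'.val) (j := 1)
        (i' := i.val * m) (j' := m) (by simpa using hm)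
      have hm1 : m % 3 = 1 := by omega
      have hii : i = i' := by
        refine Fin.ext ?_
        have h5 := h4.1
        rw [Nat.mul_mod, hm1, mul_one, Nat.mod_mod, Nat.mod_eq_of_lt i.isLt,
          Nat.mod_eq_of_lt i'.isLt] at h5
        exact h5.symm
      subst hii
      refine congrArg Sum.inr (Prod.ext rfl (Fin.ext (hbeq _ _ j.isLt j'.isLt ?_)))
      rwa [show (h ^ i.val * r * b ^ j.val)⁻¹ * (h ^ i.val * r * b ^ j'.val) =
        (b ^ j.val)⁻¹ * b ^ j'.val by group] at htt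
  let φ : Option (Fin 3 ⊕ (Fin 3 × Fin 3)) → L ⧸ F.N.subgroupOf L := fun o =>
    o.elim (QuotientGroup.mk 1)
      (fun t => QuotientGroup.mk ⟨x t * n, mul_mem (hNL (hxN t)) hnL⟩)
  have hnN : n ∉ F.N := fun hn => F.h_notMem_E hc (by
    have := (Subgroup.mem_normalizer_iff.mp hn a).mp F.a_mem
    rwa [hna] at this)
  have hφ : Function.Bijective φ := by
    constructor
    · intro o o' ho
      have hN' : ∀ p q : L, (QuotientGroup.mk p : L ⧸ F.N.subgroupOf L) = QuotientGroup.mk q →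
          (p : G)⁻¹ * q ∈ F.N := fun p q e => (QuotientGroup.eq (s := F.N.subgroupOf L)).mp e
      rcases o with _ | t <;> rcases o' with _ | t'
      · rfl
      · exfalso
        refine hnN ((F.N.mul_mem_cancel_left (hxN t')).mp ?_)
        simpa using hN' _ _ ho
      · exfalso
        refine hnN ((F.N.mul_mem_cancel_left (hxN t)).mp ?_)
        simpa using hN' _ _ ho.symm
      · refine congrArg some (hsame t t' ?_)
        have := hN' _ _ ho
        simpa [mul_assoc] using this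
    · intro c
      induction c using QuotientGroup.induction_on with
      | _ g =>
        obtain ⟨g, hgL⟩ := g
        rcases hgL with hg' | ⟨p, hp, q, hq, rfl⟩
        · refine ⟨none, QuotientGroup.eq.mpr ?_⟩
          show ((1 : L) : G)⁻¹ * g ∈ F.N
          simpa using hg'
        · suffices ∃ t, ∃ c' : G, n⁻¹ * c' * n ∈ F.N ∧ p = x t * c' by
            obtain ⟨t, c', hc', rfl⟩ := this
            refine ⟨some t, QuotientGroup.eq.mpr ?_⟩
            show (x t * n)⁻¹ * (x t * c' * n * q) ∈ F.N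
            rw [show (x t * n)⁻¹ * (x t * c' * n * q) = (n⁻¹ * c' * n) * q by group]
            exact mul_mem hc' hq
          obtain ⟨D, hD, hcase⟩ := forms p hp
          rcases hcase with ⟨y, hy, m, rfl⟩ | ⟨y, hy, y', hy', rfl⟩
          · refine ⟨Sum.inl ⟨m % 3, Nat.mod_lt _ (by norm_num)⟩, (b ^ m)⁻¹ * y * b ^ m * D, ?_, ?_⟩
            · rw [show n⁻¹ * ((b ^ m)⁻¹ * y * b ^ m * D) * n =
                (n⁻¹ * ((b ^ m)⁻¹ * y * b ^ m) * n) * (n⁻¹ * D * n) by group]
              refine mul_mem (hnT _ ?_).2 (hnD D hD).2.2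
              simpa using (Subgroup.mem_normalizer_iff.mp (inv_mem (pow_mem hbA.1.1 m)) y).mp hy
            · show y * b ^ m * D = b ^ (m % 3) * ((b ^ m)⁻¹ * y * b ^ m * D)
              rw [← pow_mod_three (show b ^ 3 = 1 from F.cube_b)]; group
          · obtain ⟨p', -, i, hi, rfl⟩ :=
              (mem_pairGrp_iff (show A.a * A.b = A.b * A.a from A.comm) A.cube_a A.cube_b).mp hy
            refine ⟨Sum.inr (⟨i, hi⟩, ⟨2 * p' % 3, Nat.mod_lt _ (by norm_num)⟩), y' * D, ?_, ?_⟩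
            · rw [show n⁻¹ * (y' * D) * n = (n⁻¹ * y' * n) * (n⁻¹ * D * n) by group]
              exact mul_mem (hnT _ hy').2 (hnD D hD).2.2
            · show A.a ^ p' * A.b ^ i * r * y' * D = h ^ i * r * b ^ (2 * p' % 3) * (y' * D)
              rw [← pow_mod_three (show b ^ 3 = 1 from F.cube_b), hAa, hAb]
              have e1 : r⁻¹ * a * r = b ^ 2 := by
                have e0 : r * b * r⁻¹ = a⁻¹ := F.r_b hc
                rw [← cube_inv (show b ^ 3 = 1 from F.cube_b), ← inv_inv a, ← e0]; group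
              have e2 : a ^ p' * r = r * b ^ (2 * p') := by
                rw [pow_mul, ← e1]
                have : (r⁻¹ * a * r) ^ p' = r⁻¹ * a ^ p' * r := by
                  simpa using conj_pow (i := p') (a := r⁻¹) (b := a)
                rw [this]; group
              have e3 := (Commute.pow_pow (show Commute h a from fha.comm) i p').eq
              calc a ^ p' * h ^ i * r * y' * D = h ^ i * (a ^ p' * r) * y' * D := by
                    rw [← e3]; group
                _ = h ^ i * r * b ^ (2 * p') * (y' * D) := by rw [e2]; group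
  have hcard := Nat.card_eq_of_bijective φ hφ
  rw [Nat.card_eq_fintype_card] at hcard
  have hmul := Subgroup.card_eq_card_quotient_mul_card_subgroup (F.N.subgroupOf L)
  rw [← hcard, Nat.card_congr (subgroupOfEquivOfLe hNL).toEquiv, F.card_N hc] at hmul
  have hdvd := L.card_subgroup_dvd_card
  rw [hmul, hc.card] at hdvd
  norm_num at hdvd

end Elem

end Cfsg.Agent.M12Uniq.Loc
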