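import Cfsg.Agent.M12Uniq.LocalBasic

/-!
# The centralizer of an element of order 3 with centralizer of order 54 (helper46)

Its Sylow 3-subgroup `P` is extraspecial of exponent 3; an involution `t` of the centralizer has
`⟨x⟩` as its fixed group on `P`; an involution `w` commuting with `t` and inverting `x` has, on
the elements of `P` inverted by `t`, exactly one fixed and one inverted line, and those generate
with `x` elementary abelian groups all whose non-trivial elements have centralizer order 54.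
-/

set_option autoImplicit false

open Subgroup

namespace Cfsg.Agent.M12Uniq.Loc

universe u

variable {G : Type u} [Group G]

/-- The Sylow 3-subgroup of the centralizer of an element with centralizer order 54. -/
structure XData (x : G) where
  P : Subgroup G
  orderOf_x : orderOf x = 3
  cC_x : cC x = 54
  card_P : Nat.card P = 27
  x_mem : x ∈ P
  fix : ∀ p ∈ P, Fix p x
  cube : ∀ p ∈ P, p ^ 3 = 1
  mem_P : ∀ g, Fix g x → g ^ 27 = 1 → g ∈ P
  normal : ∀ g, Fix g x → ∀ p ∈ P, g * p * g⁻¹ ∈ P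
  comm_mem : ∀ p ∈ P, ∀ q ∈ P, p * q * p⁻¹ * q⁻¹ ∈ zpowers x
  cent : ∀ a ∈ P, a ∉ zpowers x → ∀ q ∈ P, Fix q a → q ∈ pairGrp x a

theorem mul_comm_conj (p q : G) : p * q = p * q * p⁻¹ * q⁻¹ * q * p := by group

theorem exists_conj_of_cC [Finite G] (hc : Counts G) {x y : G} (hx : orderOf x = 3)
    (hy : orderOf y = 3) (h : cC x = cC y) : ∃ k, k * x * k⁻¹ = y :=
  isConj_iff.mp (hc.three_conj x y hx hy h)

theorem card_sylow_three [Finite G] (hc : Counts G) (Q : Sylow 3 G) :
    Nat.card ↥(Q : Subgroup G) = 27 :=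
  SmallGroups.card_sylow_eq (p := 3) (a := 3) (m := 3520) (by rw [hc.card]; norm_num) (by norm_num) Q

theorem cube_of_dvd [Finite G] (hc : Counts G) {g : G} (h : g ^ 27 = 1) : g ^ 3 = 1 := by
  have h1 := orderOf_dvd_of_pow_eq_one h
  have h2 := hc.no_order g
  have hmem : orderOf g ∈ Nat.divisors 27 := Nat.mem_divisors.mpr ⟨h1, by norm_num⟩
  have h3 : orderOf g = 1 ∨ orderOf g = 3 := by
    have : orderOf g ∈ Nat.divisors 27 ∩ {1, 2, 3, 4, 5, 6, 8, 10, 11} :=
      Finset.mem_inter.mpr ⟨hmem, h2⟩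
    have e : Nat.divisors 27 ∩ ({1, 2, 3, 4, 5, 6, 8, 10, 11} : Finset ℕ) = {1, 3} := by decide
    rw [e] at this
    simpa using this
  rcases h3 with h3 | h3
  · rw [orderOf_eq_one_iff.mp h3, one_pow]
  · exact cube_of_orderOf h3

theorem pow_card_eq_one {P : Subgroup G} {n : ℕ} (hP : Nat.card P = n) {g : G} (hg : g ∈ P) :
    g ^ n = 1 := by
  have h := pow_card_eq_one' (G := P) (x := ⟨g, hg⟩)
  rw [hP] at h
  simpa using congrArg Subtype.val h

theorem exists_xData [Finite G] (hc : Counts G) {x : G} (hx : orderOf x = 3) (hcx : cC x = 54) :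
    Nonempty (XData x) := by
  have h3 : Fact (Nat.Prime 3) := ⟨by norm_num⟩
  set C := centralizer ({x} : Set G) with hC
  have hCcard : Nat.card C = 3 ^ 3 * 2 := hcx
  obtain ⟨Q⟩ := (inferInstance : Nonempty (Sylow 3 C))
  have hQn : (Q : Subgroup C).Normal := by
    refine SmallGroups.normal_of_card_sylow_eq_one ?_ Q
    have := SmallGroups.card_sylow_mem_list hCcard (by norm_num)
    simpa [show (Nat.divisors 2).filter (fun d => d % 3 = 1) = {1} by decide] using this
  have hQc : Nat.card ↥(Q : Subgroup C) = 27 :=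
    SmallGroups.card_sylow_eq hCcard (by norm_num) Q
  have hmemQ : ∀ g : C, g ^ 27 = 1 → g ∈ (Q : Subgroup C) := by
    intro g hg
    have hp : IsPGroup 3 (zpowers g) := by
      obtain ⟨k, -, hk⟩ := (Nat.dvd_prime_pow h3.out).mp
        (show orderOf g ∣ 3 ^ 3 from orderOf_dvd_of_pow_eq_one hg)
      exact IsPGroup.of_card (n := k) (by rw [Nat.card_zpowers, hk])
    obtain ⟨R, hR⟩ := hp.exists_le_sylow
    have := (Sylow.unique_of_normal Q hQn).instSubsingleton
    rw [Subsingleton.elim R Q] at hR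
    exact hR (mem_zpowers g)
  set P := (Q : Subgroup C).map C.subtype with hP
  have hPc : Nat.card P = 27 := by
    rw [← hQc]
    exact Nat.card_congr ((Q : Subgroup C).equivMapOfInjective _ C.subtype_injective).symm.toEquiv
  have hPC : P ≤ C := map_subtype_le _
  have hfix : ∀ p ∈ P, Fix p x := fun p hp => fix_of_mem_centralizer (hPC hp)
  have hmem : ∀ g, Fix g x → g ^ 27 = 1 → g ∈ P := fun g hg hg27 =>
    ⟨⟨g, mem_centralizer_of_fix hg⟩, hmemQ _ (Subtype.ext (by simpa using hg27)), rfl⟩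
  have hcube : ∀ p ∈ P, p ^ 3 = 1 := fun p hp => cube_of_dvd hc (pow_card_eq_one hPc hp)
  have hx3 := cube_of_orderOf hx
  have hxmem : x ∈ P := hmem x (fix_self x) (by rw [show 27 = 3 * 9 from rfl, pow_mul, hx3, one_pow])
  have hnorm : ∀ g, Fix g x → ∀ p ∈ P, g * p * g⁻¹ ∈ P := fun g hg p hp =>
    hmem _ ((hg.mul_left (hfix p hp)).mul_left hg.inv_left)
      (by rw [conj_pow, pow_card_eq_one hPc hp]; simp)
  -- `P` is not abelian
  have hnab : ¬ ∀ p ∈ P, ∀ q ∈ P, p * q = q * p := by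
    intro hab
    obtain ⟨y, hy, hcy⟩ := hc.exists_y
    obtain ⟨R, hyR⟩ := SmallGroups.exists_mem_sylow hy
    let P' : Sylow 3 G := Sylow.ofCard P (by
      rw [hPc, hc.card, show 95040 = 3 ^ 3 * 3520 from rfl,
        Nat.factorization_mul (by norm_num) (by norm_num), Finsupp.add_apply,
        h3.out.factorization_pow, Nat.factorization_eq_zero_of_not_dvd (by norm_num)]
      simp)
    obtain ⟨g, hg⟩ := MulAction.exists_smul_eq G P' R
    have hsub : ∀ r ∈ (R : Subgroup G), ∃ p ∈ P, g * p * g⁻¹ = r := by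
      intro r hr
      rw [← hg, Sylow.coe_subgroup_smul] at hr
      obtain ⟨p, hp, rfl⟩ := Subgroup.mem_map.mp hr
      exact ⟨p, hp, by simp⟩
    have hle : (R : Subgroup G) ≤ centralizer ({y} : Set G) := by
      intro r hr
      obtain ⟨p, hp, rfl⟩ := hsub r hr
      obtain ⟨q, hq, hqy⟩ := hsub y hyR
      rw [mem_centralizer_singleton, ← hqy, conj_mul, conj_mul, hab p hp q hq]
    have := Subgroup.card_dvd_of_le hle
    rw [card_sylow_three hc R] at this
    change 27 ∣ cC y at this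
    rw [hcy] at this
    norm_num at this
  -- the centre of `P`
  have hxne : x ≠ 1 := ne_one_of_orderOf hx (by norm_num)
  have hcard_dvd : ∀ K : Subgroup G, K ≤ P → Nat.card K ∈ ({1, 3, 9, 27} : Finset ℕ) := by
    intro K hK
    have := hPc ▸ Subgroup.card_dvd_of_le hK
    rw [show ({1, 3, 9, 27} : Finset ℕ) = Nat.divisors 27 by decide]
    exact Nat.mem_divisors.mpr ⟨this, by norm_num⟩
  have hcent : ∀ a ∈ P, (∀ p ∈ P, p * a = a * p) → a ∈ zpowers x := by
    intro a ha hcen
    by_contra hna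
    apply hnab
    have hc0 : x * a = a * x := ((hfix a ha).comm).symm
    have ha3 := hcube a ha
    intro p hp q hq
    by_cases hpp : p ∈ pairGrp x a
    · obtain ⟨i, -, j, -, rfl⟩ := (mem_pairGrp_iff hc0 hx3 ha3).mp hpp
      exact ((Commute.pow_right (show Commute q x from (hfix q hq).comm) i).mul_right
        (Commute.pow_right (show Commute q a from hcen q hq) j)).symm
    · -- the centralizer of `p` in `P` contains more than nine elements
      set K := centralizer ({p} : Set G) ⊓ P with hK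
      have hle : pairGrp x a ≤ K := pairGrp_le
        ⟨mem_centralizer_singleton.mpr (hfix p hp).comm, hxmem⟩
        ⟨mem_centralizer_singleton.mpr (hcen p hp), ha⟩
      have hpK : p ∈ K := ⟨mem_centralizer_singleton.mpr rfl, hp⟩
      have h9 : 9 < Nat.card K := by
        by_contra hlt
        have := eq_of_le_card hle (by rw [card_pairGrp hc0 hx3 hxne ha3 hna]; omega)
        exact hpp (this ▸ hpK)
      have h27 : Nat.card K = 27 := by
        have := hcard_dvd K inf_le_right
        simp only [Finset.mem_insert, Finset.mem_singleton] at this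
        omega
      have hKP : K = P := eq_of_le_card inf_le_right (by omega)
      exact mem_centralizer_singleton.mp ((hKP ▸ hq : q ∈ K).1)
  -- commutators
  have hPg : IsPGroup 3 P := IsPGroup.of_card (n := 3) (by rw [hPc]; rfl)
  have hzc : Nat.card (Subgroup.center P) = 3 := by
    have e : Subgroup.center P = zpowers (⟨x, hxmem⟩ : P) := by
      refine le_antisymm ?_ (zpowers_le.mpr (Subgroup.mem_center_iff.mpr fun p =>
        Subtype.ext (hfix p p.2).comm))
      intro a ha
      obtain ⟨i, -, hi⟩ := (zpowers_iff hx3).mp (hcent a a.2 fun p hp =>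
        congrArg Subtype.val (Subgroup.mem_center_iff.mp ha ⟨p, hp⟩))
      exact mem_zpowers_iff.mpr ⟨i, Subtype.ext (by simpa using hi.symm)⟩
    rw [e, Nat.card_zpowers, Subgroup.orderOf_mk, hx]
  have hquot : Nat.card (P ⧸ Subgroup.center P) = 3 ^ 2 := by
    have := Subgroup.card_eq_card_quotient_mul_card_subgroup (Subgroup.center P)
    rw [hzc, hPc] at this
    omega
  have hcomm : ∀ p ∈ P, ∀ q ∈ P, p * q * p⁻¹ * q⁻¹ ∈ zpowers x := by
    intro p hp q hq
    refine hcent _ (mul_mem (mul_mem (mul_mem hp hq) (inv_mem hp)) (inv_mem hq)) ?_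
    have h : (⟨p, hp⟩ * ⟨q, hq⟩ * ⟨p, hp⟩⁻¹ * ⟨q, hq⟩⁻¹ : P) ∈ Subgroup.center P := by
      rw [← QuotientGroup.eq_one_iff]
      simp only [QuotientGroup.mk_mul, QuotientGroup.mk_inv]
      rw [IsPGroup.commutative_of_card_eq_prime_sq hquot (QuotientGroup.mk ⟨p, hp⟩)
        (QuotientGroup.mk ⟨q, hq⟩)]
      group
    intro r hr
    exact congrArg Subtype.val (Subgroup.mem_center_iff.mp h ⟨r, hr⟩)
  refine ⟨⟨P, hx, hcx, hPc, hxmem, hfix, hcube, hmem, hnorm, hcomm, ?_⟩⟩
  intro a ha hna q hq hqa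
  have hc0 : x * a = a * x := ((hfix a ha).comm).symm
  set K := centralizer ({a} : Set G) ⊓ P with hK
  have hle : pairGrp x a ≤ K := pairGrp_le
    ⟨mem_centralizer_singleton.mpr (hfix a ha).comm, hxmem⟩
    ⟨mem_centralizer_singleton.mpr rfl, ha⟩
  have hne : Nat.card K ≠ 27 := by
    intro h27
    have hKP : K = P := eq_of_le_card inf_le_right (by omega)
    exact hna (hcent a ha fun p hp =>
      (mem_centralizer_singleton.mp ((hKP ▸ hp : p ∈ K).1)).symm)
  have h9 : Nat.card K ≤ 9 := by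
    have := hcard_dvd K inf_le_right
    simp only [Finset.mem_insert, Finset.mem_singleton] at this
    omega
  rw [eq_of_le_card hle (by rw [card_pairGrp hc0 (cube_of_orderOf hx) hxne (hcube a ha) hna]; exact h9)]
  exact ⟨mem_centralizer_of_fix hqa, hq⟩

namespace XData

variable {x : G}

theorem cube_x (D : XData x) : x ^ 3 = 1 := cube_of_orderOf D.orderOf_x

theorem x_ne_one (D : XData x) : x ≠ 1 := ne_one_of_orderOf D.orderOf_x (by norm_num)

theorem zpowers_le_P (D : XData x) : zpowers x ≤ D.P := zpowers_le.mpr D.x_mem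

theorem comm_x (D : XData x) {a : G} (ha : a ∈ D.P) : x * a = a * x := (D.fix a ha).comm.symm

theorem conj_mem (D : XData x) {a b : G} (ha : a ∈ D.P) (hb : b ∈ D.P) :
    ∃ c ∈ zpowers x, a * b * a⁻¹ = c * b :=
  ⟨_, D.comm_mem a ha b hb, by group⟩

theorem fix_zpowers (D : XData x) {p c : G} (hp : p ∈ D.P) (hc : c ∈ zpowers x) : Fix p c := by
  obtain ⟨i, -, rfl⟩ := (zpowers_iff D.cube_x).mp hc
  exact (D.fix p hp).pow i

theorem cube_zpowers (D : XData x) {c : G} (hc : c ∈ zpowers x) : c ^ 3 = 1 :=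
  D.cube c (D.zpowers_le_P hc)

/-- Bilinearity of the commutator, in the form used below. -/
theorem inv_comm (D : XData x) {a b c : G} (ha : a ∈ D.P) (hc : c ∈ zpowers x)
    (h : a * b = c * (b * a)) : a⁻¹ * b = c⁻¹ * (b * a⁻¹) := by
  have hac : Commute a⁻¹ c := (show Commute a c from (D.fix_zpowers ha hc).comm).inv_left
  have : b * a = c⁻¹ * (a * b) := by rw [h]; group
  calc a⁻¹ * b = a⁻¹ * (b * a) * a⁻¹ := by group
    _ = a⁻¹ * c⁻¹ * (a * b) * a⁻¹ := by rw [this]; group
    _ = c⁻¹ * a⁻¹ * (a * b) * a⁻¹ := by rw [hac.inv_right.eq]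
    _ = c⁻¹ * (b * a⁻¹) := by group

variable [Finite G]

theorem exists_involution (D : XData x) : ∃ t : G, orderOf t = 2 ∧ Fix t x := by
  have h2 : Fact (Nat.Prime 2) := ⟨Nat.prime_two⟩
  obtain ⟨t, ht⟩ := exists_prime_orderOf_dvd_card' (G := centralizer ({x} : Set G)) 2
    (by rw [show Nat.card (centralizer ({x} : Set G)) = 54 from D.cC_x]; norm_num)
  exact ⟨t, by rw [Subgroup.orderOf_coe, ht], fix_of_mem_centralizer t.2⟩

theorem cC_invol (D : XData x) (hc : Counts G) {t : G} (ht : orderOf t = 2) (htx : Fix t x) :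
    cC t = 192 :=
  hc.cent54 x t D.orderOf_x D.cC_x ht htx.comm.symm

/-- The elements of `P` fixed by an involution of `C(x)`. -/
theorem fixed_mem (D : XData x) (hc : Counts G) {t p : G} (ht : orderOf t = 2) (htx : Fix t x)
    (hp : p ∈ D.P) (htp : Fix t p) : p ∈ zpowers x := by
  set K := D.P ⊓ centralizer ({t} : Set G) with hK
  have hle : zpowers x ≤ K := zpowers_le.mpr ⟨D.x_mem, mem_centralizer_of_fix htx.symm⟩
  have hcard : Nat.card K ∣ 3 := by
    have h27 : Nat.card K ∣ 27 := D.card_P ▸ Subgroup.card_dvd_of_le inf_le_left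
    have h6 : Nat.card K ∣ 6 := by
      rw [← hc.z_three t x ht (D.cC_invol hc ht htx) D.orderOf_x htx.comm]
      refine Subgroup.card_dvd_of_le fun g hg => ⟨hg.2, ?_⟩
      exact mem_centralizer_of_fix (D.fix g hg.1)
    simpa using Nat.dvd_gcd h27 h6
  have : zpowers x = K := eq_of_le_card hle (by
    rw [Nat.card_zpowers, D.orderOf_x]; exact Nat.le_of_dvd (by norm_num) hcard)
  exact this ▸ (⟨hp, mem_centralizer_of_fix htp.symm⟩ : p ∈ K)

theorem conj_mem_inv_mul (D : XData x) (hc : Counts G) {t p : G} (ht : orderOf t = 2)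
    (htx : Fix t x) (hp : p ∈ D.P) : ∃ i : ℕ, t * p * t⁻¹ = p⁻¹ * x ^ i := by
  have hq : t * p * t⁻¹ ∈ D.P := D.normal t htx p hp
  set q := p * (t * p * t⁻¹) with hqdef
  have htt : t * t = 1 := sq_of_orderOf ht
  obtain ⟨c, hcm, hcq⟩ := D.conj_mem hq hp
  have hfixc : Fix t c := by
    obtain ⟨i, -, rfl⟩ := (zpowers_iff D.cube_x).mp hcm
    exact htx.pow i
  have h1 : t * q * t⁻¹ = c * q := by
    calc t * q * t⁻¹ = t * p * t⁻¹ * (t * t * p * (t * t)⁻¹) := by rw [hqdef]; group
      _ = t * p * t⁻¹ * p := by rw [htt]; group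
      _ = (t * p * t⁻¹) * p * (t * p * t⁻¹)⁻¹ * (t * p * t⁻¹) := by group
      _ = c * q := by rw [hcq, hqdef, mul_assoc]
  have h2 : c * c = 1 := by
    have : q = c * c * q :=
      calc q = t * t * q * (t * t)⁻¹ := by rw [htt]; group
        _ = t * (t * q * t⁻¹) * t⁻¹ := by group
        _ = t * (c * q) * t⁻¹ := by rw [h1]
        _ = (t * c * t⁻¹) * (t * q * t⁻¹) := by group
        _ = c * c * q := by rw [hfixc, h1]; group
    exact mul_eq_right.mp this.symm
  have hc1 : c = 1 := eq_one_of_sq_cube (eq_inv_of_mul_eq_one_left h2) (D.cube_zpowers hcm)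
  have hfix : Fix t q := by rw [Fix, h1, hc1, one_mul]
  obtain ⟨i, -, hi⟩ :=
    (zpowers_iff D.cube_x).mp (D.fixed_mem hc ht htx (mul_mem hp hq) hfix)
  exact ⟨i, by rw [← hi]; group⟩

/-- Each coset of `⟨x⟩` in `P` has an element inverted by `t`. -/
theorem exists_inv (D : XData x) (hc : Counts G) {t p : G} (ht : orderOf t = 2)
    (htx : Fix t x) (hp : p ∈ D.P) : ∃ k : ℕ, Inv t (p * x ^ k) := by
  obtain ⟨i, hi⟩ := D.conj_mem_inv_mul hc ht htx hp
  refine ⟨i, ?_⟩
  have h3 : x ^ i * x ^ i * x ^ i = 1 := by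
    rw [← pow_add, ← pow_add, show i + i + i = 3 * i by ring, pow_mul, D.cube_x, one_pow]
  have hx' : x ^ i * x ^ i = (x ^ i)⁻¹ := eq_inv_of_mul_eq_one_left h3
  have hcm : (x ^ i)⁻¹ * p⁻¹ = p⁻¹ * (x ^ i)⁻¹ := by
    have := ((D.fix p hp).pow i).comm
    rw [← mul_inv_rev, this, mul_inv_rev]
  rw [Inv, ← conj_mul, hi, (htx.pow i), mul_inv_rev, hcm, mul_assoc, hx']

/-- The element inverted by `t` in a coset of `⟨x⟩` is unique. -/
theorem inv_unique (D : XData x) {t a c : G} (htx : Fix t x) (ha : a ∈ D.P) (hc : c ∈ zpowers x)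
    (h : Inv t a) (h' : Inv t (c * a)) : c = 1 := by
  have hfix : Fix t c := by
    obtain ⟨i, -, rfl⟩ := (zpowers_iff D.cube_x).mp hc
    exact htx.pow i
  refine eq_one_of_inv_fix ?_ hfix (D.cube_zpowers hc)
  have hcomm : Commute c a⁻¹ := (show Commute a c from (D.fix_zpowers ha hc).comm).symm.inv_right
  rw [Inv, ← conj_mul, h, mul_inv_rev] at h'
  exact mul_right_cancel (h'.trans (hcomm.inv_left.eq).symm)

theorem inv_mem_pair (D : XData x) {t a q : G} (htx : Fix t x) (ha : a ∈ D.P)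
    (hna : a ∉ zpowers x) (hta : Inv t a) (hq : q ∈ D.P) (htq : Inv t q) (hqa : Fix q a) :
    ∃ j : ℕ, q = a ^ j := by
  obtain ⟨i, -, j, -, rfl⟩ :=
    (mem_pairGrp_iff (D.comm_x ha) D.cube_x (D.cube a ha)).mp (D.cent a ha hna q hq hqa)
  refine ⟨j, ?_⟩
  rw [D.inv_unique htx (pow_mem ha j) (pow_mem (mem_zpowers x) i) (hta.pow j) htq, one_mul]

theorem exists_notMem (D : XData x) : ∃ p ∈ D.P, p ∉ zpowers x := by
  by_contra h
  push Not at h
  have := Subgroup.card_dvd_of_le (show D.P ≤ zpowers x from h)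
  rw [D.card_P, Nat.card_zpowers, D.orderOf_x] at this
  norm_num at this

theorem exists_inv_notMem (D : XData x) (hc : Counts G) {t : G} (ht : orderOf t = 2)
    (htx : Fix t x) : ∃ a ∈ D.P, a ∉ zpowers x ∧ Inv t a := by
  obtain ⟨p, hp, hnp⟩ := D.exists_notMem
  obtain ⟨k, hk⟩ := D.exists_inv hc ht htx hp
  exact ⟨_, mul_mem hp (pow_mem D.x_mem k),
    fun h => hnp ((Subgroup.mul_mem_cancel_right _ (pow_mem (mem_zpowers x) k)).mp h), hk⟩

/-- An involution `t` of `C(x)` is centralised by an involution inverting `x`. -/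
theorem exists_inverter (D : XData x) (hc : Counts G) {t : G} (ht : orderOf t = 2)
    (htx : Fix t x) : ∃ w : G, orderOf w = 2 ∧ Fix w t ∧ Inv w x := by
  have hx3 := D.cube_x
  obtain ⟨g, hg⟩ := exists_conj_of_cC hc D.orderOf_x (y := x⁻¹)
    (by rw [orderOf_inv, D.orderOf_x]) (by rw [cC_inv])
  have hgx : Inv g x := hg
  have htt : t * t = 1 := sq_of_orderOf ht
  set t' := g * t * g⁻¹ with ht'
  have ht't' : t' * t' = 1 := sq_of_orderOf (by rw [ht', orderOf_conj, ht])
  have ht'x : Fix t' x := by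
    have h := (htx.map g).inv
    rw [hgx, inv_inv] at h
    exact h
  -- `t'` and `t` differ by an element of `P`
  set C := centralizer ({x} : Set G) with hC
  have hPC : D.P ≤ C := fun p hp => mem_centralizer_of_fix (D.fix p hp)
  have hidx : (D.P.subgroupOf C).index = 2 := by
    have := (D.P.subgroupOf C).card_mul_index
    rw [Nat.card_congr (subgroupOfEquivOfLe hPC).toEquiv, D.card_P,
      show Nat.card C = 54 from D.cC_x] at this
    omega
  have hout : ∀ s : G, s * s = 1 → s ≠ 1 → s ∉ D.P := by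
    intro s hs hs1 hsP
    refine hs1 (eq_one_of_sq_cube (eq_inv_of_mul_eq_one_left hs) (D.cube s hsP))
  have hq : t' * t ∈ D.P := by
    have := (Subgroup.mul_mem_iff_of_index_two hidx
      (a := ⟨t', mem_centralizer_of_fix ht'x⟩) (b := ⟨t, mem_centralizer_of_fix htx⟩)).mpr
      ⟨fun h => absurd h (hout t' ht't' (ne_one_of_orderOf (n := 2)
          (by rw [ht', orderOf_conj, ht]) (by norm_num))),
        fun h => absurd h (hout t htt (ne_one_of_orderOf ht (by norm_num)))⟩
    exact this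
  set q := t' * t with hqd
  have hq3 := D.cube q hq
  have hqinv : Inv t q := by
    rw [Inv, hqd, mul_inv_rev, inv_of_orderOf ht,
      inv_eq_of_mul_eq_one_right ht't']
    calc t * (t' * t) * t = t * t' * (t * t) := by group
      _ = t * t' := by rw [htt, mul_one]
  set p := q * q with hpd
  have hp : p ∈ D.P := mul_mem hq hq
  have hpt : p * t * p⁻¹ = t' := by
    have h1 : t * p⁻¹ = p * t := by
      have h := (hqinv.mul hqinv rfl)
      rw [Inv, ← hpd] at h
      calc t * p⁻¹ = t * (t * p * t⁻¹) := by rw [h]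
        _ = (t * t) * p * t⁻¹ := by group
        _ = p * t := by rw [htt, one_mul, inv_of_orderOf ht]
    calc p * t * p⁻¹ = p * (t * p⁻¹) := by group
      _ = p * p * t := by rw [h1]; group
      _ = q * q * q * q * t := by rw [hpd]; group
      _ = q ^ 3 * q * t := by rw [pow_succ q 2, pow_two]
      _ = t' * (t * t) := by rw [hq3, one_mul, hqd]; group
      _ = t' := by rw [htt, mul_one]
  set w := p⁻¹ * g with hwd
  have hwt : Fix w t := by
    rw [Fix, hwd]
    calc p⁻¹ * g * t * (p⁻¹ * g)⁻¹ = p⁻¹ * (g * t * g⁻¹) * p := by group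
      _ = t := by rw [← ht', ← hpt]; group
  have hwx : Inv w x := (D.fix p hp).inv_left.mul_left_inv hgx
  -- the square of `w`
  have hw2x : Fix (w * w) x := hwx.mul_left_inv hwx
  have hw2t : Fix (w * w) t := hwt.mul_left hwt
  set K := centralizer ({t} : Set G) ⊓ C with hK
  have hKc : Nat.card K = 6 := hc.z_three t x ht (D.cC_invol hc ht htx) D.orderOf_x htx.comm
  have hcases : w * w = 1 ∨ w * w = t := by
    have hpre : ∀ i : ℕ, Fix w (x ^ i) → x ^ i = 1 := fun i h =>
      eq_one_of_inv_fix (hwx.pow i) h (D.cube_zpowers (pow_mem (mem_zpowers x) i))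
    have hww : w * w ∈ K := ⟨mem_centralizer_of_fix hw2t, mem_centralizer_of_fix hw2x⟩
    have ht6 : t ∈ K := ⟨mem_centralizer_of_fix (fix_self t), mem_centralizer_of_fix htx⟩
    have hx6 : x ∈ K := ⟨mem_centralizer_of_fix htx.symm, mem_centralizer_of_fix (fix_self x)⟩
    let f : Fin 3 × Fin 2 → K := fun ij => ⟨x ^ ij.1.val * t ^ ij.2.val,
      mul_mem (pow_mem hx6 _) (pow_mem ht6 _)⟩
    have hf : Function.Bijective f := by
      refine (Nat.bijective_iff_injective_and_card f).mpr ⟨?_, by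
        rw [hKc]; simp [Nat.card_eq_fintype_card]⟩
      rintro ⟨i, j⟩ ⟨i', j'⟩ h
      have h' : x ^ i.val * t ^ j.val = x ^ i'.val * t ^ j'.val := congrArg Subtype.val h
      have hj : j = j' := by
        by_contra hj
        have htx' : t ∈ zpowers x := by
          fin_cases j <;> fin_cases j' <;> simp at hj h' ⊢
          · have := inv_mul_eq_iff_eq_mul.mpr h'
            rw [← this]
            exact mul_mem (inv_mem (pow_mem (mem_zpowers x) _)) (pow_mem (mem_zpowers x) _)
          · have := inv_mul_eq_iff_eq_mul.mpr h'.symm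
            rw [← this]
            exact mul_mem (inv_mem (pow_mem (mem_zpowers x) _)) (pow_mem (mem_zpowers x) _)
        exact hout t htt (ne_one_of_orderOf ht (by norm_num)) (D.zpowers_le_P htx')
      subst hj
      have h2 := pow_inj_mod.mp (mul_right_cancel h')
      rw [D.orderOf_x, Nat.mod_eq_of_lt i.isLt, Nat.mod_eq_of_lt i'.isLt] at h2
      rw [Fin.ext h2]
    obtain ⟨⟨i, j⟩, hij⟩ := hf.2 ⟨w * w, hww⟩
    have hij' : x ^ i.val * t ^ j.val = w * w := congrArg Subtype.val hij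
    have hwf : Fix w (x ^ i.val * t ^ j.val) := by
      rw [hij', Fix]; group
    have hi : x ^ i.val = 1 := by
      refine hpre _ ?_
      have := hwf.mul ((hwt.pow j.val).inv)
      rwa [mul_inv_cancel_right] at this
    rw [hi, one_mul] at hij'
    fin_cases j
    · exact Or.inl (by simpa using hij'.symm)
    · exact Or.inr (by simpa using hij'.symm)
  have hne : w ≠ 1 := by
    intro h
    have := hwx
    rw [Inv, h] at this
    exact D.x_ne_one (eq_one_of_sq_cube (by simpa using this) hx3)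
  refine ⟨w, ?_, hwt, hwx⟩
  rcases hcases with h | h
  · exact orderOf_eq_prime (by rw [pow_two, h]) hne
  exfalso
  obtain ⟨a, ha, hna, hta⟩ := D.exists_inv_notMem hc ht htx
  have hwn : ∀ r ∈ D.P, w * r * w⁻¹ ∈ D.P := by
    intro r hr
    refine D.mem_P _ ?_ (by rw [conj_pow, pow_card_eq_one D.card_P hr]; simp)
    have := ((D.fix r hr).map w).inv
    rwa [show w * x * w⁻¹ = x⁻¹ from hwx, inv_inv] at this
  set b := w * a * w⁻¹ with hbd
  have hb : b ∈ D.P := hwn a ha
  have htb : Inv t b := by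
    have := hta.map w
    rwa [show w * t * w⁻¹ = t from hwt] at this
  have hwb : w * b * w⁻¹ = a⁻¹ := by
    calc w * b * w⁻¹ = (w * w) * a * (w * w)⁻¹ := by rw [hbd]; group
      _ = a⁻¹ := by rw [h]; exact hta
  obtain ⟨c, hcm, hcb⟩ := D.conj_mem ha hb
  have hab : a * b = c * (b * a) :=
    (show a * b = a * b * a⁻¹ * a by group).trans (by rw [hcb, mul_assoc])
  have hc1 : c = 1 := by
    have hwc : w * c * w⁻¹ = c⁻¹ := by
      obtain ⟨i, -, rfl⟩ := (zpowers_iff hx3).mp hcm
      exact hwx.pow i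
    have h1 : b * a⁻¹ = c⁻¹ * (a⁻¹ * b) := by
      calc b * a⁻¹ = w * (a * b) * w⁻¹ := by
            calc b * a⁻¹ = (w * a * w⁻¹) * (w * b * w⁻¹) := by rw [hwb, hbd]
              _ = w * (a * b) * w⁻¹ := by group
        _ = w * (c * (b * a)) * w⁻¹ := by rw [hab]
        _ = (w * c * w⁻¹) * ((w * b * w⁻¹) * (w * a * w⁻¹)) := by group
        _ = c⁻¹ * (a⁻¹ * b) := by rw [hwc, hwb, ← hbd]
    rw [D.inv_comm ha hcm hab] at h1
    have h2 : c⁻¹ * c⁻¹ = 1 := by
      rw [← mul_assoc] at h1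
      exact mul_eq_right.mp h1.symm
    have h3 : c⁻¹ ^ 3 = 1 := D.cube_zpowers (inv_mem hcm)
    simpa using eq_one_of_sq_cube (eq_inv_of_mul_eq_one_left h2) h3
  obtain ⟨j, hj⟩ := D.inv_mem_pair htx ha hna hta hb htb
    (fix_iff.mpr (by rw [hab, hc1, one_mul]))
  have h4 : a⁻¹ = a ^ (j * j) := by
    rw [pow_mul, ← hj, ← hwb]
    conv_rhs => rw [hbd, conj_pow, ← hj]
  rw [cube_inv (D.cube a ha), pow_inj_mod, orderOf_three (D.cube a ha)
    (fun h1 => hna (h1 ▸ one_mem _)), Nat.mul_mod] at h4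
  have : j % 3 < 3 := Nat.mod_lt _ (by norm_num)
  interval_cases hj3 : j % 3 <;> simp at h4

theorem conj_mem_of_inverter (D : XData x) {w r : G} (hwx : Inv w x) (hr : r ∈ D.P) :
    w * r * w⁻¹ ∈ D.P := by
  refine D.mem_P _ ?_ (by rw [conj_pow, pow_card_eq_one D.card_P hr]; simp)
  have := ((D.fix r hr).map w).inv
  rwa [show w * x * w⁻¹ = x⁻¹ from hwx, inv_inv] at this

/-- An element inverted by `t` and fixed by `w`. -/
theorem exists_fixed (D : XData x) (hc : Counts G) {t w : G} (ht : orderOf t = 2) (htx : Fix t x)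
    (hw : w * w = 1) (hwt : Fix w t) (hwx : Inv w x) :
    ∃ y ∈ D.P, y ∉ zpowers x ∧ Inv t y ∧ Fix w y := by
  by_contra hno
  push Not at hno
  have hall : ∀ a ∈ D.P, a ∉ zpowers x → Inv t a → Inv w a := by
    intro a ha hna hta
    set b := w * a * w⁻¹ with hbd
    have hb : b ∈ D.P := D.conj_mem_of_inverter hwx ha
    have htb : Inv t b := by
      have := hta.map w
      rwa [show w * t * w⁻¹ = t from hwt] at this
    have hwb : w * b * w⁻¹ = a := by
      calc w * b * w⁻¹ = (w * w) * a * (w * w)⁻¹ := by rw [hbd]; group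
        _ = a := by rw [hw]; group
    by_cases hcomm : Fix b a
    · obtain ⟨j, hj⟩ := D.inv_mem_pair htx ha hna hta hb htb hcomm
      rcases eq_of_pow_three_cases (D.cube a ha) hj with h | h | h
      · exact absurd (by rw [← hwb, h]; simp : a = 1) (fun h1 => hna (h1 ▸ one_mem _))
      · exact absurd (show Fix w a from h) (hno a ha hna hta)
      · exact h
    · exfalso
      obtain ⟨k, hk⟩ := D.exists_inv hc ht htx (mul_mem ha hb)
      set d := a * b * x ^ k with hdd
      have hd : d ∈ D.P := mul_mem (mul_mem ha hb) (pow_mem D.x_mem k)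
      have hnd : d ∉ zpowers x := by
        intro h
        have h' : a * b ∈ zpowers x :=
          (Subgroup.mul_mem_cancel_right _ (pow_mem (mem_zpowers x) k)).mp h
        apply hcomm
        have h2 := (D.fix_zpowers ha h').comm
        rw [fix_iff]
        calc b * a = a⁻¹ * (a * b * a) := by group
          _ = a⁻¹ * (a * (a * b)) := by rw [h2]
          _ = a * b := by group
      have hd' : w * d * w⁻¹ ∈ D.P := D.conj_mem_of_inverter hwx hd
      have htd' : Inv t (w * d * w⁻¹) := by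
        have := hk.map w
        rwa [show w * t * w⁻¹ = t from hwt] at this
      -- `w d w⁻¹` lies in the coset of `d`
      obtain ⟨c, hcm, hcb⟩ := D.conj_mem hb ha
      have hzc : ∃ e ∈ zpowers x, w * d * w⁻¹ = e * d := by
        refine ⟨c * (x ^ k)⁻¹ * (x ^ k)⁻¹, mul_mem (mul_mem hcm (inv_mem (pow_mem
          (mem_zpowers x) k))) (inv_mem (pow_mem (mem_zpowers x) k)), ?_⟩
        have hxk : Commute (x ^ k)⁻¹ (a * b) := (show Commute (a * b) (x ^ k) from
          ((D.fix _ (mul_mem ha hb)).pow k).comm).symm.inv_left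
        calc w * d * w⁻¹ = (w * a * w⁻¹) * (w * b * w⁻¹) * (w * x ^ k * w⁻¹) := by
              rw [hdd]; group
          _ = b * a * (x ^ k)⁻¹ := by rw [hwb, show w * x ^ k * w⁻¹ = (x ^ k)⁻¹ from hwx.pow k, ← hbd]
          _ = b * a * b⁻¹ * b * (x ^ k)⁻¹ := by group
          _ = c * (a * b * (x ^ k)⁻¹) := by rw [hcb]; group
          _ = c * ((x ^ k)⁻¹ * (a * b)) := by rw [hxk.eq]
          _ = c * (x ^ k)⁻¹ * (x ^ k)⁻¹ * (x ^ k * (a * b)) := by group
          _ = c * (x ^ k)⁻¹ * (x ^ k)⁻¹ * d := by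
              rw [hdd, show x ^ k * (a * b) = a * b * x ^ k from
                (((D.fix _ (mul_mem ha hb)).pow k).comm).symm]
      obtain ⟨e, hem, hed⟩ := hzc
      have he1 := D.inv_unique htx hd hem hk (hed ▸ htd')
      exact hno d hd hnd hk (by rw [Fix, hed, he1, one_mul])
  obtain ⟨a, ha, hna, hta⟩ := D.exists_inv_notMem hc ht htx
  obtain ⟨b, hb, hnb⟩ : ∃ b ∈ D.P, b ∉ pairGrp x a := by
    by_contra h
    push Not at h
    have := Subgroup.card_dvd_of_le (show D.P ≤ pairGrp x a from h)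
    rw [D.card_P, card_pairGrp (D.comm_x ha) D.cube_x D.x_ne_one (D.cube a ha) hna] at this
    norm_num at this
  obtain ⟨k, hk⟩ := D.exists_inv hc ht htx hb
  set b' := b * x ^ k with hb'
  have hb'm : b' ∈ D.P := mul_mem hb (pow_mem D.x_mem k)
  have hnb' : b' ∉ pairGrp x a := fun h =>
    hnb ((Subgroup.mul_mem_cancel_right _ (pow_mem (left_mem_pairGrp x a) k)).mp h)
  have hnbx : b' ∉ zpowers x := fun h => hnb' (zpowers_le.mpr (left_mem_pairGrp x a) h)
  obtain ⟨c, hcm, hcb⟩ := D.conj_mem ha hb'm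
  have hab : a * b' = c * (b' * a) :=
    (show a * b' = a * b' * a⁻¹ * a by group).trans (by rw [hcb, mul_assoc])
  apply hnb'
  refine D.cent a ha hna b' hb'm ?_
  rw [fix_iff]
  have hwc : w * c * w⁻¹ = c⁻¹ := by
    obtain ⟨i, -, rfl⟩ := (zpowers_iff D.cube_x).mp hcm
    exact hwx.pow i
  have hia : w * a * w⁻¹ = a⁻¹ := hall a ha hna hta
  have hib : w * b' * w⁻¹ = b'⁻¹ := hall b' hb'm hnbx hk
  have h1 : (b' * a)⁻¹ = c⁻¹ * (a * b')⁻¹ := by
    calc (b' * a)⁻¹ = (w * a * w⁻¹) * (w * b' * w⁻¹) := by rw [hia, hib, mul_inv_rev]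
      _ = w * (a * b') * w⁻¹ := by group
      _ = w * (c * (b' * a)) * w⁻¹ := by rw [hab]
      _ = (w * c * w⁻¹) * ((w * b' * w⁻¹) * (w * a * w⁻¹)) := by group
      _ = c⁻¹ * (a * b')⁻¹ := by rw [hwc, hia, hib, ← mul_inv_rev]
  rw [hab, mul_inv_rev c (b' * a)] at h1
  have hcc : Commute (b' * a)⁻¹ c⁻¹ :=
    ((show Commute (b' * a) c from (D.fix_zpowers (mul_mem hb'm ha) hcm).comm).inv_left).inv_right
  rw [hcc.eq, ← mul_assoc] at h1
  have hc2 := eq_one_of_sq_cube (eq_inv_of_mul_eq_one_left (mul_eq_right.mp h1.symm))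
    (D.cube_zpowers (inv_mem hcm))
  rw [hab, inv_eq_one.mp hc2, one_mul]

/-- The element inverted by `t` and fixed by `w` is unique up to inversion. -/
theorem fixed_unique (D : XData x) {t w y q : G} (htx : Fix t x) (hwx : Inv w x) (hy : y ∈ D.P)
    (hny : y ∉ zpowers x) (hty : Inv t y) (hwy : Fix w y) (hq : q ∈ D.P) (htq : Inv t q)
    (hwq : Fix w q) : ∃ j : ℕ, q = y ^ j := by
  refine D.inv_mem_pair htx hy hny hty hq htq ?_
  obtain ⟨c, hcm, hcb⟩ := D.conj_mem hq hy
  have hwc : Inv w c := by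
    obtain ⟨i, -, rfl⟩ := (zpowers_iff D.cube_x).mp hcm
    exact hwx.pow i
  have hwc' : Fix w c := by
    rw [show c = q * y * q⁻¹ * y⁻¹ by rw [hcb]; group]
    exact ((hwq.mul hwy).mul hwq.inv).mul hwy.inv
  rw [Fix, hcb, eq_one_of_inv_fix hwc hwc' (D.cube_zpowers hcm), one_mul]

/-- The centralizer of `x` and of an element inverted by `t`. -/
theorem cent_pair (D : XData x) (hc : Counts G) {y g : G} (hy : y ∈ D.P) (hny : y ∉ zpowers x)
    (hgx : Fix g x) (hgy : Fix g y) : g ∈ pairGrp x y := by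
  set K := centralizer ({x} : Set G) ⊓ centralizer ({y} : Set G) with hK
  have hdvd : Nat.card K ∣ 54 := D.cC_x ▸ Subgroup.card_dvd_of_le inf_le_left
  have hodd : ¬ 2 ∣ Nat.card K := by
    intro h2
    have : Fact (Nat.Prime 2) := ⟨Nat.prime_two⟩
    obtain ⟨s, hs⟩ := exists_prime_orderOf_dvd_card' (G := K) 2 h2
    exact hny (D.fixed_mem hc (t := (s : G)) (by rw [Subgroup.orderOf_coe, hs])
      (fix_of_mem_centralizer s.2.1) hy (fix_of_mem_centralizer s.2.2))
  have hg27 : g ^ 27 = 1 := by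
    have hgK : g ∈ K := ⟨mem_centralizer_of_fix hgx, mem_centralizer_of_fix hgy⟩
    have h27 : Nat.card K ∣ 27 := by
      have hcop : Nat.Coprime (Nat.card K) 2 :=
        ((Nat.prime_two.coprime_iff_not_dvd).mpr hodd).symm
      exact hcop.dvd_of_dvd_mul_left (by simpa using hdvd)
    obtain ⟨k, hk⟩ := h27
    rw [hk, pow_mul, pow_card_eq_one rfl hgK, one_pow]
  exact D.cent y hy hny g (D.mem_P g hgx hg27) hgy

theorem cC_fixed (D : XData x) (hc : Counts G) {w y : G} (hw : w * w = 1)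
    (hwx : Inv w x) (hy : y ∈ D.P) (hny : y ∉ zpowers x) (hwy : Fix w y) : cC y = 54 := by
  have hy1 : y ≠ 1 := fun h => hny (h ▸ one_mem _)
  have hy3 := D.cube y hy
  refine (hc.three y (orderOf_three hy3 hy1)).resolve_right fun h36 => ?_
  set K := centralizer ({y} : Set G) with hK
  have hKc : Nat.card K = 36 := h36
  have hxy := D.comm_x hy
  have hSK : pairGrp x y ≤ K := pairGrp_le (mem_centralizer_of_fix (D.fix y hy).symm)
    (mem_centralizer_of_fix (fix_self y))
  have hSc : Nat.card (pairGrp x y) = 9 :=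
    card_pairGrp hxy D.cube_x D.x_ne_one hy3 hny
  have : Fact (Nat.Prime 3) := ⟨by norm_num⟩
  let S : Sylow 3 K := Sylow.ofCard ((pairGrp x y).subgroupOf K) (by
    rw [Nat.card_congr (subgroupOfEquivOfLe hSK).toEquiv, hSc, hKc,
      show 36 = 3 ^ 2 * 4 from rfl, Nat.factorization_mul (by norm_num) (by norm_num),
      Finsupp.add_apply, (Fact.out : Nat.Prime 3).factorization_pow,
      Nat.factorization_eq_zero_of_not_dvd (by norm_num)]
    simp)
  have hwK : w ∈ K := mem_centralizer_of_fix hwy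
  have hwS : ∀ g ∈ pairGrp x y, w * g * w⁻¹ ∈ pairGrp x y := by
    intro g hg
    obtain ⟨i, -, j, -, rfl⟩ := (mem_pairGrp_iff hxy D.cube_x hy3).mp hg
    rw [← conj_mul, show w * x ^ i * w⁻¹ = (x ^ i)⁻¹ from hwx.pow i,
      show w * y ^ j * w⁻¹ = y ^ j from hwy.pow j]
    exact mul_mem (inv_mem (pow_mem (left_mem_pairGrp x y) i)) (pow_mem (right_mem_pairGrp x y) j)
  have hnS : (S : Subgroup K).Normal := by
    refine SmallGroups.normal_of_card_sylow_eq_one ?_ S
    have hl := SmallGroups.card_sylow_mem_list (p := 3) (a := 2) (m := 4) (by rw [hKc]; norm_num)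
      (by norm_num : ¬ 3 ∣ 4) (G := K)
    have hl2 : Nat.card (Sylow 3 K) = 1 ∨ Nat.card (Sylow 3 K) = 4 := by
      rw [show (Nat.divisors 4).filter (fun d => d % 3 = 1) = {1, 4} by decide] at hl
      simpa using hl
    refine hl2.resolve_right fun h4 => ?_
    have hn := SmallGroups.normalizer_conj_eq_card S h4 (k := 9) (by rw [hKc])
    have hle : (S : Subgroup K) ≤ normalizer ((S : Subgroup K) : Set K) := le_normalizer
    have heq : (S : Subgroup K) = normalizer ((S : Subgroup K) : Set K) :=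
      eq_of_le_card hle (by rw [hn]; rw [show Nat.card ↥(S : Subgroup K) = 9 by
        rw [show (S : Subgroup K) = (pairGrp x y).subgroupOf K from rfl,
          Nat.card_congr (subgroupOfEquivOfLe hSK).toEquiv, hSc]])
    have hwmem : (⟨w, hwK⟩ : K) ∈ normalizer ((S : Subgroup K) : Set K) := by
      rw [Subgroup.mem_normalizer_iff]
      intro g
      constructor
      · exact fun hg => hwS g hg
      · intro hg
        have := hwS _ hg
        have e : w * (w * (g : G) * w⁻¹) * w⁻¹ = g := by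
          calc w * (w * (g : G) * w⁻¹) * w⁻¹ = (w * w) * g * (w * w)⁻¹ := by group
            _ = g := by rw [hw]; group
        show (g : G) ∈ pairGrp x y
        rw [← e]; exact this
    rw [← heq] at hwmem
    have hwm : w ∈ pairGrp x y := hwmem
    have hw1 : w = 1 :=
      eq_one_of_sq_cube (eq_inv_of_mul_eq_one_left hw) (pairGrp_cube hxy D.cube_x hy3 hwm)
    rw [Inv, hw1] at hwx
    exact D.x_ne_one (eq_one_of_sq_cube (by simpa using hwx) D.cube_x)
  have hconj : ∀ g ∈ K, ∃ i < 3, ∃ j < 3, g * x * g⁻¹ = x ^ i * y ^ j := by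
    intro g hg
    exact (mem_pairGrp_iff hxy D.cube_x hy3).mp
      (hnS.conj_mem ⟨x, hSK (left_mem_pairGrp x y)⟩ (left_mem_pairGrp x y) ⟨g, hg⟩)
  have hone : ∀ g ∈ K, ∀ j : ℕ, g * x * g⁻¹ = x * y ^ j → g ∈ pairGrp x y := by
    intro g hg j hj
    have hgy : Fix g (y ^ j) := (fix_of_mem_centralizer hg).pow j
    have hstep : g * (g * x * g⁻¹) * g⁻¹ = x * y ^ j * y ^ j := by
      rw [hj, ← conj_mul, hj, hgy]
    have hg3 : Fix (g ^ 3) x := by
      have h3 : (g ^ 3) * x * (g ^ 3)⁻¹ = x * (y ^ j * y ^ j * y ^ j) := by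
        calc (g ^ 3) * x * (g ^ 3)⁻¹ = g * (g * (g * x * g⁻¹) * g⁻¹) * g⁻¹ := by
              rw [pow_succ, pow_two]; group
          _ = x * (y ^ j * y ^ j * y ^ j) := by
              rw [hstep, ← conj_mul, ← conj_mul, hj, hgy]; group
      rw [Fix, h3, ← pow_add, ← pow_add, show j + j + j = 3 * j by ring, pow_mul, hy3, one_pow,
        mul_one]
    have hg3S := D.cent_pair hc hy hny hg3 ((fix_of_mem_centralizer hg).symm.pow 3).symm
    have hg9 : g ^ 27 = 1 := by
      rw [show 27 = 3 * (3 * 3) from rfl, pow_mul, pow_mul, pairGrp_cube hxy D.cube_x hy3 hg3S,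
        one_pow]
    have hp : IsPGroup 3 (zpowers (⟨g, hg⟩ : K)) := by
      obtain ⟨k, -, hk⟩ := (Nat.dvd_prime_pow (Fact.out : Nat.Prime 3)).mp
        (show orderOf g ∣ 3 ^ 3 from orderOf_dvd_of_pow_eq_one hg9)
      exact IsPGroup.of_card (n := k) (by rw [Nat.card_zpowers, Subgroup.orderOf_mk, hk])
    obtain ⟨R, hR⟩ := hp.exists_le_sylow
    have := (Sylow.unique_of_normal S hnS).instSubsingleton
    rw [Subsingleton.elim R S] at hR
    exact hR (mem_zpowers (⟨g, hg⟩ : K))
  let f : pairGrp x y × Fin 2 → G := fun p => w ^ p.2.val * p.1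
  have hsub : (K : Set G) ⊆ Set.range f := by
    intro g hg
    obtain ⟨i, hi, j, -, hij⟩ := hconj g hg
    interval_cases i
    · exfalso
      rw [pow_zero, one_mul] at hij
      have h2 : x = y ^ j := by
        calc x = g⁻¹ * (g * x * g⁻¹) * g := by group
          _ = g⁻¹ * y ^ j * g⁻¹⁻¹ := by rw [hij, inv_inv]
          _ = y ^ j := (fix_of_mem_centralizer hg).inv_left.pow j
      have h' := pow_mul_pow_inj D.cube_x D.x_ne_one hy3 hny
        (i := 1) (j := 0) (i' := 0) (j' := j) (by simp [← h2])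
      simp at h'
    · exact ⟨(⟨g, hone g hg j (by simpa using hij)⟩, 0), by simp [f]⟩
    · have hwg : w * g ∈ pairGrp x y := hone _ (mul_mem hwK hg) j (by
        calc w * g * x * (w * g)⁻¹ = w * (g * x * g⁻¹) * w⁻¹ := by group
          _ = (x ^ 2)⁻¹ * y ^ j := by
              rw [hij, ← conj_mul, show w * x ^ 2 * w⁻¹ = (x ^ 2)⁻¹ from hwx.pow 2,
                show w * y ^ j * w⁻¹ = y ^ j from hwy.pow j]
          _ = x * y ^ j := by rw [← cube_inv D.cube_x, inv_inv])
      exact ⟨(⟨w * g, hwg⟩, 1), by simp [f, ← mul_assoc, hw]⟩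
  have hle := Nat.card_mono (Set.finite_range f) hsub
  have hr := Finite.card_range_le f
  rw [Nat.card_prod, hSc, Nat.card_fin] at hr
  rw [show Nat.card (K : Set G) = Nat.card K from rfl, hKc] at hle
  omega

/-- `P` moves an element outside `⟨x⟩` over its whole coset of `⟨x⟩`. -/
theorem exists_shift (D : XData x) {y : G} (hy : y ∈ D.P) (hny : y ∉ zpowers x) {e : G}
    (he : e ∈ zpowers x) : ∃ p ∈ D.P, p * y * p⁻¹ = e * y := by
  obtain ⟨q, hq, hnq⟩ : ∃ q ∈ D.P, ¬ Fix q y := by
    by_contra h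
    push Not at h
    have := Subgroup.card_dvd_of_le
      (show D.P ≤ pairGrp x y from fun q hq => D.cent y hy hny q hq (h q hq))
    rw [D.card_P, card_pairGrp (D.comm_x hy) D.cube_x D.x_ne_one (D.cube y hy) hny] at this
    norm_num at this
  obtain ⟨c, hcm, hcb⟩ := D.conj_mem hq hy
  have hc1 : c ≠ 1 := fun h => hnq (by rw [Fix, hcb, h, one_mul])
  have hzc : zpowers c = zpowers x := by
    refine eq_of_le_card (zpowers_le.mpr hcm) ?_
    rw [Nat.card_zpowers, Nat.card_zpowers, D.orderOf_x,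
      orderOf_three (D.cube_zpowers hcm) hc1]
  rw [← hzc] at he
  obtain ⟨m, -, rfl⟩ := (zpowers_iff (D.cube_zpowers hcm)).mp he
  refine ⟨q ^ m, pow_mem hq m, ?_⟩
  clear he
  induction m with
  | zero => simp
  | succ m ih =>
    have hfc : q ^ m * c * (q ^ m)⁻¹ = c := D.fix_zpowers (pow_mem hq m) hcm
    calc q ^ (m + 1) * y * (q ^ (m + 1))⁻¹ = q ^ m * (q * y * q⁻¹) * (q ^ m)⁻¹ := by group
      _ = (q ^ m * c * (q ^ m)⁻¹) * (q ^ m * y * (q ^ m)⁻¹) := by rw [hcb]; group
      _ = c ^ (m + 1) * y := by rw [hfc, ih, ← mul_assoc, ← pow_succ']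


/-- All non-trivial elements of `⟨x, y⟩` have centralizer order 54. -/
theorem cC_pair (D : XData x) (hc : Counts G) {w y : G} (hw : w * w = 1)
    (hwx : Inv w x) (hy : y ∈ D.P) (hny : y ∉ zpowers x) (hwy : Fix w y) {g : G}
    (hg : g ∈ pairGrp x y) (hg1 : g ≠ 1) : orderOf g = 3 ∧ cC g = 54 := by
  have hy3 := D.cube y hy
  refine ⟨orderOf_three (pairGrp_cube (D.comm_x hy) D.cube_x hy3 hg) hg1, ?_⟩
  have h54 := D.cC_fixed hc hw hwx hy hny hwy
  have hcoset : ∀ e ∈ zpowers x, cC (e * y) = 54 := by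
    intro e he
    obtain ⟨p, -, hp⟩ := D.exists_shift hy hny he
    rw [← hp, cC_conj]
    exact h54
  obtain ⟨i, hi, j, hj, rfl⟩ := (mem_pairGrp_iff (D.comm_x hy) D.cube_x hy3).mp hg
  interval_cases j
  · rcases eq_of_pow_three_cases D.cube_x (rfl : x ^ i = x ^ i) with h | h | h <;>
      rw [pow_zero, mul_one] at hg1 ⊢
    · exact absurd h hg1
    · rw [h, D.cC_x]
    · rw [h, cC_inv, D.cC_x]
  · rw [pow_one]
    exact hcoset _ (pow_mem (mem_zpowers x) i)
  · rw [← cube_inv hy3, show x ^ i * y⁻¹ = ((x ^ i)⁻¹ * y)⁻¹ by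
      rw [mul_inv_rev, inv_inv]
      exact ((D.fix y hy).pow i).inv_left.comm.symm, cC_inv]
    exact hcoset _ (inv_mem (pow_mem (mem_zpowers x) i))


end XData

end Cfsg.Agent.M12Uniq.Loc
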