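import Cfsg.Prelude.Def_Sporadic
import Cfsg.Agent.Classification.SimpleOrderTools
import Cfsg.Agent.Lib.SmallGroups.Orbits
import Cfsg.Agent.Lib.SmallGroups.Counting
import Cfsg.Agent.Lib.SmallGroups.Local
import Cfsg.Agent.Lib.SmallGroups.SelfCent.Principal
import Cfsg.Agent.Lib.SmallGroups.SelfCent.Count
import Cfsg.Agent.Lib.SmallGroups.SelfCent.Sylow
import Cfsg.Agent.Lib.BlocksCore.CyclicCount
import Cfsg.Agent.Blocks88.Modular
import Mathlib.GroupTheory.Transfer

/-!
# The Sylow subgroups of order 11 of a simple group of order 95040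

`sylow11_normalizer`: a subgroup of order 11 has normaliser of order 55.
-/

set_option autoImplicit false
set_option linter.unusedSectionVars false

namespace Cfsg.Agent.M12Uniq.OrderEleven

open Subgroup Cfsg.Agent.SmallGroups

universe u

variable {G : Type u} [Group G]

/-- A nontrivial normal `r`-subgroup of `C(P)` cannot exist if `r` divides the number 144 of
Sylow 11-subgroups and no element of order `r` induces an automorphism of `P`. -/
theorem no_core [Finite G] [IsSimpleGroup G] [Fact (Nat.Prime 11)] (hG : Nat.card G = 95040)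
    (P : Sylow 11 G) (hP : Nat.card ↥(P : Subgroup G) = 11)
    (hN : Nat.card ↥(normalizer ((P : Subgroup G) : Set G)) = 660)
    (r : ℕ) [Fact r.Prime] (hr : r = 2 ∨ r = 3)
    (hre : Nat.Coprime r ((centralizer ((P : Subgroup G) : Set G)).relIndex
      (normalizer ((P : Subgroup G) : Set G))))
    (A : Subgroup G) (hA : IsPGroup r A) (hA1 : A ≠ ⊥)
    (hAC : A ≤ centralizer ((P : Subgroup G) : Set G))
    (hAmax : ∀ x ∈ centralizer ((P : Subgroup G) : Set G),
      (∃ i : ℕ, x ^ r ^ i = 1) → x ∈ A) : False := by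
  classical
  set N := normalizer ((P : Subgroup G) : Set G) with hNdef
  set C := centralizer ((P : Subgroup G) : Set G) with hCdef
  set X := normalizer (A : Set G) with hXdef
  have hCN : C ≤ N := centralizer_le_normalizer _
  have hCn : (C.subgroupOf N).Normal := by
    refine ⟨fun c hc g => ?_⟩
    rw [mem_subgroupOf] at hc ⊢
    rw [hCdef, mem_centralizer_iff] at hc ⊢
    intro u hu
    have hu' : (g : G)⁻¹ * u * g ∈ (P : Subgroup G) := by
      have h := (mem_normalizer_iff.mp (inv_mem g.2) u).mp hu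
      simpa [mul_assoc] using h
    have h1 := hc _ hu'
    push_cast
    calc u * ((g : G) * c * (g : G)⁻¹) = g * ((g : G)⁻¹ * u * g * c) * (g : G)⁻¹ := by group
      _ = g * ((c : G) * ((g : G)⁻¹ * u * g)) * (g : G)⁻¹ := by rw [h1]
      _ = g * c * (g : G)⁻¹ * u := by group
  -- `r`-elements of `N` centralise `P`
  have hrel : ∀ x ∈ N, (∃ i : ℕ, x ^ r ^ i = 1) → x ∈ C := by
    rintro x hx ⟨i, hi⟩
    have h1 := (C.subgroupOf N).pow_index_mem ⟨x, hx⟩
    rw [mem_subgroupOf] at h1
    have hco : Nat.Coprime ((C.subgroupOf N).index) (orderOf x) :=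
      Nat.Coprime.coprime_dvd_right (orderOf_dvd_of_pow_eq_one hi)
        (Nat.Coprime.pow_right i (Nat.Coprime.symm hre))
    obtain ⟨m, hm⟩ := exists_pow_eq_self_of_coprime hco
    rw [← hm]
    exact pow_mem (by simpa using h1) m
  have hAr : ∀ a ∈ A, ∃ i : ℕ, a ^ r ^ i = 1 := fun a ha => by
    obtain ⟨i, hi⟩ := hA ⟨a, ha⟩
    exact ⟨i, by simpa using congrArg Subtype.val hi⟩
  -- `N` normalises `A`
  have hNX : N ≤ X := by
    intro g hg
    have key : ∀ g' ∈ N, ∀ a ∈ A, g' * a * g'⁻¹ ∈ A := by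
      intro g' hg' a ha
      refine hAmax _ ?_ ?_
      · have h := hCn.conj_mem ⟨a, hCN (hAC ha)⟩ (mem_subgroupOf.mpr (hAC ha)) ⟨g', hg'⟩
        simpa [mem_subgroupOf] using h
      · obtain ⟨i, hi⟩ := hAr a ha
        exact ⟨i, by rw [conj_pow, hi, mul_one, mul_inv_cancel]⟩
    rw [hXdef, mem_normalizer_iff]
    intro a
    refine ⟨fun ha => key g hg a ha, fun ha => ?_⟩
    have := key g⁻¹ (inv_mem hg) _ ha
    simpa [mul_assoc] using this
  have hPX : (P : Subgroup G) ≤ X := le_normalizer.trans hNX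
  -- a second Sylow subgroup fixed, hence centralised, by `A`
  have hn : Nat.card (Sylow 11 G) = 144 := by
    have := card_normalizer_mul P
    rw [hG, ← hNdef, hN] at this
    omega
  have hfix := hA.card_modEq_card_fixedPoints (Sylow 11 G)
  rw [hn] at hfix
  have hPfix : P ∈ MulAction.fixedPoints A (Sylow 11 G) := fun a =>
    Sylow.smul_eq_iff_mem_normalizer.mpr (hCN (hAC a.2))
  have h2 : 1 < Nat.card (MulAction.fixedPoints A (Sylow 11 G)) := by
    have hpos : 0 < Nat.card (MulAction.fixedPoints A (Sylow 11 G)) :=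
      Nat.card_pos_iff.mpr ⟨⟨⟨P, hPfix⟩⟩, inferInstance⟩
    by_contra hle
    have h1 : Nat.card (MulAction.fixedPoints A (Sylow 11 G)) = 1 := by omega
    rw [h1] at hfix
    rcases hr with rfl | rfl <;> simp [Nat.ModEq] at hfix
  have : Nontrivial (MulAction.fixedPoints A (Sylow 11 G)) :=
    Finite.one_lt_card_iff_nontrivial.mp h2
  obtain ⟨⟨Q, hQfix⟩, hQne⟩ := exists_ne (⟨P, hPfix⟩ : MulAction.fixedPoints A (Sylow 11 G))
  have hQP : Q ≠ P := fun h => hQne (Subtype.ext h)
  obtain ⟨g, hg⟩ := MulAction.exists_smul_eq G P Q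
  have hAQ : ∀ a ∈ A, ∀ q ∈ (Q : Subgroup G), a * q = q * a := by
    intro a ha q hq
    have haN : g⁻¹ * a * g ∈ N := by
      refine Sylow.smul_eq_iff_mem_normalizer.mp ?_
      have h : a • Q = Q := hQfix ⟨a, ha⟩
      rw [← hg] at h
      rw [mul_smul, mul_smul, h, inv_smul_smul]
    have haC : g⁻¹ * a * g ∈ C := by
      obtain ⟨i, hi⟩ := hAr a ha
      exact hrel _ haN ⟨i, by rw [show g⁻¹ * a * g = g⁻¹ * a * (g⁻¹)⁻¹ by rw [inv_inv], conj_pow,
        hi, mul_one, mul_inv_cancel]⟩
    rw [← hg, Sylow.coe_subgroup_smul, mem_pointwise_smul_iff_inv_smul_mem] at hq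
    have hq' : g⁻¹ * q * g ∈ (P : Subgroup G) := by simpa [MulAut.smul_def] using hq
    have h := mem_centralizer_iff.mp haC _ hq'
    calc a * q = g * (g⁻¹ * a * g * (g⁻¹ * q * g)) * g⁻¹ := by group
      _ = g * (g⁻¹ * q * g * (g⁻¹ * a * g)) * g⁻¹ := by rw [h]
      _ = q * a := by group
  have hQX : (Q : Subgroup G) ≤ X := by
    refine le_trans ?_ (centralizer_le_normalizer _)
    exact fun q hq => mem_centralizer_iff.mpr fun a ha => hAQ a ha q hq
  -- so `X` has index at most 12
  set j := (N.subgroupOf X).index with hj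
  have hj1 : j ≡ 1 [MOD 11] := index_normalizer_subgroupOf_modEq P hPX
  have hjne : j ≠ 1 := by
    intro h
    have hXN : X ≤ N := subgroupOf_eq_top.mp (index_eq_one.mp h)
    have hQN : (Q : Subgroup G) ≤ N := hQX.trans hXN
    have h1 : (Q : Subgroup G) ≤ (P : Subgroup G) := by
      have := Q.2.inf_normalizer_sylow P
      exact ((le_inf le_rfl hQN).trans this.le).trans inf_le_right
    exact hQP (Sylow.ext (eq_of_le_of_card_ge h1 (Nat.le_of_eq (Nat.card_congr
      (Sylow.equiv P Q).toEquiv))))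
  have hjm := (N.subgroupOf X).card_mul_index
  rw [Nat.card_congr (subgroupOfEquivOfLe hNX).toEquiv, hN, ← hj] at hjm
  have hidx := X.card_mul_index
  rw [hG] at hidx
  have hj12 : 12 ≤ j := by
    unfold Nat.ModEq at hj1
    omega
  have hle : X.index ≤ 12 := by
    have : 7920 ≤ Nat.card X := by omega
    nlinarith
  have hXtop : X ≠ ⊤ := by
    intro h
    have hAn : A.Normal := normalizer_eq_top_iff.mp h
    refine hA1 (eq_bot_of_normal hAn fun hAt => ?_)
    have h1 : N = ⊤ := top_le_iff.mp ((hAt ▸ hAC).trans hCN)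
    rw [h1, card_top, hG] at hN
    omega
  -- an element of order `r` of `A` moves at least 22 cosets
  obtain ⟨i, hi⟩ := hA.exists_card_eq
  have hrdvd : r ∣ Nat.card A := by
    rcases i with _ | i
    · exact absurd (eq_bot_of_card_eq A (by simpa using hi)) hA1
    · rw [hi]; exact dvd_pow_self r (Nat.succ_ne_zero i)
  obtain ⟨y, hy⟩ := exists_prime_orderOf_dvd_card' (G := A) r hrdvd
  have hy' : orderOf (y : G) = r := (orderOf_coe y).trans hy
  have hy1 : (y : G) ≠ 1 := fun h =>
    (Fact.out : r.Prime).ne_one (by rw [← hy', h, orderOf_one])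
  obtain ⟨x, hx⟩ := exists_prime_orderOf_dvd_card' (G := ↥(P : Subgroup G)) 11 (by rw [hP])
  have hx' : orderOf (x : G) = 11 := (orderOf_coe x).trans hx
  have hxP : zpowers (x : G) = (P : Subgroup G) :=
    zpowers_eq_of_card_prime hP x.2 (fun h => by rw [h, orderOf_one] at hx'; norm_num at hx')
  have hyX : (y : G) ∈ X := le_normalizer y.2
  have h11 : 11 ∣ Nat.card {a : G ⧸ X // (y : G) • a ≠ a} := by
    refine Classification.dvd_card_moved_of_commute (mem_centralizer_iff.mp (hAC y.2) x x.2)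
      (hx' ▸ pow_orderOf_eq_one (x : G) :) fun a ha hxa => ha ?_
    induction a using QuotientGroup.induction_on with
    | _ h =>
      have hxh : h⁻¹ * (x : G) * h ∈ X := (mk_mem_fixedBy_iff X x h).mp hxa
      have hPh : ((h⁻¹ • P : Sylow 11 G) : Subgroup G) ≤ X := by
        rw [Sylow.coe_subgroup_smul, Subgroup.pointwise_smul_def]
        rintro z ⟨w, hw, rfl⟩
        obtain ⟨k, rfl⟩ : ∃ k : ℤ, (x : G) ^ k = w :=
          mem_zpowers_iff.mp (by rw [hxP]; exact hw)
        change MulAut.conj h⁻¹ ((x : G) ^ k) ∈ _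
        rw [map_zpow]
        exact zpow_mem (by simpa [mul_assoc] using hxh) k
      obtain ⟨k, hk⟩ := MulAction.exists_smul_eq X (P.subtype hPX) ((h⁻¹ • P).subtype hPh)
      rw [Sylow.smul_subtype] at hk
      have hk' : (k : G) • P = h⁻¹ • P := Sylow.subtype_injective hk
      have hmem : h * (k : G) ∈ N := by
        refine Sylow.smul_eq_iff_mem_normalizer.mp ?_
        rw [mul_smul, hk', smul_inv_smul]
      have hhX : h ∈ X := by
        have := mul_mem (hNX hmem) (inv_mem k.2)
        simpa using this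
      refine (mk_mem_fixedBy_iff X (y : G) h).mpr ?_
      exact mul_mem (mul_mem (inv_mem hhX) hyX) hhX
  have hrm : r ∣ Nat.card {a : G ⧸ X // (y : G) • a ≠ a} :=
    Classification.dvd_card_moved (by rw [← hy']; exact pow_orderOf_eq_one _)
  have hpos := Classification.card_moved_pos X hXtop hy1
  have hsum := Classification.card_moved_add_fixed (α := G ⧸ X) (y : G)
  rw [← index_eq_card] at hsum
  rcases hr with rfl | rfl <;> omega

/-- The Sylow `r`-subgroups of a group with a central element of order 11. -/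
theorem card_sylow_dvd {H : Type*} [Group H] [Finite H] {r : ℕ} [Fact r.Prime] {z : H}
    (hz : ∀ h : H, Commute z h) (hzo : orderOf z = 11) (hr : r ≠ 11) (S : Sylow r H) :
    11 * Nat.card ↥(S : Subgroup H) * Nat.card (Sylow r H) ∣ Nat.card H ∧
      11 * Nat.card ↥(S : Subgroup H) ∣
        Nat.card ↥(centralizer ((S : Subgroup H) : Set H) ⊔ (S : Subgroup H)) := by
  have hzC : z ∈ centralizer ((S : Subgroup H) : Set H) :=
    mem_centralizer_iff.mpr fun s _ => (hz s).symm.eq
  have h11 : ∀ K : Subgroup H, z ∈ K → (S : Subgroup H) ≤ K →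
      11 * Nat.card ↥(S : Subgroup H) ∣ Nat.card K := by
    intro K hzK hSK
    refine Nat.Coprime.mul_dvd_of_dvd_of_dvd ?_ ?_ (card_dvd_of_le hSK)
    · obtain ⟨i, hi⟩ := S.2.exists_card_eq
      rw [hi]
      exact Nat.Coprime.pow_right i ((Nat.coprime_primes (by norm_num) Fact.out).mpr hr.symm)
    · rw [← hzo, ← Nat.card_zpowers]
      exact card_dvd_of_le (zpowers_le.mpr hzK)
  refine ⟨?_, h11 _ (mem_sup_left hzC) le_sup_right⟩
  rw [← card_normalizer_mul S]
  exact Nat.mul_dvd_mul_right (h11 _ (centralizer_le_normalizer _ hzC) le_normalizer) _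

/-- In a group of order 66 or 132 with a central element of order 11, some Sylow subgroup for
2 or 3 is normal. -/
theorem exists_normal_sylow {H : Type*} [Group H] [Finite H] {z : H}
    (hz : ∀ h : H, Commute z h) (hzo : orderOf z = 11)
    (hH : Nat.card H = 66 ∨ Nat.card H = 132) :
    ∃ r : ℕ, (r = 3 ∨ (r = 2 ∧ Nat.card H = 132)) ∧ ∃ S : Subgroup H, IsPGroup r S ∧ S ≠ ⊥ ∧
      ∀ x : H, (∃ i : ℕ, x ^ r ^ i = 1) → x ∈ S := by
  classical
  have : Fact (Nat.Prime 3) := ⟨by norm_num⟩
  have : Fact (Nat.Prime 2) := ⟨by norm_num⟩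
  obtain ⟨S⟩ := (inferInstance : Nonempty (Sylow 3 H))
  obtain ⟨h1, h2⟩ := card_sylow_dvd hz hzo (by norm_num) S
  have hS : Nat.card ↥(S : Subgroup H) = 3 := by
    rcases hH with h | h
    · rw [card_sylow_eq (a := 1) (m := 22) (by rw [h]; norm_num) (by norm_num) S]; norm_num
    · rw [card_sylow_eq (a := 1) (m := 44) (by rw [h]; norm_num) (by norm_num) S]; norm_num
  rw [hS] at h1 h2
  have hmod : Nat.card (Sylow 3 H) % 3 = 1 := by
    have := card_sylow_modEq_one (p := 3) (G := H)
    unfold Nat.ModEq at this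
    omega
  have uniq : ∀ {r : ℕ} [Fact r.Prime] (T : Sylow r H), Nat.card (Sylow r H) = 1 →
      ∀ x : H, (∃ i : ℕ, x ^ r ^ i = 1) → x ∈ (T : Subgroup H) := by
    intro r _ T hT x ⟨i, hi⟩
    have hp : IsPGroup r (zpowers x) := by
      obtain ⟨j, -, hj⟩ := (Nat.dvd_prime_pow Fact.out).mp (orderOf_dvd_of_pow_eq_one hi)
      exact IsPGroup.of_card (n := j) ((Nat.card_zpowers x).trans hj)
    obtain ⟨T', hT'⟩ := hp.exists_le_sylow
    have : Subsingleton (Sylow r H) := Finite.card_le_one_iff_subsingleton.mp hT.le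
    rw [Subsingleton.elim T T']
    exact hT' (mem_zpowers x)
  by_cases hn : Nat.card (Sylow 3 H) = 1
  · refine ⟨3, Or.inl rfl, S, S.2, fun h => ?_, uniq S hn⟩
    rw [h, card_bot] at hS
    norm_num at hS
  have hn4 : Nat.card (Sylow 3 H) = 4 ∧ Nat.card H = 132 := by
    rcases hH with h | h <;> rw [h] at h1 <;>
      have hle := Nat.le_of_dvd (by norm_num) h1
    · obtain ⟨k, hk⟩ := h1
      omega
    · obtain ⟨k, hk⟩ := h1
      have : Nat.card (Sylow 3 H) ∣ 4 := ⟨k, by
        have : 33 * 4 = 33 * (Nat.card (Sylow 3 H) * k) := by rw [← mul_assoc]; omega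
        omega⟩
      have h4 := Nat.le_of_dvd (by norm_num) this
      exact ⟨by omega, h⟩
  have hN := card_normalizer_mul S
  rw [hn4.1, hn4.2] at hN
  have hcent : normalizer ((S : Subgroup H) : Set H) ≤
      centralizer ((S : Subgroup H) : Set H) := by
    have hSc : (S : Subgroup H) ≤ centralizer ((S : Subgroup H) : Set H) := by
      have : IsCyclic ↥(S : Subgroup H) := isCyclic_of_prime_card hS
      exact le_centralizer _
    rw [sup_eq_left.mpr hSc] at h2
    refine (eq_of_le_of_card_ge (centralizer_le_normalizer _) ?_).ge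
    have := Nat.le_of_dvd Nat.card_pos h2
    omega
  set L := (MonoidHom.transferSylow S hcent).ker with hL
  have hLc : Nat.card L = 44 := by
    have h := (MonoidHom.ker_transferSylow_isComplement' S hcent).card_mul
    rw [hS, hn4.2] at h
    rw [← hL] at h
    omega
  have hLi : L.index = 3 := by
    have := L.card_mul_index
    rw [hLc, hn4.2] at this
    omega
  have hmemL : ∀ x : H, ∀ m : ℕ, Nat.Coprime 3 m → x ^ m = 1 → x ∈ L := by
    intro x m hm hx
    have h3 := L.pow_index_mem x
    rw [hLi] at h3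
    obtain ⟨k, hk⟩ := exists_pow_eq_self_of_coprime
      (Nat.Coprime.coprime_dvd_right (orderOf_dvd_of_pow_eq_one hx) hm : Nat.Coprime 3 (orderOf x))
    rw [← hk]
    exact pow_mem h3 k
  have hzL : z ∈ L := hmemL z 11 (by norm_num) (hzo ▸ pow_orderOf_eq_one z)
  obtain ⟨T⟩ := (inferInstance : Nonempty (Sylow 2 L))
  obtain ⟨hT1, -⟩ := card_sylow_dvd (z := (⟨z, hzL⟩ : L)) (fun h => Subtype.ext (hz h).eq)
    (by rw [orderOf_mk, hzo]) (by norm_num) T
  have hT : Nat.card ↥(T : Subgroup L) = 4 := by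
    rw [card_sylow_eq (a := 2) (m := 11) (by rw [hLc]; norm_num) (by norm_num) T]; norm_num
  rw [hT, hLc] at hT1
  have hT2 : Nat.card (Sylow 2 L) = 1 := by
    have := Nat.le_of_dvd (by norm_num) hT1
    have := Nat.card_pos (α := Sylow 2 L)
    omega
  refine ⟨2, Or.inr ⟨rfl, hn4.2⟩, (T : Subgroup L).map L.subtype, T.2.map _, fun h => ?_, ?_⟩
  · have : Nat.card ↥((T : Subgroup L).map L.subtype) = Nat.card ↥(T : Subgroup L) :=
      card_map_of_injective L.subtype_injective
    rw [h, card_bot, hT] at this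
    norm_num at this
  · rintro x ⟨i, hi⟩
    have hxL : x ∈ L := hmemL x _ (Nat.Coprime.pow_right i (by norm_num)) hi
    refine mem_map.mpr ⟨⟨x, hxL⟩, ?_, rfl⟩
    have hp : IsPGroup 2 (zpowers (⟨x, hxL⟩ : L)) := by
      obtain ⟨j, -, hj⟩ := (Nat.dvd_prime_pow Nat.prime_two).mp
        (orderOf_dvd_of_pow_eq_one hi)
      exact IsPGroup.of_card (n := j) (by rw [Nat.card_zpowers, orderOf_mk, hj])
    obtain ⟨T', hT'⟩ := hp.exists_le_sylow
    have : Subsingleton (Sylow 2 L) := Finite.card_le_one_iff_subsingleton.mp hT2.le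
    rw [Subsingleton.elim T T']
    exact hT' (mem_zpowers _)

section Block

open Cfsg.Agent.SmallGroups.SelfCent
open Cfsg.Agent.SmallGroups.SelfCent.Setup (deg deg_spec triv deg_triv)

private theorem degTable : ∀ d ∈ (8640 : ℕ).divisors, d * d ≤ 95040 →
    (d % 11 = 10 → d - 1 ∣ 95040 → d = 10) ∧ (d % 11 = 1 → d + 1 ∣ 95040 → d = 1) := by
  decide +kernel

/-- `|N(P) : C(P)| = 2` forces `C(P) = P`. -/
theorem no_two [Fintype G] [IsSimpleGroup G] [Fact (Nat.Prime 11)]
    (hne : ¬ IsMulCommutative G) (hG : Nat.card G = 95040)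
    (P : Sylow 11 G) (hP : Nat.card ↥(P : Subgroup G) = 11)
    (h2 : Nat.card ↥(normalizer ((P : Subgroup G) : Set G)) =
      2 * Nat.card ↥(centralizer ((P : Subgroup G) : Set G)))
    (hbig : Nat.card ↥(centralizer ((P : Subgroup G) : Set G)) ≠ 11) : False := by
  classical
  obtain ⟨M, hM⟩ := Cfsg.Agent.Blocks88.exists_isPModular (p := 11) (by norm_num)
  obtain ⟨z₀, hz₀⟩ := exists_prime_orderOf_dvd_card' (G := ↥(P : Subgroup G)) 11 (by rw [hP])
  have hz : orderOf (z₀ : G) = 11 := (orderOf_coe z₀).trans hz₀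
  have hzP : zpowers (z₀ : G) = (P : Subgroup G) :=
    zpowers_eq_of_card_prime hP z₀.2 (fun h => by rw [h, orderOf_one] at hz; norm_num at hz)
  have hidx : ¬ 11 ∣ (zpowers (z₀ : G)).index := by rw [hzP]; exact P.not_dvd_index
  obtain ⟨s, hs⟩ := Cfsg.Agent.BlocksCore.CyclicCount.exists_setup hz hidx
  have := Fintype.ofFinite s.Orb
  have hNs := s.card_normalizer
  rw [hs, hzP, h2] at hNs
  have hCs := s.card_cent
  rw [hs, ← centralizer_closure, ← zpowers_eq_closure, hzP] at hCs
  rw [hCs] at hNs hbig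
  have he : Nat.card s.auto = 2 := by
    have hpos : 0 < 11 * Nat.card s.K := by have := Nat.card_pos (α := s.K); omega
    exact (Nat.eq_of_mul_eq_mul_right hpos hNs).symm
  have ht : Nat.card s.Orb = 5 := by
    have := s.card_orb_mul
    rw [he] at this
    omega
  obtain ⟨D, R, hd, hRcard, htR, hfR, hR, -, -, hrest⟩ :=
    s.exists_principal_data hM (hs ▸ hidx) (by omega)
  rw [he] at hRcard
  obtain ⟨χ, hχ⟩ := Finset.card_eq_one.mp (show R.card = 1 by omega)
  obtain ⟨hc, -, hmod, hdvd⟩ := hR χ (hχ ▸ Finset.mem_singleton_self χ)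
  rw [hG] at hdvd
  have hrel := D.degree_eq
  rw [← Finset.sum_subset (Finset.subset_univ (insert triv R)) (fun ψ _ hψ => by
      simp only [Finset.mem_insert, not_or] at hψ
      rw [hrest ψ hψ.1 hψ.2, mul_zero]), Finset.sum_insert htR, D.c_triv, deg_triv, hχ,
      Finset.sum_singleton] at hrel
  push_cast at hrel hmod
  obtain ⟨o⟩ : Nonempty s.Orb := by
    refine (Finite.card_pos_iff).mp ?_
    omega
  have hbd : D.b ∣ 95040 := hG ▸ D.deg_f o ▸ (deg_spec (D.f o)).2.1
  have hb0 : 0 < D.b := D.deg_f o ▸ (deg_spec (D.f o)).1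
  have hsq : deg χ * deg χ ≤ 95040 := by
    have h := D.sum_sq_le {χ} (fun o => by rw [← hχ]; exact hfR o)
    rw [Finset.sum_singleton, hG] at h
    nlinarith
  obtain ⟨t1, t2⟩ := degTable (deg χ)
    (Nat.mem_divisors.mpr ⟨by simpa using hdvd, by norm_num⟩) hsq
  have hd1 : deg χ ≠ 1 := fun h => htR (by
    rw [hχ, (deg_eq_one_iff hne χ).mp h]; exact Finset.mem_singleton_self _)
  have hd0 := (deg_spec χ).1
  have key : deg χ = 10 ∧ D.c χ = 1 := by
    rcases hc with h | h <;> rw [h] at hrel hmod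
    · refine ⟨t1 (by omega) ?_, h⟩
      rcases D.eps_eq with e | e <;> rw [e] at hrel
      · omega
      · rwa [show deg χ - 1 = D.b by omega]
    · exfalso
      refine hd1 (t2 (by omega) ?_)
      rcases D.eps_eq with e | e <;> rw [e] at hrel
      · rwa [show deg χ + 1 = D.b by omega]
      · omega
  obtain ⟨hdeg, hc1⟩ := key
  -- so the `K`-fixed part is everything
  obtain ⟨n, hn, hle, hnmod⟩ := s.exists_fix χ
  rw [D.sum_vec, if_neg (fun ⟨o, ho⟩ => hfR o (by rw [hχ, ← ho]; exact Finset.mem_singleton_self _)),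
    he, ht, hc1] at hnmod
  have hn10 : n = 10 := by
    rw [hdeg] at hle
    rw [Int.modEq_iff_dvd] at hnmod
    push_cast at hnmod
    omega
  rw [hn10] at hn
  -- a nontrivial element of `K`
  have hK : Nat.card s.K ≠ 1 := fun h => hbig (by rw [h, mul_one])
  obtain ⟨w, hw, hw1⟩ : ∃ w ∈ s.K, w ≠ 1 := by
    by_contra hc'
    push Not at hc'
    exact hK (by rw [(eq_bot_iff_forall _).mpr hc', card_bot])
  have hnorm : ∀ v : G, ‖(χ : G → ℂ) v‖ ≤ (10 : ℝ) := by
    intro v
    obtain ⟨m, ρ, hρ, hχρ⟩ := χ.2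
    rw [← hχρ]
    refine (CharCore.norm_character_le ρ v).trans (le_of_eq ?_)
    have h1 : (χ : G → ℂ) 1 = (deg χ : ℂ) := (deg_spec χ).2.2
    rw [← hχρ, ρ.char_one, hdeg] at h1
    exact_mod_cast h1
  have hsum : ∑ v ∈ s.kset, ((χ : G → ℂ) v).re = ∑ v ∈ s.kset, (10 : ℝ) := by
    have h := hn
    rw [Setup.phi, inv_mul_eq_iff_eq_mul₀ s.card_kset_ne_zero] at h
    simp only [s.zp_zero, one_mul] at h
    have h' := congrArg Complex.re h
    rw [Complex.re_sum] at h'
    rw [h', Finset.sum_const, nsmul_eq_mul]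
    simp
  have hre : ((χ : G → ℂ) w).re = 10 :=
    (Finset.sum_eq_sum_iff_of_le fun v _ => (Complex.re_le_norm _).trans (hnorm v)).mp hsum w
      (s.mem_kset.mpr hw)
  refine value_ne_deg (χ := χ) (fun h => htR (by rw [hχ, h]; exact Finset.mem_singleton_self _)) hw1 ?_
  rw [hdeg]
  have hq := hnorm w
  have hsqn := Complex.sq_norm ((χ : G → ℂ) w)
  rw [Complex.normSq_apply, hre] at hsqn
  have him : ((χ : G → ℂ) w).im = 0 := by
    have := norm_nonneg ((χ : G → ℂ) w)
    nlinarith
  exact Complex.ext (by simp [hre]) (by simp [him])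

end Block

private theorem dvd_list8640 : ∀ d ∈ (8640 : ℕ).divisors, d % 11 = 1 →
    d ∈ [1, 12, 45, 144, 320, 540, 1728] := by
  decide +kernel

/-- The normaliser of a subgroup of order 11 of a simple group of order 95040 has order 55. -/
theorem sylow11_normalizer [Finite G] (hG : Cfsg.IsM12 G) :
    ∀ Q : Subgroup G, Nat.card Q = 11 → Nat.card (normalizer (Q : Set G)) = 55 := by
  intro Q hQ
  have hs := hG.1
  have hc : Nat.card G = 95040 := hG.2
  have : Fact (Nat.Prime 11) := ⟨by norm_num⟩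
  have hnc : ¬ IsMulCommutative G := not_comm_of_not_prime (by rw [hc]; norm_num)
  obtain ⟨P, hQP⟩ := (IsPGroup.of_card (n := 1) (hQ.trans (pow_one 11).symm)).exists_le_sylow
  have hP : Nat.card ↥(P : Subgroup G) = 11 := by
    simpa using card_sylow_eq (p := 11) (a := 1) (m := 8640) (by rw [hc]; norm_num)
      (by norm_num) P
  rw [eq_of_le_of_card_ge hQP (by rw [hQ, hP])]
  set N := normalizer ((P : Subgroup G) : Set G) with hNdef
  set C := centralizer ((P : Subgroup G) : Set G) with hCdef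
  obtain ⟨hd, hm⟩ := card_sylow_mem (p := 11) (a := 1) (m := 8640) (G := G)
    (by rw [hc]; norm_num) (by norm_num)
  have hne := card_sylow_ne_one hnc (p := 11) (by rw [hc]; norm_num)
  have hlist := dvd_list8640 _ (Nat.mem_divisors.mpr ⟨hd, by norm_num⟩) hm
  have hN := card_normalizer_mul P
  rw [← hNdef, hc] at hN
  have hmul : Nat.card C * C.relIndex N = Nat.card N :=
    card_centralizer_mul_relIndex (P : Subgroup G)
  have hrel : C.relIndex N ∣ 10 := relIndex_centralizer_dvd_of_prime (P : Subgroup G) hP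
  have hBurn : C.relIndex N ≠ 1 := fun h =>
    not_normalizer_le_centralizer hnc (by rw [hc]; norm_num) P (relIndex_eq_one.mp h)
  have hrel' := (Nat.mem_divisors.mpr ⟨hrel, by norm_num⟩ : _ ∈ (10 : ℕ).divisors)
  rw [show (10 : ℕ).divisors = {1, 2, 5, 10} by decide] at hrel'
  simp only [Finset.mem_insert, Finset.mem_singleton] at hrel'
  replace hrel' := hrel'.resolve_left hBurn
  simp only [List.mem_cons, List.not_mem_nil, or_false] at hlist
  rcases hlist with h | h | h | h | h | h | h <;> rw [h] at hN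
  · exact absurd h hne
  · exfalso
    have hdvd := card_centralizer_dvd hnc P hP (by norm_num) (n := 1) (by rw [h])
    rw [show Nat.card (alternatingGroup (Fin 1)) = 1 by
      rw [Nat.card_eq_fintype_card]; decide +kernel, mul_one, ← hCdef] at hdvd
    have hCb := Nat.le_of_dvd (by norm_num) hdvd
    rcases hrel' with r | r | r <;> rw [r] at hmul <;> omega
  · exfalso
    have hdvd := card_centralizer_dvd hnc P hP (by norm_num) (n := 4) (by rw [h])
    rw [show Nat.card (alternatingGroup (Fin 4)) = 12 by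
      rw [Nat.card_eq_fintype_card]; decide +kernel, ← hCdef] at hdvd
    have hCb := Nat.le_of_dvd (by norm_num) hdvd
    rcases hrel' with r | r | r <;> rw [r] at hmul <;> omega
  · exfalso
    have := Fintype.ofFinite G
    rcases hrel' with e | e | e <;> rw [e] at hmul
    · exact no_two hnc hc P hP (by rw [← hNdef, ← hCdef]; omega) (by rw [← hCdef]; omega)
    all_goals
      obtain ⟨z₀, hz₀⟩ := exists_prime_orderOf_dvd_card' (G := ↥(P : Subgroup G)) 11 (by rw [hP])
      have hz : orderOf (z₀ : G) = 11 := (orderOf_coe z₀).trans hz₀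
      have hPC : (P : Subgroup G) ≤ C := by
        have : IsCyclic ↥(P : Subgroup G) := isCyclic_of_prime_card hP
        exact le_centralizer _
      obtain ⟨r, hr, S, hS, hS1, hSmax⟩ := exists_normal_sylow (z := (⟨z₀, hPC z₀.2⟩ : C))
        (fun c => Subtype.ext (mem_centralizer_iff.mp c.2 _ z₀.2))
        (by rw [orderOf_mk, hz]) (by omega)
      have hrp : r.Prime := by rcases hr with rfl | ⟨rfl, -⟩ <;> norm_num
      have : Fact r.Prime := ⟨hrp⟩
      refine no_core hc P hP (by rw [← hNdef]; omega) r (hr.symm.imp And.left id) ?_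
        (S.map C.subtype) (hS.map _) (fun h => hS1 ((map_eq_bot_iff_of_injective _
          C.subtype_injective).mp h)) (map_subtype_le S) ?_
      · rw [← hNdef, ← hCdef, e]
        rcases hr with rfl | ⟨rfl, hr⟩
        · norm_num
        · first
            | (norm_num; done)
            | exact absurd hr (by omega)
      · rintro x hx ⟨i, hi⟩
        exact mem_map.mpr ⟨⟨x, hx⟩, hSmax _ ⟨i, Subtype.ext hi⟩, rfl⟩
  · exfalso
    rcases hrel' with r | r | r <;> rw [r] at hmul <;> omega
  · exfalso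
    rcases hrel' with r | r | r <;> rw [r] at hmul <;> try omega
    have := Fintype.ofFinite G
    exact no_two hnc hc P hP (by rw [← hNdef, ← hCdef]; omega) (by rw [← hCdef]; omega)
  · omega

end Cfsg.Agent.M12Uniq.OrderEleven
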