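import Cfsg.Agent.M12Uniq.OrderFiveAux
import Cfsg.Agent.M12Uniq.CountsDefs

/-!
# The elements of order 5 of a simple group of order 95040

`five_data`: an element of order 5 has a centraliser of order 10, its cyclic subgroup a normaliser
of order 40.  `exists_block_degs`: the degrees in the principal 11-block are 45, 54, 120, 144.
-/

set_option autoImplicit false
set_option linter.unusedSectionVars false

namespace Cfsg.Agent.M12Uniq.OrderFive

open Subgroup
open Cfsg.Agent.SmallGroups
open Cfsg.Agent.SmallGroups.SelfCent.Setup (deg deg_spec)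

variable {G : Type*} [Group G]

private theorem dvd_list19008 : ∀ d ∈ (19008 : ℕ).divisors, d % 5 = 1 → 11 ∣ d →
    d ∈ [11, 66, 176, 396, 1056, 2376, 6336] := by
  decide +kernel

/-- The `r`-elements of `C(P)` form a subgroup normalised by `N(P)`. -/
theorem normalizer_le_of_max [Finite G] {r : ℕ} (P : Subgroup G) (A : Subgroup G)
    (hAr : IsPGroup r A) (hAC : A ≤ centralizer (P : Set G))
    (hAmax : ∀ x ∈ centralizer (P : Set G), (∃ i : ℕ, x ^ r ^ i = 1) → x ∈ A) :
    normalizer (P : Set G) ≤ normalizer (A : Set G) := by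
  intro g hg
  have key : ∀ g' ∈ normalizer (P : Set G), ∀ a ∈ A, g' * a * g'⁻¹ ∈ A := by
    intro g' hg' a ha
    refine hAmax _ ?_ ?_
    · rw [mem_centralizer_iff]
      intro u hu
      have hu' : g'⁻¹ * u * g' ∈ P := by
        have h := (mem_normalizer_iff.mp (inv_mem hg') u).mp hu
        simpa [mul_assoc] using h
      have h1 := mem_centralizer_iff.mp (hAC ha) _ hu'
      calc u * (g' * a * g'⁻¹) = g' * (g'⁻¹ * u * g' * a) * g'⁻¹ := by group
        _ = g' * (a * (g'⁻¹ * u * g')) * g'⁻¹ := by rw [h1]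
        _ = g' * a * g'⁻¹ * u := by group
    · obtain ⟨i, hi⟩ := hAr ⟨a, ha⟩
      have hi' : a ^ r ^ i = 1 := by simpa using congrArg Subtype.val hi
      exact ⟨i, by rw [conj_pow, hi', mul_one, mul_inv_cancel]⟩
  rw [mem_normalizer_iff]
  intro a
  refine ⟨fun ha => key g hg a ha, fun ha => ?_⟩
  have := key g⁻¹ (inv_mem hg) _ ha
  simpa [mul_assoc] using this

/-- The normal Sylow 3-subgroup of `C(P)`. -/
theorem exists_three_core [Finite G] [Fact (Nat.Prime 5)] (P : Sylow 5 G)
    (hP : Nat.card ↥(P : Subgroup G) = 5) {i m : ℕ} (hm : m = 1 ∨ m = 2)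
    (hC : Nat.card ↥(centralizer ((P : Subgroup G) : Set G)) = 3 ^ i * (5 * m)) :
    ∃ A : Subgroup G, Nat.card A = 3 ^ i ∧ A ≤ centralizer ((P : Subgroup G) : Set G) ∧
      IsPGroup 3 A ∧
      ∀ x ∈ centralizer ((P : Subgroup G) : Set G), (∃ j : ℕ, x ^ 3 ^ j = 1) → x ∈ A := by
  have : Fact (Nat.Prime 3) := ⟨by norm_num⟩
  set C := centralizer ((P : Subgroup G) : Set G) with hCdef
  obtain ⟨S⟩ := (inferInstance : Nonempty (Sylow 3 C))
  have hS : Nat.card ↥(S : Subgroup C) = 3 ^ i :=
    card_sylow_eq (a := i) (m := 5 * m) hC (by rcases hm with rfl | rfl <;> norm_num) S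
  obtain ⟨q, hq⟩ := exists_prime_orderOf_dvd_card' (G := ↥(P : Subgroup G)) 5 (by rw [hP])
  have hq' : orderOf (q : G) = 5 := (orderOf_coe q).trans hq
  have hPC : (P : Subgroup G) ≤ C := by
    have : IsCyclic ↥(P : Subgroup G) := isCyclic_of_prime_card hP
    exact le_centralizer _
  set z : C := ⟨q, hPC q.2⟩ with hzdef
  have hz : ∀ c : C, c * z = z * c := fun c =>
    Subtype.ext (mem_centralizer_iff.mp c.2 _ q.2).symm
  have hzo : orderOf z = 5 := by rw [hzdef, orderOf_mk, hq']
  have h15 : 5 * 3 ^ i ∣ Nat.card ↥(normalizer ((S : Subgroup C) : Set C)) := by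
    refine Nat.Coprime.mul_dvd_of_dvd_of_dvd (Nat.Coprime.pow_right i (by norm_num)) ?_
      (hS ▸ card_dvd_of_le le_normalizer)
    rw [← hzo]
    exact orderOf_dvd_natCard _ (centralizer_le_normalizer _
      (mem_centralizer_iff.mpr fun c _ => hz c))
  have hn := card_normalizer_mul S
  obtain ⟨k, hk⟩ := h15
  rw [hk, hC] at hn
  have hkm : k * Nat.card (Sylow 3 C) = m := by
    have : 5 * 3 ^ i * (k * Nat.card (Sylow 3 C)) = 5 * 3 ^ i * m := by rw [← mul_assoc, hn]; ring
    exact Nat.eq_of_mul_eq_mul_left (by positivity) this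
  have hmod := card_sylow_modEq_one (p := 3) (G := C)
  have hS1 : Nat.card (Sylow 3 C) = 1 := by
    have hdvd : Nat.card (Sylow 3 C) ∣ m := ⟨k, by rw [← hkm, mul_comm]⟩
    have hle := Nat.le_of_dvd (by omega) hdvd
    unfold Nat.ModEq at hmod
    omega
  refine ⟨(S : Subgroup C).map C.subtype, ?_, map_subtype_le _, S.2.map _, ?_⟩
  · rw [← hS]; exact card_map_of_injective C.subtype_injective
  · rintro x hx ⟨j, hj⟩
    refine mem_map.mpr ⟨⟨x, hx⟩, ?_, rfl⟩
    have hp : IsPGroup 3 (zpowers (⟨x, hx⟩ : C)) := by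
      obtain ⟨t, -, ht⟩ := (Nat.dvd_prime_pow Nat.prime_three).mp (orderOf_dvd_of_pow_eq_one hj)
      exact IsPGroup.of_card (n := t) (by rw [Nat.card_zpowers, orderOf_mk, ht])
    obtain ⟨S', hS'⟩ := hp.exists_le_sylow
    have : Subsingleton (Sylow 3 C) := Finite.card_le_one_iff_subsingleton.mp hS1.le
    rw [Subsingleton.elim S S']
    exact hS' (mem_zpowers _)

/-- No 176 Sylow subgroups of order 5. -/
theorem not_176 [Finite G] [IsSimpleGroup G] [Fact (Nat.Prime 5)] (hcard : Nat.card G = 95040)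
    (hsyl : ∀ P : Subgroup G, Nat.card P = 11 → Nat.card (normalizer (P : Set G)) = 55)
    (P : Sylow 5 G) (hP : Nat.card ↥(P : Subgroup G) = 5)
    (hN : Nat.card ↥(normalizer ((P : Subgroup G) : Set G)) = 540) {m : ℕ} (hm : m = 1 ∨ m = 2)
    (hC : Nat.card ↥(centralizer ((P : Subgroup G) : Set G)) = 3 ^ 3 * (5 * m)) : False := by
  have : Fact (Nat.Prime 3) := ⟨by norm_num⟩
  obtain ⟨A, hA, hAC, hAp, hAmax⟩ := exists_three_core P hP hm hC
  have hNX := normalizer_le_of_max (P : Subgroup G) A hAp hAC hAmax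
  set X := normalizer (A : Set G)
  obtain ⟨S, hAS⟩ := hAp.exists_le_sylow
  have hS : Nat.card ↥(S : Subgroup G) = 27 := by
    rw [card_sylow_eq (a := 3) (m := 3520) (by rw [hcard]; norm_num) (by norm_num) S]; norm_num
  have hAS' : A = (S : Subgroup G) :=
    eq_of_le_of_card_ge hAS (by rw [hS, hA]; norm_num)
  have hn3 := card_normalizer_mul S
  rw [← hAS', hcard] at hn3
  have hm3 : Nat.card (Sylow 3 G) % 3 = 1 := by
    have := card_sylow_modEq_one (p := 3) (G := G)
    unfold Nat.ModEq at this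
    omega
  have h11 := not_eleven_dvd_normalizer hcard hsyl (A := A) (Or.inr (hA.trans (by norm_num)))
  set j := ((normalizer ((P : Subgroup G) : Set G)).subgroupOf X).index with hj
  have hj1 : j % 5 = 1 := by
    have := index_normalizer_subgroupOf_modEq P (D := X) (le_normalizer.trans hNX)
    unfold Nat.ModEq at this
    omega
  have hjm := ((normalizer ((P : Subgroup G) : Set G)).subgroupOf X).card_mul_index
  rw [Nat.card_congr (subgroupOfEquivOfLe hNX).toEquiv, hN, ← hj] at hjm
  rw [← hjm] at hn3 h11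
  have hdvd : j ∣ 176 := ⟨Nat.card (Sylow 3 G), Nat.eq_of_mul_eq_mul_left (show 0 < 540 by norm_num)
    (by rw [← mul_assoc]; omega)⟩
  have htab : ∀ j ∈ (176 : ℕ).divisors, j % 5 = 1 → ¬ 11 ∣ 540 * j →
      ∀ n ∈ (176 : ℕ).divisors, 540 * j * n = 95040 → n % 3 ≠ 1 := by decide +kernel
  refine htab j (Nat.mem_divisors.mpr ⟨hdvd, by norm_num⟩) hj1 h11 _
    (Nat.mem_divisors.mpr ⟨?_, by norm_num⟩) hn3 hm3
  exact ⟨j, Nat.eq_of_mul_eq_mul_left (show 0 < 540 by norm_num) (by
    rw [mul_comm (Nat.card (Sylow 3 G)) j, ← mul_assoc]; omega)⟩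

/-- No 1056 Sylow subgroups of order 5. -/
theorem not_1056 [Finite G] [IsSimpleGroup G] [Fact (Nat.Prime 5)] (hcard : Nat.card G = 95040)
    (hsyl : ∀ P : Subgroup G, Nat.card P = 11 → Nat.card (normalizer (P : Set G)) = 55)
    (P : Sylow 5 G) (hP : Nat.card ↥(P : Subgroup G) = 5)
    (hN : Nat.card ↥(normalizer ((P : Subgroup G) : Set G)) = 90)
    (hC : Nat.card ↥(centralizer ((P : Subgroup G) : Set G)) = 45) : False := by
  classical
  have : Fact (Nat.Prime 3) := ⟨by norm_num⟩
  have hnc : ¬ IsMulCommutative G := not_comm_of_not_prime (by rw [hcard]; norm_num)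
  obtain ⟨A, hA, hAC, hAp, hAmax⟩ :=
    exists_three_core P hP (i := 2) (Or.inl rfl) (hC.trans (by norm_num))
  norm_num at hA
  have hNX := normalizer_le_of_max (P : Subgroup G) A hAp hAC hAmax
  set N := normalizer ((P : Subgroup G) : Set G)
  set X := normalizer (A : Set G) with hXdef
  have h11 := not_eleven_dvd_normalizer hcard hsyl (A := A) (Or.inl hA)
  have h27 : 3 ^ (2 + 1) ∣ Nat.card X :=
    Sylow.prime_pow_dvd_card_normalizer (by rw [hcard]; norm_num) (by rw [hA]; norm_num)
  have hindex : ∀ (Y : Subgroup G), N ≤ Y → Nat.card Y ∣ 95040 ∧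
      (N.subgroupOf Y).index % 5 = 1 ∧ 90 * (N.subgroupOf Y).index = Nat.card Y := by
    intro Y hY
    refine ⟨hcard ▸ card_subgroup_dvd_card Y, ?_, ?_⟩
    · have := index_normalizer_subgroupOf_modEq P (D := Y) (le_normalizer.trans hY)
      unfold Nat.ModEq at this
      omega
    · have := (N.subgroupOf Y).card_mul_index
      rwa [Nat.card_congr (subgroupOfEquivOfLe hY).toEquiv, hN] at this
  have htab : ∀ j ∈ (1056 : ℕ).divisors, j % 5 = 1 → ¬ 11 ∣ 90 * j → 27 ∣ 90 * j →
      j = 6 ∨ j = 96 := by decide +kernel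
  have hnot96 : ∀ (Y : Subgroup G), N ≤ Y → ∀ a ∈ A, a ≠ 1 → a ∈ Y →
      Nat.card Y ≠ 8640 := by
    intro Y hY a ha ha1 haY h
    have hi := Y.card_mul_index
    rw [h, hcard] at hi
    obtain ⟨t, -, ht⟩ := (Nat.dvd_prime_pow Nat.prime_three).mp
      (show orderOf a ∣ 3 ^ 2 by norm_num; exact hA ▸ orderOf_dvd_natCard _ ha)
    have ht0 : t ≠ 0 := fun h => ha1 (orderOf_eq_one_iff.mp (by rw [ht, h, pow_zero]))
    obtain ⟨t, rfl⟩ := Nat.exists_eq_succ_of_ne_zero ht0
    have hy : orderOf (a ^ 3 ^ t) = 3 := by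
      rw [orderOf_pow' _ (pow_ne_zero _ (by norm_num)), ht,
        Nat.gcd_eq_right (pow_dvd_pow 3 (Nat.le_succ t)), pow_succ,
        Nat.mul_div_cancel_left _ (pow_pos (by norm_num) t)]
    have hY : Y ≠ ⊤ := fun h' => by rw [h', card_top, hcard] at h; norm_num at h
    have := mul_le_index (p := 5) (r := 3) (by norm_num) P hP Y hY ‹N ≤ Y›
      (pow_mem haY _) (pow_mem (hAC ha) _) hy
    omega
  obtain ⟨a₀, ha₀, ha₀1⟩ : ∃ a ∈ A, a ≠ 1 := by
    by_contra hc
    push Not at hc
    rw [(eq_bot_iff_forall _).mpr hc, card_bot] at hA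
    norm_num at hA
  obtain ⟨hd, hj1, hj⟩ := hindex X hNX
  have hX : Nat.card X = 540 := by
    have hjd : (N.subgroupOf X).index ∣ 1056 :=
      (Nat.mul_dvd_mul_iff_left (show 0 < 90 by norm_num)).mp (by rw [hj]; norm_num; exact hd)
    rcases htab _ (Nat.mem_divisors.mpr ⟨hjd, by norm_num⟩) hj1 (by rw [hj]; exact h11)
      (by rw [hj]; simpa using h27) with h | h
    · omega
    · exact absurd (by omega) (hnot96 X hNX a₀ ha₀ ha₀1 (le_normalizer ha₀))
  -- `A` is central in `X`
  set T := centralizer (A : Set G) with hT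
  have hTX : T ≤ X := centralizer_le_normalizer _
  have hPT : (P : Subgroup G) ≤ T := fun u hu => mem_centralizer_iff.mpr fun a ha =>
    (mem_centralizer_iff.mp (hAC ha) u hu).symm
  have hTn : (T.subgroupOf X).Normal := by
    refine ⟨fun c hc g => ?_⟩
    rw [mem_subgroupOf] at hc ⊢
    rw [hT, mem_centralizer_iff] at hc ⊢
    intro u hu
    have hu' : (g : G)⁻¹ * u * g ∈ A := by
      have h := (mem_normalizer_iff.mp (inv_mem g.2) u).mp hu
      simpa [mul_assoc] using h
    have h1 := hc _ hu'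
    push_cast
    calc u * ((g : G) * c * (g : G)⁻¹) = g * ((g : G)⁻¹ * u * g * c) * (g : G)⁻¹ := by group
      _ = g * ((c : G) * ((g : G)⁻¹ * u * g)) * (g : G)⁻¹ := by rw [h1]
      _ = g * c * (g : G)⁻¹ * u := by group
  set P' := P.subtype hPT
  have hP' : Nat.card ↥(P' : Subgroup T) = 5 := by
    rw [Sylow.coe_subtype, Nat.card_congr (subgroupOfEquivOfLe hPT).toEquiv, hP]
  have hAc : ∀ a ∈ A, ∀ b ∈ A, a * b = b * a := by
    have : IsMulCommutative ↥A := IsPGroup.isMulCommutative_of_card_eq_prime_sq (p := 3) (by rw [hA]; norm_num)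
    exact fun a ha b hb => congrArg Subtype.val (mul_comm' (⟨a, ha⟩ : A) ⟨b, hb⟩)
  have hAT : A ≤ T := fun a ha => mem_centralizer_iff.mpr fun b hb => hAc b hb a ha
  have h45 : 45 ∣ Nat.card ↥(centralizer ((P' : Subgroup T) : Set T)) := by
    have hAsub : A.subgroupOf T ≤ centralizer ((P' : Subgroup T) : Set T) := fun a ha => by
      rw [mem_centralizer_iff]
      exact fun u hu => Subtype.ext (mem_centralizer_iff.mp (hAC ha) u hu)
    have hPsub : (P' : Subgroup T) ≤ centralizer ((P' : Subgroup T) : Set T) := by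
      have : IsCyclic ↥(P' : Subgroup T) := isCyclic_of_prime_card hP'
      exact le_centralizer _
    rw [show 45 = 5 * 9 from rfl]
    refine Nat.Coprime.mul_dvd_of_dvd_of_dvd (by norm_num) (dvd_trans (dvd_of_eq hP'.symm) (card_dvd_of_le hPsub)) ?_
    rw [← hA, ← Nat.card_congr (subgroupOfEquivOfLe hAT).toEquiv]
    exact card_dvd_of_le hAsub
  have hTN : Nat.card ↥(normalizer ((P' : Subgroup T) : Set T)) ∣ 90 := by
    rw [Sylow.coe_subtype, ← subgroupOf_normalizer_eq hPT, ← hN]
    rw [← card_map_of_injective T.subtype_injective, subgroupOf_map_subtype]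
    exact card_dvd_of_le inf_le_left
  have hn5 : Nat.card (Sylow 5 T) ≠ 1 := by
    intro h1
    have : Subsingleton (Sylow 5 T) := Finite.card_le_one_iff_subsingleton.mp h1.le
    have hXN : X ≤ N := by
      intro g hg
      have hgT : ((g • P : Sylow 5 G) : Subgroup G) ≤ T := by
        intro u hu
        rw [Sylow.coe_subgroup_smul, mem_pointwise_smul_iff_inv_smul_mem] at hu
        have hu' : g⁻¹ * u * g ∈ (P : Subgroup G) := by simpa [MulAut.smul_def] using hu
        have h := hTn.conj_mem ⟨_, hTX (hPT hu')⟩ (mem_subgroupOf.mpr (hPT hu')) ⟨g, hg⟩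
        simpa [mem_subgroupOf, mul_assoc] using h
      exact Sylow.smul_eq_iff_mem_normalizer.mp
        (Sylow.subtype_injective (Subsingleton.elim ((g • P).subtype hgT) (P.subtype hPT)))
    have := card_dvd_of_le hXN
    rw [hX, hN] at this
    norm_num at this
  have hTd : Nat.card T ∣ 540 := hX ▸ card_dvd_of_le hTX
  have hmul := card_normalizer_mul P'
  have hm5 : Nat.card (Sylow 5 T) % 5 = 1 := by
    have := card_sylow_modEq_one (p := 5) (G := T)
    unfold Nat.ModEq at this
    omega
  have hCN' := centralizer_le_normalizer ((P' : Subgroup T) : Set T)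
  have h45N : 45 ∣ Nat.card ↥(normalizer ((P' : Subgroup T) : Set T)) :=
    h45.trans (card_dvd_of_le hCN')
  have hTcases : Nat.card T = 540 ∨ (Nat.card T = 270 ∧
      Nat.card ↥(normalizer ((P' : Subgroup T) : Set T)) = 45) := by
    rcases (show Nat.card ↥(normalizer ((P' : Subgroup T) : Set T)) = 45 ∨
        Nat.card ↥(normalizer ((P' : Subgroup T) : Set T)) = 90 by
      obtain ⟨k, hk⟩ := h45N
      rw [hk] at hTN ⊢
      have := Nat.le_of_dvd (by norm_num) hTN
      have : 0 < k := by
        rcases k.eq_zero_or_pos with rfl | h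
        · norm_num at hTN
        · exact h
      omega) with h | h <;> rw [h] at hmul
    · have h12 : Nat.card (Sylow 5 T) ∣ 12 := (Nat.mul_dvd_mul_iff_left (show 0 < 45 by norm_num)).mp
        (by rw [hmul]; norm_num; exact hTd)
      have := Nat.le_of_dvd (by norm_num) h12
      have : Nat.card (Sylow 5 T) ≠ 11 := fun e => by rw [e] at h12; norm_num at h12
      exact Or.inr ⟨by omega, h⟩
    · have h6 : Nat.card (Sylow 5 T) ∣ 6 := (Nat.mul_dvd_mul_iff_left (show 0 < 90 by norm_num)).mp
        (by rw [hmul]; norm_num; exact hTd)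
      have := Nat.le_of_dvd (by norm_num) h6
      exact Or.inl (by omega)
  rcases hTcases with hT540 | ⟨hT270, hN45⟩
  swap
  · have hle : normalizer ((P' : Subgroup T) : Set T) ≤ centralizer ((P' : Subgroup T) : Set T) :=
      (eq_of_le_of_card_ge hCN' (hN45 ▸ Nat.le_of_dvd Nat.card_pos h45)).ge
    have h := sylow_three_centralised P' hP' hle (i := 3) (Or.inr rfl) (hT270.trans (by norm_num))
    rw [hN45] at h
    norm_num at h
  have hTeq : T = X := eq_of_le_of_card_ge hTX (by rw [hT540, hX])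
  have hcent : ∀ x ∈ X, ∀ a ∈ A, a * x = x * a := fun x hx a ha =>
    mem_centralizer_iff.mp (hTeq ▸ hx : x ∈ T) a ha
  have hcX : ∀ a ∈ A, a ≠ 1 → centralizer ({a} : Set G) = X := by
    intro a ha ha1
    set Y := centralizer ({a} : Set G)
    have hXY : X ≤ Y := fun x hx => mem_centralizer_singleton_iff.mpr (hcent x hx a ha).symm
    obtain ⟨hdY, hjY1, hjY⟩ := hindex Y (hNX.trans hXY)
    have hd540 := card_dvd_of_le hXY
    rw [hX] at hd540
    have h11Y : ¬ 11 ∣ Nat.card Y := fun h => by
      have : Fintype G := Fintype.ofFinite G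
      have ha3 : orderOf a ≠ 11 := fun e => by
        have := orderOf_dvd_natCard _ ha
        rw [e, hA] at this
        norm_num at this
      have := cC_dvd_8640 hcard hsyl ha1 ha3
      exact absurd (h.trans this) (by norm_num)
    have hjd : (N.subgroupOf Y).index ∣ 1056 :=
      (Nat.mul_dvd_mul_iff_left (show 0 < 90 by norm_num)).mp (by rw [hjY]; norm_num; exact hdY)
    rcases htab _ (Nat.mem_divisors.mpr ⟨hjd, by norm_num⟩) hjY1 (by rw [hjY]; exact h11Y)
      (by rw [hjY]; exact (show 27 ∣ 540 by norm_num).trans hd540) with h | h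
    · exact (eq_of_le_of_card_ge hXY (by rw [hX]; omega)).symm
    · exact absurd (by omega) (hnot96 Y (hNX.trans hXY) a ha ha1
        (mem_centralizer_singleton_iff.mpr rfl))
  obtain ⟨S₀⟩ := (inferInstance : Nonempty (Sylow 3 X))
  obtain ⟨S, hS₀⟩ := (S₀.2.map X.subtype).exists_le_sylow
  have hS : Nat.card ↥(S : Subgroup G) = 27 := by
    rw [card_sylow_eq (a := 3) (m := 3520) (by rw [hcard]; norm_num) (by norm_num) S]; norm_num
  have hS₀' : (S₀ : Subgroup X).map X.subtype = (S : Subgroup G) := by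
    refine eq_of_le_of_card_ge hS₀ ?_
    rw [hS, card_map_of_injective X.subtype_injective,
      card_sylow_eq (a := 3) (m := 20) (by rw [hX]; norm_num) (by norm_num) S₀]
    norm_num
  have hSX : (S : Subgroup G) ≤ X := hS₀' ▸ map_subtype_le _
  have hAS : A ≤ (S : Subgroup G) := by
    have hAn : (A.subgroupOf X).Normal := normal_subgroupOf_iff_le_normalizer (hTeq ▸ hAT) |>.mpr le_rfl
    have hle : A.subgroupOf X ≤ (S₀ : Subgroup X) :=
      (IsPGroup.of_card (n := 2) (by
        rw [Nat.card_congr (subgroupOfEquivOfLe (hTeq ▸ hAT : A ≤ X)).toEquiv, hA]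
        norm_num)).le_sylow_of_normal S₀
    intro a ha
    rw [← hS₀']
    exact mem_map.mpr ⟨⟨a, (hTeq ▸ hAT : A ≤ X) ha⟩, hle (mem_subgroupOf.mpr ha), rfl⟩
  have hScomm : ∀ x ∈ (S : Subgroup G), ∀ y ∈ (S : Subgroup G), x * y = y * x := by
    obtain ⟨s, hs, hsA⟩ : ∃ s ∈ (S : Subgroup G), s ∉ A := by
      by_contra hc
      push Not at hc
      have := card_dvd_of_le (show (S : Subgroup G) ≤ A from hc)
      rw [hS, hA] at this
      norm_num at this
    set H := A ⊔ zpowers s
    have hH : (S : Subgroup G) = H := by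
      refine (eq_of_le_of_card_ge (sup_le hAS (zpowers_le.mpr hs)) ?_).symm
      have h1 : A < H := lt_of_le_of_ne le_sup_left fun h =>
        hsA (h ▸ (le_sup_right : zpowers s ≤ H) (mem_zpowers s))
      have h9 : 9 ∣ Nat.card H := hA ▸ card_dvd_of_le h1.le
      have h27 : Nat.card H ∣ 27 := hS ▸ card_dvd_of_le (sup_le hAS (zpowers_le.mpr hs))
      have hne9 : Nat.card H ≠ 9 := fun e => h1.ne (eq_of_le_of_card_ge h1.le (by rw [e, hA]))
      obtain ⟨k, hk⟩ := h9
      rw [hk] at h27 hne9
      have := (Nat.mul_dvd_mul_iff_left (show 0 < 9 by norm_num)).mp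
        (show 9 * k ∣ 9 * 3 by norm_num; exact h27)
      rcases (Nat.dvd_prime Nat.prime_three).mp this with rfl | rfl
      · omega
      · rw [hk, hS]
    have hgen : ∀ y : G, (∀ a ∈ A, y * a = a * y) → y * s = s * y → ∀ x ∈ (S : Subgroup G),
        x * y = y * x := by
      intro y h1 h2 x hx
      have hle : H ≤ centralizer ({y} : Set G) := sup_le
        (fun a ha => mem_centralizer_singleton_iff.mpr (h1 a ha).symm)
        (zpowers_le.mpr (mem_centralizer_singleton_iff.mpr h2.symm))
      exact mem_centralizer_singleton_iff.mp (hle (hH ▸ hx))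
    intro x hx y hy
    refine (hgen x (fun a ha => (hcent x (hSX hx) a ha).symm) ?_ y hy).symm
    exact (hgen s (fun a ha => (hcent s (hSX hs) a ha).symm) rfl x hx)
  -- `N(S)` centralises `A`
  have hNS : ∀ g ∈ normalizer ((S : Subgroup G) : Set G), g ∈ X := by
    intro g hg
    set A' := A.map (MulAut.conj g).toMonoidHom with hA'
    have hA'S : A' ≤ (S : Subgroup G) := by
      rintro _ ⟨a, ha, rfl⟩
      exact (mem_normalizer_iff.mp hg a).mp (hAS ha)
    have hA'c : Nat.card A' = 9 := by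
      rw [hA', ← hA]
      exact card_map_of_injective (MulAut.conj g).injective
    obtain ⟨b, hb, hb1⟩ : ∃ b ∈ A ⊓ A', b ≠ 1 := by
      by_contra hc
      push Not at hc
      have h1 : A.relIndex A' ≤ A.relIndex (S : Subgroup G) :=
        relIndex_le_of_le_right hA'S (by
          intro h
          have h3 := relIndex_mul_index hAS
          have := A.index_ne_zero_of_finite
          rw [h, zero_mul] at h3
          exact this h3.symm)
      have hS3 : A.relIndex (S : Subgroup G) = 3 := by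
        have := (A.subgroupOf (S : Subgroup G)).card_mul_index
        rw [Nat.card_congr (subgroupOfEquivOfLe hAS).toEquiv, hA, hS] at this
        show (A.subgroupOf (S : Subgroup G)).index = 3
        omega
      have h9 : A.relIndex A' = 9 := by
        have := (A.subgroupOf A').card_mul_index
        have hbot : A.subgroupOf A' = ⊥ := by
          refine (eq_bot_iff_forall _).mpr fun x hx => Subtype.ext ?_
          exact hc x ⟨mem_subgroupOf.mp hx, x.2⟩
        rw [hA'c, hbot, card_bot, one_mul] at this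
        show (A.subgroupOf A').index = 9
        rw [hbot, this]
      omega
    obtain ⟨hbA, ⟨a, ha, hab⟩⟩ := hb
    have hab' : g * a * g⁻¹ = b := hab
    have ha1 : a ≠ 1 := fun h => hb1 (by rw [← hab', h, mul_one, mul_inv_cancel])
    have hgX : ∀ x ∈ X, g⁻¹ * x * g ∈ X := by
      intro x hx
      rw [← hcX b hbA hb1, mem_centralizer_singleton_iff] at hx
      rw [← hcX a ha ha1, mem_centralizer_singleton_iff]
      rw [← hab'] at hx
      calc g⁻¹ * x * g * a = g⁻¹ * (x * (g * a * g⁻¹)) * g := by group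
        _ = g⁻¹ * (g * a * g⁻¹ * x) * g := by rw [hx]
        _ = a * (g⁻¹ * x * g) := by group
    have hmapA : ∀ u ∈ A, g * u * g⁻¹ ∈ A := by
      intro u hu
      refine hAmax _ (mem_centralizer_iff.mpr fun x hx => ?_) ?_
      · have h := hcent _ (hgX x (le_normalizer.trans hNX hx)) u hu
        calc x * (g * u * g⁻¹) = g * (g⁻¹ * x * g * u) * g⁻¹ := by group
          _ = g * (u * (g⁻¹ * x * g)) * g⁻¹ := by rw [h]
          _ = g * u * g⁻¹ * x := by group
      · obtain ⟨i, hi⟩ := hAp ⟨u, hu⟩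
        have hi' : u ^ 3 ^ i = 1 := by simpa using congrArg Subtype.val hi
        exact ⟨i, by rw [conj_pow, hi', mul_one, mul_inv_cancel]⟩
    rw [hXdef, mem_normalizer_iff]
    intro u
    refine ⟨hmapA u, fun hu => ?_⟩
    have hle : A.map (MulAut.conj g).toMonoidHom ≤ A := by
      rintro _ ⟨v, hv, rfl⟩
      exact hmapA v hv
    have heq := eq_of_le_of_card_ge hle (by rw [← hA', hA'c, hA])
    obtain ⟨v, hv, hvu⟩ := (heq.ge hu : g * u * g⁻¹ ∈ A.map (MulAut.conj g).toMonoidHom)
    have : v = u := (MulAut.conj g).injective hvu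
    exact this ▸ hv
  -- transfer
  let inst : CommGroup ↥(S : Subgroup G) :=
    { (inferInstance : Group ↥(S : Subgroup G)) with
      mul_comm := fun x y => Subtype.ext (hScomm x x.2 y y.2) }
  let φ : ↥(S : Subgroup G) →* ↥(S : Subgroup G) := MonoidHom.id _
  have hSc : (S : Subgroup G) ≤ centralizer ((S : Subgroup G) : Set G) := fun x hx =>
    mem_centralizer_iff.mpr fun y hy => hScomm y hy x hx
  have key : ∀ (k : ℕ) (g₀ : G), g₀⁻¹ * a₀ ^ k * g₀ ∈ (S : Subgroup G) →
      g₀⁻¹ * a₀ ^ k * g₀ = a₀ ^ k := by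
    intro k g₀ hmem
    obtain ⟨n, hn, hnx⟩ := S.conj_eq_normalizer_conj_of_mem_centralizer (a₀ ^ k) g₀
      (hSc (hAS (pow_mem ha₀ k))) (hSc hmem)
    rw [hnx, mul_assoc, hcent n (hNS n hn) _ (pow_mem ha₀ k), ← mul_assoc, inv_mul_cancel, one_mul]
  have hV := MonoidHom.transfer_eq_pow (ϕ := φ) a₀ key
  set V := MonoidHom.transfer φ
  have hidx : ¬ 3 ∣ (S : Subgroup G).index := S.not_dvd_index
  rcases V.normal_ker.eq_bot_or_eq_top with h | h
  · exact hnc (isMulCommutative_iff.mpr fun x y =>
      (MonoidHom.ker_eq_bot_iff V).mp h (by rw [map_mul, map_mul, mul_comm]))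
  · have h1 : V a₀ = 1 := MonoidHom.mem_ker.mp (h ▸ mem_top a₀)
    rw [hV] at h1
    have h2 : a₀ ^ (S : Subgroup G).index = 1 := congrArg Subtype.val h1
    have hd := orderOf_dvd_natCard _ ha₀
    rw [hA] at hd
    have hco : Nat.Coprime (orderOf a₀) (S : Subgroup G).index :=
      Nat.Coprime.coprime_dvd_left hd (Nat.Coprime.pow_left 2
        ((Nat.Prime.coprime_iff_not_dvd Nat.prime_three).mpr hidx))
    exact ha₀1 (orderOf_eq_one_iff.mp (hco.eq_one_of_dvd (orderOf_dvd_of_pow_eq_one h2)))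

/-- With three dividing the order of `C(P)` the degrees force a contradiction. -/
theorem not_three [Fintype G] [IsSimpleGroup G] [Fact (Nat.Prime 5)] (hcard : Nat.card G = 95040)
    (hsyl : ∀ P : Subgroup G, Nat.card P = 11 → Nat.card (normalizer (P : Set G)) = 55)
    (B : Block G) (hdegs : B.cs.map deg = [45, 54, 120, 144])
    (P : Sylow 5 G) (hP : Nat.card ↥(P : Subgroup G) = 5)
    (hn : 3 ∣ Nat.card (Sylow 5 G))
    (he : (centralizer ((P : Subgroup G) : Set G)).relIndex
      (normalizer ((P : Subgroup G) : Set G)) = 4)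
    (h3 : 3 ∣ Nat.card ↥(centralizer ((P : Subgroup G) : Set G))) : False := by
  classical
  have : Fact (Nat.Prime 3) := ⟨by norm_num⟩
  set C := centralizer ((P : Subgroup G) : Set G) with hCdef
  obtain ⟨⟨w, hwC⟩, hw0⟩ := exists_prime_orderOf_dvd_card' (G := C) 3 h3
  rw [orderOf_mk] at hw0
  set T := centralizer ({w} : Set G) with hTdef
  have hPT : (P : Subgroup G) ≤ T := fun u hu => mem_centralizer_singleton_iff.mpr
    (mem_centralizer_iff.mp hwC u hu)
  have hwT : w ∈ T := mem_centralizer_singleton_iff.mpr rfl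
  have h15 : 15 ∣ cC w := by
    rw [show 15 = 3 * 5 from rfl]
    refine Nat.Coprime.mul_dvd_of_dvd_of_dvd (by norm_num) ?_ ?_
    · rw [← hw0, ← orderOf_mk w hwT]
      exact orderOf_dvd_natCard _
    · exact hP ▸ card_dvd_of_le hPT
  have h90 := cC_three_le hcard hsyl B hdegs hw0 h15
  set P' := P.subtype hPT
  have hP' : Nat.card ↥(P' : Subgroup T) = 5 := by
    rw [Sylow.coe_subtype, Nat.card_congr (subgroupOfEquivOfLe hPT).toEquiv, hP]
  -- `w` centralises another Sylow subgroup
  have hWp : IsPGroup 3 (zpowers w) :=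
    IsPGroup.of_card (n := 1) (by rw [Nat.card_zpowers, hw0, pow_one])
  have hPfix : P ∈ MulAction.fixedPoints (zpowers w) (Sylow 5 G) := fun a =>
    Sylow.smul_eq_iff_mem_normalizer.mpr (zpowers_le.mpr (centralizer_le_normalizer _ hwC) a.2)
  have hfix := hWp.card_modEq_card_fixedPoints (Sylow 5 G)
  have h2 : 1 < Nat.card (MulAction.fixedPoints (zpowers w) (Sylow 5 G)) := by
    have hpos : 0 < Nat.card (MulAction.fixedPoints (zpowers w) (Sylow 5 G)) :=
      Nat.card_pos_iff.mpr ⟨⟨⟨P, hPfix⟩⟩, inferInstance⟩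
    unfold Nat.ModEq at hfix
    omega
  have : Nontrivial (MulAction.fixedPoints (zpowers w) (Sylow 5 G)) :=
    Finite.one_lt_card_iff_nontrivial.mp h2
  obtain ⟨⟨Q, hQfix⟩, hQne⟩ :=
    exists_ne (⟨P, hPfix⟩ : MulAction.fixedPoints (zpowers w) (Sylow 5 G))
  have hQP : Q ≠ P := fun h => hQne (Subtype.ext h)
  have hQT : (Q : Subgroup G) ≤ T := by
    obtain ⟨g, hg⟩ := MulAction.exists_smul_eq G P Q
    have hwN : g⁻¹ * w * g ∈ normalizer ((P : Subgroup G) : Set G) := by
      refine Sylow.smul_eq_iff_mem_normalizer.mp ?_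
      have h : w • Q = Q := hQfix ⟨w, mem_zpowers w⟩
      rw [← hg] at h
      rw [mul_smul, mul_smul, h, inv_smul_smul]
    have hCn : (C.subgroupOf (normalizer ((P : Subgroup G) : Set G))).Normal := by
      refine ⟨fun c hc g => ?_⟩
      rw [mem_subgroupOf] at hc ⊢
      rw [hCdef, mem_centralizer_iff] at hc ⊢
      intro u hu
      have hu' : (g : G)⁻¹ * u * g ∈ (P : Subgroup G) := by
        have h := (mem_normalizer_iff.mp (inv_mem g.2) u).mp hu
        simpa [mul_assoc] using h
      have h1 := hc _ hu'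
      push_cast
      calc u * ((g : G) * c * (g : G)⁻¹) = g * ((g : G)⁻¹ * u * g * c) * (g : G)⁻¹ := by group
        _ = g * ((c : G) * ((g : G)⁻¹ * u * g)) * (g : G)⁻¹ := by rw [h1]
        _ = g * c * (g : G)⁻¹ * u := by group
    have hwC' : g⁻¹ * w * g ∈ C := by
      have h1 := (C.subgroupOf (normalizer ((P : Subgroup G) : Set G))).pow_index_mem ⟨_, hwN⟩
      rw [mem_subgroupOf, show (C.subgroupOf (normalizer ((P : Subgroup G) : Set G))).index = 4
        from he] at h1
      have h3w : (g⁻¹ * w * g) ^ 3 = 1 := by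
        rw [show g⁻¹ * w * g = g⁻¹ * w * (g⁻¹)⁻¹ by rw [inv_inv], conj_pow, ← hw0,
          pow_orderOf_eq_one, mul_one, mul_inv_cancel]
      have h4 : (g⁻¹ * w * g) ^ 4 = g⁻¹ * w * g := by rw [pow_succ, h3w, one_mul]
      exact h4 ▸ h1
    intro u hu
    rw [← hg, Sylow.coe_subgroup_smul, mem_pointwise_smul_iff_inv_smul_mem] at hu
    have hu' : g⁻¹ * u * g ∈ (P : Subgroup G) := by simpa [MulAut.smul_def] using hu
    have h := mem_centralizer_iff.mp hwC' _ hu'
    rw [mem_centralizer_singleton_iff]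
    calc u * w = g * (g⁻¹ * u * g * (g⁻¹ * w * g)) * g⁻¹ := by group
      _ = g * (g⁻¹ * w * g * (g⁻¹ * u * g)) * g⁻¹ := by rw [h]
      _ = w * u := by group
  have hn1 : Nat.card (Sylow 5 T) ≠ 1 := fun h => by
    have : Subsingleton (Sylow 5 T) := Finite.card_le_one_iff_subsingleton.mp h.le
    exact hQP (Sylow.subtype_injective (Subsingleton.elim (Q.subtype hQT) (P.subtype hPT)))
  have hm5 := card_sylow_modEq_one (p := 5) (G := T)
  unfold Nat.ModEq at hm5
  have hC15 : 15 ∣ Nat.card ↥(centralizer ((P' : Subgroup T) : Set T)) := by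
    rw [show 15 = 3 * 5 from rfl]
    refine Nat.Coprime.mul_dvd_of_dvd_of_dvd (by norm_num) ?_ ?_
    · have hmem : (⟨w, hwT⟩ : T) ∈ centralizer ((P' : Subgroup T) : Set T) :=
        mem_centralizer_iff.mpr fun u hu =>
          Subtype.ext (mem_centralizer_iff.mp hwC u hu)
      rw [← hw0, ← orderOf_mk w hwT, ← orderOf_mk (⟨w, hwT⟩ : T) hmem]
      exact orderOf_dvd_natCard _
    · have : IsCyclic ↥(P' : Subgroup T) := isCyclic_of_prime_card hP'
      exact dvd_trans (dvd_of_eq hP'.symm) (card_dvd_of_le (le_centralizer (P' : Subgroup T)))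
  have hle' := centralizer_le_normalizer ((P' : Subgroup T) : Set T)
  have hN15 := Nat.le_of_dvd Nat.card_pos (hC15.trans (card_dvd_of_le hle'))
  have hmul := card_normalizer_mul P'
  have hT90 : Nat.card T ≤ 90 := h90
  have hn6 : 6 ≤ Nat.card (Sylow 5 T) := by
    have : 0 < Nat.card (Sylow 5 T) := Nat.card_pos
    omega
  have hprod := Nat.mul_le_mul hN15 hn6
  have hN15' : Nat.card ↥(normalizer ((P' : Subgroup T) : Set T)) = 15 := by
    have := Nat.mul_le_mul_left (Nat.card ↥(normalizer ((P' : Subgroup T) : Set T))) hn6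
    omega
  have hcle : normalizer ((P' : Subgroup T) : Set T) ≤
      centralizer ((P' : Subgroup T) : Set T) :=
    (eq_of_le_of_card_ge hle' (hN15' ▸ Nat.le_of_dvd Nat.card_pos hC15)).ge
  have h := sylow_three_centralised P' hP' hcle (i := 2) (Or.inl rfl) (by show Nat.card ↥T = 90; omega)
  rw [hN15'] at h
  norm_num at h

/-- The 5-local structure, and the degrees in the principal 11-block. -/
theorem five_structure [Fintype G] (hG : Cfsg.IsM12 G) [Fact (Nat.Prime 5)] (P : Sylow 5 G) :
    Nat.card ↥(P : Subgroup G) = 5 ∧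
    Nat.card ↥(centralizer ((P : Subgroup G) : Set G)) = 10 ∧
    Nat.card ↥(normalizer ((P : Subgroup G) : Set G)) = 40 ∧
    ∃ B : Block G, B.cs.map deg = [45, 54, 120, 144] := by
  classical
  have := hG.1
  have hcard : Nat.card G = 95040 := hG.2
  have hnc : ¬ IsMulCommutative G := not_comm_of_not_prime (by rw [hcard]; norm_num)
  have hsyl := OrderEleven.sylow11_normalizer hG
  obtain ⟨B⟩ := exists_block_of hcard hsyl
  have hP : Nat.card ↥(P : Subgroup G) = 5 := by
    simpa using card_sylow_eq (p := 5) (a := 1) (m := 19008) (by rw [hcard]; norm_num)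
      (by norm_num) P
  obtain ⟨q, hq⟩ := exists_prime_orderOf_dvd_card' (G := ↥(P : Subgroup G)) 5 (by rw [hP])
  have hq' : orderOf (q : G) = 5 := (orderOf_coe q).trans hq
  set N := normalizer ((P : Subgroup G) : Set G) with hNdef
  set C := centralizer ((P : Subgroup G) : Set G) with hCdef
  obtain ⟨hd, hm⟩ := card_sylow_mem (p := 5) (a := 1) (m := 19008) (G := G)
    (by rw [hcard]; norm_num) (by norm_num)
  have hN := card_normalizer_mul P
  rw [← hNdef, hcard] at hN
  have hmul : Nat.card C * C.relIndex N = Nat.card N :=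
    card_centralizer_mul_relIndex (P : Subgroup G)
  have hn11 : ¬ 11 ∣ Nat.card N := by
    intro h
    have : Fact (Nat.Prime 11) := ⟨by norm_num⟩
    obtain ⟨x, hx⟩ := exists_prime_orderOf_dvd_card' (G := N) 11 h
    have hx' : orderOf (x : G) = 11 := (orderOf_coe x).trans hx
    have hcomm := commute_of_congr (A := (P : Subgroup G)) (q := 11) (g := (x : G))
      (hx' ▸ pow_orderOf_eq_one (x : G) :) x.2 (by rw [hP]; decide +kernel) _ q.2
    have hd := orderOf_dvd_natCard _ (centralizer_le_of_eleven hcard hsyl hx'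
      (mem_centralizer_singleton_iff.mpr hcomm.symm.eq : (q : G) ∈ centralizer ({(x : G)} : Set G)))
    rw [Nat.card_zpowers, hx', hq'] at hd
    norm_num at hd
  have hn : 11 ∣ Nat.card (Sylow 5 G) :=
    ((Nat.Prime.dvd_mul (by norm_num)).mp (hN ▸ (by norm_num : 11 ∣ 95040))).resolve_left hn11
  have hlist := dvd_list19008 _ (Nat.mem_divisors.mpr ⟨hd, by norm_num⟩) hm hn
  have hrel : C.relIndex N ∣ 4 := relIndex_centralizer_dvd_of_prime (P : Subgroup G) hP
  have hBurn : C.relIndex N ≠ 1 := fun h =>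
    not_normalizer_le_centralizer hnc (by rw [hcard]; norm_num) P (relIndex_eq_one.mp h)
  have hrel' := (Nat.mem_divisors.mpr ⟨hrel, by norm_num⟩ : _ ∈ (4 : ℕ).divisors)
  rw [show (4 : ℕ).divisors = {1, 2, 4} by decide] at hrel'
  simp only [Finset.mem_insert, Finset.mem_singleton] at hrel'
  replace hrel' := hrel'.resolve_left hBurn
  have hPC : (P : Subgroup G) ≤ C := by
    have : IsCyclic ↥(P : Subgroup G) := isCyclic_of_prime_card hP
    exact le_centralizer _
  have hdegs : 2 ∣ Nat.card C → B.cs.map deg = [45, 54, 120, 144] := by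
    intro h2
    have : Fact (Nat.Prime 2) := ⟨Nat.prime_two⟩
    obtain ⟨y, hy⟩ := exists_prime_orderOf_dvd_card' (G := C) 2 h2
    exact block_degs hcard hsyl B hq' ((orderOf_coe y).trans hy)
      (mem_centralizer_iff.mp y.2 _ q.2)
  have hno2 : 2 ∣ Nat.card C → C.relIndex N ≠ 2 := fun h2 he =>
    no_two hcard (fun χ => deg_cases B (hdegs h2) χ) P hP
      (by rw [← hNdef, ← hCdef, ← hmul, he, mul_comm])
  simp only [List.mem_cons, List.not_mem_nil, or_false] at hlist
  rcases hlist with h | h | h | h | h | h | h <;> rw [h] at hN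
  · exfalso
    have hdvd := card_centralizer_dvd hnc P hP (by norm_num) (n := 2) (by rw [h])
    rw [show Nat.card (alternatingGroup (Fin 2)) = 1 by
      rw [Nat.card_eq_fintype_card]; decide +kernel, mul_one, ← hCdef] at hdvd
    have hCb := Nat.le_of_dvd (by norm_num) hdvd
    rcases hrel' with r | r <;> rw [r] at hmul <;> omega
  · exfalso
    rcases hrel' with r | r <;> rw [r] at hmul
    · exact hno2 (by omega) r
    · exact not_three hcard hsyl B (hdegs (by omega)) P hP (by omega) (by rw [← hCdef]; exact r)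
        (by rw [← hCdef]; omega)
  · exfalso
    rcases hrel' with r | r <;> rw [r] at hmul
    · exact not_176 hcard hsyl P hP (by rw [← hNdef]; omega) (m := 2) (Or.inr rfl)
        (by rw [← hCdef]; simp only [Nat.reducePow, Nat.reduceMul]; omega)
    · exact not_176 hcard hsyl P hP (by rw [← hNdef]; omega) (m := 1) (Or.inl rfl)
        (by rw [← hCdef]; simp only [Nat.reducePow, Nat.reduceMul]; omega)
  · exfalso
    rcases hrel' with r | r <;> rw [r] at hmul
    · exact hno2 (by omega) r
    · exact not_three hcard hsyl B (hdegs (by omega)) P hP (by omega) (by rw [← hCdef]; exact r)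
        (by rw [← hCdef]; omega)
  · exfalso
    rcases hrel' with r | r <;> rw [r] at hmul
    · exact not_1056 hcard hsyl P hP (by rw [← hNdef]; omega) (by rw [← hCdef]; omega)
    · omega
  · rcases hrel' with r | r <;> rw [r] at hmul
    · exact absurd r (hno2 (by omega))
    · exact ⟨hP, by omega, by omega, B, hdegs (by omega)⟩
  · exfalso
    rcases hrel' with r | r <;> rw [r] at hmul <;> omega

/-- The centraliser of an element of order 5 and the normaliser of its subgroup. -/
theorem five_data [Finite G] (hG : Cfsg.IsM12 G) :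
    (∀ q : G, orderOf q = 5 → cC q = 10) ∧
    (∀ Q : Subgroup G, Nat.card Q = 5 → Nat.card (normalizer (Q : Set G)) = 40) := by
  have := Fintype.ofFinite G
  have : Fact (Nat.Prime 5) := ⟨by norm_num⟩
  have hQ : ∀ Q : Subgroup G, Nat.card Q = 5 →
      Nat.card (centralizer (Q : Set G)) = 10 ∧ Nat.card (normalizer (Q : Set G)) = 40 := by
    intro Q hQ
    obtain ⟨P, hQP⟩ := (IsPGroup.of_card (n := 1) (hQ.trans (pow_one 5).symm)).exists_le_sylow
    obtain ⟨hP, hC, hN, -⟩ := five_structure hG P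
    rw [eq_of_le_of_card_ge hQP (by rw [hQ, hP])]
    exact ⟨hC, hN⟩
  refine ⟨fun q hq => ?_, fun Q h => (hQ Q h).2⟩
  have h := (hQ (zpowers q) (by rw [Nat.card_zpowers, hq])).1
  rwa [zpowers_eq_closure, centralizer_closure] at h

/-- The degrees in the principal 11-block. -/
theorem exists_block_degs [Fintype G] (hG : Cfsg.IsM12 G) :
    ∃ B : Block G, B.cs.map deg = [45, 54, 120, 144] := by
  have : Fact (Nat.Prime 5) := ⟨by norm_num⟩
  obtain ⟨P⟩ := (inferInstance : Nonempty (Sylow 5 G))
  exact (five_structure hG P).2.2.2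

end Cfsg.Agent.M12Uniq.OrderFive
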