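import Cfsg.Agent.M12Uniq.OrderBlock
import Cfsg.Agent.M12Uniq.OrderEleven
import Cfsg.Agent.Lib.Steiner.M11.Sylow
import Cfsg.Agent.Lib.CharInd.DefectZero
import Mathlib.GroupTheory.Transfer

/-!
# Tools for the Sylow subgroups of order 5 of a simple group of order 95040
-/

set_option autoImplicit false
set_option linter.unusedSectionVars false

namespace Cfsg.Agent.M12Uniq.OrderFive

open Subgroup
open Cfsg.Agent.SmallGroups

variable {G : Type*} [Group G] [Finite G]

/-- An element of prime order centralising a Sylow subgroup of prime order `p`, inside a proper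
subgroup containing `N(P)`, moves at least `r p` cosets. -/
theorem mul_le_index [IsSimpleGroup G] {p r : ℕ} [Fact p.Prime] [Fact r.Prime] (hrp : r ≠ p)
    (P : Sylow p G) (hP : Nat.card ↥(P : Subgroup G) = p) (X : Subgroup G) (hX : X ≠ ⊤)
    (hNX : normalizer ((P : Subgroup G) : Set G) ≤ X) {y : G} (hyX : y ∈ X)
    (hyC : y ∈ centralizer ((P : Subgroup G) : Set G)) (hy : orderOf y = r) :
    r * p ≤ X.index := by
  classical
  have hPX : (P : Subgroup G) ≤ X := le_normalizer.trans hNX
  have hy1 : y ≠ 1 := fun h => (Fact.out : r.Prime).ne_one (by rw [← hy, h, orderOf_one])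
  obtain ⟨x, hx⟩ := exists_prime_orderOf_dvd_card' (G := ↥(P : Subgroup G)) p (by rw [hP])
  have hx' : orderOf (x : G) = p := (orderOf_coe x).trans hx
  have hxP : zpowers (x : G) = (P : Subgroup G) :=
    zpowers_eq_of_card_prime hP x.2
      (fun h => (Fact.out : p.Prime).ne_one (by rw [← hx', h, orderOf_one]))
  have hp : p ∣ Nat.card {a : G ⧸ X // y • a ≠ a} := by
    refine Classification.dvd_card_moved_of_commute (mem_centralizer_iff.mp hyC x x.2)
      (hx' ▸ pow_orderOf_eq_one (x : G) :) fun a ha hxa => ha ?_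
    induction a using QuotientGroup.induction_on with
    | _ h =>
      have hxh : h⁻¹ * (x : G) * h ∈ X := (mk_mem_fixedBy_iff X x h).mp hxa
      have hPh : ((h⁻¹ • P : Sylow p G) : Subgroup G) ≤ X := by
        rw [Sylow.coe_subgroup_smul, Subgroup.pointwise_smul_def]
        rintro z ⟨w, hw, rfl⟩
        obtain ⟨k, rfl⟩ : ∃ k : ℤ, (x : G) ^ k = w :=
          mem_zpowers_iff.mp (by rw [hxP]; exact hw)
        change MulAut.conj h⁻¹ ((x : G) ^ k) ∈ _
        rw [map_zpow]
        exact zpow_mem (by simpa [mul_assoc] using hxh) k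
      obtain ⟨k, hk⟩ := MulAction.exists_smul_eq X (P.subtype hPX) ((h⁻¹ • P).subtype hPh)
      rw [Sylow.smul_subtype] at hk
      have hk' : (k : G) • P = h⁻¹ • P := Sylow.subtype_injective hk
      have hmem : h * (k : G) ∈ normalizer ((P : Subgroup G) : Set G) := by
        refine Sylow.smul_eq_iff_mem_normalizer.mp ?_
        rw [mul_smul, hk', smul_inv_smul]
      have hhX : h ∈ X := by
        have := mul_mem (hNX hmem) (inv_mem k.2)
        simpa using this
      exact (mk_mem_fixedBy_iff X y h).mpr (mul_mem (mul_mem (inv_mem hhX) hyX) hhX)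
  have hr : r ∣ Nat.card {a : G ⧸ X // y • a ≠ a} :=
    Classification.dvd_card_moved (by rw [← hy]; exact pow_orderOf_eq_one _)
  have hdvd := ((Nat.coprime_primes Fact.out Fact.out).mpr hrp).mul_dvd_of_dvd_of_dvd hr hp
  refine (Nat.le_of_dvd (Classification.card_moved_pos X hX hy1) hdvd).trans ?_
  have hsum := Classification.card_moved_add_fixed (α := G ⧸ X) y
  rw [← index_eq_card] at hsum
  omega

/-- An element of prime order `q` normalising a subgroup `A` centralises it if no proper divisor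
of `|A|` is congruent to `|A|` modulo `q`. -/
theorem commute_of_congr {A : Subgroup G} {q : ℕ} [Fact q.Prime] {g : G} (hg : g ^ q = 1)
    (hn : g ∈ normalizer (A : Set G))
    (h : ∀ d ∈ (Nat.card A).divisors, d % q = Nat.card A % q → d = Nat.card A) :
    ∀ y ∈ A, Commute g y := by
  let φ := A.normalizerMonoidHom
  let σ : Equiv.Perm A := (φ ⟨g, hn⟩ : MulAut A).toEquiv
  have hσ : σ ^ q = 1 := by
    have h1 : ((⟨g, hn⟩ : normalizer (A : Set G))) ^ q = 1 := Subtype.ext hg
    have h2 : MulAut.toPerm _ (φ ⟨g, hn⟩) ^ q = 1 := by rw [← map_pow, ← map_pow, h1]; simp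
    exact h2
  have hfix : {b : A // σ b = b} ≃ ↥(A ⊓ centralizer ({g} : Set G)) :=
    { toFun := fun b => ⟨b.1.1, b.1.2, by
        have h := congrArg Subtype.val b.2
        show b.1.1 ∈ centralizer ({g} : Set G)
        rw [mem_centralizer_singleton_iff]
        exact (mul_inv_eq_iff_eq_mul.mp h).symm⟩
      invFun := fun b => ⟨⟨b.1, b.2.1⟩, Subtype.ext (mul_inv_eq_iff_eq_mul.mpr
        (mem_centralizer_singleton_iff.mp b.2.2).symm)⟩
      left_inv := fun _ => rfl
      right_inv := fun _ => rfl }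
  have hmod := Classification.card_modEq_fixed hσ
  rw [Nat.card_congr hfix] at hmod
  have hcard := h _ (Nat.mem_divisors.mpr ⟨card_dvd_of_le inf_le_left, Nat.card_pos.ne'⟩) hmod.symm
  have heq := eq_of_le_of_card_ge (inf_le_left : A ⊓ centralizer ({g} : Set G) ≤ A) hcard.ge
  intro y hy
  rw [← heq] at hy
  exact (mem_centralizer_singleton_iff.mp hy.2).symm

/-- A `3`-subgroup is normalised by no element of order 11. -/
theorem not_eleven_dvd_normalizer [IsSimpleGroup G] (hcard : Nat.card G = 95040)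
    (hsyl : ∀ P : Subgroup G, Nat.card P = 11 → Nat.card (normalizer (P : Set G)) = 55)
    {A : Subgroup G} (hA : Nat.card A = 9 ∨ Nat.card A = 27) :
    ¬ 11 ∣ Nat.card (normalizer (A : Set G)) := by
  intro h11
  have : Fact (Nat.Prime 11) := ⟨by norm_num⟩
  have := Fintype.ofFinite G
  obtain ⟨x, hx⟩ := exists_prime_orderOf_dvd_card' (G := normalizer (A : Set G)) 11 h11
  have hx' : orderOf (x : G) = 11 := (orderOf_coe x).trans hx
  have hcomm := commute_of_congr (A := A) (q := 11) (by rw [← hx']; exact pow_orderOf_eq_one _)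
    x.2 (by rcases hA with e | e <;> rw [e] <;> decide +kernel)
  have hle : A ≤ zpowers (x : G) := fun a ha => centralizer_le_of_eleven hcard hsyl hx'
    (mem_centralizer_singleton_iff.mpr (hcomm a ha).symm)
  have hd := card_dvd_of_le hle
  rw [Nat.card_zpowers, hx'] at hd
  rcases hA with e | e <;> rw [e] at hd <;> norm_num at hd

/-- A group of order 5 with a complement containing a subgroup of order 9 or 27 as the only such
one centralises it: the form used with Burnside's transfer. -/
theorem sylow_three_centralised {T : Type*} [Group T] [Finite T] [Fact (Nat.Prime 5)]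
    (P : Sylow 5 T) (hP : Nat.card ↥(P : Subgroup T) = 5)
    (hN : normalizer ((P : Subgroup T) : Set T) ≤ centralizer ((P : Subgroup T) : Set T))
    {i : ℕ} (hi : i = 2 ∨ i = 3) (hT : Nat.card T = 5 * (3 ^ i * 2)) :
    3 ^ i ∣ Nat.card ↥(normalizer ((P : Subgroup T) : Set T)) := by
  classical
  have : Fact (Nat.Prime 3) := ⟨by norm_num⟩
  set L := (MonoidHom.transferSylow P hN).ker with hL
  have hLc : Nat.card L = 3 ^ i * 2 := by
    have h := (MonoidHom.ker_transferSylow_isComplement' P hN).card_mul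
    rw [hP, hT, ← hL] at h
    omega
  obtain ⟨S⟩ := (inferInstance : Nonempty (Sylow 3 L))
  have hS : Nat.card ↥(S : Subgroup L) = 3 ^ i :=
    card_sylow_eq (a := i) (m := 2) hLc (by norm_num) S
  have hS1 : Nat.card (Sylow 3 L) = 1 := by
    obtain ⟨hd, hm⟩ := card_sylow_mem (p := 3) (a := i) (m := 2) (G := L) hLc (by norm_num)
    rcases (Nat.dvd_prime Nat.prime_two).mp hd with h | h
    · exact h
    · omega
  have : (S : Subgroup L).Normal := normal_of_card_sylow_eq_one hS1 S
  set A := (S : Subgroup L).map L.subtype with hA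
  have hAc : Nat.card A = 3 ^ i := by
    rw [hA, ← hS]
    exact card_map_of_injective L.subtype_injective
  have huniq : ∀ x : L, x ^ 3 ^ i = 1 → x ∈ (S : Subgroup L) := by
    intro x hx
    have hp : IsPGroup 3 (zpowers x) := by
      obtain ⟨j, -, hj⟩ := (Nat.dvd_prime_pow Nat.prime_three).mp (orderOf_dvd_of_pow_eq_one hx)
      exact IsPGroup.of_card (n := j) ((Nat.card_zpowers x).trans hj)
    obtain ⟨S', hS'⟩ := hp.exists_le_sylow
    have : Subsingleton (Sylow 3 L) := Finite.card_le_one_iff_subsingleton.mp hS1.le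
    rw [Subsingleton.elim S S']
    exact hS' (mem_zpowers x)
  obtain ⟨q, hq⟩ := exists_prime_orderOf_dvd_card' (G := ↥(P : Subgroup T)) 5 (by rw [hP])
  have hq' : orderOf (q : T) = 5 := (orderOf_coe q).trans hq
  have hmem : ∀ g : T, ∀ a ∈ A, g * a * g⁻¹ ∈ A := by
    rintro g _ ⟨s, hs, rfl⟩
    have hg : g * (s : T) * g⁻¹ ∈ L := (MonoidHom.normal_ker _).conj_mem _ s.2 g
    refine ⟨⟨_, hg⟩, huniq _ (Subtype.ext ?_), rfl⟩
    have h1 : (s : T) ^ 3 ^ i = 1 := by
      have h := orderOf_dvd_natCard _ hs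
      rw [hS, orderOf_dvd_iff_pow_eq_one] at h
      exact congrArg Subtype.val h
    rw [SubgroupClass.coe_pow, conj_pow, h1, mul_one, mul_inv_cancel]
    rfl
  have hn : (q : T) ∈ normalizer (A : Set T) := by
    rw [mem_normalizer_iff]
    exact fun a => ⟨hmem _ a, fun h => by
      simpa [mul_assoc] using hmem (q : T)⁻¹ _ h⟩
  have hcomm := commute_of_congr (A := A) (q := 5) (hq' ▸ pow_orderOf_eq_one (q : T) :)
    hn (by rw [hAc]; rcases hi with rfl | rfl <;> decide +kernel)
  have hqP : zpowers (q : T) = (P : Subgroup T) :=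
    zpowers_eq_of_card_prime hP q.2 (fun h => by rw [h, orderOf_one] at hq'; norm_num at hq')
  have hle : A ≤ normalizer ((P : Subgroup T) : Set T) := by
    refine le_trans ?_ (centralizer_le_normalizer _)
    rw [← hqP, zpowers_eq_closure, centralizer_closure]
    exact fun a ha => mem_centralizer_singleton_iff.mpr (hcomm a ha).symm
  exact hAc ▸ card_dvd_of_le hle

section Block

open Cfsg.Agent.SmallGroups.SelfCent
open Cfsg.Agent.SmallGroups.SelfCent.Setup (deg deg_spec triv deg_triv)

/-- Degrees allowed by the principal 11-block. -/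
def Allowed (d : ℕ) : Prop := d ∈ [1, 16, 45, 54, 120, 144] ∨ 11 ∣ d

instance : DecidablePred Allowed := fun _ => inferInstanceAs (Decidable (_ ∨ _))

private theorem consecutive : ∀ d ∈ (19008 : ℕ).divisors, 2 ≤ d → d * d ≤ 95040 → Allowed d →
    (d - 1 ∣ 95040 → Allowed (d - 1) → ¬ 5 ∣ d - 1 → d - 1 = 1) ∧
      (d + 1 ∣ 95040 → Allowed (d + 1) → 5 ∣ d + 1) := by
  decide +kernel

/-- With these degrees a Sylow subgroup of order 5 is not inverted only. -/
theorem no_two {G : Type*} [Group G] [Fintype G] [IsSimpleGroup G] [Fact (Nat.Prime 5)]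
    (hcard : Nat.card G = 95040) (hallow : ∀ χ : Cfsg.IrrCharacter G, Allowed (deg χ))
    (P : Sylow 5 G) (hP : Nat.card ↥(P : Subgroup G) = 5)
    (h2 : Nat.card ↥(normalizer ((P : Subgroup G) : Set G)) =
      2 * Nat.card ↥(centralizer ((P : Subgroup G) : Set G))) : False := by
  classical
  have hne : ¬ IsMulCommutative G := not_comm_of_not_prime (by rw [hcard]; norm_num)
  obtain ⟨z₀, hz₀⟩ := exists_prime_orderOf_dvd_card' (G := ↥(P : Subgroup G)) 5 (by rw [hP])
  have hz : orderOf (z₀ : G) = 5 := (orderOf_coe z₀).trans hz₀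
  have hzP : zpowers (z₀ : G) = (P : Subgroup G) :=
    zpowers_eq_of_card_prime hP z₀.2 (fun h => by rw [h, orderOf_one] at hz; norm_num at hz)
  have hidx : ¬ 5 ∣ (zpowers (z₀ : G)).index := by rw [hzP]; exact P.not_dvd_index
  obtain ⟨s, hs⟩ := Cfsg.Agent.BlocksCore.CyclicCount.exists_setup hz hidx
  have := Fintype.ofFinite s.Orb
  have hNs := s.card_normalizer
  rw [hs, hzP, h2] at hNs
  have hCs := s.card_cent
  rw [hs, ← centralizer_closure, ← zpowers_eq_closure, hzP] at hCs
  rw [hCs] at hNs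
  have he : Nat.card s.auto = 2 := by
    have hpos : 0 < 5 * Nat.card s.K := by have := Nat.card_pos (α := s.K); omega
    exact (Nat.eq_of_mul_eq_mul_right hpos hNs).symm
  have ht : Nat.card s.Orb = 2 := by
    have := s.card_orb_mul
    rw [he] at this
    omega
  obtain ⟨D⟩ := s.nonempty_data (by omega)
  obtain ⟨o₁, o₂, ho, huniv⟩ := Nat.card_eq_two_iff.mp ht
  have hor : ∀ o : s.Orb, o = o₁ ∨ o = o₂ := fun o => by
    have : o ∈ ({o₁, o₂} : Set s.Orb) := huniv ▸ Set.mem_univ o
    simpa using this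
  have hne12 : D.f o₁ ≠ D.f o₂ := D.inj.ne ho
  have ht1 := D.triv_ne o₁
  have ht2 := D.triv_ne o₂
  have hn := D.norm_eq
  have hdeq := D.degree_eq
  set R := ((Finset.univ.erase (triv : Cfsg.IrrCharacter G)).erase (D.f o₁)).erase (D.f o₂) with hR
  have hsplit : ∀ F : Cfsg.IrrCharacter G → ℤ,
      ∑ χ, F χ = F triv + F (D.f o₁) + F (D.f o₂) + ∑ χ ∈ R, F χ := by
    intro F
    rw [← Finset.add_sum_erase _ _ (Finset.mem_univ (triv : Cfsg.IrrCharacter G)),
      ← Finset.add_sum_erase _ F (show D.f o₁ ∈ Finset.univ.erase (triv : Cfsg.IrrCharacter G) from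
        Finset.mem_erase.mpr ⟨ht1, Finset.mem_univ _⟩),
      ← Finset.add_sum_erase _ F (show D.f o₂ ∈
        (Finset.univ.erase (triv : Cfsg.IrrCharacter G)).erase (D.f o₁) from
        Finset.mem_erase.mpr ⟨hne12.symm, Finset.mem_erase.mpr ⟨ht2, Finset.mem_univ _⟩⟩)]
    ring
  rw [hsplit, D.c_triv, D.c_f, D.c_f, he] at hn
  rw [hsplit, D.c_triv, D.c_f, D.c_f, deg_triv, D.deg_f, D.deg_f] at hdeq
  push_cast at hn hdeq
  have hR0 : 0 ≤ ∑ χ ∈ R, D.c χ * D.c χ := Finset.sum_nonneg fun χ _ => mul_self_nonneg _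
  have hd : D.d = 0 ∨ D.d = -D.eps := by
    rcases D.eps_eq with e | e <;> rw [e] at hn <;>
    · rcases lt_trichotomy D.d 0 with h | h | h
      · by_cases h' : D.d = -1
        · first
            | (right; omega)
            | (exfalso; rw [h'] at hn; omega)
        · exfalso
          nlinarith [show D.d ≤ -2 by omega]
      · exact Or.inl h
      · by_cases h' : D.d = 1
        · first
            | (right; omega)
            | (exfalso; rw [h'] at hn; omega)
        · exfalso
          nlinarith [show 2 ≤ D.d by omega]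
  have hsum1 : ∑ χ ∈ R, D.c χ * D.c χ = 1 := by
    rcases hd with h | h <;> rw [h] at hn <;> rcases D.eps_eq with e | e <;> rw [e] at hn <;>
      linarith
  obtain ⟨χ, hχ, hχc⟩ : ∃ χ ∈ R, D.c χ ≠ 0 := by
    by_contra hc'
    push Not at hc'
    rw [Finset.sum_eq_zero fun χ hχ => by rw [hc' χ hχ, mul_zero]] at hsum1
    norm_num at hsum1
  have hrest : ∀ ψ ∈ R, ψ ≠ χ → D.c ψ = 0 := by
    intro ψ hψ hψne
    have h2 := Finset.add_le_sum (f := fun y => D.c y * D.c y)
      (fun y _ => mul_self_nonneg (D.c y)) hψ hχ hψne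
    rw [hsum1] at h2
    have h3 : 1 ≤ D.c χ * D.c χ := mul_self_pos.mpr hχc
    exact mul_self_eq_zero.mp (le_antisymm (by linarith) (mul_self_nonneg _))
  have hc1 : D.c χ = 1 ∨ D.c χ = -1 := by
    have h := Finset.single_le_sum (f := fun y => D.c y * D.c y)
      (fun y _ => mul_self_nonneg (D.c y)) hχ
    rw [hsum1] at h
    have h3 : 1 ≤ D.c χ * D.c χ := mul_self_pos.mpr hχc
    exact mul_self_eq_one_iff.mp (le_antisymm h h3)
  rw [Finset.sum_eq_single χ (fun ψ hψ hne' => by rw [hrest ψ hψ hne', mul_zero])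
    (fun h => absurd hχ h)] at hdeq
  simp only [hR, Finset.mem_erase] at hχ
  have hex : ∀ o, χ ≠ D.f o := fun o => by
    rcases hor o with rfl | rfl
    · exact hχ.2.1
    · exact hχ.1
  have hdχ : deg χ ∣ 19008 := by
    have h := Int.natAbs_dvd_natAbs.mpr (D.deg_dvd χ hex)
    rw [hcard] at h
    rcases hc1 with e | e <;> rw [e] at h <;> simpa using h
  have hd2 : 2 ≤ deg χ := by
    have h0 := (deg_spec χ).1
    have h1 : deg χ ≠ 1 := fun h => hχ.2.2.1 ((deg_eq_one_iff hne χ).mp h)
    omega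
  have hsq : deg χ * deg χ ≤ 95040 := by
    have h := D.sum_sq_le {χ} (fun o => by rw [Finset.mem_singleton]; exact (hex o).symm)
    rw [Finset.sum_singleton, hcard] at h
    nlinarith
  have hb5 : ¬ 5 ∣ D.b := by
    intro h5
    obtain ⟨m, hm⟩ := h5
    have hzero : ∀ o, s.vecO (D.f o₁) o = 0 := by
      intro o
      apply Int.cast_injective (α := ℂ)
      rw [Setup.vecO, Setup.vec_spec, Setup.vecC, Int.cast_zero]
      refine mul_eq_zero_of_right _ (Finset.sum_eq_zero fun k _ => ?_)
      by_cases hk : k = 0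
      · rw [hk, mul_zero, neg_zero, AddChar.map_zero_eq_one, sub_self, mul_zero]
      · refine mul_eq_zero_of_left ?_ _
        rw [Setup.phi]
        refine mul_eq_zero_of_right _ (Finset.sum_eq_zero fun w hw => ?_)
        refine CharInd.char_eq_zero_of_defect_zero (D.f o₁).2 5 1 m (r := 19008)
          (by rw [hcard]; norm_num) (by norm_num)
          (by rw [(deg_spec _).2.2, D.deg_f, hm, pow_one]) _ ?_
        have hz5 : orderOf (s.zp k) = 5 := by
          refine orderOf_eq_prime ?_ (fun h => hk ((s.zp_eq_one_iff k).mp h))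
          rw [s.zp_pow, s.zp_eq_one_iff]
          exact mul_eq_zero_of_right _ rfl
        have hw' := s.mem_kset.mp hw
        have hco : (orderOf (s.zp k)).Coprime (orderOf w) := by
          rw [hz5]
          refine (Nat.Prime.coprime_iff_not_dvd (by norm_num)).mpr fun h => s.not_dvd ?_
          exact h.trans (orderOf_dvd_of_pow_eq_one (s.pow_card_K hw'))
        rw [(s.comm_zp k hw').orderOf_mul_eq_mul_orderOf_of_coprime hco, hz5]
        exact dvd_mul_right 5 _
    have h1 := hzero o₁
    have h2 := hzero o₂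
    rw [D.vec_eq, D.c_f, if_pos rfl] at h1
    rw [D.vec_eq, D.c_f, if_neg hne12, add_zero] at h2
    rcases D.eps_eq with e | e <;> omega
  have hbd : D.b ∣ 95040 := hcard ▸ D.deg_f o₁ ▸ (deg_spec (D.f o₁)).2.1
  have hb1 : D.b ≠ 1 := fun h => ht1 ((deg_eq_one_iff hne _).mp ((D.deg_f o₁).trans h))
  have hbA : Allowed D.b := D.deg_f o₁ ▸ hallow (D.f o₁)
  obtain ⟨k1, k2⟩ := consecutive (deg χ) (Nat.mem_divisors.mpr ⟨hdχ, by norm_num⟩) hd2 hsq
    (hallow χ)
  have hb0 : 0 < D.b := D.deg_f o₁ ▸ (deg_spec (D.f o₁)).1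
  have key : D.b = deg χ - 1 ∨ D.b = deg χ + 1 := by
    rcases hd with h | h <;> rw [h] at hdeq <;> rcases D.eps_eq with e | e <;> rw [e] at hdeq <;>
      rcases hc1 with c | c <;> rw [c] at hdeq <;> omega
  rcases key with h | h
  · exact hb1 (h.trans (k1 (h ▸ hbd) (h ▸ hbA) (h ▸ hb5)))
  · exact hb5 (h.symm ▸ k2 (h ▸ hbd) (h ▸ hbA))

end Block

end Cfsg.Agent.M12Uniq.OrderFive
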