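import Cfsg.Agent.M12Uniq.OrderFourUSix

/-!
# The centraliser of `u`: no square roots of `u`, nonabelian Sylow 2-subgroups

From the order alone and the list of element orders.
-/

set_option autoImplicit false
set_option linter.unusedSectionVars false

namespace Cfsg.Agent.M12Uniq.OrderFourU

open Subgroup

universe v

variable {G : Type v} [Group G] [Finite G]

private theorem mem_norm_iff {H : Type*} [Group H] [Finite H] {a g : H} :
    g ∈ normalizer (zpowers a : Set H) ↔ g * a * g⁻¹ ∈ zpowers a := by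
  refine ⟨fun hg => ((mem_normalizer_iff.mp hg) a).mp (mem_zpowers a), fun hg => ?_⟩
  rw [mem_normalizer_iff_map_conj_eq, MonoidHom.map_zpowers]
  refine eq_of_le_of_card_ge (zpowers_le.mpr hg) (le_of_eq ?_)
  rw [Nat.card_zpowers, Nat.card_zpowers]
  exact (MulEquiv.orderOf_eq (MulAut.conj g) a).symm

private theorem coe_mem_zpowers {C : Subgroup G} {a x : C} :
    (x : G) ∈ zpowers (a : G) ↔ x ∈ zpowers a := by
  simp only [mem_zpowers_iff, Subtype.ext_iff, SubgroupClass.coe_zpow]

/-- The centraliser of `u` as an abstract group. -/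
theorem exists_ctx (hG : Cfsg.IsM12 G)
    (hspec : ∀ g : G, orderOf g ∈ ({1, 2, 3, 4, 5, 6, 8, 10, 11} : Finset ℕ)) {u : G}
    (hu : orderOf u = 2) (h240 : cC u = 240) :
    ∃ q : centralizer ({u} : Set G),
      Ctx (⟨u, mem_centralizer_singleton_iff.mpr rfl⟩ : centralizer ({u} : Set G)) q := by
  have : Fact (Nat.Prime 5) := ⟨by norm_num⟩
  have : Fact (Nat.Prime 2) := ⟨Nat.prime_two⟩
  obtain ⟨q, hq⟩ := exists_prime_orderOf_dvd_card' (G := centralizer ({u} : Set G)) 5
    (by rw [show Nat.card _ = 240 from h240]; norm_num)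
  have hq' : orderOf (q : G) = 5 := (orderOf_coe q).trans hq
  have hqu : (q : G) * u = u * q := mem_centralizer_singleton_iff.mp q.2
  refine ⟨q, ⟨h240, fun k => Subtype.ext (mem_centralizer_singleton_iff.mp k.2).symm,
    (Subgroup.orderOf_mk _ _).trans hu, hq, ?_, ?_, ?_, ?_, ?_⟩⟩
  · -- the centraliser of `q`
    refine le_trans (Nat.card_le_card_of_injective
      (fun x => (⟨(x.1 : G), mem_centralizer_singleton_iff.mpr
        (congrArg Subtype.val (mem_centralizer_singleton_iff.mp x.2))⟩ :
          centralizer ({(q : G)} : Set G))) fun a b h => ?_) ((OrderFive.five_data hG).1 _ hq').le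
    exact Subtype.ext (Subtype.ext (congrArg
      (fun z : (centralizer ({(q : G)} : Set G) : Subgroup G) => (z : G)) h))
  · -- the normaliser of `⟨q⟩`
    have hle := OrderInvol.normalizer_le_centralizer hG hq' hu hqu
    have heq : normalizer (zpowers q : Set (centralizer ({u} : Set G))) =
        (normalizer (zpowers (q : G) : Set G)).subgroupOf (centralizer ({u} : Set G)) := by
      ext g
      rw [mem_subgroupOf, mem_norm_iff, mem_norm_iff, ← coe_mem_zpowers]
      simp only [coe_mul, coe_inv]
    rw [heq, Nat.card_congr (subgroupOfEquivOfLe hle).toEquiv]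
    exact (OrderFive.five_data hG).2 _ (by rw [Nat.card_zpowers, hq'])
  · intro k hk
    have := hspec (k : G)
    rw [orderOf_coe, hk] at this
    simp at this
  · intro k hk
    have := hspec (k : G)
    rw [orderOf_coe, hk] at this
    simp at this
  · intro h h4
    have h4' : (h : G) ^ 4 = u := congrArg Subtype.val h4
    have h8 : (h : G) ^ (2 ^ 3) = 1 := by
      rw [show 2 ^ 3 = 4 * 2 from rfl, pow_mul, h4', ← hu, pow_orderOf_eq_one]
    have hp : IsPGroup 2 (zpowers (h : G)) := by
      obtain ⟨i, -, hi⟩ := (Nat.dvd_prime_pow Nat.prime_two).mp (orderOf_dvd_of_pow_eq_one h8)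
      exact IsPGroup.of_card (n := i) (by rw [Nat.card_zpowers, hi])
    obtain ⟨S, hS⟩ := hp.exists_le_sylow
    have := hG.1
    have := Fintype.ofFinite G
    obtain ⟨z, -, hz, hzc, hcard⟩ := exists_central_invol hG.2 S
    have hzh : (h : G) * z = z * h :=
      mem_centralizer_singleton_iff.mp (hzc (hS (mem_zpowers _)))
    have hzu : z * u = u * z := by
      rw [← h4']
      exact (((show Commute (h : G) z from hzh).symm).pow_right 4).eq
    refine ⟨⟨z, mem_centralizer_singleton_iff.mpr hzu⟩, Subtype.ext hzh.symm,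
      Subtype.ext ?_, fun he => ?_, fun he => ?_⟩
    · show z ^ 2 = 1
      rw [← hz, pow_orderOf_eq_one]
    · have : z = 1 := congrArg Subtype.val he
      rw [this, orderOf_one] at hz
      norm_num at hz
    · have hzu' : z = u := congrArg Subtype.val he
      have hd := card_dvd_of_le hzc
      rw [hcard, hzu', show Nat.card (centralizer ({u} : Set G)) = 240 from h240] at hd
      norm_num at hd

/-- An involution with centraliser of order 240 is neither a square nor a fourth power. -/
theorem no_sq_u (hG : Cfsg.IsM12 G)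
    (hspec : ∀ g : G, orderOf g ∈ ({1, 2, 3, 4, 5, 6, 8, 10, 11} : Finset ℕ)) :
    ∀ u g : G, orderOf u = 2 → cC u = 240 → g ^ 2 ≠ u ∧ g ^ 4 ≠ u := by
  intro u g hu h240
  obtain ⟨q, c⟩ := exists_ctx hG hspec hu h240
  have key : ∀ g : G, g ^ 2 ≠ u := fun g hg => by
    refine c.no_sq ⟨g, mem_centralizer_singleton_iff.mpr ?_⟩ (Subtype.ext hg)
    rw [← hg]
    exact ((Commute.refl g).pow_right 2).eq
  exact ⟨key g, fun h => key (g ^ 2) (by rw [← pow_mul, h])⟩

/-- The Sylow 2-subgroups of such a centraliser are not abelian. -/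
theorem exists_noncomm (hG : Cfsg.IsM12 G)
    (hspec : ∀ g : G, orderOf g ∈ ({1, 2, 3, 4, 5, 6, 8, 10, 11} : Finset ℕ)) :
    ∀ u : G, orderOf u = 2 → cC u = 240 → ∀ T : Subgroup G, Nat.card T = 16 →
      T ≤ centralizer ({u} : Set G) → ∃ a ∈ T, ∃ b ∈ T, a * b ≠ b * a := by
  intro u hu h240 T hT hle
  obtain ⟨q, c⟩ := exists_ctx hG hspec hu h240
  obtain ⟨a, ha, b, hb, hab⟩ := c.exists_noncomm (T.subgroupOf (centralizer ({u} : Set G)))
    (by rw [Nat.card_congr (subgroupOfEquivOfLe hle).toEquiv, hT])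
  exact ⟨a, ha, b, hb, fun h => hab (Subtype.ext h)⟩

end Cfsg.Agent.M12Uniq.OrderFourU
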