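import Cfsg.Agent.M12Uniq.OrderInvol

/-!
# A group of order 240 acting on its six Sylow 5-subgroups

The abstract form of the centraliser of an involution `u` commuting with an element `q` of
order 5 in a simple group of order 95040: `u` is not a square, and a Sylow 2-subgroup is not
abelian.
-/

set_option autoImplicit false
set_option linter.unusedSectionVars false

namespace Cfsg.Agent.M12Uniq.OrderFourU

open Subgroup MulAction
open Cfsg.Agent.SmallGroups

variable {K : Type*} [Group K] [Finite K]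

/-- The data. -/
structure Ctx (u q : K) : Prop where
  card : Nat.card K = 240
  central : ∀ k : K, u * k = k * u
  hu : orderOf u = 2
  hq : orderOf q = 5
  cardq : Nat.card (centralizer ({q} : Set K)) ≤ 10
  norm : Nat.card (normalizer (zpowers q : Set K)) = 40
  no12 : ∀ k : K, orderOf k ≠ 12
  no20 : ∀ k : K, orderOf k ≠ 20
  exists_z : ∀ h : K, h ^ 4 = u → ∃ z : K, z * h = h * z ∧ z ^ 2 = 1 ∧ z ≠ 1 ∧ z ≠ u

variable {u q : K}

theorem Ctx.u_sq (c : Ctx u q) : u * u = 1 := by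
  rw [← pow_two, ← c.hu, pow_orderOf_eq_one]

theorem Ctx.u_ne (c : Ctx u q) : u ≠ 1 := fun h => by
  have := c.hu
  rw [h, orderOf_one] at this
  norm_num at this

theorem Ctx.q_pow_eq (c : Ctx u q) {a b : ℕ} : q ^ a = q ^ b ↔ a % 5 = b % 5 := by
  rw [pow_eq_pow_iff_modEq, c.hq]
  rfl

theorem Ctx.q_pow_one (c : Ctx u q) {a : ℕ} : q ^ a = 1 ↔ a % 5 = 0 := by
  rw [← pow_zero q, c.q_pow_eq]

theorem Ctx.cq (c : Ctx u q) {k : K} (hk : q * k = k * q) :
    ∃ i j : ℕ, k = q ^ i * u ^ j := by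
  have hcomm : Commute q u := (c.central q).symm
  have hg : orderOf (q * u) = 10 := by
    rw [hcomm.orderOf_mul_eq_mul_orderOf_of_coprime (by rw [c.hq, c.hu]; norm_num), c.hq, c.hu]
  have hle : zpowers (q * u) ≤ centralizer ({q} : Set K) :=
    zpowers_le.mpr (mem_centralizer_singleton_iff.mpr
      ((Commute.refl q).mul_left hcomm.symm).eq)
  have heq := eq_of_le_of_card_ge hle (by rw [Nat.card_zpowers, hg]; exact c.cardq)
  have hmem : k ∈ zpowers (q * u) := heq ▸ mem_centralizer_singleton_iff.mpr hk.symm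
  rw [← mem_powers_iff_mem_zpowers] at hmem
  obtain ⟨n, hn⟩ := hmem
  exact ⟨n, n, hn.symm.trans (hcomm.mul_pow n)⟩

theorem conj_iter {h : K} {k : ℕ} (hh : h * q * h⁻¹ = q ^ k) (n : ℕ) :
    h ^ n * q * (h ^ n)⁻¹ = q ^ (k ^ n) := by
  induction n with
  | zero => simp
  | succ n ih =>
    rw [pow_succ' h n, show h * h ^ n * q * (h * h ^ n)⁻¹ = h * (h ^ n * q * (h ^ n)⁻¹) * h⁻¹
      by group, ih, ← conj_pow, hh, ← pow_mul, pow_succ']

theorem conj_pow_eq {h : K} {k : ℕ} (hh : h * q * h⁻¹ = q ^ k) (i : ℕ) :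
    h * q ^ i = q ^ (k * i) * h := by
  rw [pow_mul, ← hh, conj_pow]
  group

theorem Ctx.mem_norm (c : Ctx u q) {g : K} {k : ℕ} (hg : g * q * g⁻¹ = q ^ k) :
    g ∈ normalizer (zpowers q : Set K) := by
  rw [mem_normalizer_iff_map_conj_eq, MonoidHom.map_zpowers]
  have hle : zpowers ((MulAut.conj g).toMonoidHom q) ≤ zpowers q := by
    rw [zpowers_le]
    show g * q * g⁻¹ ∈ _
    rw [hg]
    exact pow_mem (mem_zpowers q) k
  refine eq_of_le_of_card_ge hle (le_of_eq ?_)
  rw [Nat.card_zpowers, Nat.card_zpowers]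
  exact (MulEquiv.orderOf_eq (MulAut.conj g) q).symm

theorem Ctx.exists_conj (c : Ctx u q) {g : K} (hg : g ∈ normalizer (zpowers q : Set K)) :
    ∃ k : Fin 5, k ≠ 0 ∧ g * q * g⁻¹ = q ^ (k : ℕ) := by
  have hm : g * q * g⁻¹ ∈ zpowers q := ((mem_normalizer_iff.mp hg) q).mp (mem_zpowers q)
  rw [← mem_powers_iff_mem_zpowers] at hm
  obtain ⟨n, hn⟩ := hm
  have hn' : q ^ (n % 5) = g * q * g⁻¹ := by
    rw [← c.hq, pow_mod_orderOf]; exact hn
  refine ⟨⟨n % 5, Nat.mod_lt _ (by norm_num)⟩, fun h => ?_, hn'.symm⟩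
  have h0 : n % 5 = 0 := congrArg Fin.val h
  rw [h0, pow_zero, eq_comm, mul_inv_eq_one, mul_eq_left] at hn'
  have := c.hq
  rw [hn', orderOf_one] at this
  norm_num at this

/-- An element inducing the automorphism `q ↦ q ^ 2`. -/
theorem Ctx.exists_two (c : Ctx u q) : ∃ h : K, h * q * h⁻¹ = q ^ 2 ∧ h ^ 8 = 1 := by
  classical
  set N := normalizer (zpowers q : Set K) with hN
  let S := (centralizer ({q} : Set K)).subgroupOf N
  have hS : Nat.card S ≤ 10 :=
    le_trans (Nat.card_le_card_of_injective (fun x => ⟨x.1.1, x.2⟩)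
      fun a b h => Subtype.ext (Subtype.ext (congrArg
        (fun z : (centralizer ({q} : Set K) : Subgroup K) => (z : K)) h))) c.cardq
  have hidx : 4 ≤ S.index := by
    have := S.card_mul_index
    rw [show Nat.card N = 40 from c.norm] at this
    nlinarith
  choose f hf0 hf using fun x : N ⧸ S => c.exists_conj x.out.2
  let F : N ⧸ S → {k : Fin 5 // k ≠ 0} := fun x => ⟨f x, hf0 x⟩
  have hinj : Function.Injective F := by
    intro x y h
    have e : (x.out : K) * q * (x.out : K)⁻¹ = (y.out : K) * q * (y.out : K)⁻¹ := by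
      rw [hf x, hf y, show f x = f y from congrArg Subtype.val h]
    rw [← x.out_eq, ← y.out_eq]
    refine Quotient.sound' (QuotientGroup.leftRel_apply.mpr ?_)
    refine mem_subgroupOf.mpr (mem_centralizer_singleton_iff.mpr ?_)
    push_cast
    calc (x.out : K)⁻¹ * (y.out : K) * q
        = (x.out : K)⁻¹ * ((y.out : K) * q * (y.out : K)⁻¹) * (y.out : K) := by group
      _ = (x.out : K)⁻¹ * ((x.out : K) * q * (x.out : K)⁻¹) * (y.out : K) := by rw [e]
      _ = q * ((x.out : K)⁻¹ * (y.out : K)) := by group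
  have hbij := hinj.bijective_of_nat_card_le (by
    rw [Nat.card_eq_fintype_card]
    exact le_trans (le_of_eq (by decide)) hidx)
  obtain ⟨x, hx⟩ := hbij.2 ⟨2, by decide⟩
  have h2 : (x.out : K) * q * (x.out : K)⁻¹ = q ^ 2 := by
    rw [hf x, show f x = 2 from congrArg Subtype.val hx]
    rfl
  refine ⟨(x.out : K) ^ 5, ?_, ?_⟩
  · rw [conj_iter h2 5, c.q_pow_eq]
    norm_num
  · rw [← pow_mul, ← orderOf_dvd_iff_pow_eq_one, show 5 * 8 = Nat.card N from c.norm.symm]
    exact Subgroup.orderOf_dvd_natCard _ x.out.2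

theorem Ctx.cq_two (c : Ctx u q) {h k : K} (hh : h * q * h⁻¹ = q ^ 2) (hkq : q * k = k * q)
    (hkh : k * h = h * k) : k = 1 ∨ k = u := by
  obtain ⟨i, j, rfl⟩ := c.cq hkq
  have hu : Commute (u ^ j) h := Commute.pow_left (show Commute u h from c.central h) j
  have h1 : q ^ i * h * u ^ j = q ^ (2 * i) * h * u ^ j := by
    calc q ^ i * h * u ^ j = q ^ i * (u ^ j * h) := by rw [hu.eq, mul_assoc]
      _ = h * (q ^ i * u ^ j) := by rw [← mul_assoc, hkh]
      _ = q ^ (2 * i) * h * u ^ j := by rw [← mul_assoc, conj_pow_eq hh]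
  rw [mul_left_inj, mul_left_inj, c.q_pow_eq] at h1
  rw [show q ^ i = 1 from c.q_pow_one.mpr (by omega), one_mul, ← pow_mod_orderOf, c.hu]
  rcases Nat.mod_two_eq_zero_or_one j with h | h <;> rw [h] <;> simp

section Points

variable [Fact (Nat.Prime 5)]

theorem Ctx.exists_base (c : Ctx u q) : ∃ P : Sylow 5 K, (P : Subgroup K) = zpowers q := by
  obtain ⟨P, hP⟩ := IsPGroup.exists_le_sylow
    (IsPGroup.of_card (p := 5) (n := 1) (by rw [Nat.card_zpowers, c.hq, pow_one]) :
      IsPGroup 5 (zpowers q))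
  refine ⟨P, (eq_of_le_of_card_ge hP ?_).symm⟩
  rw [Nat.card_zpowers, c.hq,
    card_sylow_eq (a := 1) (m := 48) (by rw [c.card]; norm_num) (by norm_num) P]
  norm_num

/-- A chosen base point. -/
noncomputable def Ctx.base (c : Ctx u q) : Sylow 5 K := c.exists_base.choose

theorem Ctx.base_eq (c : Ctx u q) : (c.base : Subgroup K) = zpowers q := c.exists_base.choose_spec

theorem Ctx.fix_base (c : Ctx u q) {g : K} :
    g • c.base = c.base ↔ g ∈ normalizer (zpowers q : Set K) := by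
  rw [Sylow.smul_eq_iff_mem_normalizer, ← c.base_eq]
  rfl

theorem Ctx.card_points (c : Ctx u q) : Nat.card (Sylow 5 K) = 6 := by
  have h := (normalizer (zpowers q : Set K)).card_mul_index
  rw [c.norm, c.card] at h
  rw [c.base.card_eq_index_normalizer]
  have : ((c.base : Set K)) = (zpowers q : Set K) := by rw [← c.base_eq]; rfl
  rw [this]
  omega

theorem Ctx.u_fix (c : Ctx u q) (P : Sylow 5 K) : u • P = P := by
  rw [Sylow.smul_eq_iff_mem_normalizer]
  refine mem_normalizer_iff.mpr ?_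
  intro x
  rw [c.central x, mul_inv_cancel_right]

theorem Ctx.q_fix (c : Ctx u q) {P : Sylow 5 K} (h : q • P = P) : P = c.base := by
  rw [Sylow.smul_eq_iff_mem_normalizer] at h
  have hp : IsPGroup 5 (zpowers q) :=
    IsPGroup.of_card (p := 5) (n := 1) (by rw [Nat.card_zpowers, c.hq, pow_one])
  have hq : q ∈ zpowers q ⊓ (P : Subgroup K) := by
    rw [← hp.inf_normalizer_sylow P]
    exact ⟨mem_zpowers q, h⟩
  refine Sylow.ext (((eq_of_le_of_card_ge (zpowers_le.mpr hq.2) ?_).symm).trans c.base_eq.symm)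
  rw [Nat.card_zpowers, c.hq,
    card_sylow_eq (a := 1) (m := 48) (by rw [c.card]; norm_num) (by norm_num) P]
  norm_num

theorem Ctx.q_smul_eq (c : Ctx u q) {P : Sylow 5 K} (hP : P ≠ c.base) {a b : ℕ}
    (h : q ^ a • P = q ^ b • P) : a % 5 = b % 5 := by
  have key : ∀ n : ℕ, q ^ n • P = P → n % 5 = 0 := fun n hn => by
    have h1 := pow_smul_eq_iff_period_dvd.mp hn
    have h2 : period q P ∣ 5 := (period_dvd_orderOf q P).trans (dvd_of_eq c.hq)
    rcases (Nat.dvd_prime (by norm_num : Nat.Prime 5)).mp h2 with h3 | h3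
    · refine absurd (c.q_fix ?_) hP
      have := pow_period_smul q P
      rwa [h3, pow_one] at this
    · rw [h3] at h1
      omega
  have h' : q ^ (b + 4 * a) • P = P := by
    rw [Nat.add_comm, pow_add, mul_smul, ← h, ← mul_smul, ← pow_add,
      show q ^ (4 * a + a) = 1 from c.q_pow_one.mpr (by omega), one_smul]
  have := key _ h'
  omega

theorem Ctx.q_surj (c : Ctx u q) {P R : Sylow 5 K} (hP : P ≠ c.base) (hR : R ≠ c.base) :
    ∃ i : ℕ, i < 5 ∧ q ^ i • P = R := by
  classical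
  have := Fintype.ofFinite (Sylow 5 K)
  have hb : q • c.base = c.base := c.fix_base.mpr (le_normalizer (mem_zpowers q))
  have hne : ∀ i : ℕ, q ^ i • P ≠ c.base := fun i h => by
    have hi : ∀ n : ℕ, q ^ n • c.base = c.base := fun n => by
      induction n with
      | zero => simp
      | succ n ih => rw [pow_succ, mul_smul, hb, ih]
    rw [← hi i, smul_left_cancel_iff] at h
    exact hP h
  let F : Fin 5 → {R : Sylow 5 K // R ≠ c.base} := fun i => ⟨q ^ (i : ℕ) • P, hne i⟩
  have hinj : Function.Injective F := fun i j h => by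
    have := c.q_smul_eq hP (congrArg Subtype.val h)
    exact Fin.ext (by omega)
  have hcard : Nat.card {R : Sylow 5 K // R ≠ c.base} ≤ Nat.card (Fin 5) := by
    rw [Nat.card_eq_fintype_card, Fintype.card_subtype_compl, Fintype.card_subtype_eq,
      ← Nat.card_eq_fintype_card, c.card_points, Nat.card_fin]
  obtain ⟨i, hi⟩ := (hinj.bijective_of_nat_card_le hcard).2 ⟨R, hR⟩
  exact ⟨i, i.2, congrArg Subtype.val hi⟩

/-- The permutation representation on the six points has no transposition. -/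
theorem Ctx.no_swap [DecidableEq (Sylow 5 K)] (c : Ctx u q) {P : Sylow 5 K} (hP : P ≠ c.base) :
    Equiv.swap c.base P ∉ (toPermHom K (Sylow 5 K)).range := by
  intro hmem
  set R := (toPermHom K (Sylow 5 K)).range with hR
  have hb : ∀ n : ℕ, q ^ n • c.base = c.base := fun n =>
    c.fix_base.mpr (le_normalizer (pow_mem (mem_zpowers q) n))
  have h0 : ∀ S : Sylow 5 K, S ≠ c.base → Equiv.swap c.base S ∈ R := by
    intro S hS
    obtain ⟨i, -, hi⟩ := c.q_surj hP hS
    have hq : toPermHom K (Sylow 5 K) (q ^ i) ∈ R := ⟨_, rfl⟩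
    have := R.mul_mem (R.mul_mem hq hmem) (R.inv_mem hq)
    rw [← Equiv.swap_apply_apply, toPermHom_apply, toPerm_apply, toPerm_apply, hb, hi] at this
    exact this
  have htop : R = ⊤ := by
    rw [eq_top_iff, ← Equiv.Perm.closure_isSwap, closure_le]
    rintro σ ⟨a, b, hab, rfl⟩
    show Equiv.swap a b ∈ R
    by_cases ha : a = c.base
    · subst ha; exact h0 b (Ne.symm hab)
    by_cases hb : b = c.base
    · subst hb; rw [Equiv.swap_comm]; exact h0 a hab
    · rw [← Equiv.swap_mul_swap_mul_swap (x := b) (y := c.base) (z := a) hb (Ne.symm hab)]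
      refine R.mul_mem (R.mul_mem (h0 a ha) ?_) (h0 a ha)
      rw [Equiv.swap_comm]
      exact h0 b hb
  have h := card_range_dvd (toPermHom K (Sylow 5 K))
  rw [← hR, htop, card_top, Nat.card_perm, c.card_points, c.card] at h
  norm_num [Nat.factorial] at h

/-- What commutes with an element inducing `q ↦ q ^ 2` normalises `⟨q⟩`. -/
theorem Ctx.key (c : Ctx u q) {h t : K} (hh : h * q * h⁻¹ = q ^ 2) (ht : t * h = h * t) :
    t ∈ normalizer (zpowers q : Set K) := by
  classical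
  rw [← c.fix_base]
  by_contra hP
  set P := t • c.base with hPdef
  have hb : h • c.base = c.base := c.fix_base.mpr (c.mem_norm hh)
  have hhP : h • P = P := by rw [hPdef, ← mul_smul, ← ht, mul_smul, hb]
  have hmove : ∀ i : ℕ, h • q ^ i • P = q ^ (2 * i) • P := fun i => by
    rw [← mul_smul, conj_pow_eq hh, mul_smul, hhP]
  have hfixed : ∀ i : ℕ, h • q ^ i • P = q ^ i • P → i % 5 = 0 := fun i hi => by
    rw [hmove] at hi
    have := c.q_smul_eq hP hi
    omega
  have htP : t • P = c.base := by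
    by_contra hne
    obtain ⟨i, hi5, hi⟩ := c.q_surj hP hne
    have : h • t • P = t • P := by rw [← mul_smul, ← ht, mul_smul, hhP]
    rw [← hi] at this
    have hi0 : i = 0 := by have := hfixed i this; omega
    rw [hi0, pow_zero, one_smul] at hi
    exact hP (smul_left_cancel t (hi.symm.trans hPdef))
  -- the image of `q • P`
  have hqP : t • q • P ≠ c.base := fun h' => by
    have := c.q_smul_eq hP (a := 1) (b := 0)
      (by rw [pow_one, pow_zero, one_smul]; exact smul_left_cancel t (h'.trans htP.symm))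
    omega
  obtain ⟨m, hm5, hm⟩ := c.q_surj hP hqP
  have hm0 : m % 5 ≠ 0 := fun h' => by
    rw [c.q_pow_one.mpr h', one_smul, hPdef] at hm
    have h1 : q • P = c.base := (smul_left_cancel t hm).symm
    have hq' : q • c.base = c.base := c.fix_base.mpr (le_normalizer (mem_zpowers q))
    exact hP (smul_left_cancel q (h1.trans hq'.symm))
  have hiter : ∀ j : ℕ, h ^ j • q • P = q ^ (2 ^ j) • P := fun j => by
    induction j with
    | zero => simp
    | succ j ih => rw [pow_succ' h, mul_smul, ih, hmove, pow_succ']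
  have hlog : ∀ n : ℕ, n % 5 ≠ 0 → ∃ j : ℕ, q ^ (2 ^ j) • P = q ^ n • P := fun n hn => by
    have : n % 5 = 1 ∨ n % 5 = 2 ∨ n % 5 = 3 ∨ n % 5 = 4 := by omega
    rcases this with h' | h' | h' | h'
    · exact ⟨0, by rw [c.q_pow_eq.mpr (show 2 ^ 0 % 5 = n % 5 by omega)]⟩
    · exact ⟨1, by rw [c.q_pow_eq.mpr (show 2 ^ 1 % 5 = n % 5 by omega)]⟩
    · exact ⟨3, by rw [c.q_pow_eq.mpr (show 2 ^ 3 % 5 = n % 5 by omega)]⟩
    · exact ⟨2, by rw [c.q_pow_eq.mpr (show 2 ^ 2 % 5 = n % 5 by omega)]⟩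
  obtain ⟨j, hj⟩ := hlog m hm0
  set t' := (h ^ j)⁻¹ * t with ht'
  have hcomm : ∀ i : ℕ, Commute t' (h ^ i) := fun i =>
    ((((Commute.refl h).pow_left j).inv_left).mul_left (ht : Commute t h)).pow_right i
  have hfix_b : ∀ S : Sylow 5 K, h • S = S → (h ^ j)⁻¹ • S = S := fun S hS => by
    rw [inv_smul_eq_iff]
    clear hj hcomm ht'
    induction j with
    | zero => simp
    | succ j ih => rw [pow_succ, mul_smul, hS]; exact ih
  have h1 : t' • c.base = P := by rw [ht', mul_smul, ← hPdef, hfix_b P hhP]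
  have h2 : t' • P = c.base := by rw [ht', mul_smul, htP, hfix_b _ hb]
  have h3 : t' • q • P = q • P := by
    rw [ht', mul_smul, ← hm, ← hj, ← hiter, inv_smul_smul]
  have h4 : ∀ n : ℕ, n % 5 ≠ 0 → t' • q ^ n • P = q ^ n • P := fun n hn => by
    obtain ⟨i, hi⟩ := hlog n hn
    rw [← hi, ← hiter, ← mul_smul, (hcomm i).eq, mul_smul, h3]
  refine c.no_swap hP ⟨t', Equiv.ext fun S => ?_⟩
  rw [toPermHom_apply, toPerm_apply]
  by_cases hS : S = c.base
  · rw [hS, h1, Equiv.swap_apply_left]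
  by_cases hS' : S = P
  · rw [hS', h2, Equiv.swap_apply_right]
  rw [Equiv.swap_apply_of_ne_of_ne hS hS']
  obtain ⟨i, hi5, hi⟩ := c.q_surj hP hS
  rw [← hi]
  refine h4 i fun h0 => hS' ?_
  rw [← hi, c.q_pow_one.mpr h0, one_smul]

theorem Ctx.pow_four (c : Ctx u q) {h : K} (hh : h * q * h⁻¹ = q ^ 2) : h ^ 4 = 1 ∨ h ^ 4 = u := by
  refine c.cq_two hh ?_ ((Commute.refl h).pow_left 4).eq
  have := conj_iter hh 4
  rw [c.q_pow_eq.mpr (show 2 ^ 4 % 5 = 1 % 5 by norm_num), pow_one, mul_inv_eq_iff_eq_mul] at this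
  exact this.symm

/-- There is an involution inverting `q`. -/
theorem Ctx.exists_inv (c : Ctx u q) : ∃ y : K, y * y = 1 ∧ y * q * y⁻¹ = q ^ 4 := by
  obtain ⟨h, hh, -⟩ := c.exists_two
  have hh2 : h ^ 2 * q * (h ^ 2)⁻¹ = q ^ 4 := conj_iter hh 2
  rcases c.pow_four hh with h4 | h4
  · exact ⟨h ^ 2, by rw [← pow_add, h4], hh2⟩
  exfalso
  obtain ⟨z, hzh, hz2, hz1, hzu⟩ := c.exists_z h h4
  obtain ⟨k, -, hk⟩ := c.exists_conj (c.key hh hzh)
  have hz : z * z = 1 := by rw [← pow_two, hz2]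
  have hk2 : ((k : ℕ) ^ 2) % 5 = 1 := by
    have := conj_iter hk 2
    rw [hz2, one_mul, inv_one, mul_one] at this
    conv_lhs at this => rw [← pow_one q]
    exact (c.q_pow_eq.mp this).symm
  have hcase : ∀ k : Fin 5, (k : ℕ) ^ 2 % 5 = 1 → (k : ℕ) = 1 ∨ (k : ℕ) = 4 := by decide
  rcases hcase k hk2 with hk' | hk'
  · rw [hk', pow_one, mul_inv_eq_iff_eq_mul] at hk
    exact (c.cq_two hh hk.symm hzh).elim hz1 hzu
  · rw [hk'] at hk
    set w := (h ^ 2)⁻¹ * z with hw
    have hwq : q * w = w * q := by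
      rw [eq_comm, ← mul_inv_eq_iff_eq_mul, hw]
      calc (h ^ 2)⁻¹ * z * q * ((h ^ 2)⁻¹ * z)⁻¹ = (h ^ 2)⁻¹ * (z * q * z⁻¹) * h ^ 2 := by group
        _ = (h ^ 2)⁻¹ * (h ^ 2 * q * (h ^ 2)⁻¹) * h ^ 2 := by rw [hk, hh2]
        _ = q := by group
    have hwh : w * h = h * w :=
      ((((Commute.refl h).pow_left 2).inv_left).mul_left (hzh : Commute z h)).eq
    have hzw : z = h ^ 2 * w := by rw [hw, mul_inv_cancel_left]
    rcases c.cq_two hh hwq hwh with hw1 | hw1
    · rw [hzw, hw1, mul_one, ← pow_mul, h4] at hz2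
      exact c.u_ne hz2
    · rw [hzw, hw1, (show Commute (h ^ 2) u from (c.central _).symm).mul_pow,
        ← pow_mul, h4, pow_two u, c.u_sq, mul_one] at hz2
      exact c.u_ne hz2

/-- An element with square `u` moves the base point. -/
theorem Ctx.sq_moves (c : Ctx u q) {g : K} (hg : g ^ 2 = u) : g • c.base ≠ c.base := by
  intro hfix
  obtain ⟨k, -, hk⟩ := c.exists_conj (c.fix_base.mp hfix)
  have hk2 : ((k : ℕ) ^ 2) % 5 = 1 := by
    have := conj_iter hk 2
    rw [hg, c.central, mul_inv_cancel_right] at this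
    conv_lhs at this => rw [← pow_one q]
    exact (c.q_pow_eq.mp this).symm
  have hcase : ∀ k : Fin 5, (k : ℕ) ^ 2 % 5 = 1 → (k : ℕ) = 1 ∨ (k : ℕ) = 4 := by decide
  rcases hcase k hk2 with hk' | hk'
  · rw [hk', pow_one, mul_inv_eq_iff_eq_mul] at hk
    obtain ⟨i, j, rfl⟩ := c.cq hk.symm
    rw [(Commute.pow_pow (show Commute q u from (c.central q).symm) i j).mul_pow, ← pow_mul, ← pow_mul,
      Nat.mul_comm j 2, pow_mul u, pow_two u, c.u_sq, one_pow, mul_one] at hg
    have h5 : u ^ 5 = 1 := by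
      rw [← hg, ← pow_mul, c.q_pow_one]
      omega
    rw [show (5 : ℕ) = 2 * 2 + 1 from rfl, pow_succ, pow_mul, pow_two u, c.u_sq, one_pow,
      one_mul] at h5
    exact c.u_ne h5
  · rw [hk'] at hk
    obtain ⟨y, hy, hyq⟩ := c.exists_inv
    have hwq : q * (y⁻¹ * g) = y⁻¹ * g * q := by
      rw [eq_comm, ← mul_inv_eq_iff_eq_mul]
      calc y⁻¹ * g * q * (y⁻¹ * g)⁻¹ = y⁻¹ * (g * q * g⁻¹) * y := by group
        _ = y⁻¹ * (y * q * y⁻¹) * y := by rw [hk, hyq]
        _ = q := by group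
    obtain ⟨i, j, hij⟩ := c.cq hwq
    have hg' : g = y * q ^ i * u ^ j := by rw [mul_assoc, ← hij, mul_inv_cancel_left]
    have hu' : Commute (y * q ^ i) (u ^ j) :=
      Commute.pow_right (show Commute (y * q ^ i) u from (c.central _).symm) j
    rw [hg', hu'.mul_pow, ← pow_mul u, Nat.mul_comm j 2, pow_mul u, pow_two u, c.u_sq, one_pow,
      mul_one, pow_two, show y * q ^ i * (y * q ^ i) = y * q ^ i * y * q ^ i by group] at hg
    rw [conj_pow_eq hyq i, mul_assoc (q ^ (4 * i)), hy, mul_one, ← pow_add,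
      c.q_pow_one.mpr (by omega)] at hg
    exact c.u_ne hg.symm

theorem Ctx.ker (c : Ctx u q) {k : K} (hk : ∀ P : Sylow 5 K, k • P = P) : k = 1 ∨ k = u := by
  obtain ⟨a, -, ha⟩ := c.exists_conj (c.fix_base.mp (hk c.base))
  have hnt : 1 < Nat.card (Sylow 5 K) := by rw [c.card_points]; norm_num
  have := Finite.one_lt_card_iff_nontrivial.mp hnt
  obtain ⟨P, hP⟩ := exists_ne c.base
  have hinv : ∀ S : Sylow 5 K, k⁻¹ • S = S := fun S => by rw [inv_smul_eq_iff, hk]
  have h1 : q ^ (a : ℕ) • P = q ^ 1 • P := by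
    rw [← ha, pow_one, mul_smul, mul_smul, hinv, hk]
  have ha1 : (a : ℕ) % 5 = 1 := by simpa using c.q_smul_eq hP h1
  rw [c.q_pow_eq.mpr (show (a : ℕ) % 5 = 1 % 5 by omega), pow_one, mul_inv_eq_iff_eq_mul] at ha
  obtain ⟨i, j, rfl⟩ := c.cq ha.symm
  have h2 : ∀ n : ℕ, u ^ n • P = P := fun n => by
    induction n with
    | zero => simp
    | succ n ih => rw [pow_succ', mul_smul, ih, c.u_fix]
  have hi : i % 5 = 0 := by
    have := hk P
    rw [mul_smul, h2] at this
    replace this : q ^ i • P = q ^ 0 • P := by rw [this, pow_zero, one_smul]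
    simpa using c.q_smul_eq hP this
  rw [c.q_pow_one.mpr hi, one_mul, ← pow_mod_orderOf, c.hu]
  rcases Nat.mod_two_eq_zero_or_one j with h | h <;> rw [h] <;> simp

end Points

end Cfsg.Agent.M12Uniq.OrderFourU
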