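import Cfsg.Agent.M12Uniq.OrderFourUAbs

/-!
# `u` is not a square, and no abelian Sylow 2-subgroup
-/

set_option autoImplicit false
set_option linter.unusedSectionVars false

namespace Cfsg.Agent.M12Uniq.OrderFourU

open Subgroup MulAction

/-- Fixed-point-free involutions of six points. -/
def Fpf (f : Equiv.Perm (Fin 6)) : Prop := f * f = 1 ∧ ∀ i, f i ≠ i

instance : DecidablePred Fpf := fun f => by unfold Fpf; infer_instance

theorem card_fpf : Fintype.card {f : Equiv.Perm (Fin 6) // Fpf f} = 15 := by decide +kernel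

theorem fpf_conj {f : Equiv.Perm (Fin 6)} (hf : Fpf f) (σ : Equiv.Perm (Fin 6)) :
    Fpf (σ * f * σ⁻¹) := by
  refine ⟨?_, fun i h => ?_⟩
  · rw [show σ * f * σ⁻¹ * (σ * f * σ⁻¹) = σ * (f * f) * σ⁻¹ by group, hf.1, mul_one,
      mul_inv_cancel]
  · refine hf.2 (σ⁻¹ i) (σ.injective ?_)
    rw [Equiv.Perm.mul_apply, Equiv.Perm.mul_apply] at h
    rw [h]
    exact (σ.apply_symm_apply i).symm

theorem swap_zero_one : ∃ a b c : Equiv.Perm (Fin 6), Fpf a ∧ Fpf b ∧ Fpf c ∧
    a * b * c = Equiv.swap 0 1 :=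
  ⟨Equiv.swap 0 1 * Equiv.swap 2 3 * Equiv.swap 4 5,
    Equiv.swap 0 1 * Equiv.swap 2 4 * Equiv.swap 3 5,
    Equiv.swap 0 1 * Equiv.swap 2 5 * Equiv.swap 3 4,
    by decide, by decide, by decide, by decide⟩

/-- A subgroup containing all fixed-point-free involutions is everything. -/
theorem eq_top_of_fpf (R : Subgroup (Equiv.Perm (Fin 6))) (hR : ∀ f, Fpf f → f ∈ R) : R = ⊤ := by
  rw [eq_top_iff, ← Equiv.Perm.closure_isSwap, closure_le]
  rintro σ ⟨a, b, hab, rfl⟩
  obtain ⟨x, y, z, hx, hy, hz, hxyz⟩ := swap_zero_one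
  obtain ⟨τ, hτ⟩ := isConj_iff.mp
    (Equiv.Perm.isConj_swap (by decide : (0 : Fin 6) ≠ 1) hab)
  show Equiv.swap a b ∈ R
  rw [← hτ, ← hxyz, show τ * (x * y * z) * τ⁻¹ = τ * x * τ⁻¹ * (τ * y * τ⁻¹) * (τ * z * τ⁻¹) by
    group]
  exact R.mul_mem (R.mul_mem (hR _ (fpf_conj hx τ)) (hR _ (fpf_conj hy τ)))
    (hR _ (fpf_conj hz τ))

variable {K : Type*} [Group K] [Finite K] {u q : K}

/-- `u` is not a square. -/
theorem Ctx.no_sq (c : Ctx u q) (g : K) : g ^ 2 ≠ u := by
  intro hg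
  classical
  have : Fact (Nat.Prime 5) := ⟨by norm_num⟩
  have := Fintype.ofFinite (Sylow 5 K)
  let e : Sylow 5 K ≃ Fin 6 := Finite.equivFinOfCardEq c.card_points
  let ρ : K →* Equiv.Perm (Fin 6) :=
    (e.permCongrHom.toMonoidHom).comp (toPermHom K (Sylow 5 K))
  have hρ : ∀ (k : K) (i : Fin 6), ρ k i = e (k • e.symm i) := fun _ _ => rfl
  -- `g` moves every point
  have hmove : ∀ P : Sylow 5 K, g • P ≠ P := fun P hP => by
    obtain ⟨k, hk⟩ := exists_smul_eq K c.base P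
    refine c.sq_moves (g := k⁻¹ * g * k) ?_ ?_
    · rw [pow_two, show k⁻¹ * g * k * (k⁻¹ * g * k) = k⁻¹ * (g * g) * k by group, ← pow_two, hg,
        mul_assoc,
        c.central k, inv_mul_cancel_left]
    · rw [mul_smul, mul_smul, hk, hP, ← hk, inv_smul_smul]
  have hb : Fpf (ρ g) := by
    refine ⟨?_, fun i h => hmove (e.symm i) (e.injective ?_)⟩
    · rw [← map_mul, ← pow_two, hg]
      refine Equiv.ext fun i => ?_
      rw [hρ, c.u_fix, e.apply_symm_apply, Equiv.Perm.one_apply]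
    · rw [← hρ, h, e.apply_symm_apply]
  have hker : ∀ k : K, ρ k = 1 → k = 1 ∨ k = u := fun k hk => c.ker fun P => by
    have := congrArg (fun f : Equiv.Perm (Fin 6) => f (e P)) hk
    simp only [hρ, e.symm_apply_apply, Equiv.Perm.one_apply] at this
    exact e.injective this
  set D := (centralizer ({ρ g} : Set (Equiv.Perm (Fin 6)))).comap ρ with hD
  have hg4 : orderOf g = 4 := by
    refine orderOf_eq_prime_pow (p := 2) (n := 1) ?_ ?_
    · rw [pow_one, hg]; exact c.u_ne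
    · rw [show 2 ^ (1 + 1) = 2 * 2 from rfl, pow_mul, hg, pow_two, c.u_sq]
  have hodd : ∀ p : ℕ, p.Prime → p % 2 = 1 → (∀ k : K, orderOf k ≠ 4 * p) →
      ¬ p ∣ Nat.card D := by
    intro p hp hp2 hno hdvd
    have : Fact p.Prime := ⟨hp⟩
    obtain ⟨⟨x, hxD⟩, hx⟩ := exists_prime_orderOf_dvd_card' (G := D) p hdvd
    rw [Subgroup.orderOf_mk] at hx
    have hk : ρ (g⁻¹ * (x * g * x⁻¹)) = 1 := by
      have hx' := mem_centralizer_singleton_iff.mp (mem_comap.mp hxD)
      rw [map_mul, map_mul, map_mul, map_inv, map_inv, hx', mul_inv_cancel_right, inv_mul_cancel]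
    have hcomm : Commute (x ^ 2) g := by
      rw [Commute, SemiconjBy, ← mul_inv_eq_iff_eq_mul,
        show x ^ 2 * g * (x ^ 2)⁻¹ = x * (x * g * x⁻¹) * x⁻¹ by rw [pow_two]; group]
      rcases hker _ hk with h | h
      · rw [inv_mul_eq_one] at h
        rw [← h, ← h]
      · rw [inv_mul_eq_iff_eq_mul] at h
        rw [h, ← mul_assoc x g u, mul_assoc (x * g), c.central, ← mul_assoc, h, mul_assoc, c.u_sq,
          mul_one]
    have hcx : Commute x g := by
      have h := hcomm.pow_left ((p + 1) / 2)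
      rwa [← pow_mul, show 2 * ((p + 1) / 2) = p + 1 by omega, pow_succ, ← hx, pow_orderOf_eq_one,
        one_mul] at h
    refine hno (g * x) ?_
    rw [hcx.symm.orderOf_mul_eq_mul_orderOf_of_coprime, hg4, hx]
    rw [hg4, hx]
    exact (Nat.coprime_pow_left_iff (by norm_num : 0 < 2) 2 p).mpr
      ((Nat.coprime_primes Nat.prime_two hp).mpr (by omega))
  have hidx : 15 ≤ D.index := by
    have h := D.card_mul_index
    rw [c.card] at h
    have h3 := hodd 3 (by norm_num) rfl c.no12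
    have h5 := hodd 5 (by norm_num) rfl c.no20
    have hc : Nat.Coprime 15 (Nat.card D) := Nat.Coprime.mul_left (m := 3) (n := 5)
      ((Nat.Prime.coprime_iff_not_dvd (by norm_num)).mpr h3)
      ((Nat.Prime.coprime_iff_not_dvd (by norm_num)).mpr h5)
    have hpos : D.index ≠ 0 := fun h0 => by rw [h0, mul_zero] at h; norm_num at h
    exact Nat.le_of_dvd (Nat.pos_of_ne_zero hpos) (hc.dvd_of_dvd_mul_left ⟨16, h⟩)
  let F : K ⧸ D → {f : Equiv.Perm (Fin 6) // Fpf f} := fun x =>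
    ⟨ρ x.out * ρ g * (ρ x.out)⁻¹, fpf_conj hb _⟩
  have hinj : Function.Injective F := by
    intro x y h
    have h' : ρ x.out * ρ g * (ρ x.out)⁻¹ = ρ y.out * ρ g * (ρ y.out)⁻¹ := congrArg Subtype.val h
    rw [← x.out_eq, ← y.out_eq]
    refine Quotient.sound' (QuotientGroup.leftRel_apply.mpr ?_)
    refine mem_comap.mpr (mem_centralizer_singleton_iff.mpr ?_)
    rw [map_mul, map_inv]
    calc (ρ x.out)⁻¹ * ρ y.out * ρ g
        = (ρ x.out)⁻¹ * (ρ y.out * ρ g * (ρ y.out)⁻¹) * ρ y.out := by group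
      _ = (ρ x.out)⁻¹ * (ρ x.out * ρ g * (ρ x.out)⁻¹) * ρ y.out := by rw [h']
      _ = ρ g * ((ρ x.out)⁻¹ * ρ y.out) := by group
  have hsurj := (hinj.bijective_of_nat_card_le (by
    rw [Nat.card_eq_fintype_card, card_fpf]; exact hidx)).2
  have htop := eq_top_of_fpf ρ.range fun f hf => by
    obtain ⟨x, hx⟩ := hsurj ⟨f, hf⟩
    exact ⟨x.out * g * x.out⁻¹, by rw [map_mul, map_mul, map_inv]; exact congrArg Subtype.val hx⟩
  have h := card_range_dvd ρ
  rw [htop, card_top, Nat.card_perm, Nat.card_fin, c.card] at h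
  norm_num [Nat.factorial] at h

/-- A subgroup of order 16 is not abelian. -/
theorem Ctx.exists_noncomm (c : Ctx u q) (T : Subgroup K) (hT : Nat.card T = 16) :
    ∃ a ∈ T, ∃ b ∈ T, a * b ≠ b * a := by
  by_contra hno
  push Not at hno
  have : Fact (Nat.Prime 5) := ⟨by norm_num⟩
  have : Fact (Nat.Prime 2) := ⟨Nat.prime_two⟩
  obtain ⟨h, hh, h8⟩ := c.exists_two
  have h2g : IsPGroup 2 (zpowers h) := by
    intro x
    refine ⟨3, Subtype.ext ?_⟩
    obtain ⟨n, hn⟩ := mem_zpowers_iff.mp x.2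
    push_cast
    rw [← hn, ← zpow_natCast, ← zpow_mul, mul_comm, zpow_mul, zpow_natCast]
    norm_num [h8]
  obtain ⟨S, hS⟩ := h2g.exists_le_sylow
  have hcardS : ∀ S : Sylow 2 K, Nat.card (S : Subgroup K) = 16 := fun S => by
    rw [SmallGroups.card_sylow_eq (a := 4) (m := 15) (by rw [c.card]; norm_num) (by norm_num) S]
    norm_num
  let T' : Sylow 2 K := Sylow.ofCard T (by
    rw [hT, c.card, show (240 : ℕ) = 2 ^ 4 * 15 by norm_num,
      Nat.factorization_mul (by norm_num) (by norm_num), Finsupp.add_apply,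
      Nat.Prime.factorization_pow Nat.prime_two, Finsupp.single_eq_same,
      Nat.factorization_eq_zero_of_not_dvd (by norm_num : ¬ 2 ∣ 15)]
    norm_num)
  obtain ⟨k, hk⟩ := exists_smul_eq K T' S
  have hab : ∀ a ∈ (S : Subgroup K), ∀ b ∈ (S : Subgroup K), a * b = b * a := by
    intro a ha b hb
    rw [← hk, Sylow.coe_subgroup_smul, mem_pointwise_smul_iff_inv_smul_mem] at ha hb
    have := hno _ ha _ hb
    simp only [MulAut.smul_def, MulAut.conj_inv_apply] at this
    calc a * b = k * (k⁻¹ * a * k * (k⁻¹ * b * k)) * k⁻¹ := by group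
      _ = k * (k⁻¹ * b * k * (k⁻¹ * a * k)) * k⁻¹ := by rw [this]
      _ = b * a := by group
  have hle : (S : Subgroup K) ≤ normalizer (zpowers q : Set K) := fun t ht =>
    c.key hh (hab t ht h (hS (mem_zpowers h)))
  have h16 := card_dvd_of_le hle
  rw [hcardS, c.norm] at h16
  norm_num at h16

end Cfsg.Agent.M12Uniq.OrderFourU
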