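import Cfsg.Agent.M12Uniq.OrderRestU
import Cfsg.Agent.M12Uniq.OrderFive
import Cfsg.Agent.M12Uniq.OrderEleven
import Cfsg.Agent.M12Uniq.OrderInvol
import Cfsg.Agent.M12Uniq.CountsArith

/-!
# `Pre` from the order alone
-/

set_option autoImplicit false

namespace Cfsg.Agent.M12Uniq

open Finset

universe u

variable {G : Type u} [Group G] [Finite G]

/-- The numbers of elements of the orders of the spectrum add up to the group order. -/
theorem sum_spec (hspec : ∀ g : G, orderOf g ∈ ({1, 2, 3, 4, 5, 6, 8, 10, 11} : Finset ℕ)) :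
    ∑ n ∈ ({1, 2, 3, 4, 5, 6, 8, 10, 11} : Finset ℕ), sN G n = Nat.card G := by
  classical
  have := Fintype.ofFinite G
  rw [Nat.card_eq_fintype_card, ← Finset.card_univ,
    card_eq_sum_card_fiberwise (f := fun g : G => orderOf g) (fun g _ => hspec g)]
  exact sum_congr rfl fun n _ => by rw [sN, Nat.card_eq_fintype_card, Fintype.card_subtype]

/-- `Pre` from the order, the spectrum and the number of elements of order 4. -/
theorem pre_of_spec_four (hG : Cfsg.IsM12 G)
    (hspec : ∀ g : G, orderOf g ∈ ({1, 2, 3, 4, 5, 6, 8, 10, 11} : Finset ℕ))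
    (h4 : sN G 4 = 5940) : Pre G := by
  obtain ⟨-, -, h3, h6⟩ := OrderRest.threes_all hG
  have h := sum_spec hspec
  rw [hG.2] at h
  simp only [sum_insert, mem_insert, mem_singleton, sum_singleton, Nat.reduceEqDiff, or_self,
    not_false_eq_true, sN_one, OrderInvol.s2 hG, h3, h4, OrderInvol.s5 hG, h6, OrderInvol.s10 hG,
    OrderInvol.s11 hG] at h
  exact
    { card := hG.2
      simple := hG.1
      spec := hspec
      s2 := OrderInvol.s2 hG
      s3 := h3
      s4 := Or.inl h4
      s48 := by omega
      s5 := OrderInvol.s5 hG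
      s6 := h6
      s10 := OrderInvol.s10 hG
      s11 := OrderInvol.s11 hG
      sylow11 := OrderEleven.sylow11_normalizer hG
      five := (OrderFive.five_data hG).1
      five_norm := (OrderFive.five_data hG).2 }

end Cfsg.Agent.M12Uniq
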