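import Cfsg.Agent.M12Uniq.OrderFourZRoots
import Cfsg.Agent.M12Uniq.OrderFourU
import Cfsg.Agent.M12Uniq.OrderPre

/-!
# The numbers of elements of orders 4 and 8 from the order alone (`PLAN-Order.md`, O5b)
-/

set_option autoImplicit false

namespace Cfsg.Agent.M12Uniq

open Subgroup

universe u

namespace OrderFourZ

variable {G : Type u} [Group G] [Finite G]

/-- If no involution with centralizer of order 240 is a `k`-th power, the elements of order `2 * k`
correspond to the `k`-th roots of a class of 495 involutions. -/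
theorem count_roots (hG : Cfsg.IsM12 G) {z : G} (hz : orderOf z = 2) (hz192 : cC z = 192) {k : ℕ}
    (hk : k = 2 ∨ k = 4) (hno : ∀ u g : G, orderOf u = 2 → cC u = 240 → g ^ k ≠ u) :
    sN G (2 * k) = 495 * Nat.card {g : G // g ^ k = z} := by
  have : Fact (Nat.Prime 2) := ⟨Nat.prime_two⟩
  have hord : ∀ g : G, orderOf g = 2 * k ↔ orderOf (g ^ k) = 2 := by
    intro g
    constructor
    · intro h
      rw [orderOf_pow' g (by omega), h]
      rcases hk with rfl | rfl <;> rfl
    · intro h
      rcases hk with rfl | rfl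
      · refine orderOf_eq_prime_pow (p := 2) (n := 1) ?_ ?_
        · rw [pow_one]
          intro h1
          rw [h1, orderOf_one] at h
          omega
        · rw [show (2 : ℕ) ^ (1 + 1) = 2 * 2 from rfl, pow_mul]
          exact orderOf_dvd_iff_pow_eq_one.mp h.dvd
      · refine orderOf_eq_prime_pow (p := 2) (n := 2) ?_ ?_
        · rw [show (2 : ℕ) ^ 2 = 4 from rfl]
          intro h1
          rw [h1, orderOf_one] at h
          omega
        · rw [show (2 : ℕ) ^ (2 + 1) = 4 * 2 from rfl, pow_mul, ← h, pow_orderOf_eq_one]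
  have hcl : ∀ g : G, orderOf g = 2 * k ↔ IsConj z (g ^ k) := by
    intro g
    rw [hord]
    refine ⟨fun h => OrderInvol.invol_conj hG z _ hz h ?_,
      fun h => (CI.orderOf_of_isConj h).symm.trans hz⟩
    rcases OrderInvol.invol hG h with e | e
    · exact hz192.trans e.symm
    · exact absurd rfl (hno _ g h e)
  have hfib : ∀ t : {t : G // IsConj z t},
      Nonempty ({g : G // g ^ k = t.1} ≃ {g : G // g ^ k = z}) := by
    rintro ⟨t, ht⟩
    obtain ⟨c, hc⟩ := isConj_iff.mp ht
    refine ⟨((MulAut.conj c).toEquiv.subtypeEquiv fun g => ?_).symm⟩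
    show g ^ k = z ↔ (c * g * c⁻¹) ^ k = t
    rw [conj_pow, ← hc]
    simp
  let e : {g : G // orderOf g = 2 * k} ≃ Σ t : {t : G // IsConj z t}, {g : G // g ^ k = t.1} :=
    { toFun := fun g => ⟨⟨g.1 ^ k, (hcl g.1).mp g.2⟩, ⟨g.1, rfl⟩⟩
      invFun := fun p => ⟨p.2.1, (hcl _).mpr (p.2.2.symm ▸ p.1.2)⟩
      left_inv := fun g => rfl
      right_inv := fun p => by
        obtain ⟨⟨t, ht⟩, ⟨g, (hg : g ^ k = t)⟩⟩ := p
        cases hg
        rfl }
  rw [sN, Nat.card_congr (e.trans ((Equiv.sigmaCongrRight fun t => (hfib t).some).trans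
    (Equiv.sigmaEquivProd _ _))), Nat.card_prod]
  have h := CI.card_class_mul z
  rw [hz192, hG.2] at h
  rw [show Nat.card {t : G // IsConj z t} = 495 by omega]

/-- An involution with centralizer of order 192 has 48 fourth roots if it has 60 square and fourth
roots together. -/
theorem fourth_roots (ht : Threes G) {z : G} (hz : orderOf z = 2) (hz192 : cC z = 192)
    (hsum : Nat.card {g : G // g ^ 2 = z} + Nat.card {g : G // g ^ 4 = z} = 60) :
    Nat.card {g : G // g ^ 4 = z} = 48 := by
  have : Fact (Nat.Prime 3) := ⟨Nat.prime_three⟩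
  set C := centralizer ({z} : Set G) with hC
  have hzC : z ∈ C := mem_centralizer_singleton_iff.mpr rfl
  obtain ⟨h, hh⟩ := exists_prime_orderOf_dvd_card' (G := C) 3
    (by rw [show Nat.card C = 192 from hz192]; norm_num)
  have hzh : z * (h : G) = h * z := (mem_centralizer_singleton_iff.mp h.2).symm
  have hho : orderOf (h : G) = 3 := by rw [Subgroup.orderOf_coe]; exact hh
  let S : Cz C :=
    { z := ⟨z, hzC⟩
      h := h
      orderOf_z := by rw [Subgroup.orderOf_mk]; exact hz
      central := fun x => Subtype.ext (mem_centralizer_singleton_iff.mp x.2).symm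
      card := hz192
      orderOf_h := hh
      card_cent := by
        rw [← ht.z_three z h hz hz192 hho hzh]
        exact Nat.card_congr
          { toFun := fun x => ⟨x.1.1, x.1.2, mem_centralizer_singleton_iff.mpr
              (congrArg Subtype.val (mem_centralizer_singleton_iff.mp x.2))⟩
            invFun := fun x => ⟨⟨x.1, x.2.1⟩, mem_centralizer_singleton_iff.mpr
              (Subtype.ext (mem_centralizer_singleton_iff.mp x.2.2))⟩
            left_inv := fun x => rfl
            right_inv := fun x => rfl } }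
  have hlift : ∀ k : ℕ, Nat.card {x : C // x ^ k = S.z} = Nat.card {g : G // g ^ k = z} :=
    fun k => Nat.card_congr
      { toFun := fun x => ⟨x.1.1, congrArg Subtype.val x.2⟩
        invFun := fun g => ⟨⟨g.1, mem_centralizer_singleton_iff.mpr (by
            have h' := (Commute.refl g.1).pow_right k
            rw [g.2] at h'
            exact h'.eq)⟩, Subtype.ext g.2⟩
        left_inv := fun x => rfl
        right_inv := fun g => rfl }
  rw [← hlift 4]
  exact roots_eq S (by rw [hlift, hlift]; exact hsum)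

end OrderFourZ

variable {G : Type u} [Group G] [Finite G]

/-- The numbers of elements of orders 4 and 8. -/
theorem four_eight_order (hG : Cfsg.IsM12 G) (ht : Threes G)
    (hspec : ∀ g : G, orderOf g ∈ ({1, 2, 3, 4, 5, 6, 8, 10, 11} : Finset ℕ)) :
    sN G 4 = 5940 ∧ sN G 8 = 23760 := by
  obtain ⟨z, hz, hz192⟩ := OrderInvol.exists_z hG
  have h4 : sN G 4 = 495 * Nat.card {g : G // g ^ 2 = z} :=
    OrderFourZ.count_roots hG hz hz192 (k := 2) (Or.inl rfl)
      fun u g hu h240 => (OrderFourU.no_sq_u hG hspec u g hu h240).1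
  have h8 : sN G 8 = 495 * Nat.card {g : G // g ^ 4 = z} :=
    OrderFourZ.count_roots hG hz hz192 (k := 4) (Or.inr rfl)
      fun u g hu h240 => (OrderFourU.no_sq_u hG hspec u g hu h240).2
  obtain ⟨-, -, h3, h6⟩ := OrderRest.threes_all hG
  have h := sum_spec hspec
  rw [hG.2] at h
  simp only [Finset.sum_insert, Finset.mem_insert, Finset.mem_singleton, Finset.sum_singleton,
    Nat.reduceEqDiff, or_self, not_false_eq_true, sN_one, OrderInvol.s2 hG, h3,
    OrderInvol.s5 hG, h6, OrderInvol.s10 hG, OrderInvol.s11 hG] at h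
  have hc := OrderFourZ.fourth_roots ht hz hz192 (by omega)
  omega

/-- There are 5940 elements of order 4. -/
theorem s4_order (hG : Cfsg.IsM12 G) (_hu : UFacts G) (ht : Threes G)
    (hspec : ∀ g : G, orderOf g ∈ ({1, 2, 3, 4, 5, 6, 8, 10, 11} : Finset ℕ)) :
    sN G 4 = 5940 :=
  (four_eight_order hG ht hspec).1

/-- There are 23760 elements of order 8. -/
theorem s8_order (hG : Cfsg.IsM12 G) (_hu : UFacts G) (ht : Threes G)
    (hspec : ∀ g : G, orderOf g ∈ ({1, 2, 3, 4, 5, 6, 8, 10, 11} : Finset ℕ)) :
    sN G 8 = 23760 :=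
  (four_eight_order hG ht hspec).2

end Cfsg.Agent.M12Uniq
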