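import Mathlib

/-!
# Groups of order 16 with a fixed-point-free automorphism of order three (for `PLAN-Order.md`, O5b)
-/

set_option autoImplicit false

namespace Cfsg.Agent.M12Uniq.OrderFourZ

open Subgroup

universe u

variable {A : Type u} [Group A] [Finite A] (α : A ≃* A)

/-- Every element is `y⁻¹ α y`, so the product over an orbit is trivial. -/
theorem telescope (h3 : ∀ x, α (α (α x)) = x) (hfix : ∀ x, α x = x → x = 1) (x : A) :
    x * α x * α (α x) = 1 := by
  have inj : Function.Injective fun y : A => y⁻¹ * α y := by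
    intro a b e
    have e' : α a * (α b)⁻¹ = a * b⁻¹ := by
      have : a⁻¹ * α a = b⁻¹ * α b := e
      calc α a * (α b)⁻¹ = a * (a⁻¹ * α a) * (α b)⁻¹ := by group
        _ = a * (b⁻¹ * α b) * (α b)⁻¹ := by rw [this]
        _ = a * b⁻¹ := by group
    exact mul_inv_eq_one.mp (hfix _ (by rw [map_mul, map_inv, e']))
  obtain ⟨y, rfl⟩ := Finite.injective_iff_surjective.mp inj x
  simp [map_mul, map_inv, mul_assoc, h3]

theorem comm_apply (h3 : ∀ x, α (α (α x)) = x) (hfix : ∀ x, α x = x → x = 1) (x : A) :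
    x * α x = α x * x := by
  have e1 : α (α x) = (α x)⁻¹ * x⁻¹ := by
    rw [← mul_inv_rev]
    exact eq_inv_of_mul_eq_one_right (telescope α h3 hfix x)
  have e2 : α (α x) = x⁻¹ * (α x)⁻¹ := by
    have h := eq_inv_of_mul_eq_one_right (telescope α h3 hfix x⁻¹)
    rw [map_inv, map_inv] at h
    have h' := congrArg (fun t : A => t⁻¹) h
    simp only [inv_inv] at h'
    rw [h']
  have e := congrArg (fun t : A => t⁻¹) (e1.symm.trans e2)
  simpa [mul_inv_rev] using e

theorem comm_of_card_sixteen (h3 : ∀ x, α (α (α x)) = x) (hfix : ∀ x, α x = x → x = 1)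
    (hcard : Nat.card A = 16) (a b : A) : a * b = b * a := by
  classical
  have : Fact (Nat.Prime 2) := ⟨Nat.prime_two⟩
  have hP : IsPGroup 2 A := IsPGroup.of_card (n := 4) (by rw [hcard]; norm_num)
  have : Nontrivial A := Finite.one_lt_card_iff_nontrivial.mp (by rw [hcard]; norm_num)
  set Z := Subgroup.center A with hZ
  have hinv : ∀ y ∈ Z, α y ∈ Z := by
    intro y hy
    rw [hZ, Subgroup.mem_center_iff] at hy ⊢
    intro w
    have := congrArg α (hy (α (α w)))
    rwa [map_mul, map_mul, h3] at this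
  have hsurj : ∀ y ∈ Z, ∃ w ∈ Z, w⁻¹ * α w = y := by
    let f : Z → Z := fun w => ⟨(w : A)⁻¹ * α w, mul_mem (inv_mem w.2) (hinv _ w.2)⟩
    have hf : Function.Injective f := by
      intro p q e
      have e : (p : A)⁻¹ * α p = (q : A)⁻¹ * α q := congrArg Subtype.val e
      have e' : α (p : A) * (α (q : A))⁻¹ = (p : A) * (q : A)⁻¹ := by
        calc α (p : A) * (α (q : A))⁻¹ = (p : A) * ((p : A)⁻¹ * α p) * (α (q : A))⁻¹ := by group
          _ = (p : A) * ((q : A)⁻¹ * α q) * (α (q : A))⁻¹ := by rw [e]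
          _ = (p : A) * (q : A)⁻¹ := by group
      exact Subtype.ext (mul_inv_eq_one.mp (hfix _ (by rw [map_mul, map_inv, e'])))
    intro y hy
    obtain ⟨w, hw⟩ := Finite.injective_iff_surjective.mp hf ⟨y, hy⟩
    exact ⟨w, w.2, congrArg Subtype.val hw⟩
  by_contra hab
  have haZ : a ∉ Z := fun h => hab (Subgroup.mem_center_iff.mp h b).symm
  have hαa : α a ∉ Z := fun h => haZ (by
    have := hinv _ (hinv _ h)
    rwa [h3] at this)
  have hdiff : a⁻¹ * α a ∉ Z := fun h => by
    obtain ⟨w, hw, he⟩ := hsurj _ h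
    refine haZ ?_
    have : a * w⁻¹ = 1 := hfix _ (by
      rw [map_mul, map_inv, show α a = a * (a⁻¹ * α a) by group, ← he]
      group)
    rwa [mul_inv_eq_one.mp this]
  -- the centralizer contains three cosets of the centre
  set C := centralizer ({a} : Set A) with hC
  let c : Fin 3 → A := ![1, a, α a]
  have hcC : ∀ i, c i ∈ C := by
    intro i
    rw [hC, Subgroup.mem_centralizer_singleton_iff]
    fin_cases i
    · simp [c]
    · simp [c]
    · show α a * a = a * α a
      exact (comm_apply α h3 hfix a).symm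
  have hcZ : ∀ y ∈ Z, y ∈ C := fun y hy => by
    rw [hC, Subgroup.mem_centralizer_singleton_iff]
    exact (Subgroup.mem_center_iff.mp hy a).symm
  have hd : ∀ i j, (c i)⁻¹ * c j ∈ Z → i = j := by
    intro i j h
    fin_cases i <;> fin_cases j <;>
      first
      | rfl
      | (exfalso; simp [c] at h; tauto)
      | (exfalso; have h' := inv_mem h; simp [c, mul_inv_rev] at h'; tauto)
  let F : Fin 3 × Z → C := fun p => ⟨c p.1 * p.2, mul_mem (hcC _) (hcZ _ p.2.2)⟩
  have hF : Function.Injective F := by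
    rintro ⟨i, y⟩ ⟨j, w⟩ e
    have e : c i * (y : A) = c j * (w : A) := congrArg Subtype.val e
    have hm : (c i)⁻¹ * c j = (y : A) * (w : A)⁻¹ := by
      calc (c i)⁻¹ * c j = (c i)⁻¹ * (c j * (w : A)) * (w : A)⁻¹ := by group
        _ = (c i)⁻¹ * (c i * (y : A)) * (w : A)⁻¹ := by rw [e]
        _ = (y : A) * (w : A)⁻¹ := by group
    obtain rfl := hd i j (hm ▸ mul_mem y.2 (inv_mem w.2))
    exact Prod.ext rfl (Subtype.ext (mul_left_cancel e))
  have h1 := Nat.card_le_card_of_injective F hF
  rw [Nat.card_prod, Nat.card_fin] at h1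
  have hd16 : Nat.card C ∣ 16 := hcard ▸ Subgroup.card_subgroup_dvd_card C
  have hZ16 : Nat.card Z ∣ 16 := hcard ▸ Subgroup.card_subgroup_dvd_card Z
  have hZ3 : 3 ≤ Nat.card Z := by
    have : Nontrivial Z := hP.center_nontrivial
    obtain ⟨y, hy⟩ := exists_ne (1 : Z)
    have hy1 : (y : A) ≠ 1 := fun h => hy (Subtype.ext h)
    have hne : α (y : A) ≠ y := fun h => hy1 (hfix _ h)
    have hne1 : α (y : A) ≠ 1 := fun h => hy1 (α.injective (h.trans (map_one α).symm))
    calc 3 = ({1, (y : A), α y} : Finset A).card := by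
          simp [Finset.card_insert_of_notMem, hy1.symm, hne1.symm, hne.symm]
      _ ≤ Nat.card Z := by
          rw [← Nat.card_eq_finsetCard]
          refine Nat.card_le_card_of_injective (fun t => ⟨t.1, ?_⟩)
            fun p q e => Subtype.ext (congrArg (fun t : Z => (t : A)) e)
          have ht := t.2
          simp only [Finset.mem_insert, Finset.mem_singleton] at ht
          rcases ht with h | h | h <;> rw [h]
          · exact one_mem Z
          · exact y.2
          · exact hinv _ y.2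
  have key : ∀ n ∈ Nat.divisors 16, ∀ m ∈ Nat.divisors 16, 3 ≤ m → 3 * m ≤ n → n = 16 := by
    decide
  have hCtop : C = ⊤ := Subgroup.eq_top_of_card_eq _ (by
    rw [hcard]
    exact key _ (Nat.mem_divisors.mpr ⟨hd16, by norm_num⟩) _
      (Nat.mem_divisors.mpr ⟨hZ16, by norm_num⟩) hZ3 h1)
  refine haZ (Subgroup.mem_center_iff.mpr fun w => ?_)
  have hw : w ∈ C := hCtop ▸ Subgroup.mem_top w
  rw [hC] at hw
  exact Subgroup.mem_centralizer_singleton_iff.mp hw

end Cfsg.Agent.M12Uniq.OrderFourZ
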