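import Cfsg.Agent.M12Uniq.OrderFourZCz

/-!
# Roots of `z` in a coset of the normal subgroup of order 32 (for `PLAN-Order.md`, O5b)
-/

set_option autoImplicit false

set_option linter.unusedSectionVars false

namespace Cfsg.Agent.M12Uniq.OrderFourZ

open Subgroup
open scoped Pointwise

universe u

/-- The fibre of a homomorphism is empty or a coset of the kernel. -/
theorem card_fibre {A : Type u} [Group A] {B : Type*} [Group B] [Finite A] (f : A →* B) (b : B) :
    Nat.card {a // f a = b} = 0 ∨ Nat.card {a // f a = b} = Nat.card f.ker := by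
  rcases isEmpty_or_nonempty {a // f a = b} with h | ⟨⟨a0, ha0⟩⟩
  · exact Or.inl (Nat.card_of_isEmpty)
  · refine Or.inr (Nat.card_congr
      { toFun := fun a => ⟨a0⁻¹ * a.1, by rw [MonoidHom.mem_ker, map_mul, map_inv, ha0, a.2,
          inv_mul_cancel]⟩
        invFun := fun a => ⟨a0 * a.1, by rw [map_mul, ha0, (MonoidHom.mem_ker.mp a.2), mul_one]⟩
        left_inv := fun a => by simp
        right_inv := fun a => by simp })

variable {C : Type u} [Group C] [Finite C] (S : Cz C) (O : Subgroup C) [hn : O.Normal]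
  (hO : Nat.card O = 32) (hzO : S.z ∈ O) (hnab : ¬ ∀ a b, a * b * a⁻¹ * b⁻¹ ∈ O)

include hO in
omit hn [Finite C] in
theorem pow32 {x : C} (hx : x ∈ O) : x ^ (2 ^ 5) = 1 :=
  orderOf_dvd_iff_pow_eq_one.mp (by
    rw [show (2 : ℕ) ^ 5 = 32 from rfl, ← hO]; exact Subgroup.orderOf_dvd_natCard O hx)

include hO in
omit hn [Finite C] in
theorem h_notMem : S.h ∉ O := fun h => by
  have := Subgroup.orderOf_dvd_natCard O h
  rw [S.orderOf_h, hO] at this
  norm_num at this

include S hO in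
theorem card_quot : Nat.card (C ⧸ O) = 6 := by
  have := O.card_mul_index
  rw [hO, S.card] at this
  show O.index = 6
  omega

include hO in
theorem orderOf_mk_h : orderOf (S.h : C ⧸ O) = 3 := by
  have : Fact (Nat.Prime 3) := ⟨Nat.prime_three⟩
  refine orderOf_eq_prime ?_ ?_
  · rw [← QuotientGroup.mk_pow, ← S.orderOf_h, pow_orderOf_eq_one]; rfl
  · rw [Ne, QuotientGroup.eq_one_iff]
    exact h_notMem S O hO

include S hO in
theorem card_invol_le [Fintype (C ⧸ O)] [DecidableEq (C ⧸ O)] :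
    (Finset.univ.filter fun q : C ⧸ O => orderOf q = 2).card ≤ 3 := by
  set η : C ⧸ O := (S.h : C ⧸ O) with hη
  have ho := orderOf_mk_h S O hO
  rw [← hη] at ho
  have h1 : η ≠ 1 := fun h => by rw [h, orderOf_one] at ho; omega
  have ho' : orderOf η⁻¹ = 3 := by rw [orderOf_inv, ho]
  have h2 : η⁻¹ ≠ η := fun h => by
    have : η * η = 1 := by nth_rewrite 1 [← h]; exact inv_mul_cancel η
    rw [← pow_two] at this
    have := orderOf_dvd_of_pow_eq_one this
    rw [ho] at this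
    norm_num at this
  have hd : Disjoint (Finset.univ.filter fun q : C ⧸ O => orderOf q = 2) {1, η, η⁻¹} := by
    rw [Finset.disjoint_left]
    intro q hq hq'
    simp only [Finset.mem_filter, Finset.mem_univ, true_and] at hq
    simp only [Finset.mem_insert, Finset.mem_singleton] at hq'
    rcases hq' with rfl | rfl | rfl
    · rw [orderOf_one] at hq; omega
    · omega
    · omega
  have hc := Finset.card_le_univ ((Finset.univ.filter fun q : C ⧸ O => orderOf q = 2) ∪
    {1, η, η⁻¹})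
  rw [Finset.card_union_of_disjoint hd, ← Nat.card_eq_fintype_card, card_quot S O hO] at hc
  have h3 : ({1, η, η⁻¹} : Finset (C ⧸ O)).card = 3 := by
    rw [Finset.card_eq_three]
    exact ⟨1, η, η⁻¹, h1.symm, (inv_ne_one.mpr h1).symm, h2.symm, rfl⟩
  omega

include hO hnab in
/-- A subgroup containing `O` and a commutator of `h` with an element of order 2 modulo `O`
contains `h`. -/
theorem h_mem_of_comm {g : C} (hg : g ∉ O) (hgg : g * g ∈ O) {M : Subgroup C} (hM : O ≤ M)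
    (hc : S.h * g * S.h⁻¹ * g⁻¹ ∈ M) : S.h ∈ M := by
  have : Fact (Nat.Prime 3) := ⟨Nat.prime_three⟩
  have hQ := card_quot S O hO
  set η : C ⧸ O := (S.h : C ⧸ O) with hη
  set q : C ⧸ O := (g : C ⧸ O) with hq
  have ho : orderOf η = 3 := orderOf_mk_h S O hO
  have hq2 : orderOf q = 2 := by
    have : Fact (Nat.Prime 2) := ⟨Nat.prime_two⟩
    refine orderOf_eq_prime ?_ ?_
    · rw [pow_two, hq, ← QuotientGroup.mk_mul, QuotientGroup.eq_one_iff]; exact hgg
    · rw [hq, Ne, QuotientGroup.eq_one_iff]; exact hg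
  have hidx : (zpowers η).index = 2 := by
    have := (zpowers η).card_mul_index
    rw [Nat.card_zpowers, ho, hQ] at this
    omega
  have hnorm : (zpowers η).Normal := Subgroup.normal_of_index_eq_two hidx
  set e : C ⧸ O := η * q * η⁻¹ * q⁻¹ with he
  have he1 : e ∈ zpowers η := by
    rw [he, show η * q * η⁻¹ * q⁻¹ = η * (q * η⁻¹ * q⁻¹) by group]
    exact mul_mem (mem_zpowers η) (hnorm.conj_mem _ (inv_mem (mem_zpowers η)) _)
  have he2 : e ≠ 1 := fun h => by
    have hc : Commute η q := by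
      rw [he, mul_inv_eq_one, mul_inv_eq_iff_eq_mul] at h
      exact h
    have ho6 : orderOf (η * q) = 6 := by
      rw [hc.orderOf_mul_eq_mul_orderOf_of_coprime (by rw [ho, hq2]; norm_num), ho, hq2]
    have hcyc : IsCyclic (C ⧸ O) := isCyclic_of_orderOf_eq_card (η * q) (ho6.trans hQ.symm)
    refine hnab fun a b => ?_
    rw [← QuotientGroup.eq_one_iff]
    simp only [QuotientGroup.mk_mul, QuotientGroup.mk_inv]
    rw [IsMulCommutative.is_comm.comm (a : C ⧸ O) (b : C ⧸ O)]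
    group
  have hgen : zpowers e = zpowers η := by
    refine Subgroup.eq_of_le_of_card_ge (zpowers_le.mpr he1) (le_of_eq ?_)
    have hd := Subgroup.orderOf_dvd_natCard _ he1
    rw [Nat.card_zpowers, ho] at hd
    rw [Nat.card_zpowers, Nat.card_zpowers, ho]
    rcases (Nat.dvd_prime Nat.prime_three).mp hd with h | h
    · exact absurd (orderOf_eq_one_iff.mp h) he2
    · exact h.symm
  obtain ⟨i, hi⟩ := mem_zpowers_iff.mp (hgen.symm ▸ mem_zpowers η : η ∈ zpowers e)
  have hm : (S.h * g * S.h⁻¹ * g⁻¹) ^ i ∈ M := zpow_mem hc i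
  have : ((S.h * g * S.h⁻¹ * g⁻¹) ^ i)⁻¹ * S.h ∈ O := by
    rw [← QuotientGroup.eq_one_iff, QuotientGroup.mk_mul, QuotientGroup.mk_inv,
      QuotientGroup.mk_zpow, QuotientGroup.mk_mul, QuotientGroup.mk_mul, QuotientGroup.mk_mul,
      QuotientGroup.mk_inv, QuotientGroup.mk_inv, ← hη, ← hq, ← he, hi, inv_mul_cancel]
  simpa using mul_mem hm (hM this)

include hO hzO hnab in
/-- In a coset of `O` of order 2 in the quotient: at most 8 square roots and 0 or 16 fourth roots
of `z`; and `O` contains no fourth root of `z`. -/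
theorem coset_bound {g : C} (hg : g ∉ O) (hgg : g * g ∈ O) :
    Nat.card {v : O // ((v : C) * g) ^ 2 = S.z} ≤ 8 ∧
    (Nat.card {v : O // ((v : C) * g) ^ 4 = S.z} = 0 ∨
      Nat.card {v : O // ((v : C) * g) ^ 4 = S.z} = 16) ∧
    ∀ x ∈ O, x ^ 4 = 1 := by
  classical
  have := S.normal_N
  set π := QuotientGroup.mk' (zpowers S.z) with hπ
  have hker : π.ker = zpowers S.z := QuotientGroup.ker_mk' _
  have hsurj : Function.Surjective π := QuotientGroup.mk'_surjective _
  have hπ1 : ∀ {x}, π x = 1 ↔ x ∈ zpowers S.z := fun {x} => by rw [← MonoidHom.mem_ker, hker]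
  have hπe : ∀ {x y}, π x = π y ↔ ∃ e ∈ zpowers S.z, x = y * e := by
    intro x y
    constructor
    · intro h
      exact ⟨y⁻¹ * x, hπ1.mp (by rw [map_mul, map_inv, h, inv_mul_cancel]), by group⟩
    · rintro ⟨e, he, rfl⟩
      rw [map_mul, hπ1.mpr he, mul_one]
  have hNO : π.ker ≤ O := by rw [hker]; exact zpowers_le.mpr hzO
  set A : Subgroup (C ⧸ zpowers S.z) := O.map π with hA
  have hAn : A.Normal := hn.map π hsurj
  have hcard96 : Nat.card (C ⧸ zpowers S.z) = 96 := by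
    have := (zpowers S.z).card_mul_index
    rw [Nat.card_zpowers, S.orderOf_z, S.card] at this
    show (zpowers S.z).index = 96
    omega
  have hcomap : ∀ M : Subgroup (C ⧸ zpowers S.z),
      Nat.card (M.comap π) = 2 * Nat.card M := by
    intro M
    have h1 := (M.comap π).card_mul_index
    have h2 := M.card_mul_index
    rw [Subgroup.index_comap_of_surjective _ hsurj, S.card] at h1
    rw [hcard96] at h2
    have : 0 < M.index := Nat.pos_of_ne_zero M.index_ne_zero_of_finite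
    nlinarith
  have hAcomap : A.comap π = O := Subgroup.comap_map_eq_self hNO
  have hA16 : Nat.card A = 16 := by
    have := hcomap A
    rw [hAcomap, hO] at this
    omega
  have hlift : ∀ {y}, y ∈ A → ∃ v ∈ O, π v = y := fun {y} hy => Subgroup.mem_map.mp hy
  set η := π S.h with hη
  set τ := π g with hτ
  have hττ : τ * τ ∈ A := by rw [hτ, ← map_mul]; exact mem_map_of_mem π hgg
  have hfpf : ∀ y ∈ A, η * y * η⁻¹ = y → y = 1 := by
    intro y hy h
    obtain ⟨v, hv, rfl⟩ := hlift hy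
    refine hπ1.mpr (S.two_fix_mod (k := 5) ?_ (pow32 O hO hv))
    rw [← hπ1, map_mul, map_mul, map_mul, map_inv, map_inv, ← hη, h, mul_inv_cancel]
  let α : A ≃* A := MulAut.conjNormal η
  have hαc : ∀ x : A, ((α x : A) : C ⧸ zpowers S.z) = η * x * η⁻¹ := fun x =>
    MulAut.conjNormal_apply η x
  have hη3 : η * η * η = 1 := by
    rw [hη, ← map_mul, ← map_mul, ← pow_three', ← S.orderOf_h, pow_orderOf_eq_one, map_one]
  have h3 : ∀ x : A, α (α (α x)) = x := fun x => Subtype.ext (by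
    rw [hαc, hαc, hαc, show η * (η * (η * x * η⁻¹) * η⁻¹) * η⁻¹ =
      (η * η * η) * x * (η * η * η)⁻¹ by group, hη3]
    simp)
  have hfix : ∀ x : A, α x = x → x = 1 := fun x h => Subtype.ext
    (hfpf _ x.2 ((hαc x).symm.trans (congrArg Subtype.val h)))
  have hcomA : ∀ a ∈ A, ∀ b ∈ A, a * b = b * a := fun a ha b hb =>
    congrArg Subtype.val (comm_of_card_sixteen α h3 hfix hA16 ⟨a, ha⟩ ⟨b, hb⟩)
  -- an element of `A` commuting with `⁅h, g⁆` is trivial
  have hkill : ∀ y ∈ A,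
      (π (S.h * g * S.h⁻¹ * g⁻¹)) * y = y * π (S.h * g * S.h⁻¹ * g⁻¹) → y = 1 := by
    intro y hy h
    have hmem := h_mem_of_comm S O hO hnab hg hgg
      (M := (centralizer ({y} : Set (C ⧸ zpowers S.z))).comap π)
      (fun v hv => Subgroup.mem_comap.mpr (Subgroup.mem_centralizer_singleton_iff.mpr
        (hcomA _ (mem_map_of_mem π hv) _ hy)))
      (Subgroup.mem_comap.mpr (Subgroup.mem_centralizer_singleton_iff.mpr h))
    rw [Subgroup.mem_comap, Subgroup.mem_centralizer_singleton_iff, ← hη] at hmem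
    exact hfpf y hy (by rw [hmem, mul_inv_cancel_right])
  have hπc : π (S.h * g * S.h⁻¹ * g⁻¹) = η * τ * η⁻¹ * τ⁻¹ := by
    simp only [map_mul, map_inv, ← hη, ← hτ]
  -- subgroups meeting their conjugate trivially
  have hinj : ∀ M : Subgroup (C ⧸ zpowers S.z), M ≤ A →
      (∀ x ∈ M, η * x * η⁻¹ ∈ M → x = 1) →
      Function.Injective (fun p : M × M => (p.1 : C ⧸ zpowers S.z) * (η * p.2 * η⁻¹)) := by
    rintro M - hd ⟨a, b⟩ ⟨a', b'⟩ e
    have e : (a : C ⧸ zpowers S.z) * (η * b * η⁻¹) = a' * (η * b' * η⁻¹) := e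
    have h1 : η * ((b' : C ⧸ zpowers S.z) * (b : C ⧸ zpowers S.z)⁻¹) * η⁻¹ =
        (a' : C ⧸ zpowers S.z)⁻¹ * a := by
      calc η * ((b' : C ⧸ zpowers S.z) * (b : C ⧸ zpowers S.z)⁻¹) * η⁻¹
          = (a' : C ⧸ zpowers S.z)⁻¹ * (a' * (η * b' * η⁻¹)) * (η * b * η⁻¹)⁻¹ := by group
        _ = (a' : C ⧸ zpowers S.z)⁻¹ * (a * (η * b * η⁻¹)) * (η * b * η⁻¹)⁻¹ := by rw [e]
        _ = (a' : C ⧸ zpowers S.z)⁻¹ * a := by group
    have hb := hd _ (mul_mem b'.2 (inv_mem b.2)) (h1 ▸ mul_mem (inv_mem a'.2) a.2)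
    rw [hb, mul_one, mul_inv_cancel] at h1
    refine Prod.ext (Subtype.ext ?_) (Subtype.ext (mul_inv_eq_one.mp hb).symm)
    exact (inv_mul_eq_one.mp h1.symm).symm
  have hsq : ∀ M : Subgroup (C ⧸ zpowers S.z), M ≤ A →
      (∀ x ∈ M, η * x * η⁻¹ ∈ M → x = 1) → Nat.card M ≤ 4 := by
    intro M hMA hd
    have := Nat.card_le_card_of_injective (β := A)
      (fun p : M × M => ⟨(p.1 : C ⧸ zpowers S.z) * (η * p.2 * η⁻¹),
        mul_mem (hMA p.1.2) (hAn.conj_mem _ (hMA p.2.2) _)⟩)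
      (fun p q e => hinj M hMA hd (congrArg Subtype.val e))
    rw [Nat.card_prod, hA16] at this
    nlinarith
  set W : Subgroup (C ⧸ zpowers S.z) := A ⊓ centralizer {τ} with hW
  have hWd : ∀ x ∈ W, η * x * η⁻¹ ∈ W → x = 1 := by
    intro x hx hy
    rw [hW, Subgroup.mem_inf, Subgroup.mem_centralizer_singleton_iff] at hx hy
    have := hkill _ hy.1 (by
      rw [hπc]
      calc η * τ * η⁻¹ * τ⁻¹ * (η * x * η⁻¹)
          = η * τ * η⁻¹ * τ⁻¹ * ((η * x * η⁻¹) * τ) * τ⁻¹ := by group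
        _ = η * τ * η⁻¹ * τ⁻¹ * (τ * (η * x * η⁻¹)) * τ⁻¹ := by rw [hy.2]
        _ = η * (τ * x) * η⁻¹ * τ⁻¹ := by group
        _ = η * (x * τ) * η⁻¹ * τ⁻¹ := by rw [hx.2]
        _ = η * x * η⁻¹ * (η * τ * η⁻¹ * τ⁻¹) := by group)
    calc x = η⁻¹ * (η * x * η⁻¹) * η := by group
      _ = 1 := by rw [this]; group
  have hW4 : Nat.card W ≤ 4 := hsq W inf_le_left hWd
  -- the homomorphism `v ↦ v * g v g⁻¹` modulo `z`
  let Λ : O →* C ⧸ zpowers S.z := MonoidHom.mk' (fun v => π v * (τ * π v * τ⁻¹)) fun a b => by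
    have hbA : π (b : C) ∈ A := mem_map_of_mem π b.2
    have hcA : τ * π (a : C) * τ⁻¹ ∈ A := hAn.conj_mem _ (mem_map_of_mem π a.2) _
    rw [Subgroup.coe_mul, map_mul]
    calc π (a : C) * π (b : C) * (τ * (π (a : C) * π (b : C)) * τ⁻¹)
        = π (a : C) * (π (b : C) * (τ * π (a : C) * τ⁻¹)) * (τ * π (b : C) * τ⁻¹) := by group
      _ = π (a : C) * ((τ * π (a : C) * τ⁻¹) * π (b : C)) * (τ * π (b : C) * τ⁻¹) := by
        rw [hcomA _ hbA _ hcA]
      _ = π (a : C) * (τ * π (a : C) * τ⁻¹) * (π (b : C) * (τ * π (b : C) * τ⁻¹)) := by group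
  have hΛ : ∀ v : O, Λ v = π v * (τ * π v * τ⁻¹) := fun v => rfl
  have hΛW : ∀ v : O, Λ v ∈ W := by
    intro v
    rw [hΛ, hW, Subgroup.mem_inf, Subgroup.mem_centralizer_singleton_iff]
    have ha : π (v : C) ∈ A := mem_map_of_mem π v.2
    refine ⟨mul_mem ha (hAn.conj_mem _ ha _), ?_⟩
    set a := π (v : C)
    calc a * (τ * a * τ⁻¹) * τ = a * (τ * a * τ⁻¹) * τ := rfl
      _ = (τ * a * τ⁻¹) * a * τ := by rw [hcomA a ha _ (hAn.conj_mem _ ha _)]
      _ = τ * a * τ⁻¹ * (a * (τ * τ)) * τ⁻¹ := by group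
      _ = τ * a * τ⁻¹ * ((τ * τ) * a) * τ⁻¹ := by rw [hcomA a ha _ hττ]
      _ = τ * (a * (τ * a * τ⁻¹)) := by group
  have hKle : Nat.card Λ.ker ≤ 8 := by
    set K : Subgroup (C ⧸ zpowers S.z) := (Λ.ker.map O.subtype).map π with hK
    have hmem : ∀ x ∈ K, x ∈ A ∧ τ * x * τ⁻¹ = x⁻¹ := by
      intro x hx
      obtain ⟨v, hv, rfl⟩ := Subgroup.mem_map.mp hx
      obtain ⟨w, hw, rfl⟩ := Subgroup.mem_map.mp hv
      refine ⟨mem_map_of_mem π w.2, eq_inv_of_mul_eq_one_right ?_⟩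
      exact (hΛ w).symm.trans (MonoidHom.mem_ker.mp hw)
    have hKd : ∀ x ∈ K, η * x * η⁻¹ ∈ K → x = 1 := by
      intro x hx hy
      have hx' := hmem x hx
      have hy' := hmem _ hy
      have := hkill _ hy'.1 (by
        rw [hπc]
        calc η * τ * η⁻¹ * τ⁻¹ * (η * x * η⁻¹)
            = η * τ * η⁻¹ * τ⁻¹ * (η * x * η⁻¹)⁻¹⁻¹ := by group
          _ = η * τ * η⁻¹ * τ⁻¹ * (τ * (η * x * η⁻¹) * τ⁻¹)⁻¹ := by rw [hy'.2]
          _ = η * (τ * x * τ⁻¹)⁻¹ * η⁻¹ * (η * τ * η⁻¹ * τ⁻¹) := by group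
          _ = η * x * η⁻¹ * (η * τ * η⁻¹ * τ⁻¹) := by rw [hx'.2, inv_inv])
      calc x = η⁻¹ * (η * x * η⁻¹) * η := by group
        _ = 1 := by rw [this]; group
    have h1 := hsq K (fun x hx => (hmem x hx).1) hKd
    have h2 : Nat.card Λ.ker ≤ Nat.card (K.comap π) := by
      rw [Nat.card_congr (Λ.ker.equivMapOfInjective _ O.subtype_injective).toEquiv]
      exact Nat.card_le_card_of_injective
        (fun t => ⟨t.1, Subgroup.mem_comap.mpr (mem_map_of_mem π t.2)⟩)
        fun p q e => Subtype.ext (congrArg (fun t : K.comap π => (t : C)) e)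
    rw [hcomap] at h2
    omega
  have hrangeW : Λ.range ≤ W := by rintro _ ⟨v, rfl⟩; exact hΛW v
  have hmulΛ : Nat.card Λ.ker * Nat.card Λ.range = 32 := by
    rw [← index_ker, Subgroup.card_mul_index, hO]
  have hrle : Nat.card Λ.range ≤ Nat.card W :=
    Nat.le_of_dvd Nat.card_pos (Subgroup.card_dvd_of_le hrangeW)
  have hker8 : Nat.card Λ.ker = 8 := by nlinarith
  have hrange4 : Nat.card Λ.range = 4 := by
    rw [hker8] at hmulΛ; omega
  have hWc : Nat.card W = 4 := by omega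
  have hrangeeq : Λ.range = W := Subgroup.eq_of_le_of_card_ge hrangeW (by omega)
  -- the preimage `V` of `W`
  set V : Subgroup C := W.comap π with hV
  have hV8 : Nat.card V = 8 := by rw [hV, hcomap, hWc]
  have hVO : V ≤ O := by rw [← hAcomap]; exact Subgroup.comap_mono inf_le_left
  have hcommO : ∀ x ∈ O, ∀ y ∈ O, ∃ e ∈ zpowers S.z, x * y = y * x * e := by
    intro x hx y hy
    exact hπe.mp (by
      rw [map_mul, map_mul, hcomA _ (mem_map_of_mem π hx) _ (mem_map_of_mem π hy)])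
  have hΛπ : ∀ v : O, π ((v : C) * (g * v * g⁻¹)) = Λ v := fun v => by
    rw [hΛ]; simp only [map_mul, map_inv, ← hτ]
  have hVcomm : ∀ x ∈ V, ∀ y ∈ V, x * y = y * x := by
    intro x hx y hy
    obtain ⟨v, hv⟩ := MonoidHom.mem_range.mp (hrangeeq.symm ▸ Subgroup.mem_comap.mp hx : π x ∈ _)
    rw [← hΛπ] at hv
    obtain ⟨e0, he0, rfl⟩ := hπe.mp hv.symm
    -- `g y g⁻¹ = y e1`
    have hyW : π y ∈ W := hy
    rw [hW, Subgroup.mem_inf, Subgroup.mem_centralizer_singleton_iff] at hyW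
    obtain ⟨e1, he1, hgy⟩ := hπe.mp (show π (g * y * g⁻¹) = π y by
      rw [map_mul, map_mul, map_inv, ← hτ, ← hyW.2, mul_inv_cancel_right])
    obtain ⟨e, he, hvy⟩ := hcommO v v.2 y (hVO hy)
    -- conjugating `v y = y v e` by `g`
    have hgvy : (g * v * g⁻¹) * y = y * (g * v * g⁻¹) * e := by
      have h1 : (g * v * g⁻¹) * (y * e1) = (y * e1) * (g * v * g⁻¹) * e := by
        rw [← hgy]
        calc g * v * g⁻¹ * (g * y * g⁻¹) = g * (v * y) * g⁻¹ := by group
          _ = g * (y * v) * (e * g⁻¹) := by rw [hvy]; group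
          _ = g * y * g⁻¹ * (g * v * g⁻¹) * e := by rw [S.N_central he]; group
      rw [← mul_assoc, mul_assoc y e1, S.N_central he1, ← mul_assoc, mul_assoc _ e1,
        S.N_central he1, ← mul_assoc] at h1
      exact mul_right_cancel h1
    calc (v : C) * (g * v * g⁻¹) * e0 * y = (v : C) * ((g * v * g⁻¹) * y) * e0 := by
          rw [mul_assoc _ e0, S.N_central he0]; group
      _ = ((v : C) * y) * (g * v * g⁻¹) * e * e0 := by rw [hgvy]; group
      _ = y * v * (e * (g * v * g⁻¹)) * e * e0 := by rw [hvy]; group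
      _ = y * v * (g * v * g⁻¹) * (e * e) * e0 := by rw [S.N_central he]; group
      _ = y * ((v : C) * (g * v * g⁻¹) * e0) := by rw [S.N_sq he]; group
  -- fourth powers vanish on `O`
  have hW4pow : ∀ w ∈ W, w ^ 4 = 1 := fun w hw =>
    orderOf_dvd_iff_pow_eq_one.mp (hWc ▸ Subgroup.orderOf_dvd_natCard W hw)
  have hA4pow : ∀ a ∈ A, a ^ 4 = 1 := by
    intro a ha
    have hb : Function.Bijective (fun p : W × W => (⟨(p.1 : C ⧸ zpowers S.z) * (η * p.2 * η⁻¹),
        mul_mem p.1.2.1 (hAn.conj_mem _ p.2.2.1 _)⟩ : A)) :=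
      (Nat.bijective_iff_injective_and_card _).mpr
        ⟨fun p q e => hinj W inf_le_left hWd (congrArg Subtype.val e), by
          rw [Nat.card_prod, hWc, hA16]⟩
    obtain ⟨⟨p, q⟩, e⟩ := hb.2 ⟨a, ha⟩
    rw [← show (p : C ⧸ zpowers S.z) * (η * q * η⁻¹) = a from congrArg Subtype.val e,
      (show Commute (p : C ⧸ zpowers S.z) (η * q * η⁻¹) from
        hcomA _ p.2.1 _ (hAn.conj_mem _ q.2.1 _)).mul_pow, conj_pow, hW4pow _ p.2, hW4pow _ q.2]
    simp
  have hsqO : ∀ x ∈ O, x ^ 4 = 1 := by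
    intro x hx
    have h4 : ∀ {x}, x ∈ O → x ^ 4 ∈ zpowers S.z := fun {x} hx =>
      hπ1.mp (by rw [map_pow]; exact hA4pow _ (mem_map_of_mem π hx))
    have hmul : ∀ {x y}, x ∈ O → y ∈ O → (x * y) ^ 4 = x ^ 4 * y ^ 4 := by
      intro x y hx hy
      obtain ⟨e, he, hxy⟩ := hcommO x hx y hy
      have hce : ∀ t, e * t = t * e := S.N_central he
      have h1 : (x * y) ^ 2 = x ^ 2 * y ^ 2 * e := by
        have hyx : y * x = x * y * e := by
          calc y * x = y * x * (e * e) := by rw [S.N_sq he, mul_one]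
            _ = x * y * e := by rw [← mul_assoc, ← hxy]
        calc (x * y) ^ 2 = x * (y * x) * y := by rw [pow_two]; group
          _ = x * x * y * (e * y) := by rw [hyx]; group
          _ = x ^ 2 * y ^ 2 * e := by rw [hce, pow_two, pow_two]; group
      have h2 : x * y ^ 2 = y ^ 2 * x := by
        calc x * y ^ 2 = (x * y) * y := by rw [pow_two]; group
          _ = y * x * (e * y) := by rw [hxy]; group
          _ = y * (x * y) * e := by rw [hce]; group
          _ = y * y * x * (e * e) := by rw [hxy]; group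
          _ = y ^ 2 * x := by rw [S.N_sq he, pow_two]; group
      have hcc : Commute (x ^ 2) (y ^ 2) := Commute.pow_left h2 2
      rw [show (x * y) ^ 4 = ((x * y) ^ 2) ^ 2 by rw [← pow_mul], h1,
        (show Commute (x ^ 2 * y ^ 2) e from (hce _).symm).mul_pow, hcc.mul_pow, ← pow_mul,
        ← pow_mul, pow_two e, S.N_sq he, mul_one]
    have hconj : ∀ k : C, (k * x * k⁻¹) ^ 4 = x ^ 4 := fun k => by
      rw [conj_pow, ← S.N_central (h4 hx), mul_inv_cancel_right]
    have hx2 : S.h * x * S.h⁻¹ ∈ O := hn.conj_mem _ hx _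
    have hx3 : S.h * (S.h * x * S.h⁻¹) * S.h⁻¹ ∈ O := hn.conj_mem _ hx2 _
    have hp : x * (S.h * x * S.h⁻¹) * (S.h * (S.h * x * S.h⁻¹) * S.h⁻¹) ∈ zpowers S.z := by
      refine hπ1.mp ?_
      have h := congrArg Subtype.val (telescope α h3 hfix ⟨π x, mem_map_of_mem π hx⟩)
      simp only [Subgroup.coe_mul, hαc, Subgroup.coe_one] at h
      simpa only [map_mul, map_inv, ← hη] using h
    have := S.N_pow_four hp
    rw [hmul (mul_mem hx hx2) hx3, hmul hx hx2, hconj,
      show S.h * (S.h * x * S.h⁻¹) * S.h⁻¹ = (S.h * S.h) * x * (S.h * S.h)⁻¹ by group, hconj,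
      ← pow_two (x ^ 4), ← pow_succ, pow_succ, pow_two (x ^ 4), S.N_sq (h4 hx), one_mul] at this
    exact this
  -- the squares in the coset
  have hroot : ∀ v : O, ((v : C) * g) ^ 2 = (v : C) * (g * v * g⁻¹) * (g * g) := fun v => by
    rw [pow_two]; group
  have hggV : g * g ∈ V := by
    rw [hV, Subgroup.mem_comap, hW, Subgroup.mem_inf, Subgroup.mem_centralizer_singleton_iff,
      map_mul, ← hτ]
    exact ⟨hττ, by group⟩
  have hlamV : ∀ v : O, (v : C) * (g * v * g⁻¹) ∈ V := fun v => by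
    rw [hV, Subgroup.mem_comap, hΛπ]; exact hΛW v
  let ψ : O →* C := MonoidHom.mk' (fun v => ((v : C) * (g * v * g⁻¹)) ^ 2) fun a b => by
    have hga : g * (a : C) * g⁻¹ ∈ O := hn.conj_mem _ a.2 _
    obtain ⟨e, he, hbe⟩ := hcommO b b.2 _ hga
    have h1 : ((a * b : O) : C) * (g * ((a * b : O) : C) * g⁻¹) =
        ((a : C) * (g * a * g⁻¹)) * ((b : C) * (g * b * g⁻¹)) * e := by
      rw [Subgroup.coe_mul]
      calc (a : C) * b * (g * ((a : C) * b) * g⁻¹)
          = (a : C) * ((b : C) * (g * a * g⁻¹)) * (g * b * g⁻¹) := by group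
        _ = (a : C) * (g * a * g⁻¹) * b * (e * (g * b * g⁻¹)) := by rw [hbe]; group
        _ = _ := by rw [S.N_central he]; group
    rw [h1, (show Commute ((a : C) * (g * a * g⁻¹) * ((b : C) * (g * b * g⁻¹))) e from
        (S.N_central he _).symm).mul_pow,
      (show Commute ((a : C) * (g * a * g⁻¹)) ((b : C) * (g * b * g⁻¹)) from
        hVcomm _ (hlamV a) _ (hlamV b)).mul_pow, pow_two e, S.N_sq he, mul_one]
  have hψ : ∀ v : O, ((v : C) * g) ^ 4 = ψ v * (g * g) ^ 2 := fun v => by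
    rw [show (4 : ℕ) = 2 * 2 from rfl, pow_mul, hroot v,
      (show Commute _ (g * g) from hVcomm _ (hlamV v) _ hggV).mul_pow]
    rfl
  let sq : V →* C := MonoidHom.mk' (fun y => (y : C) ^ 2) fun a b => by
    rw [Subgroup.coe_mul, (show Commute (a : C) b from hVcomm _ a.2 _ b.2).mul_pow]
  have hsqR : sq.range ≤ sq.ker.map V.subtype := by
    rintro _ ⟨y, rfl⟩
    refine ⟨y ^ 2, ?_, rfl⟩
    show ((y ^ 2 : V) : C) ^ 2 = 1
    rw [Subgroup.coe_pow, ← pow_mul]
    exact hsqO _ (hVO y.2)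
  have hR2 : Nat.card sq.range ≤ 2 := by
    have h1 : Nat.card sq.range ≤ Nat.card sq.ker :=
      Nat.le_of_dvd Nat.card_pos ((Nat.card_congr (sq.ker.equivMapOfInjective _
        V.subtype_injective).toEquiv).symm ▸ Subgroup.card_dvd_of_le hsqR)
    have h2 : Nat.card sq.ker * Nat.card sq.range = 8 := by
      rw [← index_ker, Subgroup.card_mul_index, hV8]
    nlinarith
  have hψR : ψ.range ≤ sq.range := by
    rintro _ ⟨v, rfl⟩; exact ⟨⟨_, hlamV v⟩, rfl⟩
  have hψker : Nat.card ψ.ker = 32 ∨ Nat.card ψ.ker = 16 := by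
    have h1 : Nat.card ψ.ker * Nat.card ψ.range = 32 := by
      rw [← index_ker, Subgroup.card_mul_index, hO]
    have h2 := (Nat.le_of_dvd Nat.card_pos (Subgroup.card_dvd_of_le hψR)).trans hR2
    have h3 : 0 < Nat.card ψ.range := Nat.card_pos
    interval_cases (Nat.card ψ.range) <;> omega
  obtain ⟨v0, hv0⟩ : ∃ v0 : O, Λ v0 = (τ * τ)⁻¹ := by
    refine MonoidHom.mem_range.mp (hrangeeq ▸ inv_mem ?_)
    have := hggV
    rwa [hV, Subgroup.mem_comap, map_mul, ← hτ] at this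
  refine ⟨?_, ?_, hsqO⟩
  · refine le_trans (Nat.card_le_card_of_injective (β := {v // Λ v = (τ * τ)⁻¹})
      (fun v => ⟨v.1, ?_⟩) fun p q e => Subtype.ext (Subtype.mk.inj e)) ?_
    · have h := congrArg π (hroot v.1)
      rw [v.2, map_mul _ _ (g * g), hΛπ, hπ1.mpr (mem_zpowers _), map_mul, ← hτ] at h
      exact eq_inv_of_mul_eq_one_left h.symm
    · rcases card_fibre Λ (τ * τ)⁻¹ with h | h <;> omega
  · rw [Nat.card_congr (Equiv.subtypeEquivRight fun v : O =>
      show ((v : C) * g) ^ 4 = S.z ↔ ψ v = S.z * ((g * g) ^ 2)⁻¹ by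
        rw [hψ, eq_mul_inv_iff_mul_eq])]
    rcases card_fibre ψ (S.z * ((g * g) ^ 2)⁻¹) with h | h
    · exact Or.inl h
    rcases hψker with hk | hk
    · exfalso
      rw [hk] at h
      have hall : ∀ v : O, ψ v = S.z * ((g * g) ^ 2)⁻¹ := by
        intro v
        by_contra hv
        have := Fintype.ofFinite O
        have hlt := Fintype.card_subtype_lt (p := fun v => ψ v = S.z * ((g * g) ^ 2)⁻¹) hv
        rw [← Nat.card_eq_fintype_card, ← Nat.card_eq_fintype_card, h, hO] at hlt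
        omega
      have h2 : ((v0 : C) * g) ^ 2 ∈ zpowers S.z := by
        rw [← hπ1, hroot, map_mul _ _ (g * g), hΛπ, hv0, map_mul, ← hτ, inv_mul_cancel]
      have h4 : ((v0 : C) * g) ^ 4 = 1 := by
        rw [show (4 : ℕ) = 2 * 2 from rfl, pow_mul, pow_two (((v0 : C) * g) ^ 2), S.N_sq h2]
      rw [hψ, hall, inv_mul_cancel_right] at h4
      exact S.z_ne h4
    · exact Or.inr (h.trans hk)

end Cfsg.Agent.M12Uniq.OrderFourZ
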