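import Cfsg.Agent.M12Uniq.OrderFourZAlg

/-!
# The roots of the central involution in a group of order 192 (for `PLAN-Order.md`, O5b)

In a group of order 192 with a central involution `z` and an element of order 3 whose centralizer
has order 6, if the square and fourth roots of `z` number 60 then 12 of them are square roots.
-/

set_option autoImplicit false

namespace Cfsg.Agent.M12Uniq.OrderFourZ

open Subgroup
open scoped Pointwise

universe u

/-- The data of the centralizer of an involution. -/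
structure Cz (C : Type u) [Group C] where
  z : C
  h : C
  orderOf_z : orderOf z = 2
  central : ∀ x, z * x = x * z
  card : Nat.card C = 192
  orderOf_h : orderOf h = 3
  card_cent : Nat.card (centralizer ({h} : Set C)) = 6

variable {C : Type u} [Group C]

theorem Cz.normal_N (S : Cz C) : (zpowers S.z).Normal := ⟨fun a ha x => by
  obtain ⟨i, rfl⟩ := mem_zpowers_iff.mp ha
  rw [((show Commute x S.z from (S.central x).symm).zpow_right i).eq, mul_inv_cancel_right]
  exact ha⟩

theorem Cz.zz (S : Cz C) : S.z * S.z = 1 := by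
  rw [← pow_two, ← S.orderOf_z, pow_orderOf_eq_one]

theorem Cz.z_ne (S : Cz C) : S.z ≠ 1 := fun h => by
  have := S.orderOf_z
  rw [h, orderOf_one] at this
  omega

theorem Cz.mem_N (S : Cz C) {x : C} : x ∈ zpowers S.z ↔ x = 1 ∨ x = S.z := by
  constructor
  · intro hx
    obtain ⟨i, rfl⟩ := mem_zpowers_iff.mp hx
    rw [← zpow_mod_orderOf, S.orderOf_z, Nat.cast_ofNat]
    rcases Int.emod_two_eq i with e | e <;> rw [e]
    · exact Or.inl (zpow_zero _)
    · exact Or.inr (zpow_one _)
  · rintro (rfl | rfl)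
    · exact one_mem _
    · exact mem_zpowers _

theorem Cz.N_central (S : Cz C) {e : C} (he : e ∈ zpowers S.z) (x : C) : e * x = x * e := by
  rcases S.mem_N.mp he with rfl | rfl
  · simp
  · exact S.central x

theorem Cz.N_sq (S : Cz C) {e : C} (he : e ∈ zpowers S.z) : e * e = 1 := by
  rcases S.mem_N.mp he with rfl | rfl
  · simp
  · exact S.zz

theorem Cz.N_pow_four (S : Cz C) {e : C} (he : e ∈ zpowers S.z) : e ^ 4 = 1 := by
  rw [show (4 : ℕ) = 2 * 2 from rfl, pow_mul, pow_two e, S.N_sq he, one_pow]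

variable [Finite C]

/-- A 2-element commuting with `h` lies in `⟨z⟩`. -/
theorem Cz.two_fix (S : Cz C) {x : C} {k : ℕ} (hc : S.h * x = x * S.h) (hx : x ^ (2 ^ k) = 1) :
    x ∈ zpowers S.z := by
  have hcz : Commute S.z S.h := S.central S.h
  have ho : orderOf (S.z * S.h) = 6 := by
    rw [hcz.orderOf_mul_eq_mul_orderOf_of_coprime (by rw [S.orderOf_z, S.orderOf_h]; norm_num),
      S.orderOf_z, S.orderOf_h]
  have heq : zpowers (S.z * S.h) = centralizer ({S.h} : Set C) := by
    refine Subgroup.eq_of_le_of_card_ge ?_ (by rw [Nat.card_zpowers, ho, S.card_cent])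
    rw [zpowers_le, Subgroup.mem_centralizer_singleton_iff]
    rw [mul_assoc, ← mul_assoc S.h, ← hcz.eq, mul_assoc]
  have hxC : x ∈ zpowers (S.z * S.h) := heq ▸ Subgroup.mem_centralizer_singleton_iff.mpr hc.symm
  obtain ⟨i, hi⟩ := mem_zpowers_iff.mp hxC
  rw [hcz.mul_zpow] at hi
  have h6 : x ^ 6 = 1 := by
    refine orderOf_dvd_iff_pow_eq_one.mp ?_
    rw [← ho]
    exact (Nat.card_zpowers (S.z * S.h)) ▸ Subgroup.orderOf_dvd_natCard _ hxC
  have h2 : orderOf x ∣ 2 := by
    have hg := Nat.dvd_gcd (orderOf_dvd_of_pow_eq_one hx) (orderOf_dvd_of_pow_eq_one h6)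
    refine hg.trans ?_
    rw [show (6 : ℕ) = 2 * 3 from rfl, Nat.Coprime.gcd_mul_right_cancel_right]
    · exact Nat.gcd_dvd_right _ _
    · exact Nat.Coprime.pow_right _ (by norm_num)
  have hx2 : x ^ (2 : ℤ) = 1 := by
    rw [show (2 : ℤ) = ((2 : ℕ) : ℤ) from rfl, zpow_natCast]
    exact orderOf_dvd_iff_pow_eq_one.mp h2
  rw [← hi, (hcz.zpow_zpow i i).mul_zpow, ← zpow_mul, ← zpow_mul, mul_comm i 2, zpow_mul,
    show S.z ^ (2 : ℤ) = 1 by rw [zpow_ofNat, pow_two, S.zz], one_zpow, one_mul] at hx2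
  have h3 : (3 : ℤ) ∣ i := by
    have := orderOf_dvd_iff_zpow_eq_one.mpr hx2
    rw [S.orderOf_h] at this
    omega
  obtain ⟨j, rfl⟩ := h3
  rw [zpow_mul S.h, show S.h ^ (3 : ℤ) = 1 by
    rw [zpow_ofNat, ← S.orderOf_h, pow_orderOf_eq_one], one_zpow, mul_one] at hi
  exact hi ▸ zpow_mem (mem_zpowers _) _

/-- A 2-element fixed by `h` modulo `⟨z⟩` lies in `⟨z⟩`. -/
theorem Cz.two_fix_mod (S : Cz C) {x : C} {k : ℕ}
    (hc : S.h * x * S.h⁻¹ * x⁻¹ ∈ zpowers S.z) (hx : x ^ (2 ^ k) = 1) : x ∈ zpowers S.z := by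
  refine S.two_fix (k := k) ?_ hx
  set e := S.h * x * S.h⁻¹ * x⁻¹ with he
  have he2 := S.N_sq hc
  have hhx : S.h * x = e * x * S.h := by rw [he]; group
  rcases S.mem_N.mp hc with h | h
  · rwa [h, one_mul] at hhx
  · exfalso
    rw [h] at hhx
    have key : ∀ n : ℕ, S.h ^ n * x * (S.h ^ n)⁻¹ = S.z ^ n * x := by
      intro n
      induction n with
      | zero => simp
      | succ n ih =>
        rw [pow_succ' S.h, show S.h * S.h ^ n * x * (S.h * S.h ^ n)⁻¹ =
          S.h * (S.h ^ n * x * (S.h ^ n)⁻¹) * S.h⁻¹ by group, ih, pow_succ]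
        calc S.h * (S.z ^ n * x) * S.h⁻¹ = S.z ^ n * (S.h * x * S.h⁻¹) := by
              rw [← mul_assoc S.h, ((show Commute S.h S.z from (S.central _).symm).pow_right n).eq]
              group
          _ = S.z ^ n * S.z * x := by rw [hhx]; group
    have := key 3
    rw [← S.orderOf_h, pow_orderOf_eq_one, S.orderOf_h, pow_succ, pow_two, S.zz] at this
    simp at this
    exact S.z_ne this

/-- The normal subgroup of order 32. -/
theorem Cz.exists_O (S : Cz C) : ∃ O : Subgroup C, O.Normal ∧ Nat.card O = 32 ∧ S.z ∈ O ∧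
    (∃ g, g ∉ O ∧ g * g ∈ O) ∧ ¬ ∀ a b, a * b * a⁻¹ * b⁻¹ ∈ O := by
  have : Fact (Nat.Prime 2) := ⟨Nat.prime_two⟩
  have : Fact (Nat.Prime 3) := ⟨Nat.prime_three⟩
  let P : Sylow 2 C := default
  set T := (P : Subgroup C) with hT
  have hTc : Nat.card T = 64 := by
    obtain ⟨k, hk⟩ := IsPGroup.iff_card.mp P.isPGroup'
    have hd := T.card_mul_index
    have hodd : ¬ 2 ∣ T.index := P.not_dvd_index
    rw [hT] at hd hodd ⊢
    rw [hk, S.card] at hd
    rw [hk]
    have hk8 : k < 8 := Nat.pow_lt_pow_iff_right (a := 2) (by norm_num) |>.mp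
      (lt_of_le_of_lt (Nat.le_of_dvd (by norm_num) ⟨_, hd.symm⟩) (by norm_num))
    interval_cases k <;> omega
  have hidx : T.index = 3 := by
    have := T.card_mul_index
    rw [hTc, S.card] at this
    omega
  have hTpow : ∀ {x : C}, x ∈ T → x ^ (2 ^ 6) = 1 := fun {x} hx =>
    orderOf_dvd_iff_pow_eq_one.mp (by
      rw [show (2 : ℕ) ^ 6 = 64 from rfl, ← hTc]; exact Subgroup.orderOf_dvd_natCard _ hx)
  have hzT : S.z ∈ T := by
    have hN : IsPGroup 2 (zpowers S.z) :=
      IsPGroup.of_card (n := 1) (by rw [Nat.card_zpowers, S.orderOf_z]; norm_num)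
    obtain ⟨Q, hQ⟩ := hN.exists_le_sylow
    obtain ⟨c, hc⟩ := MulAction.exists_smul_eq C Q P
    have hz : c * S.z * c⁻¹ ∈ T := by
      have : MulAut.conj c • S.z ∈ MulAut.conj c • (Q : Subgroup C) :=
        Subgroup.smul_mem_pointwise_smul _ _ _ (hQ (mem_zpowers _))
      rw [hT, ← hc]
      exact this
    rwa [← S.central c, mul_inv_cancel_right] at hz
  have hTn : ¬ T.Normal := fun hn => by
    -- `h` would permute `T` with exactly two fixed points
    let f : Function.End T := fun x => ⟨S.h * x * S.h⁻¹, hn.conj_mem _ x.2 _⟩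
    have hfpow : ∀ (n : ℕ) (x : T), ((f ^ n : Function.End T) x : C) =
        S.h ^ n * x * (S.h ^ n)⁻¹ := by
      intro n
      induction n with
      | zero => intro x; simp; rfl
      | succ n ih =>
        intro x
        rw [pow_succ' f]
        show S.h * ((f ^ n : Function.End T) x : C) * S.h⁻¹ = _
        rw [ih, pow_succ' S.h]
        group
    have hf : f ^ 3 ^ 1 = 1 := by
      refine funext fun x => Subtype.ext ?_
      rw [hfpow, show S.h ^ 3 ^ 1 = 1 by rw [pow_one, ← S.orderOf_h, pow_orderOf_eq_one]]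
      simp
      rfl
    classical
    have := Fintype.ofFinite T
    have hmod := Equiv.Perm.card_fixedPoints_modEq hf
    rw [← Nat.card_eq_fintype_card, hTc, ← Nat.card_eq_fintype_card] at hmod
    have hle : Nat.card (Function.fixedPoints f) ≤ 2 := by
      refine le_trans (Nat.card_le_card_of_injective (β := zpowers S.z)
        (fun x => ⟨(x.1 : C), ?_⟩) fun p q e => Subtype.ext (Subtype.ext (congrArg
          (fun t : zpowers S.z => (t : C)) e))) (le_of_eq (by rw [Nat.card_zpowers, S.orderOf_z]))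
      have hx : S.h * (x.1 : C) * S.h⁻¹ = x.1 := congrArg Subtype.val x.2
      refine S.two_fix (k := 6) ?_ (hTpow x.1.2)
      conv_rhs => rw [← hx]
      group
    have hge : 2 ≤ Nat.card (Function.fixedPoints f) := by
      let g : zpowers S.z → Function.fixedPoints f := fun x =>
        ⟨⟨x, (zpowers_le.mpr hzT) x.2⟩, Subtype.ext (by
          show S.h * (x : C) * S.h⁻¹ = x
          rw [← S.N_central x.2 S.h, mul_inv_cancel_right])⟩
      have := Nat.card_le_card_of_injective g fun p q e =>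
        Subtype.ext (congrArg (fun t : Function.fixedPoints f => (t.1 : C)) e)
      rwa [Nat.card_zpowers, S.orderOf_z] at this
    have h2 : Nat.card (Function.fixedPoints f) = 2 := le_antisymm hle hge
    rw [h2] at hmod
    exact absurd hmod (by decide)
  set O := T.normalCore with hO
  have hOT : O ≤ T := T.normalCore_le
  have hne : O ≠ T := fun e => hTn (e ▸ T.normalCore_normal)
  have h6 : O.index ∣ 6 := by
    rw [hO, Subgroup.normalCore_eq_ker, index_ker]
    refine (Subgroup.card_subgroup_dvd_card _).trans ?_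
    rw [Nat.card_perm, show Nat.card (C ⧸ T) = 3 from hidx]
    rfl
  have hrel : T.index ∣ O.index := Subgroup.index_dvd_of_le hOT
  have hO32 : Nat.card O = 32 := by
    have hcm := O.card_mul_index
    rw [S.card] at hcm
    rw [hidx] at hrel
    have hne3 : O.index ≠ 3 := fun e => hne (Subgroup.eq_of_le_of_card_ge hOT (by
      rw [e] at hcm; omega))
    have hm := Nat.mem_divisors.mpr ⟨h6, (by norm_num : (6 : ℕ) ≠ 0)⟩
    rw [show Nat.divisors 6 = {1, 2, 3, 6} by decide] at hm
    simp only [Finset.mem_insert, Finset.mem_singleton] at hm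
    rcases hm with e | e | e | e <;> rw [e] at hrel hcm hne3 <;> omega
  have hnab : ¬ ∀ a b, a * b * a⁻¹ * b⁻¹ ∈ O := fun hab => hTn ⟨fun t ht a => by
    have := mul_mem (hOT (hab a t)) ht
    rwa [inv_mul_cancel_right] at this⟩
  refine ⟨O, T.normalCore_normal, hO32, ?_, ?_, hnab⟩
  · intro c
    rw [← S.central c, mul_inv_cancel_right]
    exact hzT
  · obtain ⟨g, hgT, hgO⟩ : ∃ g ∈ T, g ∉ O := by
      by_contra hcon
      push Not at hcon
      exact hne (le_antisymm hOT hcon)
    refine ⟨g, hgO, ?_⟩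
    have hn : O.Normal := T.normalCore_normal
    rw [← QuotientGroup.eq_one_iff, QuotientGroup.mk_mul, ← pow_two]
    refine orderOf_dvd_iff_pow_eq_one.mp ?_
    have h1 : orderOf (g : C ⧸ O) ∣ 2 ^ 6 :=
      orderOf_dvd_of_pow_eq_one (by rw [← QuotientGroup.mk_pow, hTpow hgT]; rfl)
    have h2 : orderOf (g : C ⧸ O) ∣ 6 := (_root_.orderOf_dvd_natCard _).trans h6
    exact (Nat.dvd_gcd h1 h2).trans (by norm_num)

end Cfsg.Agent.M12Uniq.OrderFourZ
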