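import Cfsg.Agent.M12Uniq.OrderFourZCoset

/-!
# The number of fourth roots of the central involution (for `PLAN-Order.md`, O5b)
-/

set_option autoImplicit false
set_option linter.unusedSectionVars false

namespace Cfsg.Agent.M12Uniq.OrderFourZ

open Subgroup

universe u

variable {C : Type u} [Group C] [Finite C]

theorem fourth_root_not_comm (S : Cz C) {x : C} (hx : x ^ 4 = S.z) : S.h * x ≠ x * S.h := by
  intro hc
  have h8 : x ^ (2 ^ 3) = 1 := by
    rw [show (2 : ℕ) ^ 3 = 4 * 2 from rfl, pow_mul, hx, pow_two, S.zz]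
  have := S.N_pow_four (S.two_fix hc h8)
  rw [hx] at this
  exact S.z_ne this

theorem three_dvd_roots (S : Cz C) : 3 ∣ Nat.card {x : C // x ^ 4 = S.z} := by
  classical
  have : Fact (Nat.Prime 3) := ⟨Nat.prime_three⟩
  have := Fintype.ofFinite {x : C // x ^ 4 = S.z}
  let f : Function.End {x : C // x ^ 4 = S.z} := fun x =>
    ⟨S.h * x.1 * S.h⁻¹, by rw [conj_pow, x.2, ← S.central S.h, mul_inv_cancel_right]⟩
  have hf : f ^ 3 ^ 1 = 1 := by
    refine funext fun x => Subtype.ext ?_
    show ((f (f (f x))) : C) = x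
    show S.h * (S.h * (S.h * x.1 * S.h⁻¹) * S.h⁻¹) * S.h⁻¹ = x.1
    rw [show S.h * (S.h * (S.h * x.1 * S.h⁻¹) * S.h⁻¹) * S.h⁻¹ =
      (S.h * S.h * S.h) * x.1 * (S.h * S.h * S.h)⁻¹ by group,
      ← pow_three', ← S.orderOf_h, pow_orderOf_eq_one]
    simp
  have h := Equiv.Perm.card_fixedPoints_modEq hf
  rw [← Nat.card_eq_fintype_card, ← Nat.card_eq_fintype_card] at h
  have h0 : Nat.card (Function.fixedPoints f) = 0 := by
    have : IsEmpty (Function.fixedPoints f) := ⟨fun x => fourth_root_not_comm S x.1.2 (by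
      have hx : S.h * x.1.1 * S.h⁻¹ = x.1.1 := congrArg Subtype.val x.2
      conv_rhs => rw [← hx]
      group)⟩
    exact Nat.card_of_isEmpty
  rw [h0] at h
  exact (Nat.modEq_zero_iff_dvd).mp h

/-- If `z` has 60 square and fourth roots together, it has 48 fourth roots. -/
theorem roots_eq (S : Cz C)
    (hsum : Nat.card {x : C // x ^ 2 = S.z} + Nat.card {x : C // x ^ 4 = S.z} = 60) :
    Nat.card {x : C // x ^ 4 = S.z} = 48 := by
  classical
  have h3 := three_dvd_roots S
  obtain ⟨O, hn, hO, hzO, ⟨g0, hg0, hg0g⟩, hnab⟩ := S.exists_O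
  have := Fintype.ofFinite C
  have := Fintype.ofFinite (C ⧸ O)
  have hcard : ∀ k : ℕ, Nat.card {x : C // x ^ k = S.z} =
      (Finset.univ.filter fun x : C => x ^ k = S.z).card := fun k => by
    rw [Nat.card_eq_fintype_card, Fintype.card_subtype]
  rw [hcard, hcard] at hsum
  rw [hcard] at h3 ⊢
  set I := Finset.univ.filter fun q : C ⧸ O => orderOf q = 2 with hI
  have hI3 : I.card ≤ 3 := card_invol_le S O hO
  have hone : ∀ x ∈ O, x ^ 4 = 1 := (coset_bound S O hO hzO hnab hg0 hg0g).2.2
  -- images of roots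
  have himage : ∀ {x : C}, x ^ (2 ^ 3) = 1 → x ∉ O → (x : C ⧸ O) ∈ I := by
    intro x hx hxO
    simp only [hI, Finset.mem_filter, Finset.mem_univ, true_and]
    have h1 : orderOf (x : C ⧸ O) ∣ 2 ^ 3 :=
      orderOf_dvd_of_pow_eq_one (by rw [← QuotientGroup.mk_pow, hx]; rfl)
    have h2 : orderOf (x : C ⧸ O) ∣ 6 := card_quot S O hO ▸ _root_.orderOf_dvd_natCard _
    have h3 : orderOf (x : C ⧸ O) ∣ 2 := (Nat.dvd_gcd h1 h2).trans (by norm_num)
    rcases (Nat.dvd_prime Nat.prime_two).mp h3 with h | h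
    · exact absurd (orderOf_eq_one_iff.mp h) (by rwa [QuotientGroup.eq_one_iff])
    · exact h
  -- the fibres
  have hfib : ∀ (k : ℕ) (q : C ⧸ O), q ∈ I → ∃ g : C, g ∉ O ∧ g * g ∈ O ∧
      ((Finset.univ.filter fun x : C => x ^ k = S.z ∧ x ∉ O).filter
        fun x : C => ((x : C) : C ⧸ O) = q).card = Nat.card {v : O // ((v : C) * g) ^ k = S.z} := by
    intro k q hq
    simp only [hI, Finset.mem_filter, Finset.mem_univ, true_and] at hq
    obtain ⟨g, rfl⟩ := QuotientGroup.mk_surjective q
    have hg : g ∉ O := fun h => by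
      rw [(QuotientGroup.eq_one_iff g).mpr h, orderOf_one] at hq; omega
    refine ⟨g, hg, ?_, ?_⟩
    · rw [← QuotientGroup.eq_one_iff, QuotientGroup.mk_mul, ← pow_two, ← hq, pow_orderOf_eq_one]
    · rw [← Nat.card_eq_finsetCard]
      refine Nat.card_congr
        { toFun := fun x => ⟨⟨x.1 * g⁻¹, ?_⟩, ?_⟩
          invFun := fun v => ⟨v.1 * g, ?_⟩
          left_inv := fun x => Subtype.ext (by simp)
          right_inv := fun v => Subtype.ext (Subtype.ext (by simp)) }
      · have hx := x.2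
        simp only [Finset.mem_filter, Finset.mem_univ, true_and] at hx
        rw [← QuotientGroup.eq_one_iff, QuotientGroup.mk_mul, QuotientGroup.mk_inv, hx.2,
          mul_inv_cancel]
      · have hx := x.2
        simp only [Finset.mem_filter, Finset.mem_univ, true_and] at hx
        simp only [inv_mul_cancel_right]
        exact hx.1.1
      · simp only [Finset.mem_filter, Finset.mem_univ, true_and]
        refine ⟨⟨v.2, fun h => hg ?_⟩, ?_⟩
        · simpa using mul_mem (inv_mem v.1.2) h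
        · rw [QuotientGroup.mk_mul, (QuotientGroup.eq_one_iff (v.1 : C)).mpr v.1.2, one_mul]
  -- split off the roots inside `O`
  have hsplit : ∀ k : ℕ, (Finset.univ.filter fun x : C => x ^ k = S.z).card =
      (Finset.univ.filter fun x : C => x ^ k = S.z ∧ x ∈ O).card +
      (Finset.univ.filter fun x : C => x ^ k = S.z ∧ x ∉ O).card := fun k => by
    rw [← Finset.card_filter_add_card_filter_not (fun x : C => x ∈ O), Finset.filter_filter,
      Finset.filter_filter]
  have hmaps : ∀ k : ℕ, k = 2 ∨ k = 4 → ∀ x ∈ Finset.univ.filter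
      (fun x : C => x ^ k = S.z ∧ x ∉ O), (x : C ⧸ O) ∈ I := by
    intro k hk x hx
    simp only [Finset.mem_filter, Finset.mem_univ, true_and] at hx
    refine himage ?_ hx.2
    rcases hk with rfl | rfl
    · rw [show (2 : ℕ) ^ 3 = 2 * 4 from rfl, pow_mul, hx.1, S.N_pow_four (mem_zpowers _)]
    · rw [show (2 : ℕ) ^ 3 = 4 * 2 from rfl, pow_mul, hx.1, pow_two, S.zz]
  have h2O : (Finset.univ.filter fun x : C => x ^ 2 = S.z ∧ x ∈ O).card ≤ 30 := by
    have hsub : (Finset.univ.filter fun x : C => x ^ 2 = S.z ∧ x ∈ O) ∪ {1, S.z} ⊆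
        Finset.univ.filter fun x : C => x ∈ O := by
      intro x hx
      simp only [Finset.mem_union, Finset.mem_filter, Finset.mem_univ, true_and,
        Finset.mem_insert, Finset.mem_singleton] at hx ⊢
      rcases hx with h | rfl | rfl
      exacts [h.2, one_mem O, hzO]
    have hd : Disjoint (Finset.univ.filter fun x : C => x ^ 2 = S.z ∧ x ∈ O) {1, S.z} := by
      rw [Finset.disjoint_left]
      intro x hx hx'
      simp only [Finset.mem_filter, Finset.mem_univ, true_and] at hx
      simp only [Finset.mem_insert, Finset.mem_singleton] at hx'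
      rcases hx' with rfl | rfl
      · rw [one_pow] at hx; exact S.z_ne hx.1.symm
      · rw [pow_two, S.zz] at hx; exact S.z_ne hx.1.symm
    have h := Finset.card_le_card hsub
    rw [Finset.card_union_of_disjoint hd, Finset.card_pair S.z_ne.symm] at h
    have h' : (Finset.univ.filter fun x : C => x ∈ O).card = 32 := by
      rw [← Fintype.card_subtype, ← Nat.card_eq_fintype_card]; exact hO
    omega
  have h4O : (Finset.univ.filter fun x : C => x ^ 4 = S.z ∧ x ∈ O).card = 0 := by
    rw [Finset.card_eq_zero, Finset.filter_eq_empty_iff]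
    rintro x - ⟨hx, hxO⟩
    rw [hone x hxO] at hx
    exact S.z_ne hx.symm
  have h2out : (Finset.univ.filter fun x : C => x ^ 2 = S.z ∧ x ∉ O).card ≤ 24 := by
    rw [Finset.card_eq_sum_card_fiberwise (f := fun x : C => (x : C ⧸ O)) (t := I)
      (hmaps 2 (Or.inl rfl))]
    refine (Finset.sum_le_card_nsmul I _ 8 fun q hq => ?_).trans (by simp; omega)
    obtain ⟨g, hg, hgg, he⟩ := hfib 2 q hq
    rw [he]
    exact (coset_bound S O hO hzO hnab hg hgg).1
  have hq4 : ∀ q ∈ I, ((Finset.univ.filter fun x : C => x ^ 4 = S.z ∧ x ∉ O).filter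
      fun x : C => ((x : C) : C ⧸ O) = q).card = 0 ∨ ((Finset.univ.filter fun x : C =>
        x ^ 4 = S.z ∧ x ∉ O).filter fun x : C => ((x : C) : C ⧸ O) = q).card = 16 := by
    intro q hq
    obtain ⟨g, hg, hgg, he⟩ := hfib 4 q hq
    rw [he]
    exact (coset_bound S O hO hzO hnab hg hgg).2.1
  have h4dvd : 16 ∣ (Finset.univ.filter fun x : C => x ^ 4 = S.z ∧ x ∉ O).card := by
    rw [Finset.card_eq_sum_card_fiberwise (f := fun x : C => (x : C ⧸ O)) (t := I)
      (hmaps 4 (Or.inr rfl))]
    refine Finset.dvd_sum fun q hq => ?_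
    rcases hq4 q hq with h | h <;> rw [h]
    exact dvd_zero _
  have h4le : (Finset.univ.filter fun x : C => x ^ 4 = S.z ∧ x ∉ O).card ≤ 48 := by
    rw [Finset.card_eq_sum_card_fiberwise (f := fun x : C => (x : C ⧸ O)) (t := I)
      (hmaps 4 (Or.inr rfl))]
    refine (Finset.sum_le_card_nsmul I _ 16 fun q hq => ?_).trans (by simp; omega)
    rcases hq4 q hq with h | h <;> rw [h]
    norm_num
  have e2 := hsplit 2
  have e4 := hsplit 4
  rw [h4O] at e4
  omega

end Cfsg.Agent.M12Uniq.OrderFourZ
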