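import Cfsg.Agent.M12Uniq.OrderBlockNum

/-!
# The columns of the principal 11-block at elements of order 3
-/

set_option autoImplicit false

namespace Cfsg.Agent.M12Uniq

/-- Order of the centraliser and column at an element of order 3. -/
def threeSols : List (ℕ × List ℤ) :=
  [(9, [0, 0, 0, 0]), (18, [0, 0, 0, 0]), (27, [0, 0, 3, 0]), (36, [3, 0, 0, -3]),
    (36, [-3, 0, 0, 3]), (54, [0, 0, 3, 0]), (72, [3, 0, 0, -6])]

private theorem check_three : ∀ C ∈ ((8640 : ℕ).divisors.filter fun C => 9 ∣ C ∧ ¬ 5 ∣ C),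
    ∀ l ∈ wSols C, (C, l) ∈ threeSols := by
  decide +kernel

/-- The possible columns at an element of order 3. -/
theorem three_cases {C : ℕ} (hC : C ∣ 8640) (h9 : 9 ∣ C) (h5 : ¬ 5 ∣ C) {l : List ℤ}
    (hl : l ∈ wSols C) : (C, l) ∈ threeSols :=
  check_three C (Finset.mem_filter.mpr ⟨Nat.mem_divisors.mpr ⟨hC, by norm_num⟩, h9, h5⟩) l hl

end Cfsg.Agent.M12Uniq
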