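import Cfsg.Agent.M12Uniq.OrderRestDefs
import Cfsg.Agent.M12Uniq.OrderRestColsNum
import Cfsg.Agent.M12Uniq.OrderFive

/-!
# The columns at elements of order 3 of a simple group of order 95040

A centraliser of order 27 is excluded: its Sylow 3-subgroup would have all elements of order 3
of its centre conjugate in its normaliser, which contradicts Sylow's congruence.
-/

set_option autoImplicit false
set_option linter.unusedSectionVars false

open scoped ComplexConjugate

namespace Cfsg.Agent.M12Uniq.OrderRest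

open Subgroup
open Cfsg.Agent.SmallGroups
open Cfsg.Agent.SmallGroups.SelfCent.Setup (deg deg_spec triv deg_triv)

universe u

variable {G : Type u} [Group G] [Fintype G]

theorem three_ne_one {x : G} (hx : orderOf x = 3) : x ≠ 1 := fun h => by
  rw [h, orderOf_one] at hx; norm_num at hx

theorem not_five_dvd (hG : Cfsg.IsM12 G) {x : G} (hx : orderOf x = 3) : ¬ 5 ∣ cC x := by
  intro h5
  have : Fact (Nat.Prime 5) := ⟨by norm_num⟩
  obtain ⟨q, hq⟩ := exists_prime_orderOf_dvd_card' (G := centralizer ({x} : Set G)) 5 h5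
  have hq' : orderOf (q : G) = 5 := (orderOf_coe q).trans hq
  have hm : x ∈ centralizer ({(q : G)} : Set G) :=
    mem_centralizer_singleton_iff.mpr (mem_centralizer_singleton_iff.mp q.2).symm
  have h := orderOf_dvd_natCard _ hm
  rw [show Nat.card (centralizer ({(q : G)} : Set G)) = cC (q : G) from rfl,
    (OrderFive.five_data hG).1 _ hq', hx] at h
  norm_num at h

theorem card_sylow_three (hcard : Nat.card G = 95040) [Fact (Nat.Prime 3)] (P : Sylow 3 G) :
    Nat.card ↥(P : Subgroup G) = 27 := by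
  rw [card_sylow_eq (a := 3) (m := 3520) (by rw [hcard]; norm_num) (by norm_num) P]; norm_num

theorem nine_dvd_cC (hcard : Nat.card G = 95040) {x : G} (hx : orderOf x = 3) : 9 ∣ cC x := by
  have : Fact (Nat.Prime 3) := ⟨by norm_num⟩
  obtain ⟨P, hxP⟩ := exists_mem_sylow (p := 3) hx
  have hP := card_sylow_three hcard P
  have : Nontrivial ↥(P : Subgroup G) :=
    Finite.one_lt_card_iff_nontrivial.mp (by rw [hP]; norm_num)
  set x' : ↥(P : Subgroup G) := ⟨x, hxP⟩ with hx'
  set K := centralizer ({x'} : Set ↥(P : Subgroup G)) with hK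
  have hKC : K.map (P : Subgroup G).subtype ≤ centralizer ({x} : Set G) := by
    rintro _ ⟨g, hg, rfl⟩
    exact mem_centralizer_singleton_iff.mpr
      (congrArg Subtype.val (mem_centralizer_singleton_iff.mp hg))
  refine dvd_trans ?_ (card_dvd_of_le hKC)
  rw [card_map_of_injective (Subgroup.subtype_injective _)]
  have hd : Nat.card K ∣ 27 := hP ▸ card_subgroup_dvd_card K
  obtain ⟨i, hi3, hi⟩ := (Nat.dvd_prime_pow (m := 3) (by norm_num : Nat.Prime 3)).mp
    (show Nat.card K ∣ 3 ^ 3 from hd)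
  rw [hi]
  suffices h : 2 ≤ i from dvd_trans (by norm_num) (pow_dvd_pow 3 h)
  by_contra hlt
  have hxK : zpowers x' ≤ K := zpowers_le.mpr (mem_centralizer_singleton_iff.mpr rfl)
  have hxc : Nat.card (zpowers x') = 3 := by rw [Nat.card_zpowers, hx', orderOf_mk, hx]
  have h3 : Nat.card K ≤ 3 := by rw [hi]; exact le_trans (Nat.pow_le_pow_right (by norm_num) (show i ≤ 1 by omega)) (by norm_num)
  have hzK : center ↥(P : Subgroup G) ≤ zpowers x' := by
    rw [eq_of_le_of_card_ge hxK (by omega), hK]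
    exact center_le_centralizer _
  have hnt := P.2.center_nontrivial
  obtain ⟨j, hj⟩ := (P.2.to_subgroup (center ↥(P : Subgroup G))).exists_card_eq
  have h1 := Finite.one_lt_card_iff_nontrivial.mpr hnt
  have hzc : 3 ≤ Nat.card (center ↥(P : Subgroup G)) := by
    rcases j with _ | j
    · omega
    · rw [hj]; exact Nat.le_self_pow (Nat.succ_ne_zero j) 3
  have hxz : x' ∈ center ↥(P : Subgroup G) :=
    (eq_of_le_of_card_ge hzK (by omega)) ▸ mem_zpowers x'
  have htop : K = ⊤ := eq_top_iff.mpr fun g _ =>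
    mem_centralizer_singleton_iff.mpr (mem_center_iff.mp hxz g)
  rw [htop, card_top, hP] at h3
  omega

/-- The column of the block at an element of order 3. -/
theorem column (hG : Cfsg.IsM12 G) (R : Rows G) {x : G} (hx : orderOf x = 3) :
    ∃ va vb vc vd : ℤ, (cC x, [va, vb, vc, vd]) ∈ threeSols ∧
      (R.A : G → ℂ) x = va ∧ (R.B : G → ℂ) x = vb ∧ (R.C : G → ℂ) x = vc ∧
      (R.D : G → ℂ) x = vd ∧
      (R.E : G → ℂ) x = (excVal [45, 54, 120, 144] [va, vb, vc, vd] : ℤ) := by
  have := hG.1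
  have hcard : Nat.card G = 95040 := hG.2
  have hsyl := OrderEleven.sylow11_normalizer hG
  have hx1 := three_ne_one hx
  have hx11 : orderOf x ≠ 11 := by omega
  obtain ⟨B, hdegs, a, b, c, d, hcs, ha, hb, hc, hd, -, -, -, -, -, -, -⟩ := R
  dsimp only [Rows.E]
  have hf₁ : deg B.f₁ = 16 := by rw [B.deg_f₁, hdegs]; rfl
  have hf₂ : deg B.f₂ = 16 := by rw [B.deg_f₂, hdegs]; rfl
  obtain ⟨va, hva, hva'⟩ := w_value hcard B hdegs hx (χ := a) (by simp [hcs])
  obtain ⟨vb, hvb, hvb'⟩ := w_value hcard B hdegs hx (χ := b) (by simp [hcs])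
  obtain ⟨vc, hvc, hvc'⟩ := w_value hcard B hdegs hx (χ := c) (by simp [hcs])
  obtain ⟨vd, hvd, hvd'⟩ := w_value hcard B hdegs hx (χ := d) (by simp [hcs])
  obtain ⟨e, he, he'⟩ := w_value hcard B hdegs hx (χ := B.f₁) (by simp)
  rw [ha] at hva'
  rw [hb] at hvb'
  rw [hc] at hvc'
  rw [hd] at hvd'
  rw [hf₁] at he'
  have hrel := B.rel x hx11
  obtain ⟨N, hN⟩ := B.pairs x hx11
  rw [hdegs] at hrel hN
  rw [hcs] at hrel hN
  simp only [List.map_cons, List.map_nil, List.sum_cons, List.sum_nil, add_zero, hva, hvb, hvc,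
    hvd, he, ha, hb, hc, hd, hf₁, hcard] at hrel hN
  have hE : excVal [45, 54, 120, 144] [va, vb, vc, vd] = e := by
    have h' : 1 + (sgn 45 * va + (sgn 54 * vb + (sgn 120 * vc + sgn 144 * vd)))
        = excSign [45, 54, 120, 144] * e := by
      apply Int.cast_injective (α := ℂ)
      push_cast
      linear_combination hrel
    rw [excVal_four, h', ← mul_assoc]
    unfold excSign
    split_ifs <;> simp
  have hsq : (N : ℤ) * (cC x : ℤ) ^ 2 = 11 * sqSum [45, 54, 120, 144] [va, vb, vc, vd] := by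
    apply Int.cast_injective (α := ℂ)
    rw [Int.cast_mul (11 : ℤ), sqSum_four _ _ _ _ (by norm_num) (by norm_num) (by norm_num)
      (by norm_num) (by decide), hE, show excDeg [45, 54, 120, 144] = 16 from rfl]
    push_cast
    push_cast at hN
    linear_combination hN
  have hnr := colNorm_four 45 54 120 144 va vb vc vd
  rw [hE] at hnr
  have hnsq := normSq_sum_le (triv :: B.f₁ :: B.f₂ :: B.cs) B.nodup x
  have hcau := rest_cauchy (triv :: B.f₁ :: B.f₂ :: B.cs) B.nodup hx1
  rw [hcs] at hnsq hcau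
  simp only [List.map_cons, List.map_nil, List.sum_cons, List.sum_nil, add_zero, hva, hvb, hvc,
    hvd, he, B.eq_f x hx11, Complex.normSq_intCast, triv, Pi.one_apply, map_one, Complex.one_re,
    Complex.intCast_re, ha, hb, hc, hd, hf₁, hf₂, hcard] at hnsq hcau
  rw [show deg (⟨1, CharCore.isIrrCharacter_one⟩ : Cfsg.IrrCharacter G) = 1 from deg_triv] at hcau
  refine ⟨va, vb, vc, vd, three_cases (cC_dvd_8640 hcard hsyl hx1 hx11) (nine_dvd_cC hcard hx)
    (not_five_dvd hG hx) (mem_wSols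
    (List.Forall₂.cons hva' (List.Forall₂.cons hvb' (List.Forall₂.cons hvc'
      (List.Forall₂.cons hvd' List.Forall₂.nil)))) ⟨?_, ?_, ?_, ?_, ?_⟩), hva, hvb, hvc, hvd,
    hE ▸ he⟩
  · rw [hnr]
    have h' : ((1 + (va * va + (vb * vb + (vc * vc + vd * vd))) + 2 * (e * e) : ℤ) : ℝ) ≤
        ((cC x : ℤ) : ℝ) := by
      push_cast
      linarith
    exact_mod_cast h'
  · have : (0 : ℤ) ≤ (N : ℤ) * (cC x : ℤ) ^ 2 := mul_nonneg (Int.natCast_nonneg _) (sq_nonneg _)
    omega
  · rw [← hsq, ← sq, Int.mul_emod_left]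
  · rw [hE]; exact he'
  · rw [hnr, hE]
    simp only [List.zipWith_cons_cons, List.zipWith_nil_left, List.sum_cons, List.sum_nil,
      add_zero]
    rw [← Int.cast_le (R := ℝ)]
    push_cast at hcau ⊢
    refine le_trans (le_of_eq ?_) (le_trans hcau (le_of_eq ?_)) <;> ring

/-- The column at an element with centraliser of order 27 or 54. -/
theorem column_27_54 (hG : Cfsg.IsM12 G) (R : Rows G) {x : G} (hx : orderOf x = 3)
    (h : 27 ∣ cC x) :
    cC x ≤ 54 ∧ (R.A : G → ℂ) x = 0 ∧ (R.B : G → ℂ) x = 0 ∧ (R.C : G → ℂ) x = 3 ∧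
      (R.D : G → ℂ) x = 0 ∧ (R.E : G → ℂ) x = -2 := by
  obtain ⟨va, vb, vc, vd, hm, h1, h2, h3, h4, h5⟩ := column hG R hx
  simp only [threeSols, List.mem_cons, Prod.mk.injEq, List.cons.injEq, List.not_mem_nil, and_true,
    or_false] at hm
  rcases hm with ⟨hc, rfl, rfl, rfl, rfl⟩ | ⟨hc, rfl, rfl, rfl, rfl⟩ | ⟨hc, rfl, rfl, rfl, rfl⟩ |
    ⟨hc, rfl, rfl, rfl, rfl⟩ | ⟨hc, rfl, rfl, rfl, rfl⟩ | ⟨hc, rfl, rfl, rfl, rfl⟩ |
    ⟨hc, rfl, rfl, rfl, rfl⟩ <;> rw [hc] at h ⊢ <;> norm_num at h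
  all_goals
    rw [show excVal [45, 54, 120, 144] [(0 : ℤ), 0, 3, 0] = -2 by decide] at h5
    exact ⟨by norm_num, by simpa using h1, by simpa using h2, by simpa using h3,
      by simpa using h4, by simpa using h5⟩

/-- An element with centraliser of order 27 is conjugate to all elements of order 3 whose
centraliser has order a multiple of 27. -/
theorem isConj_of_27 (hG : Cfsg.IsM12 G) (R : Rows G) {x y : G} (hx : orderOf x = 3)
    (hy : orderOf y = 3) (hCx : cC x = 27) (hCy : 27 ∣ cC y) : IsConj x y := by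
  classical
  by_contra hne
  obtain ⟨-, xa, xb, xc, xd, xe⟩ := column_27_54 hG R hx (hCx ▸ dvd_refl _)
  obtain ⟨hyle, ya, yb, yc, yd, ye⟩ := column_27_54 hG R hy hCy
  have hne' : ¬ IsConj y x := fun h => hne h.symm
  set f : Cfsg.IrrCharacter G → ℂ := fun χ => 2 * (χ : G → ℂ) x + (χ : G → ℂ) y with hf
  have hn : ∀ g : G, ∑ χ : Cfsg.IrrCharacter G, (χ : G → ℂ) g * conj ((χ : G → ℂ) g) =
      (cC g : ℂ) := fun g => by
    rw [CharCore.sum_apply_mul_conj g g, if_pos (IsConj.refl g)]; rfl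
  have hxy := CharCore.sum_apply_mul_conj x y
  rw [if_neg hne] at hxy
  have hyx := CharCore.sum_apply_mul_conj y x
  rw [if_neg hne'] at hyx
  have hT : ∑ χ, Complex.normSq (f χ) = ((108 + cC y : ℕ) : ℝ) := by
    apply Complex.ofReal_injective
    push_cast
    calc ∑ χ, (Complex.normSq (f χ) : ℂ)
        = ∑ χ : Cfsg.IrrCharacter G, (4 * ((χ : G → ℂ) x * conj ((χ : G → ℂ) x)) +
            2 * ((χ : G → ℂ) x * conj ((χ : G → ℂ) y)) +
            2 * ((χ : G → ℂ) y * conj ((χ : G → ℂ) x)) +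
            (χ : G → ℂ) y * conj ((χ : G → ℂ) y)) := Finset.sum_congr rfl fun χ _ => by
          rw [← Complex.mul_conj]
          simp only [hf, map_add, map_mul, map_ofNat]
          ring
      _ = _ := by
          rw [Finset.sum_add_distrib, Finset.sum_add_distrib, Finset.sum_add_distrib,
            ← Finset.mul_sum, ← Finset.mul_sum, ← Finset.mul_sum, hn, hn, hxy, hyx, hCx]
          push_cast
          ring
  have hdeg : ∀ g : G, g ≠ 1 →
      ∑ χ : Cfsg.IrrCharacter G, (deg χ : ℂ) * (χ : G → ℂ) g = 0 := fun g hg => by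
    have h := CharCore.sum_apply_mul_conj g 1
    rw [if_neg (fun h => hg (isConj_one_left.mp h))] at h
    rw [← h]
    exact Finset.sum_congr rfl fun χ _ => by rw [(deg_spec χ).2.2, map_natCast, mul_comm]
  have hD : ∑ χ, (deg χ : ℂ) * f χ = 0 := by
    simp only [hf, mul_add, Finset.sum_add_distrib]
    rw [show ∑ χ : Cfsg.IrrCharacter G, (deg χ : ℂ) * (2 * (χ : G → ℂ) x) =
      2 * ∑ χ : Cfsg.IrrCharacter G, (deg χ : ℂ) * (χ : G → ℂ) x by
        rw [Finset.mul_sum]; exact Finset.sum_congr rfl fun χ _ => by ring,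
      hdeg x (three_ne_one hx), hdeg y (three_ne_one hy)]
    ring
  set l := triv :: R.block.f₁ :: R.block.f₂ :: R.block.cs with hl
  set S := l.toFinset with hS
  have hx11 : orderOf x ≠ 11 := by omega
  have hy11 : orderOf y ≠ 11 := by omega
  have hS2 : ∑ χ ∈ S, Complex.normSq (f χ) = 162 := by
    rw [hS, List.sum_toFinset _ R.block.nodup, R.cs_eq]
    simp only [hf, List.map_cons, List.map_nil, List.sum_cons, List.sum_nil, R.block.eq_f x hx11,
      R.block.eq_f y hy11, xa, xb, xc, xd, ya, yb, yc, yd, show (R.block.f₁ : G → ℂ) x = -2 from xe,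
      show (R.block.f₁ : G → ℂ) y = -2 from ye, triv, Pi.one_apply]
    norm_num [Complex.normSq_apply]
  have hS1 : ∑ χ ∈ S, (deg χ : ℂ) * f χ = 891 := by
    have hf₁ : deg R.block.f₁ = 16 := by rw [R.block.deg_f₁, R.degs]; rfl
    have hf₂ : deg R.block.f₂ = 16 := by rw [R.block.deg_f₂, R.degs]; rfl
    rw [hS, List.sum_toFinset _ R.block.nodup, R.cs_eq]
    simp only [hf, List.map_cons, List.map_nil, List.sum_cons, List.sum_nil, R.block.eq_f x hx11,
      R.block.eq_f y hy11, xa, xb, xc, xd, ya, yb, yc, yd, show (R.block.f₁ : G → ℂ) x = -2 from xe,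
      show (R.block.f₁ : G → ℂ) y = -2 from ye, R.deg_A, R.deg_B, R.deg_C, R.deg_D, hf₁, hf₂,
      deg_triv]
    simp only [triv, Pi.one_apply]
    norm_num
  rw [← Finset.sum_add_sum_compl S, hS2] at hT
  rw [← Finset.sum_add_sum_compl S, hS1] at hD
  have hle : ((108 + cC y : ℕ) : ℝ) ≤ 162 := by exact_mod_cast (by omega : 108 + cC y ≤ 162)
  have hpos : 0 ≤ ∑ χ ∈ Sᶜ, Complex.normSq (f χ) :=
    Finset.sum_nonneg fun χ _ => Complex.normSq_nonneg _
  have hz := (Finset.sum_eq_zero_iff_of_nonneg fun χ _ => Complex.normSq_nonneg (f χ)).mp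
    (show ∑ χ ∈ Sᶜ, Complex.normSq (f χ) = 0 by linarith)
  rw [Finset.sum_eq_zero fun χ hχ => by rw [Complex.normSq_eq_zero.mp (hz χ hχ), mul_zero]] at hD
  norm_num at hD

/-- No element of order 3 has a centraliser of order 27. -/
theorem cC_ne_27 (hG : Cfsg.IsM12 G) (R : Rows G) {x : G} (hx : orderOf x = 3) : cC x ≠ 27 := by
  intro hCx
  have hcard : Nat.card G = 95040 := hG.2
  have : Fact (Nat.Prime 3) := ⟨by norm_num⟩
  have hS3 : Nat.card (centralizer ({x} : Set G)) = 3 ^ (Nat.card G).factorization 3 := by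
    obtain ⟨P⟩ := (inferInstance : Nonempty (Sylow 3 G))
    rw [← P.card_eq_multiplicity, card_sylow_three hcard P, ← hCx]; rfl
  set P : Sylow 3 G := Sylow.ofCard (centralizer ({x} : Set G)) hS3 with hP
  have hPC : (P : Subgroup G) = centralizer ({x} : Set G) := Sylow.coe_ofCard _ hS3
  set N := normalizer ((P : Subgroup G) : Set G) with hN
  set Z := centralizer ((P : Subgroup G) : Set G) with hZ
  have hxP : x ∈ (P : Subgroup G) := hPC ▸ mem_centralizer_singleton_iff.mpr rfl
  have hxZ : x ∈ Z := mem_centralizer_iff.mpr fun h hh => by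
    rw [hPC] at hh
    exact mem_centralizer_singleton_iff.mp hh
  have hZP : Z ≤ (P : Subgroup G) := fun g hg => by
    rw [hPC]
    exact mem_centralizer_singleton_iff.mpr (mem_centralizer_iff.mp hg x hxP).symm
  let Z₁ : Subgroup G :=
    { carrier := {y | y ∈ Z ∧ y ^ 3 = 1}
      one_mem' := ⟨Z.one_mem, one_pow 3⟩
      mul_mem' := fun {a b} ha hb => ⟨Z.mul_mem ha.1 hb.1, by
        have hc : Commute a b := (mem_centralizer_iff.mp hb.1 a (hZP ha.1))
        rw [hc.mul_pow, ha.2, hb.2, one_mul]⟩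
      inv_mem' := fun {a} ha => ⟨Z.inv_mem ha.1, by rw [inv_pow, ha.2, inv_one]⟩ }
  have hx3 : x ^ 3 = 1 := by rw [← hx, pow_orderOf_eq_one]
  have hxN : x ∈ N := le_normalizer hxP
  -- the conjugates of `x` under the normaliser
  have e : {g : N // IsConj (⟨x, hxN⟩ : N) g} ≃ {y : Z₁ // y ≠ 1} :=
    { toFun := fun g => ⟨⟨(g.1 : G), by
        obtain ⟨n, hn⟩ := isConj_iff.mp g.2
        rw [← hn]
        refine ⟨mem_centralizer_iff.mpr fun h hh => ?_, ?_⟩
        · have hm : (n : G)⁻¹ * h * n ∈ (P : Subgroup G) := by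
            simpa using (mem_normalizer_iff.mp (N.inv_mem n.2) h).mp hh
          have hcm := mem_centralizer_iff.mp hxZ _ hm
          show h * ((n : G) * x * (n : G)⁻¹) = (n : G) * x * (n : G)⁻¹ * h
          calc h * ((n : G) * x * (n : G)⁻¹) = n * ((n : G)⁻¹ * h * n * x) * (n : G)⁻¹ := by group
            _ = n * (x * ((n : G)⁻¹ * h * n)) * (n : G)⁻¹ := by rw [hcm]
            _ = _ := by group
        · show ((n : G) * x * (n : G)⁻¹) ^ 3 = 1
          rw [conj_pow, hx3, mul_one, mul_inv_cancel]⟩, fun h => by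
        have h1 : (g.1 : G) = 1 := congrArg Subtype.val h
        obtain ⟨n, hn⟩ := isConj_iff.mp g.2
        have h2 : (n : G) * x * (n : G)⁻¹ = 1 := (congrArg Subtype.val hn).trans h1
        rw [mul_inv_eq_one, mul_eq_left] at h2
        exact three_ne_one hx h2⟩
      invFun := fun y => ⟨⟨(y.1 : G), le_normalizer (hZP y.1.2.1)⟩, by
        have hy1 : (y.1 : G) ≠ 1 := fun h => y.2 (Subtype.ext h)
        have hy3 : orderOf (y.1 : G) = 3 := orderOf_eq_prime y.1.2.2 hy1
        have hPy : (P : Subgroup G) ≤ centralizer ({(y.1 : G)} : Set G) := fun g hg =>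
          mem_centralizer_singleton_iff.mpr (mem_centralizer_iff.mp y.1.2.1 g hg)
        have h27 : 27 ∣ cC (y.1 : G) := card_sylow_three hcard P ▸ card_dvd_of_le hPy
        obtain ⟨g, hg⟩ := isConj_iff.mp (isConj_of_27 hG R hx hy3 hCx h27)
        obtain ⟨n, hn, hn'⟩ := P.conj_eq_normalizer_conj_of_mem_centralizer x g⁻¹ hxZ
          (by rw [inv_inv, hg]; exact y.1.2.1)
        rw [inv_inv, hg] at hn'
        exact isConj_iff.mpr ⟨⟨n⁻¹, N.inv_mem hn⟩, Subtype.ext (by simpa using hn'.symm)⟩⟩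
      left_inv := fun g => Subtype.ext (Subtype.ext rfl)
      right_inv := fun y => Subtype.ext (Subtype.ext rfl) }
  have hmul := card_conj_mul_centralizer (⟨x, hxN⟩ : N)
  have hcent : Nat.card (centralizer ({(⟨x, hxN⟩ : N)} : Set N)) = 27 := by
    rw [← card_map_of_injective N.subtype_injective, ← hCx]
    refine congrArg (fun H : Subgroup G => Nat.card H) ?_
    ext g
    simp only [mem_map, coe_subtype, mem_centralizer_singleton_iff]
    constructor
    · rintro ⟨n, hn, rfl⟩
      exact congrArg Subtype.val hn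
    · intro hg
      refine ⟨⟨g, le_normalizer ?_⟩, Subtype.ext hg, rfl⟩
      rw [hPC]
      exact mem_centralizer_singleton_iff.mpr hg
  rw [Nat.card_congr e, hcent] at hmul
  have hne1 : Nat.card {y : Z₁ // y ≠ 1} + 1 = Nat.card Z₁ := by
    classical
    have := Fintype.ofFinite Z₁
    rw [Nat.card_eq_fintype_card, Nat.card_eq_fintype_card, Fintype.card_subtype_compl,
      Fintype.card_subtype_eq]
    have : 0 < Fintype.card Z₁ := Fintype.card_pos
    omega
  have h3Z : 3 ∣ Nat.card Z₁ := by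
    rw [← hx]; exact orderOf_dvd_natCard _ (show x ∈ Z₁ from ⟨hxZ, hx3⟩)
  have hn3 := card_normalizer_mul P
  have hmod : Nat.card (Sylow 3 G) % 3 = 1 := card_sylow_modEq_one 3 G
  rw [← hN, ← hmul, hcard] at hn3
  have hk : Nat.card {y : Z₁ // y ≠ 1} * Nat.card (Sylow 3 G) = 3520 := by linarith
  have h2 : Nat.card {y : Z₁ // y ≠ 1} % 3 = 2 := by omega
  have h := Nat.mul_mod (Nat.card {y : Z₁ // y ≠ 1}) (Nat.card (Sylow 3 G)) 3
  rw [hk, h2, hmod] at h
  norm_num at h

/-- The possible columns at an element of order 3. -/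
theorem threeCols (hG : Cfsg.IsM12 G) (R : Rows G) : ThreeCols R := by
  refine ⟨fun x hx => ?_⟩
  have h27 := cC_ne_27 hG R hx
  obtain ⟨va, vb, vc, vd, hm, h1, h2, h3, h4, h5⟩ := column hG R hx
  simp only [threeSols, List.mem_cons, Prod.mk.injEq, List.cons.injEq, List.not_mem_nil, and_true,
    or_false] at hm
  rcases hm with ⟨hc, rfl, rfl, rfl, rfl⟩ | ⟨hc, rfl, rfl, rfl, rfl⟩ | ⟨hc, rfl, rfl, rfl, rfl⟩ |
    ⟨hc, rfl, rfl, rfl, rfl⟩ | ⟨hc, rfl, rfl, rfl, rfl⟩ | ⟨hc, rfl, rfl, rfl, rfl⟩ |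
    ⟨hc, rfl, rfl, rfl, rfl⟩
  · rw [show excVal [45, 54, 120, 144] [(0 : ℤ), 0, 0, 0] = 1 by decide] at h5
    exact Or.inr (Or.inr (Or.inr (Or.inr ⟨Or.inl hc, by simpa using h1, by simpa using h3,
      by simpa using h4, by simpa using h5⟩)))
  · rw [show excVal [45, 54, 120, 144] [(0 : ℤ), 0, 0, 0] = 1 by decide] at h5
    exact Or.inr (Or.inr (Or.inr (Or.inr ⟨Or.inr hc, by simpa using h1, by simpa using h3,
      by simpa using h4, by simpa using h5⟩)))
  · exact absurd hc h27
  · rw [show excVal [45, 54, 120, 144] [(3 : ℤ), 0, 0, -3] = 1 by decide] at h5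
    exact Or.inr (Or.inl ⟨hc, by simpa using h1, by simpa using h3, by simpa using h4,
      by simpa using h5⟩)
  · rw [show excVal [45, 54, 120, 144] [(-3 : ℤ), 0, 0, 3] = 1 by decide] at h5
    exact Or.inr (Or.inr (Or.inl ⟨hc, by simpa using h1, by simpa using h3, by simpa using h4,
      by simpa using h5⟩))
  · rw [show excVal [45, 54, 120, 144] [(0 : ℤ), 0, 3, 0] = -2 by decide] at h5
    exact Or.inl ⟨hc, by simpa using h1, by simpa using h3, by simpa using h4, by simpa using h5⟩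
  · rw [show excVal [45, 54, 120, 144] [(3 : ℤ), 0, 0, -6] = -2 by decide] at h5
    exact Or.inr (Or.inr (Or.inr (Or.inl ⟨hc, by simpa using h1, by simpa using h3,
      by simpa using h4, by simpa using h5⟩)))

end Cfsg.Agent.M12Uniq.OrderRest
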