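import Cfsg.Agent.M12Uniq.OrderRestDefs
import Cfsg.Agent.Blocks88.Basic
import Cfsg.Agent.Lib.Steiner.M11.CharAux

/-!
# Sums of character values over the powers of an element (`GenTools`)
-/

set_option autoImplicit false

open scoped ComplexConjugate

namespace Cfsg.Agent.M12Uniq.OrderRest

open Subgroup

universe u

namespace Galois

variable {G : Type u} [Group G] [Fintype G]

theorem mem_gens {n k : ℕ} : k ∈ gens n ↔ k < n ∧ k.Coprime n := by
  simp [gens]

theorem card_gens (n : ℕ) : (gens n).card = Nat.totient n := by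
  rw [Nat.totient_eq_card_coprime]
  refine congrArg Finset.card (Finset.filter_congr fun k _ => ?_)
  exact Nat.coprime_comm

/-- The sum of `c ^ k χ (g ^ k)` counts the eigenvalues equal to `c⁻¹`. -/
theorem geom_sum_eq_ite {n : ℕ} {z : ℂ} (hz : z ^ n = 1) :
    ∑ k ∈ Finset.range n, z ^ k = if z = 1 then (n : ℂ) else 0 := by
  split_ifs with h
  · simp [h]
  · rw [geom_sum_eq h, hz]
    simp

/-- The weighted sums of a character over the powers of `g` in terms of eigenvalues. -/
theorem weighted_sum {χ : G → ℂ} {g : G} {ι : Type*} [Fintype ι] {ω : ι → ℂ}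
    (hω : ∀ i, ω i ^ orderOf g = 1) (hk : ∀ k : ℕ, χ (g ^ k) = ∑ i, ω i ^ k) {c : ℂ}
    (hc : c ^ orderOf g = 1) :
    ∑ k ∈ Finset.range (orderOf g), c ^ k * χ (g ^ k) =
      (orderOf g : ℂ) * ((Finset.univ.filter fun i => c * ω i = 1).card : ℂ) := by
  classical
  simp only [hk, Finset.mul_sum, ← mul_pow]
  rw [Finset.sum_comm, Finset.sum_congr rfl fun i _ =>
    geom_sum_eq_ite (z := c * ω i) (by rw [mul_pow, hc, hω i, mul_one]),
    Finset.sum_ite, Finset.sum_const_zero, add_zero, Finset.sum_const, nsmul_eq_mul, mul_comm]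

/-- A nonzero sum over the generators bounds the sum of the squares from below. -/
theorem totient_le (χ : G → ℂ) (g : G) (hχ : Cfsg.IsCharacter G χ) (hne : genSum χ g ≠ 0) :
    (Nat.totient (orderOf g) : ℝ) ≤
      ∑ k ∈ gens (orderOf g), Complex.normSq (χ (g ^ k)) := by
  classical
  obtain ⟨d, ρ, hχρ⟩ := hχ
  subst hχρ
  obtain ⟨b, ω, hω, -, -, hk⟩ := CharCore.exists_eigenvalues ρ g
  set n := orderOf g with hn
  have hn0 : n ≠ 0 := (orderOf_pos g).ne'
  have hmap : ∀ (σ : ℂ →+* ℂ) (m : ℕ), (∀ μ : ℂ, μ ^ n = 1 → σ μ = μ ^ m) → ∀ k : ℕ,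
      σ (ρ.character (g ^ k)) = ρ.character (g ^ (k * m % n)) := by
    intro σ m hσ k
    rw [hn, pow_mod_orderOf, hk, hk, map_sum]
    refine Finset.sum_congr rfl fun i _ => ?_
    rw [hσ _ (by rw [← pow_mul, mul_comm, pow_mul, hω i, one_pow]), ← pow_mul]
  -- no value vanishes
  have hall : ∀ k ∈ gens n, ρ.character (g ^ k) ≠ 0 := by
    intro k0 hk0 h0
    obtain ⟨hk0n, hk0c⟩ := mem_gens.mp hk0
    refine hne (Finset.sum_eq_zero fun k hk' => ?_)
    obtain ⟨hkn, hkc⟩ := mem_gens.mp hk'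
    set m := k0 ^ (Nat.totient n - 1) * k with hm
    have hmc : m.Coprime n := Nat.Coprime.mul_left (hk0c.pow_left _) hkc
    obtain ⟨σ, hσ⟩ := CharClifford.exists_ringHom_pow hn0 hmc
    have hmod : k0 * m % n = k := by
      have h1 : k0 ^ Nat.totient n ≡ 1 [MOD n] := Nat.ModEq.pow_totient hk0c
      have hpos : 0 < Nat.totient n := Nat.totient_pos.mpr (Nat.pos_of_ne_zero hn0)
      have h2 : k0 * m = k0 ^ Nat.totient n * k := by
        rw [hm, ← mul_assoc, ← pow_succ', Nat.sub_add_cancel hpos]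
      rw [h2]
      have h3 : k0 ^ Nat.totient n * k ≡ k [MOD n] := by simpa using h1.mul_right k
      exact Eq.trans h3 (Nat.mod_eq_of_lt hkn)
    have := hmap σ m hσ k0
    rw [h0, map_zero, hmod] at this
    exact this.symm
  have hint : ∀ x : G, IsIntegral ℤ (ρ.character x) := by
    intro x
    obtain ⟨b', μ, hμ, -, -, hk'⟩ := CharCore.exists_eigenvalues ρ x
    have h1 := hk' 1
    simp only [pow_one] at h1
    rw [h1]
    exact IsIntegral.sum _ fun i _ =>
      IsIntegral.of_pow (orderOf_pos x) ((hμ i).symm ▸ isIntegral_one)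
  have key := Blocks88.card_le_sum_norm (gens n) (fun k => ρ.character (g ^ k) ^ 2)
    (fun k _ => (hint _).pow 2) (fun k hk' => pow_ne_zero 2 (hall k hk')) (fun σ => by
      obtain ⟨m, hmc, hσ⟩ := CharClifford.exists_pow_of_ringHom σ hn0
      refine ⟨fun k => k * m % n, fun k hk' => mem_gens.mpr
        ⟨Nat.mod_lt _ (Nat.pos_of_ne_zero hn0), ?_⟩, fun a ha c hc e => ?_, fun k _ => ?_⟩
      · unfold Nat.Coprime
        rw [← Nat.gcd_rec n (k * m), Nat.gcd_comm]
        exact Nat.Coprime.mul_left (mem_gens.mp hk').2 hmc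
      · have h : a * m ≡ c * m [MOD n] := e
        exact (h.cancel_right_of_coprime (Nat.coprime_comm.mp hmc)).eq_of_lt_of_lt
          (mem_gens.mp ha).1 (mem_gens.mp hc).1
      · show σ (_ ^ 2) = _ ^ 2
        rw [map_pow, hmap σ m hσ k])
  rw [card_gens] at key
  refine key.trans (le_of_eq (Finset.sum_congr rfl fun k _ => ?_))
  rw [norm_pow, Complex.normSq_eq_norm_sq]

/-- The multiplicity of the eigenvalue 1. -/
theorem mult_one (χ : G → ℂ) (g : G) (hχ : Cfsg.IsCharacter G χ) :
    ∃ m : ℕ, ∑ k ∈ Finset.range (orderOf g), χ (g ^ k) = (orderOf g : ℂ) * m := by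
  classical
  obtain ⟨d, ρ, rfl⟩ := hχ
  obtain ⟨b, ω, hω, -, -, hk⟩ := CharCore.exists_eigenvalues ρ g
  exact ⟨_, by simpa using weighted_sum hω hk (c := 1) (one_pow _)⟩

/-- In a family closed under inversion the product of the members is a power of `-1`. -/
theorem prod_of_inv_closed {ι : Type*} [Fintype ι] (ω : ι → ℂ) (h0 : ∀ i, ω i ≠ 0)
    (hinv : ∀ z ∈ Finset.univ.image ω, (Finset.univ.filter fun i => ω i = z⁻¹).card =
      (Finset.univ.filter fun i => ω i = z).card) :
    ∏ i, ω i = (-1) ^ (Finset.univ.filter fun i => ω i = -1).card := by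
  classical
  set I := Finset.univ.image ω with hI
  set f : ℂ → ℂ := fun z => z ^ (Finset.univ.filter fun i => ω i = z).card with hf
  have hprod : ∏ i, ω i = ∏ z ∈ I, f z := by
    rw [hI, ← Finset.prod_comp (fun z : ℂ => z) ω]
  have hI0 : ∀ z ∈ I, z ≠ 0 := fun z hz => by
    obtain ⟨i, -, rfl⟩ := Finset.mem_image.mp hz
    exact h0 i
  have hmem : ∀ z ∈ I, z⁻¹ ∈ I := fun z hz => by
    obtain ⟨i, -, hi⟩ := Finset.mem_image.mp hz
    have hpos : 0 < (Finset.univ.filter fun j => ω j = z⁻¹).card := by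
      rw [hinv z hz]
      exact Finset.card_pos.mpr ⟨i, by simp [hi]⟩
    obtain ⟨j, hj⟩ := Finset.card_pos.mp hpos
    exact Finset.mem_image.mpr ⟨j, Finset.mem_univ j, (Finset.mem_filter.mp hj).2⟩
  have hrest : ∏ z ∈ I.filter (fun z => z ≠ -1), f z = 1 := by
    refine Finset.prod_involution (fun z _ => z⁻¹) (fun z hz => ?_) (fun z hz hfz he => ?_)
      (fun z hz => ?_) (fun z _ => inv_inv z)
    · have hz' := (Finset.mem_filter.mp hz).1
      rw [hf]
      simp only
      rw [hinv z hz', ← mul_pow, mul_inv_cancel₀ (hI0 z hz'), one_pow]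
    · have hz' := Finset.mem_filter.mp hz
      have h2 : z * z = 1 := by
        nth_rewrite 2 [← he]
        exact mul_inv_cancel₀ (hI0 z hz'.1)
      rcases mul_self_eq_one_iff.mp h2 with h | h
      · exact hfz (by rw [hf]; simp [h])
      · exact hz'.2 h
    · have hz' := Finset.mem_filter.mp hz
      refine Finset.mem_filter.mpr ⟨hmem z hz'.1, fun h => hz'.2 ?_⟩
      rw [← inv_inv z, h]
      norm_num
  rw [hprod, ← Finset.prod_filter_mul_prod_filter_not I (fun z => z ≠ -1), hrest, one_mul]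
  by_cases hm : (-1 : ℂ) ∈ I
  · have : I.filter (fun z => ¬ z ≠ -1) = {-1} := by
      ext z
      simp only [ne_eq, not_not, Finset.mem_filter, Finset.mem_singleton]
      exact ⟨fun h => h.2, fun h => ⟨h ▸ hm, h⟩⟩
    rw [this, Finset.prod_singleton]
  · have : I.filter (fun z => ¬ z ≠ -1) = ∅ := by
      refine Finset.filter_eq_empty_iff.mpr fun z hz h => ?_
      exact hm ((not_not.mp h) ▸ hz)
    have hc : (Finset.univ.filter fun i => ω i = -1).card = 0 := by
      refine Finset.card_eq_zero.mpr (Finset.filter_eq_empty_iff.mpr fun i _ h => hm ?_)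
      exact Finset.mem_image.mpr ⟨i, Finset.mem_univ i, h⟩
    rw [this, Finset.prod_empty, hc, pow_zero]

/-- The multiplicity of the eigenvalue -1 is even. -/
theorem mult_neg_one [IsSimpleGroup G] (hnc : ¬ IsMulCommutative G) (χ : Cfsg.IrrCharacter G)
    (g : G) (hreal : ∀ x : G, conj ((χ : G → ℂ) x) = (χ : G → ℂ) x) (heven : Even (orderOf g)) :
    ∃ m : ℕ, Even m ∧
      ∑ k ∈ Finset.range (orderOf g), (-1) ^ k * (χ : G → ℂ) (g ^ k) = (orderOf g : ℂ) * m := by
  classical
  obtain ⟨d, ρ, hρ, hχρ⟩ := χ.2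
  obtain ⟨b, ω, hω, hnorm, hb, hk⟩ := CharCore.exists_eigenvalues ρ g
  have hk' : ∀ k : ℕ, (χ : G → ℂ) (g ^ k) = ∑ i, ω i ^ k := fun k => by rw [← hχρ]; exact hk k
  have hn0 : (orderOf g : ℂ) ≠ 0 := Nat.cast_ne_zero.mpr (orderOf_pos g).ne'
  refine ⟨_, ?_, weighted_sum hω hk' heven.neg_one_pow⟩
  have hfil : (Finset.univ.filter fun i => (-1 : ℂ) * ω i = 1) =
      Finset.univ.filter fun i => ω i = -1 :=
    Finset.filter_congr fun i _ => by rw [neg_one_mul, neg_eq_iff_eq_neg]
  rw [hfil]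
  -- the multiplicities are invariant under inversion
  have hinv : ∀ z ∈ Finset.univ.image ω, (Finset.univ.filter fun i => ω i = z⁻¹).card =
      (Finset.univ.filter fun i => ω i = z).card := by
    intro z hz
    obtain ⟨j, -, rfl⟩ := Finset.mem_image.mp hz
    have hz0 : ω j ≠ 0 := fun h => by
      have := hnorm j
      rw [h, norm_zero] at this
      exact zero_ne_one this
    have hconj : conj (ω j) = (ω j)⁻¹ := (Complex.inv_eq_conj (hnorm j)).symm
    have h1 := weighted_sum hω hk' (c := ω j) (hω j)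
    have h2 := weighted_sum hω hk' (c := (ω j)⁻¹) (by rw [inv_pow, hω j, inv_one])
    have h3 := congrArg conj h1
    rw [map_sum, map_mul, map_natCast, map_natCast] at h3
    rw [Finset.sum_congr rfl (g := fun k => ((ω j)⁻¹) ^ k * (χ : G → ℂ) (g ^ k)) (fun k _ => by
      rw [map_mul, map_pow, hconj, hreal]), h2] at h3
    have h4 := Nat.cast_injective (R := ℂ) (mul_left_cancel₀ hn0 h3)
    have f1 : (Finset.univ.filter fun i => (ω j)⁻¹ * ω i = 1) =
        Finset.univ.filter fun i => ω i = ω j :=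
      Finset.filter_congr fun i _ => by rw [inv_mul_eq_one₀ hz0, eq_comm]
    have f2 : (Finset.univ.filter fun i => ω j * ω i = 1) =
        Finset.univ.filter fun i => ω i = (ω j)⁻¹ :=
      Finset.filter_congr fun i _ =>
        ⟨fun h => eq_inv_of_mul_eq_one_right h, fun h => by rw [h, mul_inv_cancel₀ hz0]⟩
    rw [f1, f2] at h4
    exact h4.symm
  let f : G →* ℂˣ := (LinearMap.det.comp ρ).toHomUnits
  have hf : f g = 1 := by
    rcases f.normal_ker.eq_bot_or_eq_top with h | h
    · exact absurd (isMulCommutative_iff.mpr fun x y =>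
        (MonoidHom.ker_eq_bot_iff f).mp h (by rw [map_mul, map_mul, mul_comm])) hnc
    · exact MonoidHom.mem_ker.mp (h ▸ Subgroup.mem_top g)
  have hdet : LinearMap.det (ρ g) = 1 := congrArg Units.val hf
  rw [CharDeep.Ext.det_eq_prod_eigen b ω _ hb, prod_of_inv_closed ω (fun i h => by
    have := hnorm i
    rw [h, norm_zero] at this
    exact zero_ne_one this) hinv] at hdet
  exact (neg_one_pow_eq_one_iff_even (by norm_num)).mp hdet

end Galois

/-- The sums over the generators of cyclic subgroups. -/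
theorem genTools {G : Type u} [Group G] [Fintype G] (hG : Cfsg.IsM12 G) : GenTools G := by
  have : IsSimpleGroup G := hG.1
  have hnc : ¬ IsMulCommutative G :=
    SmallGroups.not_comm_of_not_prime (by rw [hG.2]; norm_num)
  exact ⟨Galois.totient_le, Galois.mult_one, Galois.mult_neg_one hnc⟩

end Cfsg.Agent.M12Uniq.OrderRest
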