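import Cfsg.Agent.M12Uniq.OrderThreeCols
import Cfsg.Agent.M12Uniq.CountsU
import Cfsg.Agent.M12Uniq.LocalBasic

/-!
# The elements of order 3 from the Sylow 3-subgroup
-/

set_option autoImplicit false
set_option linter.unusedSectionVars false

open scoped ComplexConjugate

namespace Cfsg.Agent.M12Uniq.OrderRest

open Subgroup
open Cfsg.Agent.SmallGroups
open Cfsg.Agent.SmallGroups.SelfCent.Setup (deg deg_spec triv deg_triv)

universe u

variable {G : Type u} [Group G] [Fintype G]

theorem inf_cent_dvd (a b : G) :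
    Nat.card ↥(centralizer ({a} : Set G) ⊓ centralizer ({b} : Set G)) ∣ cC a ∧
      Nat.card ↥(centralizer ({a} : Set G) ⊓ centralizer ({b} : Set G)) ∣ cC b :=
  ⟨Subgroup.card_dvd_of_le inf_le_left, Subgroup.card_dvd_of_le inf_le_right⟩

theorem orderOf_dvd_inf {a b g : G} (ha : a * g = g * a) (hb : b * g = g * b) :
    orderOf g ∣ Nat.card ↥(centralizer ({a} : Set G) ⊓ centralizer ({b} : Set G)) :=
  Subgroup.orderOf_dvd_natCard _ ⟨CU.mem_cent.mpr ha, CU.mem_cent.mpr hb⟩

variable (hG : Cfsg.IsM12 G) {R : Rows G} (hI : InvolData R) (hT : ThreeCols R)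

include hG hT in
/-- The possible centraliser orders. -/
theorem three_cases {x : G} (hx : orderOf x = 3) :
    cC x = 9 ∨ cC x = 18 ∨ cC x = 36 ∨ cC x = 54 := by
  have h := cC_three_cases_of hG R hT hx
  simpa using h

include hI in
theorem x_invol_aux {x t : G} (hx : orderOf x = 3) (hxC : cC x = 54) (ht : orderOf t = 2)
    (hxt : x * t = t * x) : cC t = 192 := by
  refine (hI.invol t ht).resolve_right fun h => ?_
  have h4 := (hI.u_three t x ht h hx hxt.symm).trans (inf_cent_dvd t x).2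
  rw [hxC] at h4
  norm_num at h4

include hI in
theorem card_inf_six {x t : G} (hx : orderOf x = 3) (hxC : cC x = 54) (ht : orderOf t = 2)
    (hxt : x * t = t * x) :
    Nat.card ↥(centralizer ({t} : Set G) ⊓ centralizer ({x} : Set G)) = 6 := by
  have hz := x_invol_aux hI hx hxC ht hxt
  obtain ⟨h1, h2⟩ := inf_cent_dvd t x
  rw [hz] at h1
  rw [hxC] at h2
  have h6 : orderOf (t * x) = 6 := by
    rw [Commute.orderOf_mul_eq_mul_orderOf_of_coprime (hxt.symm : Commute t x)
      (by rw [ht, hx]; norm_num), ht, hx]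
  have h3 : orderOf (t * x) ∣ Nat.card ↥(centralizer ({t} : Set G) ⊓ centralizer ({x} : Set G)) :=
    orderOf_dvd_inf ((Commute.refl t).mul_right (hxt.symm : Commute t x))
      (Commute.mul_right (hxt : Commute x t) (Commute.refl x))
  rw [h6] at h3
  exact Nat.dvd_antisymm (by simpa using Nat.dvd_gcd h1 h2) h3

include hG hT in
/-- A central element of a Sylow 3-subgroup has a centraliser of order 54. -/
theorem cC_of_central (S : Subgroup G) (hS : Nat.card S = 27) {x : G} (hx : orderOf x = 3)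
    (hSx : S ≤ centralizer ({x} : Set G)) : cC x = 54 := by
  have h27 : 27 ∣ cC x := hS ▸ Subgroup.card_dvd_of_le hSx
  rcases three_cases hG hT hx with h | h | h | h
  · rw [h] at h27; norm_num at h27
  · rw [h] at h27; norm_num at h27
  · rw [h] at h27; norm_num at h27
  · exact h

/-- Cubes are central in a group of order 27. -/
theorem cube_mem_center {P : Type*} [Group P] (hP : Nat.card P = 27) (g : P) :
    g ^ 3 ∈ center P := by
  have : Finite P := Nat.finite_of_card_ne_zero (by rw [hP]; norm_num)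
  have : Fact (Nat.Prime 3) := ⟨by norm_num⟩
  have hpg : IsPGroup 3 P := IsPGroup.of_card (n := 3) (by rw [hP]; norm_num)
  have hab : IsCyclic (P ⧸ center P) → g ^ 3 ∈ center P := fun h => mem_center_iff.mpr fun b =>
    commutative_of_cyclic_center_quotient (QuotientGroup.mk' (center P))
      (by rw [QuotientGroup.ker_mk']) b (g ^ 3)
  have : Nontrivial P := Finite.one_lt_card_iff_nontrivial.mp (by rw [hP]; norm_num)
  have hnt := hpg.center_nontrivial
  have hc1 : 1 < Nat.card (center P) := Finite.one_lt_card_iff_nontrivial.mpr hnt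
  have hmul := Subgroup.card_eq_card_quotient_mul_card_subgroup (center P)
  rw [hP] at hmul
  obtain ⟨i, hi, hQ⟩ := (Nat.dvd_prime_pow (m := 3) Nat.prime_three).mp
    (show Nat.card (P ⧸ center P) ∣ 3 ^ 3 from Dvd.intro _ (hmul.symm.trans (by norm_num)))
  have hi2 : i ≤ 2 := by
    by_contra hlt
    obtain rfl : i = 3 := by omega
    rw [hQ] at hmul
    omega
  have hdvd : orderOf (g : P ⧸ center P) ∣ 3 ^ i := hQ ▸ _root_.orderOf_dvd_natCard _
  obtain ⟨j, hj, hord⟩ := (Nat.dvd_prime_pow Nat.prime_three).mp hdvd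
  by_cases hji : j = i
  · exact hab (isCyclic_of_orderOf_eq_card _ (by rw [hord, hQ, hji]))
  · rw [← QuotientGroup.eq_one_iff, QuotientGroup.mk_pow]
    exact orderOf_dvd_iff_pow_eq_one.mp
      (hord ▸ (pow_dvd_pow 3 (show j ≤ 1 by omega)).trans (by norm_num))

include hG hI hT in
/-- No element of order 9. -/
theorem no_nine_aux (g : G) : orderOf g ≠ 9 := by
  intro hg
  have : Fact (Nat.Prime 3) := ⟨by norm_num⟩
  have : Fact (Nat.Prime 2) := ⟨Nat.prime_two⟩
  have hp : IsPGroup 3 (zpowers g) :=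
    IsPGroup.of_card (n := 2) (by rw [Nat.card_zpowers, hg]; norm_num)
  obtain ⟨S, hgS⟩ := hp.exists_le_sylow
  have hS : Nat.card ↥(S : Subgroup G) = 27 := by
    rw [card_sylow_eq (a := 3) (m := 3520) (by rw [hG.2]; norm_num) (by norm_num) S]; norm_num
  set x := g ^ 3 with hxdef
  have hgS' : g ∈ (S : Subgroup G) := hgS (mem_zpowers g)
  have hx : orderOf x = 3 := by rw [hxdef, orderOf_pow' _ (by norm_num), hg]; rfl
  have hSx : (S : Subgroup G) ≤ centralizer ({x} : Set G) := fun s hs => by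
    have h := mem_center_iff.mp (cube_mem_center hS ⟨g, hgS'⟩) ⟨s, hs⟩
    exact CU.mem_cent.mpr (congrArg Subtype.val h).symm
  have hxC := cC_of_central hG hT _ hS hx hSx
  obtain ⟨⟨t, htC⟩, ht⟩ := exists_prime_orderOf_dvd_card' (G := centralizer ({x} : Set G)) 2
    (by show 2 ∣ cC x; rw [hxC]; norm_num)
  rw [Subgroup.orderOf_mk] at ht
  have hxt : x * t = t * x := CU.mem_cent.mp htC
  have hgC : g ∈ centralizer ({x} : Set G) :=
    CU.mem_cent.mpr ((Commute.refl g).pow_left 3).eq
  set K := centralizer ({x} : Set G) with hK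
  set N := (S : Subgroup G).subgroupOf K with hN
  have hNc : Nat.card N = 27 := by
    rw [hN, Nat.card_congr (subgroupOfEquivOfLe hSx).toEquiv, hS]
  have hNi : N.index = 2 := by
    have h := N.card_mul_index
    rw [hNc, show Nat.card K = cC x from rfl, hxC] at h
    omega
  have hNn : N.Normal := normal_of_index_eq_two hNi
  -- `t * g` has even order
  have htg : 2 ∣ orderOf (t * g) := by
    by_contra hodd
    have hdvd : orderOf ((⟨t * g, mul_mem htC hgC⟩ : K) : K ⧸ N) ∣ 2 :=
      (show _ ∣ N.index from _root_.orderOf_dvd_natCard _).trans (dvd_of_eq hNi)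
    have hdvd' : orderOf ((⟨t * g, mul_mem htC hgC⟩ : K) : K ⧸ N) ∣ orderOf (t * g) :=
      (orderOf_map_dvd (QuotientGroup.mk' N) _).trans (dvd_of_eq (Subgroup.orderOf_mk _ _))
    have h1 : ((⟨t * g, mul_mem htC hgC⟩ : K) : K ⧸ N) = 1 := orderOf_eq_one_iff.mp (by
      rcases (Nat.dvd_prime Nat.prime_two).mp hdvd with h | h
      · exact h
      · exact absurd (h ▸ hdvd') hodd)
    rw [QuotientGroup.eq_one_iff] at h1
    have htS : t ∈ (S : Subgroup G) := by
      have h2 : t * g ∈ (S : Subgroup G) := h1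
      have := mul_mem h2 (inv_mem hgS')
      rwa [mul_inv_cancel_right] at this
    have h27 := Subgroup.orderOf_dvd_natCard _ htS
    rw [ht, hS] at h27
    norm_num at h27
  obtain ⟨m, hm⟩ := htg
  set y := t * g with hy
  have hxy : x * y = y * x :=
    (Commute.mul_right (hxt : Commute x t) ((Commute.refl g).pow_left 3)).eq
  have hm0 : m ≠ 0 := by
    rintro rfl
    exact (orderOf_pos y).ne' (by rw [hm, mul_zero])
  have hv : orderOf (y ^ m) = 2 := by
    rw [orderOf_pow' _ hm0, hm, Nat.gcd_mul_left_left,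
      Nat.mul_div_cancel _ (Nat.pos_of_ne_zero hm0)]
  have hcxy : Commute x y := hxy
  have hvx : x * y ^ m = y ^ m * x := (hcxy.pow_right m).eq
  have h6 := card_inf_six hI hx hxC hv hvx
  have hy6 : orderOf y ∣ 6 := h6 ▸ orderOf_dvd_inf (((Commute.refl y).pow_left m).eq) hxy
  set C6 := centralizer ({y ^ m} : Set G) ⊓ centralizer ({x} : Set G) with hC6
  -- `C(y ^ m, x)` is cyclic, so `y * y` is a power of `x`
  have hle : zpowers (y ^ m * x) ≤ C6 := zpowers_le.mpr
    ⟨CU.mem_cent.mpr ((Commute.refl (y ^ m)).mul_right (hvx.symm : Commute (y ^ m) x)).eq,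
      CU.mem_cent.mpr (Commute.mul_right (hvx : Commute x (y ^ m)) (Commute.refl x)).eq⟩
  have heq : zpowers (y ^ m * x) = C6 := eq_of_le_of_card_ge hle (by
    rw [h6, Nat.card_zpowers, Commute.orderOf_mul_eq_mul_orderOf_of_coprime
      (hvx.symm : Commute (y ^ m) x) (by rw [hv, hx]; norm_num), hv, hx])
  have hymem : y ∈ zpowers (y ^ m * x) :=
    heq ▸ ⟨CU.mem_cent.mpr ((Commute.refl y).pow_left m).eq, CU.mem_cent.mpr hxy⟩
  obtain ⟨k, hk⟩ := mem_zpowers_iff.mp hymem
  have hyy : y * y = x ^ (2 * k) := by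
    rw [← hk, ← zpow_add, ← two_mul, Commute.mul_zpow (hvx.symm : Commute (y ^ m) x), zpow_mul,
      show (y ^ m) ^ (2 : ℤ) = 1 by rw [zpow_two]; exact sq_eq_one_of_orderOf hv,
      one_zpow, one_mul]
  -- so `t g t = x ^ (2 k) g⁻¹`, whose cube is `x⁻¹`
  have ht1 : t⁻¹ = t := inv_eq_of_mul_eq_one_right (sq_eq_one_of_orderOf ht)
  have hconj : t * g * t⁻¹ = x ^ (2 * k) * g⁻¹ := by
    rw [← hyy, ht1, hy]; group
  have h3 : (t * g * t⁻¹) ^ 3 = (x ^ (2 * k) * g⁻¹) ^ 3 := by rw [hconj]
  rw [conj_pow, ← hxdef, ← hxt, mul_inv_cancel_right,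
    Commute.mul_pow (((Commute.refl g).pow_left 3).zpow_left (2 * k)).inv_right, inv_pow, ← hxdef,
    ← zpow_natCast (x ^ (2 * k)) 3, ← zpow_mul, mul_comm (2 * k) _, zpow_mul, zpow_natCast,
    show x ^ 3 = 1 from hx ▸ pow_orderOf_eq_one x, one_zpow, one_mul] at h3
  have h2 : orderOf x ∣ 2 := orderOf_dvd_of_pow_eq_one (by rw [pow_two]; nth_rw 2 [h3]; simp)
  rw [hx] at h2
  norm_num at h2
where
  sq_eq_one_of_orderOf {a : G} (ha : orderOf a = 2) : a * a = 1 := by
    rw [← pow_two, ← ha, pow_orderOf_eq_one]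

include hG hT in
theorem exists_x_aux : ∃ x : G, orderOf x = 3 ∧ cC x = 54 := by
  have : Fact (Nat.Prime 3) := ⟨by norm_num⟩
  obtain ⟨S⟩ := (inferInstance : Nonempty (Sylow 3 G))
  have hS : Nat.card ↥(S : Subgroup G) = 27 := by
    rw [card_sylow_eq (a := 3) (m := 3520) (by rw [hG.2]; norm_num) (by norm_num) S]; norm_num
  have : Nontrivial ↥(S : Subgroup G) := Finite.one_lt_card_iff_nontrivial.mp (by rw [hS]; norm_num)
  have hnt := S.2.center_nontrivial
  obtain ⟨i, hi⟩ := (S.2.to_subgroup (center ↥(S : Subgroup G))).exists_card_eq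
  have h3 : 3 ∣ Nat.card (center ↥(S : Subgroup G)) := by
    rcases i with _ | i
    · have := Finite.one_lt_card_iff_nontrivial.mpr hnt
      omega
    · rw [hi]; exact dvd_pow_self 3 (Nat.succ_ne_zero i)
  obtain ⟨x, hx⟩ := exists_prime_orderOf_dvd_card' (G := center ↥(S : Subgroup G)) 3 h3
  have hx' : orderOf ((x : ↥(S : Subgroup G)) : G) = 3 :=
    (orderOf_coe _).trans ((orderOf_coe x).trans hx)
  refine ⟨_, hx', cC_of_central hG hT _ hS hx' fun s hs => CU.mem_cent.mpr ?_⟩
  exact (congrArg Subtype.val (mem_center_iff.mp x.2 ⟨s, hs⟩)).symm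

include hI in
theorem x_card_aux {x : G} (hx : orderOf x = 3) (hxC : cC x = 54) :
    Nat.card {t : G // orderOf t = 2 ∧ x * t = t * x} = 9 := by
  have : Fact (Nat.Prime 2) := ⟨Nat.prime_two⟩
  set K := centralizer ({x} : Set G) with hK
  have hK54 : Nat.card K = 54 := hxC
  have hP : ∀ P : Sylow 2 K, Nat.card ↥(P : Subgroup K) = 2 := fun P => by
    rw [card_sylow_eq (a := 1) (m := 27) (by rw [hK54]; norm_num) (by norm_num) P]; norm_num
  have e : {t : G // orderOf t = 2 ∧ x * t = t * x} ≃ {t : K // orderOf t = 2} :=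
    { toFun := fun t => ⟨⟨t.1, CU.mem_cent.mpr t.2.2⟩, by rw [Subgroup.orderOf_mk]; exact t.2.1⟩
      invFun := fun t => ⟨t.1.1, (orderOf_coe t.1).trans t.2, CU.mem_cent.mp t.1.2⟩
      left_inv := fun _ => rfl
      right_inv := fun _ => rfl }
  obtain ⟨P⟩ := (inferInstance : Nonempty (Sylow 2 K))
  obtain ⟨t, ht⟩ := exists_prime_orderOf_dvd_card' (G := ↥(P : Subgroup K)) 2 (by rw [hP P])
  have ht' : orderOf ((t : K) : G) = 2 := (orderOf_coe _).trans ((orderOf_coe t).trans ht)
  have hN : Nat.card ↥(normalizer ((P : Subgroup K) : Set K)) = 6 := by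
    have h6 := card_inf_six hI hx hxC ht' (CU.mem_cent.mp (t : K).2)
    rw [← h6]
    have heq : (normalizer ((P : Subgroup K) : Set K)).map K.subtype =
        centralizer ({((t : K) : G)} : Set G) ⊓ centralizer ({x} : Set G) := by
      have hz : (P : Subgroup K) = zpowers (t : K) := (eq_of_le_of_card_ge (zpowers_le.mpr t.2)
        (by rw [Nat.card_zpowers, hP P, orderOf_coe, ht])).symm
      ext g
      constructor
      · rintro ⟨n, hn, rfl⟩
        refine ⟨CU.mem_cent.mpr ?_, n.2⟩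
        have hmem : n * (t : K) * n⁻¹ ∈ zpowers (t : K) := hz.le (CU.mem_norm_conj hn t.2)
        obtain ⟨k, hk⟩ := mem_zpowers_iff.mp hmem
        have hnt : n * (t : K) * n⁻¹ ≠ 1 := fun h => by
          have h' := congrArg orderOf h
          rw [CU.orderOf_conj, orderOf_coe, ht, orderOf_one] at h'
          norm_num at h'
        rw [← zpow_mod_orderOf, orderOf_coe, ht] at hk
        have : n * (t : K) * n⁻¹ = (t : K) := by
          rcases Int.emod_two_eq_zero_or_one k with h | h
          · rw [show (k % ((2 : ℕ) : ℤ)) = 0 from h, zpow_zero] at hk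
            exact absurd hk.symm hnt
          · rw [show (k % ((2 : ℕ) : ℤ)) = 1 from h, zpow_one] at hk
            exact hk.symm
        exact (congrArg Subtype.val (mul_inv_eq_iff_eq_mul.mp this)).symm
      · rintro ⟨hgt, hgx⟩
        refine ⟨⟨g, hgx⟩, centralizer_le_normalizer _ ?_, rfl⟩
        rw [hz, Subgroup.mem_centralizer_iff]
        intro a ha
        exact CU.comm_of_mem_zpowers ha (Subtype.ext (CU.mem_cent.mp hgt))
    rw [← heq, card_map_of_injective K.subtype_injective]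
  have h := card_normalizer_mul P
  rw [hN, hK54] at h
  rw [Nat.card_congr e, card_orderOf_eq hP]
  omega

include hG hI hT in
/-- The elements of order 3 commuting with an involution of the class `z` have `C = 54`. -/
theorem z_three_class {z y : G} (hz : orderOf z = 2) (hzC : cC z = 192) (hy : orderOf y = 3)
    (hzy : z * y = y * z) : cC y = 54 := by
  have : Fact (Nat.Prime 2) := ⟨Nat.prime_two⟩
  have : Fact (Nat.Prime 3) := ⟨by norm_num⟩
  obtain ⟨x, hx, hxC⟩ := exists_x_aux hG hT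
  obtain ⟨⟨t, htC⟩, ht⟩ := exists_prime_orderOf_dvd_card' (G := centralizer ({x} : Set G)) 2
    (by show 2 ∣ cC x; rw [hxC]; norm_num)
  rw [Subgroup.orderOf_mk] at ht
  have hxt : x * t = t * x := CU.mem_cent.mp htC
  obtain ⟨k, hk⟩ := isConj_iff.mp
    (hI.invol_conj t z ht hz ((x_invol_aux hI hx hxC ht hxt).trans hzC.symm))
  set x' := k * x * k⁻¹ with hx'def
  have hx' : orderOf x' = 3 := (CU.orderOf_conj k x).trans hx
  have hzx' : z * x' = x' * z := by
    rw [hx'def, ← hk]; exact (CU.conj_comm k hxt).symm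
  set K := centralizer ({z} : Set G) with hK
  have hK192 : Nat.card K = 192 := hzC
  have hP : ∀ P : Sylow 3 K, Nat.card ↥(P : Subgroup K) = 3 := fun P => by
    rw [card_sylow_eq (a := 1) (m := 64) (by rw [hK192]; norm_num) (by norm_num) P]; norm_num
  set a : K := ⟨y, CU.mem_cent.mpr hzy⟩
  set b : K := ⟨x', CU.mem_cent.mpr hzx'⟩
  have ha : orderOf a = 3 := by rw [Subgroup.orderOf_mk, hy]
  have hb : orderOf b = 3 := by rw [Subgroup.orderOf_mk, hx']
  obtain ⟨P, haP⟩ := exists_mem_sylow (p := 3) ha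
  obtain ⟨Q, hbQ⟩ := exists_mem_sylow (p := 3) hb
  have hPz : (P : Subgroup K) = zpowers a := (eq_of_le_of_card_ge (zpowers_le.mpr haP)
    (by rw [Nat.card_zpowers, hP P, ha])).symm
  obtain ⟨g, hg⟩ := MulAction.exists_smul_eq K P Q
  rw [← hg, Sylow.coe_subgroup_smul, Subgroup.mem_pointwise_smul_iff_inv_smul_mem] at hbQ
  have hb' : g⁻¹ * b * g ∈ zpowers a := by
    rw [← hPz]; simpa [MulAut.smul_def] using hbQ
  have hbG : (g : G)⁻¹ * x' * g ∈ zpowers y := by
    obtain ⟨i, hi⟩ := mem_zpowers_iff.mp hb'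
    refine mem_zpowers_iff.mpr ⟨i, ?_⟩
    have := congrArg Subtype.val hi
    simpa using this
  have hb3 : orderOf ((g : G)⁻¹ * x' * g) = 3 := by
    have := CU.orderOf_conj (g : G)⁻¹ x'
    rw [inv_inv] at this
    rw [this, hx']
  have heq : zpowers ((g : G)⁻¹ * x' * g) = zpowers y :=
    eq_of_le_of_card_ge (zpowers_le.mpr hbG) (by rw [Nat.card_zpowers, Nat.card_zpowers, hb3, hy])
  have hc : cC y = cC ((g : G)⁻¹ * x' * g) := by
    rw [cC, cC, ← centralizer_closure ({y} : Set G),
      ← centralizer_closure ({(g : G)⁻¹ * x' * g} : Set G), ← zpowers_eq_closure,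
      ← zpowers_eq_closure, heq]
  have h1 := Loc.cC_conj (g : G)⁻¹ x'
  rw [inv_inv] at h1
  rw [hc, h1, hx'def, Loc.cC_conj, hxC]

include hG hI hT in
theorem y_invol_aux {y t : G} (hy : orderOf y = 3) (hyC : cC y = 36) (ht : orderOf t = 2)
    (hyt : y * t = t * y) : cC t = 240 := by
  refine (hI.invol t ht).resolve_left fun h => ?_
  have := z_three_class hG hI hT ht h hy hyt.symm
  omega

include hG hI hT in
theorem card_inf_twelve {y t : G} (hy : orderOf y = 3) (hyC : cC y = 36) (ht : orderOf t = 2)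
    (hyt : y * t = t * y) :
    Nat.card ↥(centralizer ({t} : Set G) ⊓ centralizer ({y} : Set G)) = 12 := by
  have : Fact (Nat.Prime 5) := ⟨by norm_num⟩
  have hC := y_invol_aux hG hI hT hy hyC ht hyt
  obtain ⟨q, hq⟩ := exists_prime_orderOf_dvd_card' (G := centralizer ({t} : Set G)) 5
    (by show 5 ∣ cC t; rw [hC]; norm_num)
  exact three_twelve hG ((orderOf_coe q).trans hq) ht (mem_centralizer_singleton_iff.mp q.2) hC hy
    hyt.symm

include hG hI hT in
theorem y_card_aux {y : G} (hy : orderOf y = 3) (hyC : cC y = 36) :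
    3 ≤ Nat.card {t : G // orderOf t = 2 ∧ y * t = t * y} := by
  have : Fact (Nat.Prime 2) := ⟨Nat.prime_two⟩
  set K := centralizer ({y} : Set G) with hK
  obtain ⟨⟨t, htC⟩, ht⟩ := exists_prime_orderOf_dvd_card' (G := K) 2
    (by show 2 ∣ cC y; rw [hyC]; norm_num)
  rw [Subgroup.orderOf_mk] at ht
  have hyt : y * t = t * y := CU.mem_cent.mp htC
  have h12 := card_inf_twelve hG hI hT hy hyC ht hyt
  set M := (centralizer ({t} : Set G) ⊓ centralizer ({y} : Set G)).subgroupOf K with hM
  have hMi : M.index = 3 := by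
    have h := M.card_mul_index
    have hMc : Nat.card M = 12 := by
      rw [hM, Nat.card_congr (subgroupOfEquivOfLe inf_le_right).toEquiv, h12]
    rw [hMc, show Nat.card K = cC y from rfl, hyC] at h
    omega
  rw [← hMi, Subgroup.index]
  refine Nat.card_le_card_of_injective (fun c : K ⧸ M =>
    (⟨(c.out : G) * t * (c.out : G)⁻¹, (CU.orderOf_conj _ t).trans ht, ?_⟩ :
      {t : G // orderOf t = 2 ∧ y * t = t * y})) ?_
  · exact CU.mem_cent.mp (mul_mem (mul_mem c.out.2 htC) (inv_mem c.out.2))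
  · intro c d h
    have e : (c.out : G) * t * (c.out : G)⁻¹ = (d.out : G) * t * (d.out : G)⁻¹ :=
      congrArg Subtype.val h
    rw [← c.out_eq, ← d.out_eq]
    refine Quotient.sound' (QuotientGroup.leftRel_apply.mpr ?_)
    refine Subgroup.mem_subgroupOf.mpr ⟨CU.mem_cent.mpr ?_, (c.out⁻¹ * d.out).2⟩
    push_cast
    calc t * ((c.out : G)⁻¹ * (d.out : G))
        = (c.out : G)⁻¹ * ((c.out : G) * t * (c.out : G)⁻¹) * (d.out : G) := by group
      _ = (c.out : G)⁻¹ * ((d.out : G) * t * (d.out : G)⁻¹) * (d.out : G) := by rw [e]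
      _ = (c.out : G)⁻¹ * (d.out : G) * t := by group

include hG hI hT in
theorem y_four_aux {y h : G} (hy : orderOf y = 3) (hyC : cC y = 36)
    (h3 : Nat.card {t : G // orderOf t = 2 ∧ y * t = t * y} = 3) (hh : orderOf h = 4) :
    y * h ≠ h * y := by
  intro hyh
  classical
  have hc : Commute y h := hyh
  set t := h * h with htdef
  have ht : orderOf t = 2 := by
    rw [htdef, ← pow_two, orderOf_pow' _ (by norm_num), hh]; rfl
  have hyt : y * t = t * y := (hc.mul_right hc).eq
  have hht : h * t = t * h := ((Commute.refl h).mul_right (Commute.refl h)).eq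
  have h12 := card_inf_twelve hG hI hT hy hyC ht hyt
  have hcyc : zpowers (h * y) = centralizer ({t} : Set G) ⊓ centralizer ({y} : Set G) := by
    refine eq_of_le_of_card_ge (zpowers_le.mpr ⟨CU.mem_cent.mpr ?_, CU.mem_cent.mpr ?_⟩) (le_of_eq ?_)
    · exact (Commute.mul_right (hht.symm : Commute t h) (hyt.symm : Commute t y)).eq
    · exact (hc.mul_right (Commute.refl y)).eq
    · rw [h12, Nat.card_zpowers, Commute.orderOf_mul_eq_mul_orderOf_of_coprime
        (hyh.symm : Commute h y) (by rw [hh, hy]; norm_num), hh, hy]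
  -- `t` commutes with no other involution of `C(y)`
  have hne : ∀ s : G, orderOf s = 2 → y * s = s * y → t * s = s * t → s = t := by
    intro s hs hys hts
    have hmem : s ∈ zpowers (h * y) := hcyc ▸ ⟨CU.mem_cent.mpr hts, CU.mem_cent.mpr hys⟩
    obtain ⟨k, hk⟩ := mem_zpowers_iff.mp hmem
    have h12' : orderOf (h * y) = 12 := by
      rw [Commute.orderOf_mul_eq_mul_orderOf_of_coprime
        (hyh.symm : Commute h y) (by rw [hh, hy]; norm_num), hh, hy]
    have h6 : (12 : ℤ) ∣ k * 2 := by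
      rw [← show ((orderOf (h * y) : ℕ) : ℤ) = 12 by rw [h12']; rfl,
        orderOf_dvd_iff_zpow_eq_one, zpow_mul, hk, zpow_two, ← pow_two, ← hs, pow_orderOf_eq_one]
    have hk0 : ¬ (12 : ℤ) ∣ k := by
      rw [← show ((orderOf (h * y) : ℕ) : ℤ) = 12 by rw [h12']; rfl, orderOf_dvd_iff_zpow_eq_one, hk]
      intro h1
      rw [h1, orderOf_one] at hs
      norm_num at hs
    obtain ⟨j, hj⟩ : ∃ j : ℤ, k = 12 * j + 6 := ⟨k / 12, by omega⟩
    have e12 : (h * y) ^ (12 : ℤ) = 1 := by
      rw [show (12 : ℤ) = ((12 : ℕ) : ℤ) from rfl, zpow_natCast, ← h12', pow_orderOf_eq_one]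
    rw [← hk, hj, zpow_add, zpow_mul, e12, one_zpow, one_mul,
      show (6 : ℤ) = ((6 : ℕ) : ℤ) from rfl, zpow_natCast, hc.symm.mul_pow,
      show y ^ 6 = 1 from orderOf_dvd_iff_pow_eq_one.mp (by rw [hy]; norm_num),
      show h ^ 6 = h ^ 4 * (h * h) by group, show h ^ 4 = 1 from hh ▸ pow_orderOf_eq_one h,
      one_mul, mul_one]
  -- three involutions: `h` fixes `t` and so `h * h` fixes the others
  set T := Finset.univ.filter fun s : G => orderOf s = 2 ∧ y * s = s * y with hT'
  have hT3 : T.card = 3 := by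
    rw [← h3, Nat.card_eq_fintype_card, Fintype.card_subtype]
  have htT : t ∈ T := by simp [hT', ht, hyt]
  have he2 : (T.erase t).card = 2 := by rw [Finset.card_erase_of_mem htT, hT3]
  obtain ⟨s, s', hss, heq⟩ := Finset.card_eq_two.mp he2
  have hconj : ∀ a ∈ T.erase t, h * a * h⁻¹ ∈ T.erase t := by
    intro a ha
    obtain ⟨hat, ha2⟩ := Finset.mem_erase.mp ha
    simp only [hT', Finset.mem_filter, Finset.mem_univ, true_and] at ha2
    refine Finset.mem_erase.mpr ⟨fun e => hat ?_, ?_⟩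
    · calc a = h⁻¹ * (h * a * h⁻¹) * h := by group
        _ = h⁻¹ * t * h := by rw [e]
        _ = h⁻¹ * (t * h) := by group
        _ = h⁻¹ * (h * t) := by rw [hht]
        _ = t := by group
    · simp only [hT', Finset.mem_filter, Finset.mem_univ, true_and]
      exact ⟨(CU.orderOf_conj h a).trans ha2.1, ((hc.mul_right ha2.2).mul_right hc.inv_right).eq⟩
  have hs : s ∈ T.erase t := by rw [heq]; simp
  have hs' := hconj s hs
  have hfix : h * (h * s * h⁻¹) * h⁻¹ = s := by
    rw [heq, Finset.mem_insert, Finset.mem_singleton] at hs'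
    rcases hs' with e | e
    · rw [e, e]
    · have hs'' := hconj s' (by rw [heq]; simp)
      rw [heq, Finset.mem_insert, Finset.mem_singleton] at hs''
      rw [e]
      refine hs''.resolve_right fun e' => hss ?_
      exact (MulAut.conj h).injective (e.trans e'.symm)
  obtain ⟨hst, hs2⟩ := Finset.mem_erase.mp hs
  simp only [hT', Finset.mem_filter, Finset.mem_univ, true_and] at hs2
  refine hst (hne s hs2.1 hs2.2 ?_)
  calc t * s = h * (h * s * h⁻¹) * h⁻¹ * t := by rw [htdef]; group
    _ = s * t := by rw [hfix]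

include hG hI hT in
theorem exists_y_aux : (∃ y : G, orderOf y = 3 ∧ cC y = 36 ∧ (R.A : G → ℂ) y = 3) ∨
    ∃ y y' : G, orderOf y = 3 ∧ cC y = 36 ∧ orderOf y' = 3 ∧ (cC y' = 9 ∨ cC y' = 18) := by
  classical
  have : Fact (Nat.Prime 3) := ⟨by norm_num⟩
  obtain ⟨u, hu, huC⟩ := hI.exists_u
  obtain ⟨⟨y, hyu⟩, hy⟩ := exists_prime_orderOf_dvd_card' (G := centralizer ({u} : Set G)) 3
    (by show 3 ∣ cC u; rw [huC]; norm_num)
  rw [Subgroup.orderOf_mk] at hy
  have huy : u * y = y * u := CU.mem_cent.mp hyu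
  have hyC : cC y = 36 := by
    have h4 := (hI.u_three u y hu huC hy huy).trans (inf_cent_dvd u y).2
    rcases three_cases hG hT hy with h | h | h | h
    · rw [h] at h4; norm_num at h4
    · rw [h] at h4; norm_num at h4
    · exact h
    · rw [h] at h4; norm_num at h4
  by_contra hcon
  rw [not_or] at hcon
  obtain ⟨hnb, hnd⟩ := hcon
  -- so every element of order 3 has `C = 54` or `C = 36` and `A = -3`
  have hcols : ∀ g : G, orderOf g = 3 →
      ((R.A : G → ℂ) g = 0 ∧ (R.C : G → ℂ) g = 3) ∨ ((R.A : G → ℂ) g = -3 ∧ (R.C : G → ℂ) g = 0) := by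
    intro g hg
    rcases hT.cols g hg with h | h | h | h | h
    · exact Or.inl ⟨h.2.1, h.2.2.1⟩
    · exact absurd ⟨g, hg, h.1, h.2.1⟩ hnb
    · exact Or.inr ⟨h.2.1, h.2.2.1⟩
    · rcases three_cases hG hT hg with e | e | e | e <;> omega
    · exact absurd ⟨y, g, hy, hyC, hg, h.1⟩ hnd
  obtain ⟨S⟩ := (inferInstance : Nonempty (Sylow 3 G))
  have hS : Nat.card ↥(S : Subgroup G) = 27 := by
    rw [card_sylow_eq (a := 3) (m := 3520) (by rw [hG.2]; norm_num) (by norm_num) S]; norm_num
  have h27 : ∀ s : ↥(S : Subgroup G), s ≠ 1 → orderOf (s : G) = 3 := by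
    intro s hs
    obtain ⟨i, hi, he⟩ := (Nat.dvd_prime_pow (m := 3) Nat.prime_three).mp
      (show orderOf (s : G) ∣ 3 ^ 3 from (Subgroup.orderOf_dvd_natCard _ s.2).trans (by rw [hS]; rfl))
    interval_cases i
    · exact absurd (Subtype.ext (orderOf_eq_one_iff.mp (he.trans (pow_zero 3)))) hs
    · exact he
    · exact absurd (he.trans (by norm_num)) (no_nine_aux hG hI hT (s : G))
    · exfalso
      refine no_nine_aux hG hI hT ((s : G) ^ 3) ?_
      rw [orderOf_pow' _ (by norm_num), he]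
      rfl
  have hfin := Fintype.ofFinite ↥(S : Subgroup G)
  set D := (Finset.univ : Finset ↥(S : Subgroup G)).erase 1 with hD
  have hDc : D.card = 26 := by
    rw [hD, Finset.card_erase_of_mem (Finset.mem_univ _), Finset.card_univ,
      ← Nat.card_eq_fintype_card, hS]
  obtain ⟨kA, hkA⟩ := Steiner.M11.exists_sum_eq R.A (S : Subgroup G)
  obtain ⟨kC, hkC⟩ := Steiner.M11.exists_sum_eq R.C (S : Subgroup G)
  rw [← Finset.add_sum_erase _ _ (Finset.mem_univ (1 : ↥(S : Subgroup G))), OneMemClass.coe_one,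
    (deg_spec _).2.2, hS] at hkA hkC
  rw [R.deg_A] at hkA
  rw [R.deg_C] at hkC
  have hsum : ∑ s ∈ D, ((R.A : G → ℂ) s - (R.C : G → ℂ) s) = ∑ s ∈ D, ((-3 : ℤ) : ℂ) := by
    refine Finset.sum_congr rfl fun s hs => ?_
    rcases hcols _ (h27 s (Finset.ne_of_mem_erase hs)) with ⟨h1, h2⟩ | ⟨h1, h2⟩ <;>
      rw [h1, h2] <;> norm_num
  rw [Finset.sum_sub_distrib, Finset.sum_const, hDc] at hsum
  have hz : (45 : ℤ) - 120 + 26 * (-3) = 27 * ((kA : ℤ) - kC) := by
    apply Int.cast_injective (α := ℂ)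
    rw [nsmul_eq_mul] at hsum
    push_cast at hsum hkA hkC ⊢
    linear_combination hkA - hkC - hsum
  omega

include hG hI hT in
/-- The facts obtained from the Sylow 3-subgroup. -/
theorem threeLocal : ThreeLocal R where
  no_nine := no_nine_aux hG hI hT
  exists_x := exists_x_aux hG hT
  x_invol _ _ hx hC ht h := x_invol_aux hI hx hC ht h
  x_card _ hx hC := x_card_aux hI hx hC
  exists_y := exists_y_aux hG hI hT
  y_invol _ _ hy hC ht h := y_invol_aux hG hI hT hy hC ht h
  y_card _ hy hC := y_card_aux hG hI hT hy hC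
  y_four _ _ hy hC h3 hh := y_four_aux hG hI hT hy hC h3 hh

end Cfsg.Agent.M12Uniq.OrderRest
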