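import Cfsg.Agent.M12Uniq.OrderRestTwo
import Cfsg.Agent.M12Uniq.OrderRestInvol
import Cfsg.Agent.M12Uniq.OrderRestCols
import Cfsg.Agent.M12Uniq.OrderRestThree
import Cfsg.Agent.M12Uniq.OrderRestGalois
import Cfsg.Agent.M12Uniq.OrderInvol
import Cfsg.Agent.M12Uniq.OrderEleven

/-!
# The class data of `M₁₂` from the order alone

`counts_of_isM12`: a simple group of order 95040 satisfies `Counts`.
-/

set_option autoImplicit false
set_option linter.unusedSectionVars false

open scoped ComplexConjugate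

namespace Cfsg.Agent.M12Uniq.OrderRest

open Subgroup
open Cfsg.Agent.SmallGroups.SelfCent.Setup (deg deg_spec triv deg_triv)

universe u

variable {G : Type u} [Group G] [Fintype G] {R : Rows G}

section

variable (h : Hyp R) (h11 : ∀ a : G, orderOf a = 11 → centralizer ({a} : Set G) ≤ zpowers a)

include h h11 in
theorem A_sign {g : G} {j : ℕ} (hg : orderOf g = 2 ^ (j + 2))
    (hn : 2 ^ (j + 2) ∈ ({4, 8, 11, 16, 32, 64} : Finset ℕ)) {o : ℤ} (ho : Odd o)
    (hX : powSum (R.A : G → ℂ) (g ^ 2) = 2 ^ (j + 1) * (o : ℂ)) :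
    ∃ a : ℤ, Odd a ∧ (2 * a - o = 1 ∨ 2 * a - o = -1) ∧
      powSum (R.A : G → ℂ) g = 2 ^ (j + 2) * (a : ℂ) ∧
      genSum (R.A : G → ℂ) g = ((2 ^ (j + 1) * (2 * a - o) : ℤ) : ℂ) := by
  obtain ⟨a, ha, hXa, hS⟩ := A_step h hg ho hX
  refine ⟨a, ha, ?_, hXa, hS⟩
  have htight := (A_tight h h11).2.2.2.1 _ hn
  have heq := gens_eq_of_sqOn_le h.tools (isCharacter_irr R.A) (ordSet G (2 ^ (j + 2))) _
    (fun x hx => mem_ordSet.mp hx) pow_mem_ordSet
    (fun x hx => A_genSum_ne h (mem_ordSet.mp hx)) htight g (mem_ordSet.mpr hg)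
  have hle := abs_genSum_le hS (by rw [hg, heq])
  rw [hg, Nat.totient_prime_pow Nat.prime_two (by omega), show j + 2 - 1 = j + 1 by omega,
    abs_mul, abs_of_pos (by positivity : (0 : ℤ) < 2 ^ (j + 1))] at hle
  push_cast at hle
  have h1 : |2 * a - o| ≤ 1 := by
    have hp : (0 : ℤ) < 2 ^ (j + 1) := by positivity
    nlinarith
  rw [Int.odd_iff] at ho
  rw [abs_le] at h1
  omega

include h h11 in
theorem level_four {g : G} (hg : orderOf g = 4) :
    orderOf (g ^ 2) = 2 ∧ genSum (R.A : G → ℂ) g = 2 ∧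
      (cC (g ^ 2) = 192 → powSum (R.A : G → ℂ) g = 4 * ((11 : ℤ) : ℂ)) := by
  have h2 : orderOf (g ^ 2) = 2 := by rw [orderOf_pow' g (by norm_num), hg]; rfl
  rcases A_invol h h2 with ⟨e, hX⟩ | ⟨e, hX⟩
  · obtain ⟨a, ha, hs, hXa, hS⟩ := A_sign h h11 (j := 0) hg (by decide) (o := 21) (by decide)
      (by rw [hX]; norm_num)
    rw [Int.odd_iff] at ha
    obtain rfl : a = 11 := by omega
    exact ⟨h2, by rw [hS]; norm_num, fun _ => by rw [hXa]; norm_num⟩
  · obtain ⟨a, ha, hs, hXa, hS⟩ := A_sign h h11 (j := 0) hg (by decide) (o := 25) (by decide)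
      (by rw [hX]; norm_num)
    rw [Int.odd_iff] at ha
    obtain rfl : a = 13 := by omega
    exact ⟨h2, by rw [hS]; norm_num, fun e' => by omega⟩

include h in
/-- The fourth power of an element of order 8 is 2-central. -/
theorem fourth_z {g : G} (hg : orderOf g = 8) : cC (g ^ 4) = 192 := by
  obtain ⟨-, -, -, -, -, -, hE, -⟩ := E_facts h
  have h4 : orderOf (g ^ 4) = 2 := by rw [orderOf_pow' g (by norm_num), hg]; rfl
  refine (h.inv.invol _ h4).resolve_right fun hu => ?_
  have h2 : orderOf (g ^ 2) = 4 := by rw [orderOf_pow' g (by norm_num), hg]; rfl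
  have hS : ∀ x : G, orderOf x ∈ ({4, 8} : Finset ℕ) → genSum (R.E : G → ℂ) x = 0 := fun x hx =>
    Finset.sum_eq_zero fun k hk => hE _ (by
      rw [orderOf_pow_gens rfl hk]
      simp only [Finset.mem_insert, Finset.mem_singleton] at hx ⊢
      omega)
  have e1 := (two_pow_sums (R.E : G → ℂ) (g := g) (j := 2) hg).1
  have e2 := (two_pow_sums (R.E : G → ℂ) (g := g ^ 2) (j := 1) h2).1
  rw [← pow_mul, powSum_two _ h4, hS _ (by rw [h2]; decide), value_one, R.deg_E₁] at e2
  rw [e2, hS _ (by rw [hg]; decide)] at e1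
  obtain ⟨m, hm⟩ := h.tools.mult_one _ g (isCharacter_irr R.E)
  rw [show powSum (R.E : G → ℂ) g = _ from hm, hg] at e1
  rcases (h.inv.u_col _ h4 hu).2.2 with e | e <;> rw [e] at e1
  · have : ((8 * m : ℕ) : ℂ) = ((20 : ℕ) : ℂ) := by push_cast; linear_combination e1
    have := Nat.cast_injective this
    omega
  · have : ((8 * m : ℕ) : ℂ) = ((12 : ℕ) : ℂ) := by push_cast; linear_combination e1
    have := Nat.cast_injective this
    omega

include h h11 in
theorem level_eight {g : G} (hg : orderOf g = 8) :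
    genSum (R.A : G → ℂ) g = -4 ∧ powSum (R.A : G → ℂ) g = 8 * ((5 : ℤ) : ℂ) := by
  have h2 : orderOf (g ^ 2) = 4 := by rw [orderOf_pow' g (by norm_num), hg]; rfl
  obtain ⟨-, -, hX⟩ := level_four h h11 h2
  have hz : cC ((g ^ 2) ^ 2) = 192 := by rw [← pow_mul]; exact fourth_z h hg
  obtain ⟨a, ha, hs, hXa, hS⟩ := A_sign h h11 (j := 1) hg (by decide) (o := 11) (by decide)
    (by rw [hX hz]; norm_num)
  rw [Int.odd_iff] at ha
  obtain rfl : a = 5 := by omega
  exact ⟨by rw [hS]; norm_num, by rw [hXa]; norm_num⟩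

include h h11 in
theorem level_sixteen {g : G} (hg : orderOf g = 16) :
    genSum (R.A : G → ℂ) g = 8 ∧ powSum (R.A : G → ℂ) g = 16 * ((3 : ℤ) : ℂ) := by
  have h2 : orderOf (g ^ 2) = 8 := by rw [orderOf_pow' g (by norm_num), hg]; rfl
  obtain ⟨a, ha, hs, hXa, hS⟩ := A_sign h h11 (j := 2) hg (by decide) (o := 5) (by decide)
    (by rw [(level_eight h h11 h2).2]; norm_num)
  rw [Int.odd_iff] at ha
  obtain rfl : a = 3 := by omega
  exact ⟨by rw [hS]; norm_num, by rw [hXa]; norm_num⟩

include h h11 in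
theorem level_thirtytwo {g : G} (hg : orderOf g = 32) :
    genSum (R.A : G → ℂ) g = -16 ∧ powSum (R.A : G → ℂ) g = 32 * ((1 : ℤ) : ℂ) := by
  have h2 : orderOf (g ^ 2) = 16 := by rw [orderOf_pow' g (by norm_num), hg]; rfl
  obtain ⟨a, ha, hs, hXa, hS⟩ := A_sign h h11 (j := 3) hg (by decide) (o := 3) (by decide)
    (by rw [(level_sixteen h h11 h2).2]; norm_num)
  rw [Int.odd_iff] at ha
  obtain rfl : a = 1 := by omega
  exact ⟨by rw [hS]; norm_num, by rw [hXa]; norm_num⟩

include h h11 in
theorem level_sixtyfour {g : G} (hg : orderOf g = 64) : genSum (R.A : G → ℂ) g = 32 := by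
  have h2 : orderOf (g ^ 2) = 32 := by rw [orderOf_pow' g (by norm_num), hg]; rfl
  obtain ⟨a, ha, hs, hXa, hS⟩ := A_sign h h11 (j := 4) hg (by decide) (o := 1) (by decide)
    (by rw [(level_thirtytwo h h11 h2).2]; norm_num)
  rw [Int.odd_iff] at ha
  obtain rfl : a = 1 := by omega
  rw [hS]; norm_num

/-- The sum over elements of one order with a given sum over generators. -/
theorem sum_of_genSum (χ : G → ℂ) (S : Finset G) {n : ℕ} (hn : 0 < n)
    (hS : ∀ g ∈ S, orderOf g = n) (hcl : ∀ g ∈ S, ∀ k ∈ gens n, g ^ k ∈ S) (v : ℂ)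
    (hv : ∀ g ∈ S, genSum χ g = n.totient * v) : ∑ g ∈ S, χ g = S.card * v := by
  have e := sum_gens S n hS hcl χ
  rw [nsmul_eq_mul, Finset.sum_congr rfl (g := fun _ => (n.totient : ℂ) * v) (fun g hg => by
    rw [← hv g hg, genSum, hS g hg]), Finset.sum_const, nsmul_eq_mul] at e
  refine mul_left_cancel₀ (Nat.cast_ne_zero.mpr (Nat.totient_pos.mpr hn).ne') ?_
  rw [← e]; ring

include h h11 in
/-- The character of degree 45 summed over the group. -/
theorem sum_A : sN G 4 + sN G 16 + sN G 64 = 5940 ∧ sN G 8 + sN G 32 = 23760 := by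
  classical
  obtain ⟨hfive, hsix, hY, htight, h29⟩ := A_tight h h11
  obtain ⟨h54, h36, -, -, -, hYc, -⟩ := E_facts h
  have hA : R.A ≠ triv := fun e => by
    have := congrArg deg e
    rw [R.deg_A, deg_triv] at this
    norm_num at this
  set f := (R.A : G → ℂ) with hf
  have hall : ∑ n ∈ ({1, 2, 3, 4, 5, 6, 8, 10, 11, 16, 32, 64} : Finset ℕ),
      ∑ g ∈ ordSet G n, f g = 0 := by
    rw [← Finset.sum_biUnion, Finset.eq_univ_of_forall fun g => Finset.mem_biUnion.mpr
      ⟨_, order_cases h h11 g, mem_ordSet.mpr rfl⟩]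
    · exact sum_univ hA
    · intro a _ b _ hab
      exact Finset.disjoint_left.mpr fun g ha hb =>
        hab ((mem_ordSet.mp ha).symm.trans (mem_ordSet.mp hb))
  have h1 : ∑ g ∈ ordSet G 1, f g = 45 := by
    rw [show ordSet G 1 = {1} by ext g; simp [mem_ordSet, orderOf_eq_one_iff],
      Finset.sum_singleton, hf, value_one, R.deg_A]
    norm_num
  have h2 : ∑ g ∈ ordSet G 2, f g = 495 := by
    have hsplit : ordSet G 2 = cSet G 2 240 ∪ cSet G 2 192 := by
      ext g
      simp only [Finset.mem_union, mem_cSet, mem_ordSet]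
      exact ⟨fun hg => (h.inv.invol g hg).symm.imp (⟨hg, ·⟩) (⟨hg, ·⟩),
        fun hg => hg.elim (·.1) (·.1)⟩
    rw [hsplit, Finset.sum_union (Finset.disjoint_left.mpr fun g ha hb => by
      have := (mem_cSet.mp ha).2.symm.trans (mem_cSet.mp hb).2
      omega), Finset.sum_congr rfl (g := fun _ => (5 : ℂ)) (fun g hg =>
        (h.inv.u_col g (mem_cSet.mp hg).1 (mem_cSet.mp hg).2).1),
      Finset.sum_congr rfl (g := fun _ => (-3 : ℂ)) (fun g hg =>
        (h.inv.z_col g (mem_cSet.mp hg).1 (mem_cSet.mp hg).2).1), Finset.sum_const,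
      Finset.sum_const, h.card_two.1, h.card_two.2]
    norm_num
  have h3 : ∑ g ∈ ordSet G 3, f g = 7920 := by
    rw [← Finset.sum_subset (s₁ := cSet G 3 36) (fun g hg => mem_ordSet.mpr (mem_cSet.mp hg).1)
      (fun g hg hg' => A_54 h (mem_ordSet.mp hg) ((three_class h (mem_ordSet.mp hg)).resolve_right
        fun e => hg' (mem_cSet.mpr ⟨mem_ordSet.mp hg, e⟩))),
      Finset.sum_congr rfl (g := fun _ => (3 : ℂ)) (fun g hg =>
        A_36 h (mem_cSet.mp hg).1 (mem_cSet.mp hg).2), Finset.sum_const, h36]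
    norm_num
  have h5 : ∀ n, n = 5 ∨ n = 10 → ∑ g ∈ ordSet G n, f g = 0 := fun n hn =>
    Finset.sum_eq_zero fun g hg => hfive g (by rw [mem_ordSet.mp hg]; exact hn)
  have h6 : ∑ g ∈ ordSet G 6, f g = -7920 := by
    rw [← Finset.sum_subset (s₁ := ySix G) (fun g hg => mem_ordSet.mpr (mem_ySix.mp hg).1)
      (fun g hg hg' => hsix g hg hg'),
      sum_of_genSum f (ySix G) (by norm_num) (fun g hg => (mem_ySix.mp hg).1) ySix_closed (-1)
        (fun g hg => ?_), hYc]
    · norm_num
    obtain ⟨s, hs, hs6⟩ := A_six h hg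
    have hg6 := (mem_ySix.mp hg).1
    have hne : ∀ x ∈ ySix G, genSum (R.A : G → ℂ) x ≠ 0 := fun x hx h0 => by
      obtain ⟨s', hs', hs6'⟩ := A_six h hx
      rw [h0] at hs'
      have : s' = 0 := by exact_mod_cast hs'.symm
      omega
    have heq := gens_eq_of_sqOn_le h.tools (isCharacter_irr R.A) (ySix G) 6
      (fun x hx => (mem_ySix.mp hx).1) ySix_closed hne hY g hg
    have hle := abs_genSum_le hs (by rw [hg6, heq])
    rw [hg6, show Nat.totient 6 = 2 by decide, abs_le] at hle
    push_cast at hle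
    obtain rfl : s = -2 := by omega
    rw [hs, show Nat.totient 6 = 2 by decide]
    norm_num
  have h11' : ∑ g ∈ ordSet G 11, f g = 17280 := by
    rw [sum_of_genSum f (ordSet G 11) (by norm_num) (fun g hg => mem_ordSet.mp hg) pow_mem_ordSet 1
      (fun g hg => ?_), card_ordSet, h.s11]
    · norm_num
    obtain ⟨s, hs, hev, hs11⟩ := A_int_eleven h (mem_ordSet.mp hg)
    have hne : ∀ x ∈ ordSet G 11, genSum (R.A : G → ℂ) x ≠ 0 := fun x hx h0 => by
      obtain ⟨s', hs', -, hs11'⟩ := A_int_eleven h (mem_ordSet.mp hx)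
      rw [h0] at hs'
      have : s' = 0 := by exact_mod_cast hs'.symm
      omega
    have heq := gens_eq_of_sqOn_le h.tools (isCharacter_irr R.A) (ordSet G 11) 11
      (fun x hx => mem_ordSet.mp hx) pow_mem_ordSet hne (htight 11 (by decide)) g hg
    have hle := abs_genSum_le hs (by rw [mem_ordSet.mp hg, heq])
    rw [mem_ordSet.mp hg, show Nat.totient 11 = 10 by decide, abs_le] at hle
    push_cast at hle
    obtain ⟨r, rfl⟩ := hev
    obtain rfl : r = 5 := by omega
    rw [hs, show Nat.totient 11 = 10 by decide]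
    norm_num
  have hp : ∀ n (v : ℂ), 0 < n → (∀ g : G, orderOf g = n → genSum f g = n.totient * v) →
      ∑ g ∈ ordSet G n, f g = (sN G n : ℂ) * v := fun n v hn hv => by
    rw [← card_ordSet]
    exact sum_of_genSum f _ hn (fun g hg => mem_ordSet.mp hg) pow_mem_ordSet v
      fun g hg => hv g (mem_ordSet.mp hg)
  have h4 := hp 4 1 (by norm_num) fun g hg => by
    rw [(level_four h h11 hg).2.1, show Nat.totient 4 = 2 by decide]; norm_num
  have h8 := hp 8 (-1) (by norm_num) fun g hg => by
    rw [(level_eight h h11 hg).1, show Nat.totient 8 = 4 by decide]; norm_num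
  have h16 := hp 16 1 (by norm_num) fun g hg => by
    rw [(level_sixteen h h11 hg).1, show Nat.totient 16 = 8 by decide]; norm_num
  have h32 := hp 32 (-1) (by norm_num) fun g hg => by
    rw [(level_thirtytwo h h11 hg).1, show Nat.totient 32 = 16 by decide]; norm_num
  have h64 := hp 64 1 (by norm_num) fun g hg => by
    rw [level_sixtyfour h h11 hg, show Nat.totient 64 = 32 by decide]; norm_num
  simp only [Finset.sum_insert, Finset.mem_insert, Finset.mem_singleton, Finset.sum_singleton,
    Nat.reduceEqDiff, or_false, not_false_iff, h1, h2, h3, h4, h5 5 (Or.inl rfl), h6, h8,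
    h5 10 (Or.inr rfl), h11', h16, h32, h64] at hall
  have hk : ((sN G 4 + sN G 16 + sN G 64 + 17820 : ℕ) : ℂ) = ((sN G 8 + sN G 32 : ℕ) : ℂ) := by
    push_cast
    linear_combination hall
  have := Nat.cast_injective hk
  omega

include h h11 in
/-- There are no elements of order 16. -/
theorem no_sixteen (g : G) : orderOf g ≠ 16 := by
  classical
  intro hg
  have : Fact (Nat.Prime 3) := ⟨by norm_num⟩
  set Q := zpowers g with hQ
  set N := normalizer (Q : Set G) with hN
  have h8 : orderOf (g ^ 2) = 8 := by rw [orderOf_pow' g (by norm_num), hg]; rfl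
  have hz : cC (g ^ 8) = 192 := by
    rw [show g ^ 8 = (g ^ 2) ^ 4 by rw [← pow_mul]]
    exact fourth_z h h8
  have hC3 : ¬ 3 ∣ cC g := fun h3 => by
    obtain ⟨⟨x, hx⟩, hord⟩ := exists_prime_orderOf_dvd_card' (G := centralizer ({g} : Set G)) 3 h3
    rw [Subgroup.orderOf_mk] at hord
    have h48 : orderOf (x * g) = 48 := by
      rw [Commute.orderOf_mul_eq_mul_orderOf_of_coprime (mem_centralizer_singleton_iff.mp hx)
        (by rw [hord, hg]; norm_num), hord, hg]
    have := order_cases h h11 (x * g)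
    rw [h48] at this
    simp at this
  have hC : cC g ∣ 64 := by
    have hle : centralizer ({g} : Set G) ≤ centralizer ({g ^ 8} : Set G) := fun x hx =>
      mem_centralizer_singleton_iff.mpr
        ((show Commute x g from mem_centralizer_singleton_iff.mp hx).pow_right 8).eq
    have hd : cC g ∣ 64 * 3 := by
      rw [show (64 * 3 : ℕ) = cC (g ^ 8) from hz.symm]
      exact card_dvd_of_le hle
    exact ((Nat.Prime.coprime_iff_not_dvd Nat.prime_three).mpr hC3).symm.dvd_of_dvd_mul_right hd
  have hNd : Nat.card N ∣ 64 := by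
    let φ : N →* MulAut Q := Subgroup.normalizerMonoidHom Q
    have hk : φ.ker = (centralizer (Q : Set G)).subgroupOf N :=
      Subgroup.normalizerMonoidHom_ker _
    have hcard : Nat.card φ.ker = cC g := by
      rw [hk, Nat.card_congr (subgroupOfEquivOfLe (centralizer_le_normalizer _)).toEquiv, hQ,
        zpowers_eq_closure, centralizer_closure]
      rfl
    have hr : φ.ker.index ∣ 8 := by
      rw [Subgroup.index_ker, show 8 = Nat.card (MulAut Q) by
        rw [IsCyclic.card_mulAut, hQ, Nat.card_zpowers, hg]; decide]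
      exact card_subgroup_dvd_card _
    have h512 : Nat.card N ∣ 512 := by
      rw [← φ.ker.card_mul_index, hcard]
      exact Nat.mul_dvd_mul hC hr
    have hG : Nat.card N ∣ 95040 := h.card ▸ card_subgroup_dvd_card _
    have := Nat.dvd_gcd h512 hG
    rwa [show Nat.gcd 512 95040 = 64 by rfl] at this
  have hidx : 1485 ≤ N.index := by
    have := N.card_mul_index
    rw [h.card] at this
    have hle := Nat.le_of_dvd (by norm_num) hNd
    nlinarith
  have hmem : ∀ (c : G ⧸ N) (k : gens 16),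
      c.out * g ^ (k : ℕ) * c.out⁻¹ ∈ ordSet G 16 := fun c k => by
    rw [mem_ordSet, ← MulAut.conj_apply, (MulAut.conj c.out).orderOf_eq]
    exact orderOf_pow_gens hg k.2
  have hgen : ∀ k ∈ gens 16, zpowers (g ^ k) = Q := fun k hk =>
    eq_of_le_of_card_ge (zpowers_le.mpr (pow_mem (mem_zpowers g) k))
      (by rw [hQ, Nat.card_zpowers, Nat.card_zpowers, orderOf_pow_gens hg hk, hg])
  let F : (G ⧸ N) × gens 16 → ordSet G 16 := fun p => ⟨_, hmem p.1 p.2⟩
  have hinj : Function.Injective F := by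
    rintro ⟨c, ⟨k, hk⟩⟩ ⟨c', ⟨k', hk'⟩⟩ he
    have he' : c.out * g ^ k * c.out⁻¹ = c'.out * g ^ k' * c'.out⁻¹ := congrArg Subtype.val he
    set d := c'.out⁻¹ * c.out with hd
    have hdk : d * g ^ k * d⁻¹ = g ^ k' := by
      calc d * g ^ k * d⁻¹ = c'.out⁻¹ * (c.out * g ^ k * c.out⁻¹) * c'.out := by rw [hd]; group
        _ = g ^ k' := by rw [he']; group
    have hdN : d ∈ N := by
      rw [hN, mem_normalizer_iff]
      have hmap : Q.map (MulAut.conj d).toMonoidHom = Q := by
        conv_lhs => rw [← hgen k hk]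
        rw [MonoidHom.map_zpowers]
        show zpowers (d * g ^ k * d⁻¹) = Q
        rw [hdk, hgen k' hk']
      intro x
      constructor
      · intro hx
        have : d * x * d⁻¹ ∈ Q.map (MulAut.conj d).toMonoidHom := ⟨x, hx, rfl⟩
        rwa [hmap] at this
      · intro hx
        rw [← hmap] at hx
        obtain ⟨y, hy, hy'⟩ := hx
        have : y = x := mul_left_cancel (mul_right_cancel hy')
        rwa [← this]
    have hcc : c = c' := by
      rw [← c.out_eq', ← c'.out_eq']
      exact (QuotientGroup.eq.mpr hdN).symm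
    subst hcc
    rw [mul_right_cancel_iff, mul_left_cancel_iff] at he'
    have hkk := pow_inj_mod.mp he'
    rw [hg, Nat.mod_eq_of_lt (mem_gens.mp hk).1, Nat.mod_eq_of_lt (mem_gens.mp hk').1] at hkk
    simp [hkk]
  have hle := Nat.card_le_card_of_injective F hinj
  rw [Nat.card_prod, Nat.card_eq_finsetCard, Nat.card_eq_finsetCard, card_ordSet, card_gens,
    show Nat.totient 16 = 8 by decide, ← Subgroup.index] at hle
  have := (sum_A h h11).1
  nlinarith

include h h11 in
theorem spec_four_eight :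
    (∀ g : G, orderOf g ∈ ({1, 2, 3, 4, 5, 6, 8, 10, 11} : Finset ℕ)) ∧
      sN G 4 = 5940 ∧ sN G 8 = 23760 := by
  have hno : ∀ n : ℕ, n = 16 ∨ n = 32 ∨ n = 64 → ∀ g : G, orderOf g ≠ n := by
    intro n hn g hg
    refine no_sixteen h h11 (g ^ (n / 16)) ?_
    rcases hn with rfl | rfl | rfl <;> rw [orderOf_pow' g (by norm_num), hg] <;> rfl
  have h0 : ∀ n : ℕ, n = 16 ∨ n = 32 ∨ n = 64 → sN G n = 0 := fun n hn => by
    rw [← card_ordSet, Finset.card_eq_zero, Finset.eq_empty_iff_forall_notMem]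
    exact fun g hg => hno n hn g (mem_ordSet.mp hg)
  refine ⟨fun g => ?_, ?_⟩
  · have hm := order_cases h h11 g
    have e1 := hno 16 (by norm_num) g
    have e2 := hno 32 (by norm_num) g
    have e3 := hno 64 (by norm_num) g
    simp only [Finset.mem_insert, Finset.mem_singleton] at hm ⊢
    omega
  · obtain ⟨a, b⟩ := sum_A h h11
    rw [h0 16 (by norm_num), h0 64 (by norm_num)] at a
    rw [h0 32 (by norm_num)] at b
    exact ⟨by omega, by omega⟩

end

/-- A simple group of order 95040 has the class data of `M₁₂`. -/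
theorem counts_of_isM12 {G : Type u} [Group G] [Finite G] (hG : Cfsg.IsM12 G) : Counts G := by
  classical
  have := Fintype.ofFinite G
  have := hG.1
  obtain ⟨R⟩ := exists_rows hG
  have hI := involData hG R
  have hT := threeCols hG R
  have hL := threeLocal hG hI hT
  have hsyl := OrderEleven.sylow11_normalizer hG
  obtain ⟨hfive, hnorm⟩ := OrderFive.five_data hG
  have h : Hyp R :=
    ⟨hG.2, hfive, hI, hT, hL, genTools hG, OrderInvol.s2 hG, OrderInvol.s5 hG, OrderInvol.s10 hG,
      OrderInvol.s11 hG⟩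
  have h11 : ∀ a : G, orderOf a = 11 → centralizer ({a} : Set G) ≤ zpowers a :=
    fun _ ha => centralizer_le_of_eleven hG.2 hsyl ha
  obtain ⟨hspec, h4, h8⟩ := spec_four_eight h h11
  obtain ⟨h54, h36, -, -, -, -, -, hy⟩ := E_facts h
  obtain ⟨y, hy3, hyC, -⟩ := hy
  refine
    { card := hG.2
      simple := hG.1
      sylow11 := hsyl
      five := hfive
      five_norm := hnorm
      invol := hI.invol
      exists_z := hI.exists_z
      exists_u := hI.exists_u
      invol_conj := hI.invol_conj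
      three := fun x hx => three_class h hx
      exists_x := hL.exists_x
      exists_y := ⟨y, hy3, hyC⟩
      three_conj := fun a b ha hb he => ?_
      cent54 := fun x t hx hxC ht hc => hL.x_invol x t hx hxC ht hc
      cent36 := fun x t hx hxC ht hc => hL.y_invol x t hx hxC ht hc
      five_comm := hI.five_comm
      z_three := fun z k hz hzC hk hzk => ?_
      no_order := hspec
      count_four := h4
      count_eight := h8 }
  · rcases three_class h ha with e | e
    · exact isConj_of_card_cSet (n := 3) (C := 54) (by norm_num) (by rw [h54, h.card])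
        (mem_cSet.mpr ⟨ha, e⟩) (mem_cSet.mpr ⟨hb, he.symm.trans e⟩)
    · exact isConj_of_card_cSet (n := 3) (C := 36) (by norm_num) (by rw [h36, h.card])
        (mem_cSet.mpr ⟨ha, e⟩) (mem_cSet.mpr ⟨hb, he.symm.trans e⟩)
  · have hkC : cC k = 54 := (three_class h hk).resolve_right fun e => by
      have := hL.y_invol k z hk e hz hzk.symm
      omega
    refine Nat.dvd_antisymm ?_ ?_
    · have := Nat.dvd_gcd (inf_cent_dvd z k).1 (inf_cent_dvd z k).2
      rwa [hzC, hkC, show Nat.gcd 192 54 = 6 by rfl] at this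
    · refine dvd_trans (dvd_of_eq ?_) (orderOf_dvd_inf (g := z * k)
        (show Commute z (z * k) from (Commute.refl z).mul_right hzk).eq
        (show Commute k (z * k) from (show Commute z k from hzk).symm.mul_right (Commute.refl k)).eq)
      rw [Commute.orderOf_mul_eq_mul_orderOf_of_coprime hzk (by rw [hz, hk]; norm_num), hz, hk]

end Cfsg.Agent.M12Uniq.OrderRest
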