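import Cfsg.Agent.M12Uniq.OrderRestSums
import Cfsg.Agent.Lib.Involution.Counting

/-!
# The row norm of the pair of characters of degree 16

`threes`: one class of elements of order 3 with centraliser 54, one with 36, and the elements of
order 6.
-/

set_option autoImplicit false
set_option linter.unusedSectionVars false

open scoped ComplexConjugate

namespace Cfsg.Agent.M12Uniq.OrderRest

open Subgroup
open Cfsg.Agent.SmallGroups.SelfCent.Setup (deg deg_spec triv deg_triv)

universe u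

variable {G : Type u} [Group G] [Fintype G]

/-- The inputs of the row norms. -/
structure Hyp (R : Rows G) : Prop where
  card : Nat.card G = 95040
  five : ∀ q : G, orderOf q = 5 → cC q = 10
  inv : InvolData R
  cols : ThreeCols R
  loc : ThreeLocal R
  tools : GenTools G
  s2 : sN G 2 = 891
  s5 : sN G 5 = 9504
  s10 : sN G 10 = 9504
  s11 : sN G 11 = 17280

theorem value_one (χ : Cfsg.IrrCharacter G) : (χ : G → ℂ) 1 = (deg χ : ℂ) := (deg_spec χ).2.2

theorem cC_inv (x : G) : cC x⁻¹ = cC x := by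
  have h : centralizer ({x⁻¹} : Set G) = centralizer ({x} : Set G) := by
    ext g
    rw [mem_centralizer_singleton_iff, mem_centralizer_singleton_iff]
    exact ⟨fun hh => (show Commute g x by simpa using (show Commute g x⁻¹ from hh).inv_right).eq,
      fun hh => ((show Commute g x from hh).inv_right).eq⟩
  rw [cC, cC, h]

theorem cC_conj {a b : G} (h : IsConj a b) : cC a = cC b := by
  have hcl : Nat.card {y : G // IsConj a y} = Nat.card {y : G // IsConj b y} :=
    Nat.card_congr (Equiv.subtypeEquivRight fun y => ⟨fun hy => h.symm.trans hy, fun hy => h.trans hy⟩)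
  have ha := Involution.card_isConj_mul_card_centralizer a
  rw [hcl, ← Involution.card_isConj_mul_card_centralizer b] at ha
  exact Nat.eq_of_mul_eq_mul_left (Nat.card_pos_iff.mpr ⟨⟨⟨b, IsConj.refl b⟩⟩, inferInstance⟩) ha

theorem orderOf_conj_eq {a b : G} (h : IsConj a b) : orderOf a = orderOf b := by
  obtain ⟨c, rfl⟩ := isConj_iff.mp h
  exact ((MulAut.conj c).orderOf_eq a).symm

theorem value_conj (χ : Cfsg.IrrCharacter G) {a b : G} (h : IsConj a b) :
    (χ : G → ℂ) b = (χ : G → ℂ) a := by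
  obtain ⟨c, rfl⟩ := isConj_iff.mp h
  exact CharCore.irr_isClassFunction χ a c

/-- The elements of order `n` with centralisers of order `C`. -/
noncomputable def cSet (G : Type u) [Group G] [Fintype G] (n C : ℕ) : Finset G := by
  classical exact (ordSet G n).filter fun g => cC g = C

theorem mem_cSet {n C : ℕ} {g : G} : g ∈ cSet G n C ↔ orderOf g = n ∧ cC g = C := by
  simp [cSet, mem_ordSet]

/-- A class is contained in its set. -/
theorem card_le_cSet_mul {n C : ℕ} {x : G} (hx : orderOf x = n) (hC : cC x = C) :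
    Nat.card G ≤ (cSet G n C).card * C := by
  classical
  rw [← Involution.card_isConj_mul_card_centralizer x, show Nat.card (centralizer ({x} : Set G)) = C
    from hC]
  refine Nat.mul_le_mul_right _ ?_
  rw [Nat.card_eq_fintype_card, Fintype.card_subtype]
  refine Finset.card_le_card fun y hy => ?_
  have hy' : IsConj x y := (Finset.mem_filter.mp hy).2
  exact mem_cSet.mpr ⟨(orderOf_conj_eq hy').symm.trans hx, (cC_conj hy').symm.trans hC⟩

/-- If the set is no bigger than a class, it is one class. -/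
theorem isConj_of_card_cSet {n C : ℕ} (hC0 : 0 < C) (h : (cSet G n C).card * C ≤ Nat.card G)
    {x y : G} (hx : x ∈ cSet G n C) (hy : y ∈ cSet G n C) : IsConj x y := by
  classical
  obtain ⟨hxn, hxC⟩ := mem_cSet.mp hx
  have hsub : (Finset.univ.filter fun g => IsConj x g) ⊆ cSet G n C := fun g hg => by
    have hg' : IsConj x g := (Finset.mem_filter.mp hg).2
    exact mem_cSet.mpr ⟨(orderOf_conj_eq hg').symm.trans hxn, (cC_conj hg').symm.trans hxC⟩
  have hcl := Involution.card_isConj_mul_card_centralizer x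
  rw [Nat.card_eq_fintype_card, Fintype.card_subtype,
    show Nat.card (centralizer ({x} : Set G)) = C from hxC] at hcl
  have heq := Finset.eq_of_subset_of_card_le hsub (Nat.le_of_mul_le_mul_right (hcl ▸ h) hC0)
  exact (Finset.mem_filter.mp (heq ▸ hy)).2

theorem card_cSet_of_conj {n C : ℕ} (h : ∀ x y : G, orderOf x = n → orderOf y = n → cC x = C →
    cC y = C → IsConj x y) {x : G} (hx : orderOf x = n) (hC : cC x = C) :
    (cSet G n C).card * C = Nat.card G := by
  classical
  rw [← Involution.card_isConj_mul_card_centralizer x, show Nat.card (centralizer ({x} : Set G)) = C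
    from hC, Nat.card_eq_fintype_card, Fintype.card_subtype]
  congr 2
  ext y
  rw [mem_cSet, Finset.mem_filter]
  exact ⟨fun hy => ⟨Finset.mem_univ _, h x y hx hy.1 hC hy.2⟩, fun hy =>
    ⟨(orderOf_conj_eq hy.2).symm.trans hx, (cC_conj hy.2).symm.trans hC⟩⟩

/-- Sums over disjoint orders are bounded by the whole row. -/
theorem budget (χ : G → ℂ) (L : Finset ℕ) :
    ∑ n ∈ L, sqOn χ (ordSet G n) ≤ sqOn χ Finset.univ := by
  classical
  simp only [sqOn]
  rw [← Finset.sum_biUnion]
  · exact Finset.sum_le_univ_sum_of_nonneg fun _ => Complex.normSq_nonneg _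
  · intro a _ b _ hab
    exact Finset.disjoint_left.mpr fun g ha hb =>
      hab ((mem_ordSet.mp ha).symm.trans (mem_ordSet.mp hb))

/-- A character vanishes where its sum of squares does. -/
theorem eq_zero_of_sqOn_le {χ : G → ℂ} {S : Finset G} (h : sqOn χ S ≤ 0) {g : G} (hg : g ∈ S) :
    χ g = 0 :=
  Complex.normSq_eq_zero.mp ((Finset.sum_eq_zero_iff_of_nonneg fun _ _ =>
    Complex.normSq_nonneg _).mp (le_antisymm h (sqOn_nonneg χ S)) g hg)

theorem sqOn_const {χ : G → ℂ} {S : Finset G} {c : ℝ}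
    (h : ∀ g ∈ S, Complex.normSq (χ g) = c) : sqOn χ S = S.card * c := by
  rw [sqOn, Finset.sum_congr rfl h, Finset.sum_const, nsmul_eq_mul]

theorem sqOn_one (χ : Cfsg.IrrCharacter G) :
    sqOn (χ : G → ℂ) (ordSet G 1) = (deg χ : ℝ) ^ 2 := by
  have h : ordSet G 1 = {1} := by ext g; simp [mem_ordSet, orderOf_eq_one_iff]
  rw [sqOn, h, Finset.sum_singleton, value_one, Complex.normSq_natCast, sq]

variable {R : Rows G}

/-- Elements of order 6 over an element of order 3 with centraliser 36. -/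
noncomputable def ySix (G : Type u) [Group G] [Fintype G] : Finset G := by
  classical exact (ordSet G 6).filter fun g => cC (g ^ 2) = 36

theorem mem_ySix {g : G} : g ∈ ySix G ↔ orderOf g = 6 ∧ cC (g ^ 2) = 36 := by
  simp [ySix, mem_ordSet]

theorem ySix_closed : ∀ g ∈ ySix G, ∀ k ∈ gens 6, g ^ k ∈ ySix G := by
  intro g hg k hk
  obtain ⟨hg6, hgC⟩ := mem_ySix.mp hg
  refine mem_ySix.mpr ⟨orderOf_pow_gens hg6 hk, ?_⟩
  rw [show gens 6 = {1, 5} by decide, Finset.mem_insert, Finset.mem_singleton] at hk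
  rcases hk with rfl | rfl
  · rwa [pow_one]
  · rw [show (g ^ 5) ^ 2 = (g ^ 2)⁻¹ from ?_, cC_inv, hgC]
    refine eq_inv_of_mul_eq_one_left ?_
    rw [← pow_mul, ← pow_add, show 5 * 2 + 2 = 6 * 2 by norm_num, pow_mul, ← hg6,
      pow_orderOf_eq_one, one_pow]

theorem Hyp.card_two (h : Hyp R) :
    (cSet G 2 240).card = 396 ∧ (cSet G 2 192).card = 495 := by
  obtain ⟨u, hu, huC⟩ := h.inv.exists_u
  obtain ⟨z, hz, hzC⟩ := h.inv.exists_z
  have h1 := card_cSet_of_conj (n := 2) (C := 240)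
    (fun x y hx hy hxC hyC => h.inv.invol_conj x y hx hy (hxC.trans hyC.symm)) hu huC
  have h2 := card_cSet_of_conj (n := 2) (C := 192)
    (fun x y hx hy hxC hyC => h.inv.invol_conj x y hx hy (hxC.trans hyC.symm)) hz hzC
  rw [h.card] at h1 h2
  omega

theorem sum_ordSet_two (h : Hyp R) (f : G → ℝ) :
    ∑ g ∈ ordSet G 2, f g = ∑ g ∈ cSet G 2 240, f g + ∑ g ∈ cSet G 2 192, f g := by
  classical
  rw [← Finset.sum_union (Finset.disjoint_left.mpr fun g h1 h2 => by
    have := (mem_cSet.mp h1).2.symm.trans (mem_cSet.mp h2).2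
    omega)]
  refine Finset.sum_congr ?_ fun _ _ => rfl
  ext g
  simp only [Finset.mem_union, mem_cSet, mem_ordSet]
  exact ⟨fun hg => (h.inv.invol g hg).symm.imp (⟨hg, ·⟩) (⟨hg, ·⟩), fun hg => hg.elim (·.1) (·.1)⟩

/-- The value at an element of order 5 is congruent to the degree. -/
theorem genSum_five (h : Hyp R) {χ : G → ℂ} (hχ : Cfsg.IsCharacter G χ) {g : G}
    (hg : orderOf g = 5) : ∃ m : ℕ, χ 1 + genSum χ g = 5 * (m : ℂ) := by
  obtain ⟨m, hm⟩ := h.tools.mult_one χ g hχ
  refine ⟨m, ?_⟩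
  have := powSum_prime χ (by norm_num : Nat.Prime 5) hg
  rw [powSum, hm, hg] at this
  rw [← this]; norm_num

theorem isCharacter_irr (χ : Cfsg.IrrCharacter G) : Cfsg.IsCharacter G (χ : G → ℂ) :=
  CharCore.irr_isCharacter χ

theorem E_five (h : Hyp R) {g : G} (hg : orderOf g = 5) : genSum (R.E : G → ℂ) g ≠ 0 := by
  intro h0
  obtain ⟨m, hm⟩ := genSum_five h (isCharacter_irr R.E) hg
  rw [h0, value_one, R.deg_E₁, add_zero] at hm
  have : 16 = 5 * m := by exact_mod_cast hm
  omega

theorem pow_five_invol (h : Hyp R) {g : G} (hg : orderOf g = 10) :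
    orderOf (g ^ 5) = 2 ∧ cC (g ^ 5) = 240 := by
  have h5 : orderOf (g ^ 5) = 2 := by rw [orderOf_pow' g (by norm_num), hg]; rfl
  have h2 : orderOf (g ^ 2) = 5 := by rw [orderOf_pow' g (by norm_num), hg]; rfl
  exact ⟨h5, h.inv.five_comm _ _ h2 h5 (Commute.pow_pow (Commute.refl g) 2 5).eq⟩

theorem E_ten (h : Hyp R) {g : G} (hg : orderOf g = 10) : genSum (R.E : G → ℂ) g ≠ 0 := by
  intro h0
  obtain ⟨m, hm⟩ := h.tools.mult_one _ g (isCharacter_irr R.E)
  have hx := powSum_ten (R.E : G → ℂ) hg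
  rw [powSum, hm, hg, h0] at hx
  have h2 : orderOf (g ^ 2) = 5 := by rw [orderOf_pow' g (by norm_num), hg]; rfl
  obtain ⟨m', hm'⟩ := genSum_five h (isCharacter_irr R.E) h2
  obtain ⟨h5, h5C⟩ := pow_five_invol h hg
  rcases (h.inv.u_col _ h5 h5C).2.2 with ht | ht <;> rw [ht] at hx
  · have : ((10 * m : ℕ) : ℂ) = ((5 * m' + 4 : ℕ) : ℂ) := by
      push_cast; linear_combination hx + hm'
    have := Nat.cast_injective this
    omega
  · have : ((10 * m + 4 : ℕ) : ℂ) = ((5 * m' : ℕ) : ℂ) := by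
      push_cast; linear_combination hx + hm'
    have := Nat.cast_injective this
    omega

/-- The data at an element of order 6 over a 36-element. -/
theorem ySix_data (h : Hyp R) {g : G} (hg : g ∈ ySix G) :
    cC (g ^ 3) = 240 ∧ orderOf (g ^ 3) = 2 ∧ orderOf (g ^ 2) = 3 ∧ orderOf (g ^ 4) = 3 ∧
      cC (g ^ 4) = 36 ∧ (R.A : G → ℂ) (g ^ 4) = (R.A : G → ℂ) (g ^ 2) := by
  obtain ⟨hg6, hgC⟩ := mem_ySix.mp hg
  have h3 : orderOf (g ^ 3) = 2 := by rw [orderOf_pow' g (by norm_num), hg6]; rfl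
  have h2 : orderOf (g ^ 2) = 3 := by rw [orderOf_pow' g (by norm_num), hg6]; rfl
  have h4 : g ^ 4 = (g ^ 2)⁻¹ := by
    refine eq_inv_of_mul_eq_one_left ?_
    rw [← pow_add, ← pow_orderOf_eq_one g, hg6]
  refine ⟨h.loc.y_invol _ _ h2 hgC h3 (Commute.pow_pow (Commute.refl g) 2 3).eq, h3, h2,
    by rw [orderOf_pow' g (by norm_num), hg6]; rfl, by rw [h4, cC_inv, hgC], ?_⟩
  rw [h4, CharCore.irr_apply_inv, R.real_A]

/-- The value of the degree 16 character at an element with centraliser of order 36. -/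
theorem E_36 (h : Hyp R) {x : G} (hx : orderOf x = 3) (hC : cC x = 36) :
    (R.E : G → ℂ) x = 1 := by
  rcases h.cols.cols x hx with ⟨e, -⟩ | ⟨-, -, -, -, e⟩ | ⟨-, -, -, -, e⟩ | ⟨e, -⟩ | ⟨e | e, -⟩
  all_goals first | exact e | omega

theorem E_six (h : Hyp R) {g : G} (hg : g ∈ ySix G) : genSum (R.E : G → ℂ) g ≠ 0 := by
  intro h0
  obtain ⟨hg6, hgC⟩ := mem_ySix.mp hg
  obtain ⟨h3C, h3, h2, h4, h4C, -⟩ := ySix_data h hg
  obtain ⟨m, hm⟩ := h.tools.mult_one _ g (isCharacter_irr R.E)
  have hx := powSum_six (R.E : G → ℂ) hg6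
  rw [powSum, hm, hg6, h0, value_one, R.deg_E₁, E_36 h h2 hgC, E_36 h h4 h4C] at hx
  rcases (h.inv.u_col _ h3 h3C).2.2 with ht | ht <;> rw [ht] at hx
  · have : ((6 * m : ℕ) : ℂ) = ((22 : ℕ) : ℂ) := by push_cast; linear_combination hx
    have := Nat.cast_injective this
    omega
  · have : ((6 * m : ℕ) : ℂ) = ((14 : ℕ) : ℂ) := by push_cast; linear_combination hx
    have := Nat.cast_injective this
    omega

theorem E_pair_eleven (h : Hyp R) {g : G} (hg : orderOf g = 11) :
    genSum ((R.block.f₁ : G → ℂ) + (R.block.f₂ : G → ℂ)) g ≠ 0 := by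
  intro h0
  obtain ⟨m, hm⟩ := h.tools.mult_one _ g
    (CharCore.isCharacter_add (isCharacter_irr R.block.f₁) (isCharacter_irr R.block.f₂))
  have hx := powSum_prime ((R.block.f₁ : G → ℂ) + (R.block.f₂ : G → ℂ))
    (by norm_num : Nat.Prime 11) hg
  rw [powSum, hm, hg, h0, Pi.add_apply, value_one, value_one, R.deg_E₁, R.deg_E₂, add_zero] at hx
  have : ((11 * m : ℕ) : ℂ) = ((32 : ℕ) : ℂ) := by push_cast; linear_combination hx
  have := Nat.cast_injective this
  omega

theorem sqOn_pair (R : Rows G) {n : ℕ} (hn : n ≠ 11) :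
    sqOn ((R.block.f₁ : G → ℂ) + (R.block.f₂ : G → ℂ)) (ordSet G n) =
      4 * sqOn (R.E : G → ℂ) (ordSet G n) := by
  rw [sqOn, sqOn, Finset.mul_sum]
  refine Finset.sum_congr rfl fun g hg => ?_
  rw [Pi.add_apply, R.block.eq_f g (by rw [mem_ordSet.mp hg]; exact hn), ← two_mul,
    Complex.normSq_mul]
  norm_num

/-- The bound on the row of the characters of degree 16. -/
theorem E_budget (h : Hyp R) (L : Finset ℕ) (hL : 11 ∉ L) :
    ∑ n ∈ L, sqOn (R.E : G → ℂ) (ordSet G n) ≤ 43200 := by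
  classical
  have hne : R.block.f₁ ≠ R.block.f₂ := by
    have := R.block.nodup
    simp only [List.nodup_cons, List.mem_cons, not_or] at this
    exact this.2.1.1
  have hch := CharCore.isCharacter_add (isCharacter_irr R.block.f₁) (isCharacter_irr R.block.f₂)
  have h11 := card_le_sqOn h.tools hch (ordSet G 11) 11 (by norm_num)
    (fun g hg => mem_ordSet.mp hg) pow_mem_ordSet (fun g hg => E_pair_eleven h (mem_ordSet.mp hg))
  rw [card_ordSet, h.s11] at h11
  have hb := budget ((R.block.f₁ : G → ℂ) + (R.block.f₂ : G → ℂ)) (insert 11 L)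
  rw [sqOn_univ_add hne, h.card, Finset.sum_insert hL,
    Finset.sum_congr rfl fun n hn => sqOn_pair R (ne_of_mem_of_not_mem hn hL), ← Finset.mul_sum]
    at hb
  norm_num at h11 hb ⊢
  linarith

/-- The row of the degree 16 character at the elements of order 3. -/
theorem E_three (h : Hyp R) :
    ((4 * (cSet G 3 54).card + (cSet G 3 36).card + 4 * (cSet G 3 72).card +
      (cSet G 3 9).card + (cSet G 3 18).card : ℕ) : ℝ) ≤ sqOn (R.E : G → ℂ) (ordSet G 3) := by
  classical
  have hval : ∀ C : ℕ, ∀ g ∈ cSet G 3 C, ∀ c : ℝ,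
      (C = 54 ∨ C = 72) ∧ c = 4 ∨ (C = 9 ∨ C = 18 ∨ C = 36) ∧ c = 1 →
      Complex.normSq ((R.E : G → ℂ) g) = c := by
    intro C g hg c hc
    obtain ⟨hg3, hgC⟩ := mem_cSet.mp hg
    rcases h.cols.cols g hg3 with ⟨e, -, -, -, v⟩ | ⟨e, -, -, -, v⟩ | ⟨e, -, -, -, v⟩ |
      ⟨e, -, -, -, v⟩ | ⟨e, -, -, -, v⟩ <;> rw [v] <;> rcases hc with ⟨hC, rfl⟩ | ⟨hC, rfl⟩ <;>
      first | (exfalso; omega) | norm_num [Complex.normSq]
  have hdis : ∀ C C' : ℕ, C ≠ C' → Disjoint (cSet G 3 C) (cSet G 3 C') := fun C C' hne =>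
    Finset.disjoint_left.mpr fun g h1 h2 => hne ((mem_cSet.mp h1).2.symm.trans (mem_cSet.mp h2).2)
  have hsub : ({54, 36, 72, 9, 18} : Finset ℕ).biUnion (cSet G 3) ⊆ ordSet G 3 := fun g hg => by
    obtain ⟨C, -, hgC⟩ := Finset.mem_biUnion.mp hg
    exact mem_ordSet.mpr (mem_cSet.mp hgC).1
  refine le_trans (le_of_eq ?_)
    (Finset.sum_le_sum_of_subset_of_nonneg hsub fun _ _ _ => Complex.normSq_nonneg _)
  rw [Finset.sum_biUnion fun a _ b _ hab => hdis a b hab]
  simp only [Finset.sum_insert, Finset.sum_singleton, Finset.mem_insert, Finset.mem_singleton,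
    show (54 : ℕ) ≠ 36 from by norm_num, show (54 : ℕ) ≠ 72 from by norm_num,
    show (54 : ℕ) ≠ 9 from by norm_num, show (54 : ℕ) ≠ 18 from by norm_num,
    show (36 : ℕ) ≠ 72 from by norm_num, show (36 : ℕ) ≠ 9 from by norm_num,
    show (36 : ℕ) ≠ 18 from by norm_num, show (72 : ℕ) ≠ 9 from by norm_num,
    show (72 : ℕ) ≠ 18 from by norm_num, show (9 : ℕ) ≠ 18 from by norm_num, or_false, not_false_iff]
  change _ = sqOn _ _ + (sqOn _ _ + (sqOn _ _ + (sqOn _ _ + sqOn _ _)))
  rw [sqOn_const fun g hg => hval 54 g hg 4 (by norm_num),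
    sqOn_const fun g hg => hval 36 g hg 1 (by norm_num),
    sqOn_const fun g hg => hval 72 g hg 4 (by norm_num),
    sqOn_const fun g hg => hval 9 g hg 1 (by norm_num),
    sqOn_const fun g hg => hval 18 g hg 1 (by norm_num)]
  push_cast
  ring

theorem card_ySix_ge (h : Hyp R) : 3 * (cSet G 3 36).card ≤ (ySix G).card := by
  classical
  have h6 : (ySix G).card = Nat.card {g : G // orderOf g = 6 ∧ cC (g ^ 2) = 36} := by
    rw [← Nat.card_eq_finsetCard]
    exact Nat.card_congr (Equiv.subtypeEquivRight fun g => mem_ySix)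
  rw [h6, card_six fun g => cC g = 36, Nat.card_sigma]
  have hY : (cSet G 3 36).card = Fintype.card {y : G // orderOf y = 3 ∧ cC y = 36} := by
    rw [Fintype.card_subtype]
    congr 1
    ext g
    simp [mem_cSet]
  rw [hY, mul_comm, ← smul_eq_mul, ← Finset.card_univ, ← Finset.sum_const]
  exact Finset.sum_le_sum fun y _ => h.loc.y_card y y.2.1 y.2.2

/-- The degree 16 row determines the elements of order 3. -/
theorem E_facts (h : Hyp R) :
    (cSet G 3 54).card = 1760 ∧ (cSet G 3 36).card = 2640 ∧ (cSet G 3 72).card = 0 ∧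
      (cSet G 3 9).card = 0 ∧ (cSet G 3 18).card = 0 ∧ (ySix G).card = 7920 ∧
      (∀ g : G, orderOf g ∉ ({1, 2, 3, 5, 6, 10, 11} : Finset ℕ) → (R.E : G → ℂ) g = 0) ∧
      ∃ y : G, orderOf y = 3 ∧ cC y = 36 ∧ (R.A : G → ℂ) y = 3 := by
  classical
  set T := fun n => sqOn (R.E : G → ℂ) (ordSet G n) with hT
  have hT1 : T 1 = 256 := by
    show sqOn (R.E : G → ℂ) (ordSet G 1) = 256
    rw [sqOn_one, R.deg_E₁]
    norm_num
  have hT2 : T 2 = 6336 := by
    show ∑ g ∈ ordSet G 2, _ = _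
    rw [sum_ordSet_two h]
    change sqOn _ _ + sqOn _ _ = _
    rw [sqOn_const (c := 16) fun g hg => ?_, sqOn_const (c := 0) fun g hg => ?_,
      h.card_two.1, h.card_two.2]
    · norm_num
    · obtain ⟨hg2, hgC⟩ := mem_cSet.mp hg
      rw [(h.inv.z_col g hg2 hgC).2.2.2, map_zero]
    · obtain ⟨hg2, hgC⟩ := mem_cSet.mp hg
      rcases (h.inv.u_col g hg2 hgC).2.2 with e | e <;> rw [e] <;> norm_num [Complex.normSq]
  have hT5 : (9504 : ℝ) ≤ T 5 := by
    have := card_le_sqOn h.tools (isCharacter_irr R.E) (ordSet G 5) 5 (by norm_num)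
      (fun g hg => mem_ordSet.mp hg) pow_mem_ordSet (fun g hg => E_five h (mem_ordSet.mp hg))
    rw [card_ordSet, h.s5] at this
    exact_mod_cast this
  have hT10 : (9504 : ℝ) ≤ T 10 := by
    have := card_le_sqOn h.tools (isCharacter_irr R.E) (ordSet G 10) 10 (by norm_num)
      (fun g hg => mem_ordSet.mp hg) pow_mem_ordSet (fun g hg => E_ten h (mem_ordSet.mp hg))
    rw [card_ordSet, h.s10] at this
    exact_mod_cast this
  have hT6 : ((ySix G).card : ℝ) ≤ T 6 :=
    (card_le_sqOn h.tools (isCharacter_irr R.E) (ySix G) 6 (by norm_num)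
      (fun g hg => (mem_ySix.mp hg).1) ySix_closed (fun g hg => E_six h hg)).trans
      (Finset.sum_le_sum_of_subset_of_nonneg (fun g hg => mem_ordSet.mpr (mem_ySix.mp hg).1)
        fun _ _ _ => Complex.normSq_nonneg _)
  have hT3 := E_three h
  have hsix := card_ySix_ge h
  have hbud : T 1 + T 2 + T 3 + T 5 + T 6 + T 10 ≤ 43200 := by
    have := E_budget h {1, 2, 3, 5, 6, 10} (by decide)
    simp only [Finset.sum_insert, Finset.mem_insert, Finset.mem_singleton, Finset.sum_singleton,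
      Nat.reduceEqDiff, or_false, not_false_iff] at this
    simp only [hT]
    linarith
  have hle : 4 * (cSet G 3 54).card + (cSet G 3 36).card + 4 * (cSet G 3 72).card +
      (cSet G 3 9).card + (cSet G 3 18).card + (ySix G).card ≤ 17600 := by
    have hh : ((4 * (cSet G 3 54).card + (cSet G 3 36).card + 4 * (cSet G 3 72).card +
        (cSet G 3 9).card + (cSet G 3 18).card + (ySix G).card : ℕ) : ℝ) ≤ ((17600 : ℕ) : ℝ) := by
      push_cast at hT3 ⊢
      simp only [hT] at hT1 hT2 hT5 hT6 hT10 hbud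
      linarith
    exact_mod_cast hh
  obtain ⟨x, hx, hxC⟩ := h.loc.exists_x
  have hx54 := card_le_cSet_mul hx hxC
  rw [h.card] at hx54
  obtain ⟨y, hy, hyC, hyA⟩ : ∃ y : G, orderOf y = 3 ∧ cC y = 36 ∧ (R.A : G → ℂ) y = 3 := by
    rcases h.loc.exists_y with h1 | ⟨y, y', hy, hyC, hy', hyC'⟩
    · exact h1
    · exfalso
      have h36 := card_le_cSet_mul hy hyC
      rw [h.card] at h36
      rcases hyC' with e | e <;> have h9 := card_le_cSet_mul hy' e <;> rw [h.card] at h9 <;> omega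
  have hy36 := card_le_cSet_mul hy hyC
  rw [h.card] at hy36
  refine ⟨by omega, by omega, by omega, by omega, by omega, by omega, fun g hg => ?_,
    y, hy, hyC, hyA⟩
  set n := orderOf g with hn
  simp only [Finset.mem_insert, Finset.mem_singleton, not_or] at hg
  have h11 : (11 : ℕ) ∉ ({n, 1, 2, 3, 5, 6, 10} : Finset ℕ) := by
    simp only [Finset.mem_insert, Finset.mem_singleton, not_or]
    exact ⟨fun e => hg.2.2.2.2.2.2 e.symm, by decide⟩
  have hb := E_budget h {n, 1, 2, 3, 5, 6, 10} h11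
  rw [Finset.sum_insert (by simp only [Finset.mem_insert, Finset.mem_singleton, not_or]; tauto)]
    at hb
  simp only [Finset.sum_insert, Finset.mem_insert, Finset.mem_singleton, Finset.sum_singleton,
    Nat.reduceEqDiff, or_false, not_false_iff] at hb
  have hlow : (17600 : ℝ) ≤ ((4 * (cSet G 3 54).card + (cSet G 3 36).card +
      4 * (cSet G 3 72).card + (cSet G 3 9).card + (cSet G 3 18).card + (ySix G).card : ℕ) : ℝ) := by
    exact_mod_cast (show 17600 ≤ _ by omega)
  refine eq_zero_of_sqOn_le (S := ordSet G n) ?_ (mem_ordSet.mpr hn.symm)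
  push_cast at hT3 hlow
  simp only [hT] at hT1 hT2 hT5 hT6 hT10
  linarith

end Cfsg.Agent.M12Uniq.OrderRest
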