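import Cfsg.Agent.M12Uniq.OrderRestDefs

/-!
# Sums of character values over elements of a given order
-/

set_option autoImplicit false
set_option linter.unusedSectionVars false

open scoped ComplexConjugate

namespace Cfsg.Agent.M12Uniq.OrderRest

open Subgroup
open Cfsg.Agent.SmallGroups.SelfCent.Setup (deg deg_spec triv deg_triv)

universe u

variable {G : Type u} [Group G] [Fintype G]

/-- The elements of order `n`. -/
noncomputable def ordSet (G : Type u) [Group G] [Fintype G] (n : ℕ) : Finset G := by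
  classical exact Finset.univ.filter fun g => orderOf g = n

theorem mem_ordSet {n : ℕ} {g : G} : g ∈ ordSet G n ↔ orderOf g = n := by
  simp [ordSet]

theorem card_ordSet (n : ℕ) : (ordSet G n).card = sN G n := by
  rw [sN, Nat.card_eq_fintype_card, Fintype.card_subtype, ordSet]

theorem mem_gens {n k : ℕ} : k ∈ gens n ↔ k < n ∧ k.Coprime n := by
  simp [gens]

theorem card_gens (n : ℕ) : (gens n).card = n.totient := by
  rw [Nat.totient_eq_card_coprime, gens]
  congr 1
  exact Finset.filter_congr fun k _ => Nat.coprime_comm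

theorem orderOf_pow_gens {n k : ℕ} {g : G} (hg : orderOf g = n) (hk : k ∈ gens n) :
    orderOf (g ^ k) = n := by
  subst hg
  exact Nat.Coprime.orderOf_pow (Nat.coprime_comm.mp (mem_gens.mp hk).2)

theorem pow_mem_ordSet {n : ℕ} : ∀ g ∈ ordSet G n, ∀ k ∈ gens n, g ^ k ∈ ordSet G n :=
  fun _ hg _ hk => mem_ordSet.mpr (orderOf_pow_gens (mem_ordSet.mp hg) hk)

/-- Summing over the generators does not change the sum over a union of sets of generators. -/
theorem sum_gens {M : Type*} [AddCommMonoid M] (S : Finset G) (n : ℕ)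
    (hS : ∀ g ∈ S, orderOf g = n) (hcl : ∀ g ∈ S, ∀ k ∈ gens n, g ^ k ∈ S) (f : G → M) :
    ∑ g ∈ S, ∑ k ∈ gens n, f (g ^ k) = n.totient • ∑ g ∈ S, f g := by
  classical
  rw [Finset.sum_comm, ← card_gens, ← Finset.sum_const]
  refine Finset.sum_congr rfl fun k hk => ?_
  have hinj : Set.InjOn (fun g : G => g ^ k) S := by
    intro a ha b hb hab
    have key : ∀ g ∈ S, g = (g ^ k) ^ Nat.gcdA k n := by
      intro g hg
      have h := Nat.gcd_eq_gcd_ab k n
      rw [(mem_gens.mp hk).2.gcd_eq_one, Nat.cast_one] at h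
      have hn : g ^ (n : ℤ) = 1 := by rw [zpow_natCast, ← hS g hg, pow_orderOf_eq_one]
      calc g = g ^ ((k : ℤ) * Nat.gcdA k n + (n : ℤ) * Nat.gcdB k n) := by rw [← h, zpow_one]
        _ = _ := by rw [zpow_add, zpow_mul, zpow_mul, hn, one_zpow, mul_one, zpow_natCast]
    rw [key a ha, key b hb]
    simp only at hab
    rw [hab]
  have himg : S.image (fun g => g ^ k) = S :=
    Finset.eq_of_subset_of_card_le (fun g hg => by
      obtain ⟨a, ha, rfl⟩ := Finset.mem_image.mp hg
      exact hcl a ha k hk) (Finset.card_image_of_injOn hinj).ge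
  conv_rhs => rw [← himg, Finset.sum_image hinj]

/-- The sum of the squares of the absolute values. -/
noncomputable def sqOn (χ : G → ℂ) (S : Finset G) : ℝ := ∑ g ∈ S, Complex.normSq (χ g)

theorem sqOn_nonneg (χ : G → ℂ) (S : Finset G) : 0 ≤ sqOn χ S :=
  Finset.sum_nonneg fun _ _ => Complex.normSq_nonneg _

theorem card_le_sqOn (hT : GenTools G) {χ : G → ℂ} (hχ : Cfsg.IsCharacter G χ) (S : Finset G)
    (n : ℕ) (hn : 0 < n) (hS : ∀ g ∈ S, orderOf g = n)
    (hcl : ∀ g ∈ S, ∀ k ∈ gens n, g ^ k ∈ S) (hne : ∀ g ∈ S, genSum χ g ≠ 0) :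
    (S.card : ℝ) ≤ sqOn χ S := by
  have h := sum_gens S n hS hcl fun g => Complex.normSq (χ g)
  rw [nsmul_eq_mul] at h
  have hle : ∑ _g ∈ S, (n.totient : ℝ) ≤ ∑ g ∈ S, ∑ k ∈ gens n, Complex.normSq (χ (g ^ k)) :=
    Finset.sum_le_sum fun g hg => by
      have := hT.totient_le χ g hχ (hne g hg)
      rwa [hS g hg] at this
  rw [Finset.sum_const, nsmul_eq_mul, h] at hle
  have hpos : (0 : ℝ) < n.totient := by exact_mod_cast Nat.totient_pos.mpr hn
  rw [mul_comm] at hle
  exact le_of_mul_le_mul_left hle hpos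

/-- In the case of equality every cyclic subgroup attains the bound. -/
theorem gens_eq_of_sqOn_le (hT : GenTools G) {χ : G → ℂ} (hχ : Cfsg.IsCharacter G χ)
    (S : Finset G) (n : ℕ) (hS : ∀ g ∈ S, orderOf g = n)
    (hcl : ∀ g ∈ S, ∀ k ∈ gens n, g ^ k ∈ S) (hne : ∀ g ∈ S, genSum χ g ≠ 0)
    (hle : sqOn χ S ≤ S.card) :
    ∀ g ∈ S, ∑ k ∈ gens n, Complex.normSq (χ (g ^ k)) = n.totient := by
  have h := sum_gens S n hS hcl fun g => Complex.normSq (χ g)
  rw [nsmul_eq_mul] at h
  have hge : ∀ g ∈ S, (n.totient : ℝ) ≤ ∑ k ∈ gens n, Complex.normSq (χ (g ^ k)) := fun g hg => by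
    have := hT.totient_le χ g hχ (hne g hg)
    rwa [hS g hg] at this
  have heq : ∑ _g ∈ S, (n.totient : ℝ) = ∑ g ∈ S, ∑ k ∈ gens n, Complex.normSq (χ (g ^ k)) := by
    refine le_antisymm (Finset.sum_le_sum hge) ?_
    rw [Finset.sum_const, nsmul_eq_mul, h, mul_comm (S.card : ℝ)]
    exact mul_le_mul_of_nonneg_left hle (Nat.cast_nonneg _)
  exact fun g hg => ((Finset.sum_eq_sum_iff_of_le hge).mp heq g hg).symm

/-- Cauchy's inequality on the generators. -/
theorem norm_genSum_sq_le (χ : G → ℂ) (g : G) :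
    Complex.normSq (genSum χ g) ≤
      (orderOf g).totient * ∑ k ∈ gens (orderOf g), Complex.normSq (χ (g ^ k)) := by
  simp only [Complex.normSq_eq_norm_sq]
  calc ‖genSum χ g‖ ^ 2 ≤ (∑ k ∈ gens (orderOf g), ‖χ (g ^ k)‖) ^ 2 :=
        pow_le_pow_left₀ (norm_nonneg _) (norm_sum_le _ _) 2
    _ ≤ _ := by rw [← card_gens]; exact sq_sum_le_card_mul_sum_sq

theorem abs_genSum_le {χ : G → ℂ} {g : G} {s : ℤ} (hs : genSum χ g = s)
    (h : ∑ k ∈ gens (orderOf g), Complex.normSq (χ (g ^ k)) ≤ ((orderOf g).totient : ℝ)) :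
    |s| ≤ (orderOf g).totient := by
  have h1 := (norm_genSum_sq_le χ g).trans (mul_le_mul_of_nonneg_left h (Nat.cast_nonneg _))
  rw [hs, Complex.normSq_intCast] at h1
  have h2 : s * s ≤ ((orderOf g).totient : ℤ) * (orderOf g).totient := by exact_mod_cast h1
  rw [abs_le]
  constructor <;> nlinarith

/-- The sum of the squares of an irreducible character. -/
theorem sqOn_univ (χ : Cfsg.IrrCharacter G) :
    sqOn (χ : G → ℂ) Finset.univ = (Nat.card G : ℝ) := by
  have h := CharCore.classInner_irr_self χ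
  rw [CharCore.classInner_def,
    inv_mul_eq_iff_eq_mul₀ (Nat.cast_ne_zero.mpr Nat.card_pos.ne'), mul_one] at h
  apply Complex.ofReal_injective
  rw [sqOn]
  push_cast
  rw [← h]
  exact Finset.sum_congr rfl fun g _ => (Complex.mul_conj _).symm

/-- The sum of the squares of a sum of two irreducible characters. -/
theorem sqOn_univ_add {χ ψ : Cfsg.IrrCharacter G} (hne : χ ≠ ψ) :
    sqOn ((χ : G → ℂ) + (ψ : G → ℂ)) Finset.univ = 2 * (Nat.card G : ℝ) := by
  have h : Cfsg.classInner ((χ : G → ℂ) + (ψ : G → ℂ)) ((χ : G → ℂ) + (ψ : G → ℂ)) = 2 := by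
    rw [CharCore.classInner_add_left, CharCore.classInner_add_right, CharCore.classInner_add_right,
      CharCore.classInner_irr_self, CharCore.classInner_irr_self,
      CharCore.classInner_irr_of_ne hne, CharCore.classInner_irr_of_ne (Ne.symm hne)]
    norm_num
  rw [CharCore.classInner_def,
    inv_mul_eq_iff_eq_mul₀ (Nat.cast_ne_zero.mpr Nat.card_pos.ne')] at h
  apply Complex.ofReal_injective
  rw [sqOn]
  push_cast
  rw [mul_comm (2 : ℂ), ← h]
  exact Finset.sum_congr rfl fun g _ => (Complex.mul_conj _).symm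

/-- A nontrivial irreducible character sums to zero. -/
theorem sum_univ {χ : Cfsg.IrrCharacter G} (hχ : χ ≠ triv) : ∑ g : G, (χ : G → ℂ) g = 0 := by
  have h := CharCore.classInner_irr_of_ne hχ
  rw [CharCore.classInner_def,
    inv_mul_eq_iff_eq_mul₀ (Nat.cast_ne_zero.mpr Nat.card_pos.ne'), mul_zero] at h
  simpa [triv] using h

/-- The sum over all powers. -/
noncomputable def powSum (χ : G → ℂ) (g : G) : ℂ :=
  ∑ k ∈ Finset.range (orderOf g), χ (g ^ k)

/-- The alternating sum over all powers. -/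
noncomputable def altSum (χ : G → ℂ) (g : G) : ℂ :=
  ∑ k ∈ Finset.range (orderOf g), (-1) ^ k * χ (g ^ k)

theorem sum_range_two_mul {M : Type*} [AddCommMonoid M] (m : ℕ) (f : ℕ → M) :
    ∑ k ∈ Finset.range (2 * m), f k =
      ∑ i ∈ Finset.range m, f (2 * i) + ∑ i ∈ Finset.range m, f (2 * i + 1) := by
  induction m with
  | zero => simp
  | succ m ih =>
    rw [show 2 * (m + 1) = 2 * m + 1 + 1 by ring, Finset.sum_range_succ, Finset.sum_range_succ,
      ih, Finset.sum_range_succ (fun i => f (2 * i)), Finset.sum_range_succ (fun i => f (2 * i + 1))]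
    abel

/-- The powers of an element of 2-power order. -/
theorem two_pow_sums (χ : G → ℂ) {g : G} {j : ℕ} (hg : orderOf g = 2 ^ (j + 1)) :
    powSum χ g = powSum χ (g ^ 2) + genSum χ g ∧
      altSum χ g = powSum χ (g ^ 2) - genSum χ g := by
  have h2 : orderOf (g ^ 2) = 2 ^ j := by
    rw [orderOf_pow' g (by norm_num), hg, Nat.gcd_eq_right (by rw [pow_succ]; exact dvd_mul_left 2 _),
      pow_succ, Nat.mul_div_cancel _ (by norm_num)]
  have hodd : ∀ k : ℕ, k.Coprime (2 ^ (j + 1)) ↔ Odd k := fun k => by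
    rw [Nat.coprime_pow_right_iff (by omega), Nat.coprime_two_right]
  have hgen : genSum χ g = ∑ i ∈ Finset.range (2 ^ j), χ (g ^ (2 * i + 1)) := by
    rw [genSum, gens, hg, Finset.sum_filter, show 2 ^ (j + 1) = 2 * 2 ^ j by ring,
      sum_range_two_mul]
    rw [show (2 * 2 ^ j) = 2 ^ (j + 1) by ring]
    simp only [hodd, Nat.not_odd_iff_even.mpr (even_two_mul _), odd_two_mul_add_one, if_false,
      if_true, Finset.sum_const_zero, zero_add]
  constructor
  · rw [powSum, powSum, h2, hg, show 2 ^ (j + 1) = 2 * 2 ^ j by ring, sum_range_two_mul, hgen]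
    simp only [pow_mul]
  · rw [altSum, powSum, h2, hg, show 2 ^ (j + 1) = 2 * 2 ^ j by ring, sum_range_two_mul, hgen,
      sub_eq_add_neg, ← Finset.sum_neg_distrib]
    simp only [pow_add, pow_mul, neg_one_sq, one_pow, one_mul, pow_one, neg_mul]

theorem powSum_prime (χ : G → ℂ) {g : G} {p : ℕ} (hp : p.Prime) (hg : orderOf g = p) :
    powSum χ g = χ 1 + genSum χ g := by
  have h : gens p = (Finset.range p).erase 0 := by
    ext k
    simp only [mem_gens, Finset.mem_erase, Finset.mem_range]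
    refine ⟨fun h => ⟨fun h0 => ?_, h.1⟩, fun h => ⟨h.2, ?_⟩⟩
    · rw [h0, Nat.coprime_zero_left] at h; exact hp.ne_one h.2
    · exact (Nat.coprime_of_lt_prime h.1 h.2 hp).symm
  rw [powSum, genSum, hg, h, ← Finset.add_sum_erase _ _ (Finset.mem_range.mpr hp.pos), pow_zero]

theorem powSum_two (χ : G → ℂ) {g : G} (hg : orderOf g = 2) : powSum χ g = χ 1 + χ g := by
  rw [powSum, hg]; simp [Finset.sum_range_succ]

theorem powSum_six (χ : G → ℂ) {g : G} (hg : orderOf g = 6) :
    powSum χ g = χ 1 + genSum χ g + χ (g ^ 2) + χ (g ^ 3) + χ (g ^ 4) := by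
  rw [powSum, genSum, hg, show gens 6 = {1, 5} by decide]
  simp [Finset.sum_range_succ]
  abel

theorem powSum_ten (χ : G → ℂ) {g : G} (hg : orderOf g = 10) :
    powSum χ g = χ 1 + genSum χ g + χ (g ^ 5) + genSum χ (g ^ 2) := by
  have h2 : orderOf (g ^ 2) = 5 := by rw [orderOf_pow' g (by norm_num), hg]; rfl
  rw [powSum, genSum, genSum, hg, h2, show gens 10 = {1, 3, 7, 9} by decide,
    show gens 5 = {1, 2, 3, 4} by decide]
  simp [Finset.sum_range_succ, ← pow_mul]
  abel

/-- The values at the elements whose squares have a given property. -/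
theorem card_six (p : G → Prop) :
    Nat.card {g : G // orderOf g = 6 ∧ p (g ^ 2)} =
      Nat.card (Σ y : {y : G // orderOf y = 3 ∧ p y},
        {t : G // orderOf t = 2 ∧ (y : G) * t = t * (y : G)}) := by
  refine Nat.card_congr
    { toFun := fun g => ⟨⟨(g : G) ^ 2, ?_, g.2.2⟩, ⟨(g : G) ^ 3, ?_, ?_⟩⟩
      invFun := fun yt => ⟨(yt.1 : G) ^ 2 * (yt.2 : G), ?_, ?_⟩
      left_inv := ?_
      right_inv := ?_ }
  · rw [orderOf_pow' _ (by norm_num), g.2.1]; rfl
  · rw [orderOf_pow' _ (by norm_num), g.2.1]; rfl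
  · rw [← pow_add, ← pow_add]
  · rw [Commute.orderOf_mul_eq_mul_orderOf_of_coprime
      ((show Commute (yt.1 : G) yt.2 from yt.2.2.2).pow_left 2)] <;>
    rw [orderOf_pow' _ (by norm_num), yt.1.2.1] <;> norm_num [yt.2.2.1]
  · have hy : (yt.1 : G) ^ 3 = 1 := orderOf_dvd_iff_pow_eq_one.mp yt.1.2.1.dvd
    have ht : (yt.2 : G) ^ 2 = 1 := orderOf_dvd_iff_pow_eq_one.mp yt.2.2.1.dvd
    rw [((show Commute (yt.1 : G) yt.2 from yt.2.2.2).pow_left 2).mul_pow, ht, mul_one, ← pow_mul,
      show 2 * 2 = 3 + 1 from rfl, pow_succ, hy, one_mul]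
    exact yt.1.2.2
  · intro g
    apply Subtype.ext
    show ((g : G) ^ 2) ^ 2 * (g : G) ^ 3 = g
    rw [← pow_mul, ← pow_add, show 2 * 2 + 3 = 6 + 1 from rfl, pow_succ,
      orderOf_dvd_iff_pow_eq_one.mp g.2.1.dvd, one_mul]
  · rintro ⟨⟨y, hy3, hy⟩, ⟨t, ht2, hyt⟩⟩
    have hy' : y ^ 3 = 1 := by rw [← hy3, pow_orderOf_eq_one]
    have ht : t ^ 2 = 1 := by rw [← ht2, pow_orderOf_eq_one]
    have e2 : (y ^ 2 * t) ^ 2 = y := by
      rw [((show Commute y t from hyt).pow_left 2).mul_pow, ht, mul_one, ← pow_mul,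
        show 2 * 2 = 3 + 1 from rfl, pow_succ, hy', one_mul]
    have e3 : (y ^ 2 * t) ^ 3 = t := by
      rw [((show Commute y t from hyt).pow_left 2).mul_pow, ← pow_mul, show 2 * 3 = 3 * 2 from rfl,
        pow_mul, hy', one_pow, one_mul, pow_succ, ht, one_mul]
    refine Sigma.subtype_ext (Subtype.ext e2) e3

end Cfsg.Agent.M12Uniq.OrderRest
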