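import Cfsg.Agent.M12Uniq.OrderRestRows

/-!
# The row norm of the character of degree 45

`two_facts`: the spectrum and the numbers of elements of orders 4 and 8.
-/

set_option autoImplicit false
set_option linter.unusedSectionVars false

open scoped ComplexConjugate

namespace Cfsg.Agent.M12Uniq.OrderRest

open Subgroup
open Cfsg.Agent.SmallGroups.SelfCent.Setup (deg deg_spec triv deg_triv)

universe u

variable {G : Type u} [Group G] [Fintype G] {R : Rows G}

theorem A_54 (h : Hyp R) {x : G} (hx : orderOf x = 3) (hC : cC x = 54) :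
    (R.A : G → ℂ) x = 0 := by
  rcases h.cols.cols x hx with ⟨-, e, -⟩ | ⟨e, -⟩ | ⟨e, -⟩ | ⟨e, -⟩ | ⟨e | e, -⟩
  all_goals first | exact e | omega

theorem A_36 (h : Hyp R) {x : G} (hx : orderOf x = 3) (hC : cC x = 36) :
    (R.A : G → ℂ) x = 3 := by
  obtain ⟨-, h36, -, -, -, -, -, y, hy, hyC, hyA⟩ := E_facts h
  rw [value_conj R.A (isConj_of_card_cSet (n := 3) (C := 36) (by norm_num)
    (by rw [h36, h.card]) (mem_cSet.mpr ⟨hy, hyC⟩) (mem_cSet.mpr ⟨hx, hC⟩)), hyA]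

theorem three_class (h : Hyp R) {x : G} (hx : orderOf x = 3) : cC x = 54 ∨ cC x = 36 := by
  obtain ⟨-, -, h72, h9, h18, -⟩ := E_facts h
  have hno : ∀ C, (cSet G 3 C).card = 0 → cC x ≠ C := fun C h0 hC => by
    have := mem_cSet.mpr (⟨hx, hC⟩ : orderOf x = 3 ∧ cC x = C)
    rw [Finset.card_eq_zero.mp h0] at this
    exact Finset.notMem_empty _ this
  rcases h.cols.cols x hx with ⟨e, -⟩ | ⟨e, -⟩ | ⟨e, -⟩ | ⟨e, -⟩ | ⟨e | e, -⟩
  · exact Or.inl e
  · exact Or.inr e
  · exact Or.inr e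
  · exact absurd e (hno _ h72)
  · exact absurd e (hno _ h9)
  · exact absurd e (hno _ h18)

theorem s3_eq (h : Hyp R) : sN G 3 = 4400 := by
  classical
  obtain ⟨h54, h36, -⟩ := E_facts h
  have hsplit : ordSet G 3 = cSet G 3 54 ∪ cSet G 3 36 := by
    ext g
    simp only [Finset.mem_union, mem_ordSet, mem_cSet]
    exact ⟨fun hg => (three_class h hg).imp (⟨hg, ·⟩) (⟨hg, ·⟩), fun hg => hg.elim (·.1) (·.1)⟩
  rw [← card_ordSet, hsplit, Finset.card_union_of_disjoint (Finset.disjoint_left.mpr fun g h1 h2 => by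
    have := (mem_cSet.mp h1).2.symm.trans (mem_cSet.mp h2).2
    omega), h54, h36]

/-- Each element with centraliser of order 36 commutes with three involutions. -/
theorem y_three (h : Hyp R) {y : G} (hy : orderOf y = 3) (hC : cC y = 36) :
    Nat.card {t : G // orderOf t = 2 ∧ y * t = t * y} = 3 := by
  classical
  obtain ⟨-, h36, -, -, -, hY, -⟩ := E_facts h
  have h6 : (ySix G).card = Nat.card {g : G // orderOf g = 6 ∧ cC (g ^ 2) = 36} := by
    rw [← Nat.card_eq_finsetCard]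
    exact Nat.card_congr (Equiv.subtypeEquivRight fun g => mem_ySix)
  rw [hY, card_six fun g => cC g = 36, Nat.card_sigma] at h6
  have hge : ∀ z ∈ (Finset.univ : Finset {z : G // orderOf z = 3 ∧ cC z = 36}),
      3 ≤ Nat.card {t : G // orderOf t = 2 ∧ (z : G) * t = t * (z : G)} :=
    fun z _ => h.loc.y_card z z.2.1 z.2.2
  have hsum : ∑ _z : {z : G // orderOf z = 3 ∧ cC z = 36}, 3 = 7920 := by
    rw [Finset.sum_const, Finset.card_univ, smul_eq_mul, Fintype.card_subtype]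
    rw [show (Finset.univ.filter fun g : G => orderOf g = 3 ∧ cC g = 36) = cSet G 3 36 by
      ext g; simp [mem_cSet], h36]
  exact ((Finset.sum_eq_sum_iff_of_le hge).mp (hsum.trans h6) ⟨y, hy, hC⟩ (Finset.mem_univ _)).symm

theorem s6_eq (h : Hyp R) : sN G 6 = 23760 := by
  classical
  obtain ⟨h54, -, -, -, -, hY, -⟩ := E_facts h
  set X := (ordSet G 6).filter fun g => cC (g ^ 2) = 54 with hX
  have hsplit : ordSet G 6 = X ∪ ySix G := by
    ext g
    simp only [hX, Finset.mem_union, Finset.mem_filter, mem_ordSet, mem_ySix]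
    refine ⟨fun hg => ?_, fun hg => hg.elim (·.1) (·.1)⟩
    exact (three_class h (x := g ^ 2) (by rw [orderOf_pow' g (by norm_num), hg]; rfl)).imp
      (⟨hg, ·⟩) (⟨hg, ·⟩)
  have hcard : X.card = Nat.card {g : G // orderOf g = 6 ∧ cC (g ^ 2) = 54} := by
    rw [← Nat.card_eq_finsetCard]
    exact Nat.card_congr (Equiv.subtypeEquivRight fun g => by simp [hX, mem_ordSet])
  rw [card_six fun g => cC g = 54, Nat.card_sigma] at hcard
  rw [Finset.sum_congr rfl (fun (z : {y : G // orderOf y = 3 ∧ cC y = 54}) _ =>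
      h.loc.x_card (z : G) z.2.1 z.2.2), Finset.sum_const,
    Finset.card_univ, Fintype.card_subtype,
    show (Finset.univ.filter fun g : G => orderOf g = 3 ∧ cC g = 54) = cSet G 3 54 by
      ext g; simp [mem_cSet], h54] at hcard
  rw [← card_ordSet, hsplit, Finset.card_union_of_disjoint (Finset.disjoint_left.mpr fun g h1 h2 => by
    have := (Finset.mem_filter.mp h1).2.symm.trans (mem_ySix.mp h2).2
    omega), hcard, hY, smul_eq_mul]

/-- The orders that remain possible. -/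
theorem order_cases (h : Hyp R) (h11 : ∀ a : G, orderOf a = 11 → centralizer ({a} : Set G) ≤ zpowers a)
    (g : G) : orderOf g ∈ ({1, 2, 3, 4, 5, 6, 8, 10, 11, 16, 32, 64} : Finset ℕ) := by
  have hn : orderOf g ∣ 95040 := h.card ▸ orderOf_dvd_natCard g
  set n := orderOf g with hng
  have hn0 : n ≠ 0 := (orderOf_pos g).ne'
  have hsub : ∀ d, d ∣ n → ∃ a : G, orderOf a = d ∧ g ∈ centralizer ({a} : Set G) ∧
      a ∈ zpowers g := fun d hd => by
    refine ⟨g ^ (n / d), orderOf_pow_orderOf_div (hng ▸ hn0) (hng ▸ hd), ?_,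
      npow_mem_zpowers g _⟩
    exact mem_centralizer_singleton_iff.mpr (Commute.self_pow g _).eq
  by_cases h11n : 11 ∣ n
  · obtain ⟨a, ha, hga, -⟩ := hsub 11 h11n
    have hd := orderOf_dvd_natCard _ (h11 a ha hga)
    rw [Nat.card_zpowers, ha, ← hng] at hd
    have : n = 11 := Nat.dvd_antisymm hd h11n
    simp [this]
  by_cases h5n : 5 ∣ n
  · obtain ⟨a, ha, hga, -⟩ := hsub 5 h5n
    have hd : n ∣ 10 := by
      rw [← h.five a ha, hng]
      exact orderOf_dvd_natCard _ hga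
    have hm := Nat.mem_divisors.mpr ⟨hd, (by norm_num : (10 : ℕ) ≠ 0)⟩
    have key : ∀ d ∈ (10 : ℕ).divisors, d ∈ ({1, 2, 3, 4, 5, 6, 8, 10, 11, 16, 32, 64} : Finset ℕ) := by
      decide
    exact key n hm
  have h9 : ¬ 9 ∣ n := fun h9 => by
    obtain ⟨a, ha, -, -⟩ := hsub 9 h9
    exact h.loc.no_nine a ha
  have h12 : ¬ 12 ∣ n := fun h12 => by
    obtain ⟨a, ha, -, -⟩ := hsub 12 h12
    have h3 : orderOf (a ^ 4) = 3 := by rw [orderOf_pow' a (by norm_num), ha]; rfl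
    have h4 : orderOf (a ^ 3) = 4 := by rw [orderOf_pow' a (by norm_num), ha]; rfl
    have hcom : a ^ 4 * a ^ 3 = a ^ 3 * a ^ 4 := (Commute.pow_pow (Commute.refl a) 4 3).eq
    rcases three_class h h3 with e | e
    · have hd := orderOf_dvd_natCard _
        (mem_centralizer_singleton_iff.mpr hcom.symm : a ^ 3 ∈ centralizer ({a ^ 4} : Set G))
      rw [h4, show Nat.card (centralizer ({a ^ 4} : Set G)) = 54 from e] at hd
      norm_num at hd
    · exact h.loc.y_four _ _ h3 e (y_three h h3 e) h4 hcom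
  have hd : n ∣ 1728 := by
    refine Nat.Coprime.dvd_of_dvd_mul_right (n := 55) ?_ (show n ∣ 1728 * 55 from hn)
    rw [show (55 : ℕ) = 5 * 11 from rfl]
    exact Nat.Coprime.mul_right ((Nat.Prime.coprime_iff_not_dvd (by norm_num)).mpr h5n).symm
      ((Nat.Prime.coprime_iff_not_dvd (by norm_num)).mpr h11n).symm
  have key : ∀ d ∈ (1728 : ℕ).divisors, ¬ 9 ∣ d → ¬ 12 ∣ d →
      d ∈ ({1, 2, 3, 4, 5, 6, 8, 10, 11, 16, 32, 64} : Finset ℕ) := by decide +kernel
  exact key n (Nat.mem_divisors.mpr ⟨hd, by norm_num⟩) h9 h12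

theorem A_int_eleven (h : Hyp R) {g : G} (hg : orderOf g = 11) :
    ∃ s : ℤ, genSum (R.A : G → ℂ) g = s ∧ Even s ∧ (11 : ℤ) ∣ 45 + s := by
  obtain ⟨m, hm⟩ := h.tools.mult_one _ g (isCharacter_irr R.A)
  have hx := powSum_prime (R.A : G → ℂ) (by norm_num : Nat.Prime 11) hg
  rw [powSum, hm, hg, value_one, R.deg_A] at hx
  refine ⟨11 * (m : ℤ) - 45, by push_cast at hx ⊢; linear_combination -hx, ?_, ⟨m, by ring⟩⟩
  have hinv : ∀ k, k ≤ 11 → (R.A : G → ℂ) (g ^ (11 - k)) = (R.A : G → ℂ) (g ^ k) := fun k hk => by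
    have : g ^ (11 - k) = (g ^ k)⁻¹ := eq_inv_of_mul_eq_one_left (by
      rw [← pow_add, Nat.sub_add_cancel hk, ← hg, pow_orderOf_eq_one])
    rw [this, CharCore.irr_apply_inv, R.real_A]
  set w := (R.A : G → ℂ) (g ^ 1) + (R.A : G → ℂ) (g ^ 2) + (R.A : G → ℂ) (g ^ 3) +
    (R.A : G → ℂ) (g ^ 4) + (R.A : G → ℂ) (g ^ 5) with hwdef
  have hS : genSum (R.A : G → ℂ) g = 2 * w := by
    rw [genSum, hg, show gens 11 = {1, 2, 3, 4, 5, 11 - 5, 11 - 4, 11 - 3, 11 - 2, 11 - 1} by decide]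
    simp only [Finset.sum_insert, Finset.sum_singleton, Finset.mem_insert, Finset.mem_singleton,
      Nat.reduceSub, Nat.reduceEqDiff, or_false, not_false_iff]
    rw [show (6 : ℕ) = 11 - 5 from rfl, show (7 : ℕ) = 11 - 4 from rfl,
      show (8 : ℕ) = 11 - 3 from rfl, show (9 : ℕ) = 11 - 2 from rfl,
      show (10 : ℕ) = 11 - 1 from rfl, hinv 5 (by norm_num), hinv 4 (by norm_num),
      hinv 3 (by norm_num), hinv 2 (by norm_num), hinv 1 (by norm_num), hwdef]
    ring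
  have hi : ∀ k, IsIntegral ℤ ((R.A : G → ℂ) (g ^ k)) := fun k => BlocksCore.isIntegral_irr R.A _
  have hint : IsIntegral ℤ w := ((((hi 1).add (hi 2)).add (hi 3)).add (hi 4)).add (hi 5)
  have hwQ : w = algebraMap ℚ ℂ (((11 * (m : ℚ)) - 45) / 2) := by
    simp only [map_div₀, map_sub, map_mul, map_natCast, map_ofNat]
    push_cast at hx
    linear_combination -(1 / 2 : ℂ) * hS - (1 / 2 : ℂ) * hx
  rw [hwQ, isIntegral_algebraMap_iff (RingHom.injective _)] at hint
  obtain ⟨v, hv⟩ := IsIntegrallyClosed.isIntegral_iff.mp hint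
  refine ⟨v, ?_⟩
  have : ((11 * (m : ℤ) - 45 : ℤ) : ℚ) = ((v + v : ℤ) : ℚ) := by
    push_cast
    rw [show algebraMap ℤ ℚ v = (v : ℚ) from rfl] at hv
    linarith
  exact_mod_cast this

theorem A_six (h : Hyp R) {g : G} (hg : g ∈ ySix G) :
    ∃ s : ℤ, genSum (R.A : G → ℂ) g = s ∧ (6 : ℤ) ∣ 56 + s := by
  obtain ⟨hg6, hgC⟩ := mem_ySix.mp hg
  obtain ⟨h3C, h3, h2, h4, h4C, -⟩ := ySix_data h hg
  obtain ⟨m, hm⟩ := h.tools.mult_one _ g (isCharacter_irr R.A)
  have hx := powSum_six (R.A : G → ℂ) hg6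
  rw [powSum, hm, hg6, value_one, R.deg_A, A_36 h h2 hgC, A_36 h h4 h4C,
    (h.inv.u_col _ h3 h3C).1] at hx
  exact ⟨6 * (m : ℤ) - 56, by push_cast at hx ⊢; linear_combination -hx, ⟨m, by ring⟩⟩

/-- From an element to a generator of twice its order. -/
theorem A_step (h : Hyp R) {g : G} {j : ℕ} (hg : orderOf g = 2 ^ (j + 2)) {o : ℤ}
    (ho : Odd o) (hX : powSum (R.A : G → ℂ) (g ^ 2) = 2 ^ (j + 1) * (o : ℂ)) :
    ∃ a : ℤ, Odd a ∧ powSum (R.A : G → ℂ) g = 2 ^ (j + 2) * (a : ℂ) ∧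
      genSum (R.A : G → ℂ) g = ((2 ^ (j + 1) * (2 * a - o) : ℤ) : ℂ) := by
  obtain ⟨h1, h2⟩ := two_pow_sums (R.A : G → ℂ) (g := g) (j := j + 1) hg
  obtain ⟨m0, hm0⟩ := h.tools.mult_one _ g (isCharacter_irr R.A)
  obtain ⟨m, hme, hm⟩ := h.tools.mult_neg_one R.A g R.real_A
    (by rw [hg, pow_succ]; exact even_two.mul_left _)
  rw [show powSum (R.A : G → ℂ) g = _ from hm0, hX, hg] at h1
  rw [show altSum (R.A : G → ℂ) g = _ from hm, hX, hg] at h2
  push_cast at h1 h2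
  have hsum : (m0 : ℤ) + m = o := by
    have h3 : (2 : ℂ) ^ (j + 2) * ((m0 : ℂ) + m) = 2 ^ (j + 2) * (o : ℂ) := by
      rw [pow_succ (2 : ℂ) (j + 1)] at h1 h2 ⊢
      linear_combination h1 + h2
    exact_mod_cast mul_left_cancel₀ (pow_ne_zero _ (two_ne_zero' ℂ)) h3
  refine ⟨m0, ?_, by rw [show powSum (R.A : G → ℂ) g = _ from hm0, hg]; push_cast; rfl, ?_⟩
  · obtain ⟨r, rfl⟩ := hme
    rw [Int.odd_iff] at ho ⊢
    omega
  · push_cast
    rw [pow_succ (2 : ℂ) (j + 1)] at h1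
    linear_combination -h1

theorem A_invol (h : Hyp R) {t : G} (ht : orderOf t = 2) :
    (cC t = 192 ∧ powSum (R.A : G → ℂ) t = 2 * ((21 : ℤ) : ℂ)) ∨
      (cC t = 240 ∧ powSum (R.A : G → ℂ) t = 2 * ((25 : ℤ) : ℂ)) := by
  have hx := powSum_two (R.A : G → ℂ) ht
  rw [value_one, R.deg_A] at hx
  rcases h.inv.invol t ht with e | e
  · exact Or.inl ⟨e, by rw [hx, (h.inv.z_col t ht e).1]; norm_num⟩
  · exact Or.inr ⟨e, by rw [hx, (h.inv.u_col t ht e).1]; norm_num⟩

theorem A_two_pow (h : Hyp R) : ∀ (j : ℕ) (g : G), orderOf g = 2 ^ (j + 1) →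
    ∃ o : ℤ, Odd o ∧ powSum (R.A : G → ℂ) g = 2 ^ (j + 1) * (o : ℂ) := by
  intro j
  induction j with
  | zero =>
    intro g hg
    rcases A_invol h (show orderOf g = 2 from hg) with ⟨-, e⟩ | ⟨-, e⟩
    · exact ⟨21, by decide, by rw [e]; norm_num⟩
    · exact ⟨25, by decide, by rw [e]; norm_num⟩
  | succ j ih =>
    intro g hg
    have h2 : orderOf (g ^ 2) = 2 ^ (j + 1) := by
      rw [orderOf_pow' g (by norm_num), hg,
        Nat.gcd_eq_right (by rw [pow_succ]; exact dvd_mul_left 2 _), pow_succ,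
        Nat.mul_div_cancel _ (by norm_num)]
    obtain ⟨o, ho, hX⟩ := ih _ h2
    obtain ⟨a, ha, hXa, -⟩ := A_step h hg ho hX
    exact ⟨a, ha, hXa⟩

theorem A_genSum_ne (h : Hyp R) {g : G} {j : ℕ} (hg : orderOf g = 2 ^ (j + 2)) :
    genSum (R.A : G → ℂ) g ≠ 0 := by
  have h2 : orderOf (g ^ 2) = 2 ^ (j + 1) := by
    rw [orderOf_pow' g (by norm_num), hg,
      Nat.gcd_eq_right (by rw [pow_succ]; exact dvd_mul_left 2 _), pow_succ,
      Nat.mul_div_cancel _ (by norm_num)]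
  obtain ⟨o, ho, hX⟩ := A_two_pow h j _ h2
  obtain ⟨a, -, -, hS⟩ := A_step h hg ho hX
  rw [hS]
  rw [Int.odd_iff] at ho
  exact_mod_cast mul_ne_zero (pow_ne_zero _ two_ne_zero) (show 2 * a - o ≠ 0 by omega)

/-- The budget of the character of degree 45 is met exactly. -/
theorem A_tight (h : Hyp R) (h11 : ∀ a : G, orderOf a = 11 → centralizer ({a} : Set G) ≤ zpowers a) :
    (∀ g : G, orderOf g = 5 ∨ orderOf g = 10 → (R.A : G → ℂ) g = 0) ∧
      (∀ g ∈ ordSet G 6, g ∉ ySix G → (R.A : G → ℂ) g = 0) ∧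
      sqOn (R.A : G → ℂ) (ySix G) ≤ (ySix G).card ∧
      (∀ n ∈ ({4, 8, 11, 16, 32, 64} : Finset ℕ),
        sqOn (R.A : G → ℂ) (ordSet G n) ≤ (ordSet G n).card) ∧
      sN G 4 + sN G 8 + sN G 16 + sN G 32 + sN G 64 = 29700 := by
  classical
  set L : Finset ℕ := {1, 2, 3, 4, 5, 6, 8, 10, 11, 16, 32, 64} with hL
  obtain ⟨h54, h36, -, -, -, hY, -⟩ := E_facts h
  have hcard : ∑ n ∈ L, sN G n = 95040 := by
    simp only [← card_ordSet]
    rw [← Finset.card_biUnion]
    · rw [← h.card, Nat.card_eq_fintype_card, ← Finset.card_univ]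
      congr 1
      exact Finset.eq_univ_of_forall fun g =>
        Finset.mem_biUnion.mpr ⟨_, order_cases h h11 g, mem_ordSet.mpr rfl⟩
    · intro a _ b _ hab
      exact Finset.disjoint_left.mpr fun g ha hb =>
        hab ((mem_ordSet.mp ha).symm.trans (mem_ordSet.mp hb))
  have h1 : sN G 1 = 1 := by
    rw [← card_ordSet, show ordSet G 1 = {1} by ext g; simp [mem_ordSet, orderOf_eq_one_iff],
      Finset.card_singleton]
  simp only [hL, Finset.sum_insert, Finset.mem_insert, Finset.mem_singleton, Finset.sum_singleton,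
    Nat.reduceEqDiff, or_false, not_false_iff, h1, h.s2, s3_eq h, h.s5, s6_eq h, h.s10, h.s11]
    at hcard
  set T := fun n => sqOn (R.A : G → ℂ) (ordSet G n) with hT
  have hT1 : T 1 = 2025 := by
    show sqOn (R.A : G → ℂ) (ordSet G 1) = 2025
    rw [sqOn_one, R.deg_A]
    norm_num
  have hT2 : T 2 = 14355 := by
    show ∑ g ∈ ordSet G 2, _ = _
    rw [sum_ordSet_two h]
    change sqOn _ _ + sqOn _ _ = _
    rw [sqOn_const (c := 25) fun g hg => ?_, sqOn_const (c := 9) fun g hg => ?_,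
      h.card_two.1, h.card_two.2]
    · norm_num
    · obtain ⟨hg2, hgC⟩ := mem_cSet.mp hg
      rw [(h.inv.z_col g hg2 hgC).1]
      norm_num [Complex.normSq]
    · obtain ⟨hg2, hgC⟩ := mem_cSet.mp hg
      rw [(h.inv.u_col g hg2 hgC).1]
      norm_num [Complex.normSq]
  have hT3 : (23760 : ℝ) ≤ T 3 := by
    refine le_trans (le_of_eq ?_) (Finset.sum_le_sum_of_subset_of_nonneg
      (fun g hg => mem_ordSet.mpr (mem_cSet.mp hg).1) fun _ _ _ => Complex.normSq_nonneg _ :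
      sqOn (R.A : G → ℂ) (cSet G 3 36) ≤ T 3)
    change _ = sqOn (R.A : G → ℂ) (cSet G 3 36)
    rw [sqOn_const (c := 9) fun g hg => ?_, h36]
    · norm_num
    · obtain ⟨hg3, hgC⟩ := mem_cSet.mp hg
      rw [A_36 h hg3 hgC]
      norm_num [Complex.normSq]
  have hne6 : ∀ g ∈ ySix G, genSum (R.A : G → ℂ) g ≠ 0 := fun g hg h0 => by
    obtain ⟨s, hs, hs6⟩ := A_six h hg
    rw [h0] at hs
    have : s = 0 := by exact_mod_cast hs.symm
    omega
  have hY6 := card_le_sqOn h.tools (isCharacter_irr R.A) (ySix G) 6 (by norm_num)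
    (fun g hg => (mem_ySix.mp hg).1) ySix_closed hne6
  have hT6 : T 6 = sqOn (R.A : G → ℂ) (ySix G) + sqOn (R.A : G → ℂ) (ordSet G 6 \ ySix G) := by
    show sqOn _ _ = _
    rw [sqOn, sqOn, sqOn, add_comm,
      Finset.sum_sdiff fun g hg => mem_ordSet.mpr (mem_ySix.mp hg).1]
  have hne11 : ∀ g ∈ ordSet G 11, genSum (R.A : G → ℂ) g ≠ 0 := fun g hg h0 => by
    obtain ⟨s, hs, -, hs11⟩ := A_int_eleven h (mem_ordSet.mp hg)
    rw [h0] at hs
    have : s = 0 := by exact_mod_cast hs.symm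
    omega
  have hpow : ∀ n ∈ ({4, 8, 11, 16, 32, 64} : Finset ℕ), (sN G n : ℝ) ≤ T n := by
    intro n hn
    have hgo : ∀ j : ℕ, n = 2 ^ (j + 2) → (sN G n : ℝ) ≤ T n := fun j hj => by
      rw [← card_ordSet]
      exact card_le_sqOn h.tools (isCharacter_irr R.A) (ordSet G n) n (by rw [hj]; positivity)
        (fun g hg => mem_ordSet.mp hg) pow_mem_ordSet
        (fun g hg => A_genSum_ne h (by rw [mem_ordSet.mp hg, hj]))
    simp only [Finset.mem_insert, Finset.mem_singleton] at hn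
    rcases hn with rfl | rfl | rfl | rfl | rfl | rfl
    · exact hgo 0 rfl
    · exact hgo 1 rfl
    · rw [← card_ordSet]
      exact card_le_sqOn h.tools (isCharacter_irr R.A) (ordSet G 11) 11 (by norm_num)
        (fun g hg => mem_ordSet.mp hg) pow_mem_ordSet hne11
    · exact hgo 2 rfl
    · exact hgo 3 rfl
    · exact hgo 4 rfl
  have hb := budget (R.A : G → ℂ) L
  rw [sqOn_univ, h.card] at hb
  simp only [hL, Finset.sum_insert, Finset.mem_insert, Finset.mem_singleton, Finset.sum_singleton,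
    Nat.reduceEqDiff, or_false, not_false_iff] at hb
  simp only [hT] at hT1 hT2 hT3 hT6 hpow
  have h5 := sqOn_nonneg (R.A : G → ℂ) (ordSet G 5)
  have h10 := sqOn_nonneg (R.A : G → ℂ) (ordSet G 10)
  have h6r := sqOn_nonneg (R.A : G → ℂ) (ordSet G 6 \ ySix G)
  have e4 := hpow 4 (by decide)
  have e8 := hpow 8 (by decide)
  have e11 := hpow 11 (by decide)
  have e16 := hpow 16 (by decide)
  have e32 := hpow 32 (by decide)
  have e64 := hpow 64 (by decide)
  rw [h.s11] at e11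
  rw [hY] at hY6
  have h29 : sN G 4 + sN G 8 + sN G 16 + sN G 32 + sN G 64 = 29700 := by omega
  have h29' : (sN G 4 : ℝ) + sN G 8 + sN G 16 + sN G 32 + sN G 64 = 29700 := by exact_mod_cast h29
  push_cast at hY6 e11 hb
  refine ⟨fun g hg => ?_, fun g hg hgY => eq_zero_of_sqOn_le (S := ordSet G 6 \ ySix G)
    (by linarith) (Finset.mem_sdiff.mpr ⟨hg, hgY⟩), by rw [hY]; push_cast; linarith,
    fun n hn => ?_, h29⟩
  · rcases hg with hg | hg
    · exact eq_zero_of_sqOn_le (S := ordSet G 5) (by linarith) (mem_ordSet.mpr hg)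
    · exact eq_zero_of_sqOn_le (S := ordSet G 10) (by linarith) (mem_ordSet.mpr hg)
  · rw [card_ordSet]
    simp only [Finset.mem_insert, Finset.mem_singleton] at hn
    rcases hn with rfl | rfl | rfl | rfl | rfl | rfl <;>
      first | (rw [h.s11]; push_cast; linarith) | linarith

end Cfsg.Agent.M12Uniq.OrderRest
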