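import Cfsg.Agent.M12Uniq.OrderInvol
import Cfsg.Agent.M12Uniq.CountsThree

/-!
# The elements of order three from the order alone (`PLAN-Order.md`, part O3)

Hypotheses: `UFacts` (O1) and the two statements of O2 on the centralizers of elements of order
three whose order is divisible by nine.
-/

set_option autoImplicit false
set_option linter.unusedSectionVars false

namespace Cfsg.Agent.M12Uniq

open Subgroup

universe u

namespace OT

variable {G : Type u} [Group G] [Finite G]

/-- The hypotheses from O1 and O2. -/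
structure Hyp (G : Type u) [Group G] : Prop where
  isM12 : Cfsg.IsM12 G
  uf : UFacts G
  cases : ∀ w : G, orderOf w = 3 → 9 ∣ cC w → cC w ∈ ({9, 18, 36, 54} : Finset ℕ)
  conj54 : ∀ v w : G, orderOf v = 3 → orderOf w = 3 → cC v = 54 → cC w = 54 → IsConj v w

variable (H : Hyp G)

include H

theorem invols' : Invols G where
  invol _ ht := OrderInvol.invol H.isM12 ht
  exists_z := OrderInvol.exists_z H.isM12
  exists_u := OrderInvol.exists_u H.isM12
  invol_conj := OrderInvol.invol_conj H.isM12
  five_comm _ _ hq ht hqt := OrderInvol.five_comm H.isM12 hq ht hqt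

theorem card_sylow (P : Sylow 3 G) : Nat.card (P : Subgroup G) = 27 := by
  have : Fact (Nat.Prime 3) := ⟨by norm_num⟩
  rw [SmallGroups.card_sylow_eq (a := 3) (m := 3520) (by rw [H.isM12.2]; norm_num) (by norm_num) P]
  norm_num

/-- Nine divides the order of the centralizer of every element of order three. -/
theorem cC_cases {x : G} (hx : orderOf x = 3) : cC x ∈ ({9, 18, 36, 54} : Finset ℕ) := by
  have : Fact (Nat.Prime 3) := ⟨by norm_num⟩
  refine H.cases x hx ?_
  obtain ⟨P, hxP⟩ := (IsPGroup.of_card (p := 3) (n := 1)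
    (by rw [Nat.card_zpowers, hx, pow_one] : Nat.card (zpowers x) = 3 ^ 1)).exists_le_sylow
  have hxm : x ∈ (P : Subgroup G) := hxP (mem_zpowers x)
  have : Nontrivial (P : Subgroup G) :=
    Finite.one_lt_card_iff_nontrivial.mp (by rw [card_sylow H P]; norm_num)
  have hZ : Nontrivial (center (P : Subgroup G)) := P.isPGroup'.center_nontrivial
  set Z := (center (P : Subgroup G)).map (P : Subgroup G).subtype with hZdef
  by_cases hxZ : x ∈ Z
  · obtain ⟨y, hy, rfl⟩ := hxZ
    have hle : (P : Subgroup G) ≤ centralizer ({(y : G)} : Set G) := fun g hg =>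
      CU.mem_cent.mpr (congrArg Subtype.val (Subgroup.mem_center_iff.mp hy ⟨g, hg⟩)).symm
    exact dvd_trans (by norm_num) (card_sylow H P ▸ Subgroup.card_dvd_of_le hle)
  · -- `⟨x⟩ × Z(P)` has order at least nine
    set C := centralizer ({x} : Set G) ⊓ (P : Subgroup G) with hC
    have hd : Nat.card C ∣ 3 ^ 3 := by
      rw [show (3 : ℕ) ^ 3 = 27 by norm_num, ← card_sylow H P]
      exact Subgroup.card_dvd_of_le inf_le_right
    obtain ⟨j, -, hj⟩ := (Nat.dvd_prime_pow (by norm_num)).mp hd
    have hxC : x ∈ C := ⟨CU.mem_cent.mpr rfl, hxm⟩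
    have hZC : Z ≤ C := by
      rintro _ ⟨y, hy, rfl⟩
      exact ⟨CU.mem_cent.mpr (congrArg Subtype.val (Subgroup.mem_center_iff.mp hy ⟨x, hxm⟩)), y.2⟩
    have h9 : 9 ∣ Nat.card C := by
      rw [hj]
      refine dvd_trans (by norm_num : 9 ∣ 3 ^ 2) (pow_dvd_pow 3 ?_)
      by_contra hlt
      have hle : Nat.card C ≤ Nat.card (zpowers x) := by
        rw [hj, Nat.card_zpowers, hx]
        exact le_trans (Nat.pow_le_pow_right (by norm_num) (show j ≤ 1 by omega)) (by norm_num)
      have heq := Subgroup.eq_of_le_of_card_ge (zpowers_le.mpr hxC) hle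
      rw [← heq] at hZC
      obtain ⟨⟨y, hy⟩, hy1⟩ := exists_ne (1 : center (P : Subgroup G))
      have hyx : (y : G) ∈ zpowers x := hZC (Subgroup.mem_map_of_mem _ hy)
      have hy1' : (y : G) ≠ 1 := fun e => hy1 (Subtype.ext (Subtype.ext e))
      exact hxZ (zpowers_le.mpr (Subgroup.mem_map_of_mem (P : Subgroup G).subtype hy)
        (CU.mem_zpowers_of_mem_of_prime hx hyx hy1'))
    exact h9.trans (Subgroup.card_dvd_of_le inf_le_left)

/-- An element of order three central in a Sylow 3-subgroup. -/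
theorem exists_x : ∃ x : G, orderOf x = 3 ∧ cC x = 54 := by
  have : Fact (Nat.Prime 3) := ⟨by norm_num⟩
  let P : Sylow 3 G := default
  have : Nontrivial (P : Subgroup G) :=
    Finite.one_lt_card_iff_nontrivial.mp (by rw [card_sylow H P]; norm_num)
  have hZ : Nontrivial (center (P : Subgroup G)) := P.isPGroup'.center_nontrivial
  obtain ⟨j, -, hj⟩ := (Nat.dvd_prime_pow (by norm_num : (3 : ℕ).Prime)).mp
    (show Nat.card (center (P : Subgroup G)) ∣ 3 ^ 3 by
      rw [show (3 : ℕ) ^ 3 = 27 by norm_num, ← card_sylow H P]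
      exact Subgroup.card_subgroup_dvd_card _)
  have h3 : 3 ∣ Nat.card (center (P : Subgroup G)) := by
    rw [hj]
    refine dvd_pow_self 3 fun h0 => ?_
    rw [h0, pow_zero] at hj
    exact absurd (Finite.one_lt_card (α := center (P : Subgroup G))) (by omega)
  obtain ⟨⟨x, hxc⟩, hx⟩ := exists_prime_orderOf_dvd_card' (G := center (P : Subgroup G)) 3 h3
  rw [Subgroup.orderOf_mk, ← Subgroup.orderOf_coe] at hx
  refine ⟨x, hx, ?_⟩
  have hle : (P : Subgroup G) ≤ centralizer ({(x : G)} : Set G) := fun g hg =>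
    CU.mem_cent.mpr (congrArg Subtype.val (Subgroup.mem_center_iff.mp hxc ⟨g, hg⟩)).symm
  have h27 : 27 ∣ cC (x : G) := card_sylow H P ▸ Subgroup.card_dvd_of_le hle
  have := cC_cases H hx
  simp only [Finset.mem_insert, Finset.mem_singleton] at this
  omega

/-- An involution commuting with an element with centralizer of order 54. -/
theorem inv54 {x t : G} (hx : orderOf x = 3) (h54 : cC x = 54) (ht : orderOf t = 2)
    (hxt : x * t = t * x) : cC t = 192 ∧
      Nat.card ↥(centralizer ({x} : Set G) ⊓ centralizer ({t} : Set G)) = 6 := by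
  have hi := invols' H
  have hne : cC t ≠ 240 := fun e => by
    have h : 12 ∣ cC x := H.uf.three t x ht e hx hxt.symm ▸ card_dvd_of_le inf_le_right
    rw [h54] at h
    norm_num at h
  refine ⟨(hi.invol t ht).resolve_right hne, ?_⟩
  set C := centralizer ({x} : Set G) ⊓ centralizer ({t} : Set G)
  have h6 : 6 ∣ Nat.card C := by
    have h : orderOf (x * t) = 6 := by
      rw [Commute.orderOf_mul_eq_mul_orderOf_of_coprime hxt (by rw [hx, ht]; norm_num), hx, ht]
    rw [← h]
    exact Subgroup.orderOf_dvd_natCard _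
      ⟨CU.mem_cent.mpr (Commute.mul_right (Commute.refl x) hxt).eq,
        CU.mem_cent.mpr (Commute.mul_right hxt.symm (Commute.refl t)).eq⟩
  have h54' : Nat.card C ∣ 54 := h54 ▸ Subgroup.card_dvd_of_le inf_le_left
  have h192 : Nat.card C ∣ 192 := (hi.invol t ht).resolve_right hne ▸
    Subgroup.card_dvd_of_le inf_le_right
  have := Nat.dvd_gcd h54' h192
  rw [show Nat.gcd 54 192 = 6 by norm_num] at this
  exact Nat.dvd_antisymm this h6

/-- The number of involutions commuting with an element with centralizer of order 54. -/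
theorem card_inv54 {x : G} (hx : orderOf x = 3) (h54 : cC x = 54) :
    Nat.card {t : G // orderOf t = 2 ∧ x * t = t * x} = 9 := by
  classical
  have : Fact (Nat.Prime 2) := ⟨Nat.prime_two⟩
  set K := centralizer ({x} : Set G) with hK
  have hKc : Nat.card K = 54 := h54
  obtain ⟨s, hs⟩ := exists_prime_orderOf_dvd_card' (G := K) 2 (by rw [hKc]; norm_num)
  have e : {t : G // orderOf t = 2 ∧ x * t = t * x} ≃ {t : K // orderOf t = 2} :=
    { toFun := fun t => ⟨⟨t.1, CU.mem_cent.mpr t.2.2⟩, by rw [Subgroup.orderOf_mk]; exact t.2.1⟩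
      invFun := fun t => ⟨t.1.1, (Subgroup.orderOf_coe t.1).trans t.2, CU.mem_cent.mp t.1.2⟩
      left_inv := fun _ => rfl
      right_inv := fun _ => rfl }
  have hfac : (Nat.card K).factorization 2 = 1 :=
    CU.fac_one Nat.prime_two (by rw [hKc]; norm_num) (by rw [hKc]; norm_num)
  have hall : ∀ t : K, orderOf t = 2 → IsConj s t := by
    intro t ht
    let P : Sylow 2 K := Sylow.ofCard (zpowers s) (by rw [Nat.card_zpowers, hs, hfac]; rfl)
    let Q : Sylow 2 K := Sylow.ofCard (zpowers t) (by rw [Nat.card_zpowers, ht, hfac]; rfl)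
    obtain ⟨g, hg⟩ := MulAction.exists_smul_eq K P Q
    have hmem : g * s * g⁻¹ ∈ zpowers t := by
      rw [show zpowers t = ((g • P : Sylow 2 K) : Subgroup K) by
        rw [hg]; exact (Sylow.coe_ofCard _ _).symm]
      exact ⟨s, by rw [show ((P : Subgroup K) : Set K) = zpowers s from rfl]; exact mem_zpowers s,
        rfl⟩
    obtain ⟨k, hk, hky⟩ := Finset.mem_image.mp
      ((IsOfFinOrder.mem_zpowers_iff_mem_range_orderOf (isOfFinOrder_of_finite t)).mp hmem)
    rw [Finset.mem_range, ht] at hk
    interval_cases k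
    · rw [pow_zero] at hky
      have := congrArg orderOf hky
      rw [CU.orderOf_conj, hs, orderOf_one] at this
      omega
    · rw [pow_one] at hky
      exact isConj_iff.mpr ⟨g, hky.symm⟩
  rw [Nat.card_congr e, Nat.card_congr (Equiv.subtypeEquivRight fun t =>
    (⟨hall t, fun h => (CI.orderOf_of_isConj h).symm.trans hs⟩ : orderOf t = 2 ↔ IsConj s t))]
  have h := Involution.card_isConj_mul_card_centralizer s
  have h6 := (inv54 H hx h54 ((Subgroup.orderOf_coe s).trans hs) (CU.mem_cent.mp s.2)).2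
  rw [← CT.card_inner_centralizer s.2] at h6
  change Nat.card (centralizer ({s} : Set K)) = 6 at h6
  rw [h6, hKc] at h
  omega

/-- No element has order nine. -/
theorem no_nine : ∀ g : G, orderOf g ≠ 9 := by
  intro g hg
  have : Fact (Nat.Prime 3) := ⟨by norm_num⟩
  have : Fact (Nat.Prime 2) := ⟨Nat.prime_two⟩
  obtain ⟨P, hgP'⟩ := (IsPGroup.of_card (p := 3) (n := 2)
    (by rw [Nat.card_zpowers, hg]; norm_num : Nat.card (zpowers g) = 3 ^ 2)).exists_le_sylow
  have hgP : g ∈ (P : Subgroup G) := hgP' (mem_zpowers g)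
  have hg3 : orderOf (g ^ 3) = 3 := by rw [orderOf_pow' _ (by norm_num), hg]; rfl
  -- the cube of `g` is central in `P`
  set A := (zpowers g).subgroupOf (P : Subgroup G) with hA
  have hAn : A.Normal := by
    apply Subgroup.normal_of_index_eq_minFac_card
    have h := A.card_mul_index
    rw [hA, Nat.card_congr (Subgroup.subgroupOfEquivOfLe hgP').toEquiv, Nat.card_zpowers, hg,
      card_sylow H P] at h
    rw [card_sylow H P, show (27 : ℕ) = 3 ^ 3 by norm_num,
      Nat.Prime.pow_minFac (by norm_num) (by norm_num)]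
    rw [← hA] at h
    omega
  have hcent : (P : Subgroup G) ≤ centralizer ({g ^ 3} : Set G) := by
    intro a ha
    rw [CU.mem_cent]
    have hmem : a * g * a⁻¹ ∈ zpowers g := by
      have := hAn.conj_mem ⟨g, hgP⟩ (Subgroup.mem_subgroupOf.mpr (mem_zpowers g)) ⟨a, ha⟩
      exact Subgroup.mem_subgroupOf.mp this
    obtain ⟨k, hk⟩ := Subgroup.mem_zpowers_iff.mp hmem
    obtain ⟨j, hj⟩ := P.isPGroup' ⟨a, ha⟩
    have hj' : a ^ 3 ^ j = 1 := by simpa using congrArg Subtype.val hj
    -- conjugation by `a` acts on `⟨g ^ 3⟩` as a 3-element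
    have h1 : a * g ^ 3 * a⁻¹ = (g ^ 3) ^ k := by
      rw [← conj_pow, ← hk, ← zpow_natCast, ← zpow_natCast g, ← zpow_mul, ← zpow_mul, mul_comm]
    have hiter : ∀ n : ℕ, a ^ n * g ^ 3 * (a ^ n)⁻¹ = (g ^ 3) ^ (k ^ n) := by
      intro n
      induction n with
      | zero => simp
      | succ n ih =>
        rw [pow_succ' a n, show a * a ^ n * g ^ 3 * (a * a ^ n)⁻¹ =
          a * (a ^ n * g ^ 3 * (a ^ n)⁻¹) * a⁻¹ by group, ih, ← conj_zpow, h1, ← zpow_mul, ← pow_succ']
    have h2 : (g ^ 3) ^ (k ^ 3 ^ j) = (g ^ 3) ^ (1 : ℤ) := by rw [← hiter, hj']; simp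
    rw [zpow_eq_zpow_iff_modEq, hg3, ← ZMod.intCast_eq_intCast_iff _ _ 3] at h2
    push_cast at h2
    rw [ZMod.pow_card_pow] at h2
    have h3 : (g ^ 3) ^ k = g ^ 3 := by
      conv_rhs => rw [← zpow_one (g ^ 3)]
      rw [zpow_eq_zpow_iff_modEq, hg3, ← ZMod.intCast_eq_intCast_iff _ _ 3]
      push_cast
      exact h2
    rw [h3] at h1
    exact (mul_inv_eq_iff_eq_mul.mp h1).symm
  set x := g ^ 3 with hxdef
  have h54 : cC x = 54 := by
    have h27 : 27 ∣ cC x := card_sylow H P ▸ Subgroup.card_dvd_of_le hcent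
    have := cC_cases H hg3
    simp only [Finset.mem_insert, Finset.mem_singleton] at this
    omega
  obtain ⟨⟨t, htC⟩, ht⟩ := exists_prime_orderOf_dvd_card' (G := centralizer ({x} : Set G)) 2
    (by rw [show Nat.card _ = 54 from h54]; norm_num)
  rw [Subgroup.orderOf_mk] at ht
  have hxt : x * t = t * x := CU.mem_cent.mp htC
  -- `t * g` lies in the centralizer of `x`
  set K := centralizer ({x} : Set G) with hK
  have hgK : g ∈ K := CU.mem_cent.mpr ((Commute.refl g).pow_left 3).eq
  have hyK : t * g ∈ K := mul_mem htC hgK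
  -- the Sylow 3-subgroup of `K` is its only one
  set PK := (P : Subgroup G).subgroupOf K with hPK
  have hPKc : Nat.card PK = 27 := by
    rw [hPK, Nat.card_congr (Subgroup.subgroupOfEquivOfLe hcent).toEquiv, card_sylow H P]
  have hidx : PK.index = 2 := by
    have h := PK.card_mul_index
    rw [hPKc, show Nat.card K = 54 from h54] at h
    omega
  have htP : (⟨t, htC⟩ : K) ∉ PK := fun h => by
    have := Subgroup.orderOf_dvd_natCard PK h
    rw [hPKc, Subgroup.orderOf_mk, ht] at this
    norm_num at this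
  have hyP : (⟨t * g, hyK⟩ : K) ∉ PK := fun h => htP (by
    have := mul_mem h (inv_mem (show (⟨g, hgK⟩ : K) ∈ PK from hgP))
    have e : (⟨t * g, hyK⟩ : K) * (⟨g, hgK⟩ : K)⁻¹ = ⟨t, htC⟩ := Subtype.ext (by push_cast; group)
    rwa [e] at this)
  have hodd : ¬ Odd (orderOf (t * g)) := fun hodd => hyP <| by
    obtain ⟨m, hm⟩ := hodd
    have h2 := Subgroup.mul_self_mem_of_index_two hidx (⟨t * g, hyK⟩ : K)
    rw [← pow_two] at h2
    have e : (⟨t * g, hyK⟩ : K) = ((⟨t * g, hyK⟩ : K) ^ 2) ^ (m + 1) := by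
      refine Subtype.ext ?_
      push_cast
      rw [← pow_mul, show 2 * (m + 1) = orderOf (t * g) + 1 by omega, pow_succ, pow_orderOf_eq_one,
        one_mul]
    rw [e]
    exact pow_mem h2 _
  obtain ⟨m, hm⟩ := Nat.not_odd_iff_even.mp hodd
  have hm0 : 0 < m := by have := orderOf_pos (t * g); omega
  have hd' : orderOf ((t * g) ^ m) = 2 := by
    rw [orderOf_pow' _ hm0.ne', hm, Nat.gcd_eq_right ⟨2, by omega⟩, ← two_mul,
      Nat.mul_div_cancel _ hm0]
  have hxy : Commute x (t * g) := CU.mem_cent.mp hyK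
  obtain ⟨-, h6⟩ := inv54 H hg3 h54 hd' (hxy.pow_right m).eq
  set W := centralizer ({x} : Set G) ⊓ centralizer ({(t * g) ^ m} : Set G) with hW
  have hyW : t * g ∈ W := ⟨hyK, CU.mem_cent.mpr ((Commute.refl (t * g)).pow_left m).eq⟩
  have hxW : x ∈ W := ⟨CU.mem_cent.mpr rfl, CU.mem_cent.mpr (hxy.pow_right m).symm.eq⟩
  have hy6 : (t * g) ^ 6 = 1 := by
    have := Subgroup.orderOf_dvd_natCard W hyW
    rw [h6] at this
    exact orderOf_dvd_iff_pow_eq_one.mp this
  -- so the square of `t * g` lies in `⟨x⟩`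
  have hsq : (t * g) ^ 2 ∈ zpowers x := by
    set T := W ⊓ (P : Subgroup G) with hT
    have hTc : Nat.card T ∣ 3 := by
      have h1 : Nat.card T ∣ 27 := card_sylow H P ▸ Subgroup.card_dvd_of_le inf_le_right
      have h2 : Nat.card T ∣ 6 := h6 ▸ Subgroup.card_dvd_of_le inf_le_left
      simpa using Nat.dvd_gcd h1 h2
    have heq : zpowers x = T := Subgroup.eq_of_le_of_card_ge
      (le_inf (zpowers_le.mpr hxW) (zpowers_le.mpr (pow_mem hgP 3)))
      (by rw [Nat.card_zpowers, hg3]; exact Nat.le_of_dvd (by norm_num) hTc)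
    rw [heq]
    refine ⟨pow_mem hyW 2, ?_⟩
    have := Subgroup.mul_self_mem_of_index_two hidx (⟨t * g, hyK⟩ : K)
    rw [← pow_two] at this
    exact this
  obtain ⟨i, hi⟩ := Subgroup.mem_zpowers_iff.mp hsq
  have htt : t * t = 1 := by rw [← pow_two, ← ht, pow_orderOf_eq_one]
  have hconj : t * g * t⁻¹ = x ^ i * g⁻¹ := by
    rw [hi, inv_eq_of_mul_eq_one_right htt, pow_two]
    group
  have hxg : Commute (x ^ i) g⁻¹ := ((show Commute g x from (Commute.refl g).pow_right 3).symm.zpow_left i).inv_right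
  have hcube : t * x * t⁻¹ = x⁻¹ := by
    have : (t * g * t⁻¹) ^ 3 = t * x * t⁻¹ := by rw [conj_pow]
    rw [← this, hconj, hxg.mul_pow, ← zpow_natCast (x ^ i) 3, ← zpow_mul, mul_comm i, zpow_mul,
      zpow_natCast, orderOf_dvd_iff_pow_eq_one.mp (dvd_of_eq hg3), one_zpow, one_mul, inv_pow]
  rw [← hxt, mul_inv_cancel_right] at hcube
  have h2 : x ^ 2 = 1 := by rw [pow_two]; exact mul_eq_one_iff_eq_inv.mpr hcube
  have := orderOf_dvd_of_pow_eq_one h2
  rw [hg3] at this
  norm_num at this

/-- The elements of order three in the centralizer of a 2-central involution. -/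
theorem three_z {z : G} (hz : orderOf z = 2) (h192 : cC z = 192) :
    sN (centralizer ({z} : Set G)) 3 = 32 ∧
      ∀ h : G, orderOf h = 3 → z * h = h * z → cC h = 54 := by
  classical
  have := Fintype.ofFinite G
  have hi := invols' H
  let n54 : G → ℕ := fun t => Nat.card {h : G // (orderOf h = 3 ∧ cC h = 54) ∧ t * h = h * t}
  have hinv : ∀ t : G, orderOf t = 2 → cC t = 192 → n54 t = n54 z := by
    intro t ht ht'
    obtain ⟨g, rfl⟩ := isConj_iff.mp (hi.invol_conj z t hz ht (h192.trans ht'.symm))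
    refine Nat.card_congr
      { toFun := fun y => ⟨g⁻¹ * y.1 * g, ⟨?_, ?_⟩, ?_⟩
        invFun := fun y => ⟨g * y.1 * g⁻¹, ⟨?_, ?_⟩, CU.conj_comm g y.2.2⟩
        left_inv := fun y => Subtype.ext (by show g * (g⁻¹ * y.1 * g) * g⁻¹ = y.1; group)
        right_inv := fun y => Subtype.ext (by show g⁻¹ * (g * y.1 * g⁻¹) * g = y.1; group) }
    · have h := CU.orderOf_conj g⁻¹ y.1
      rw [inv_inv] at h
      exact h.trans y.2.1.1
    · exact (CI.cC_of_isConj (isConj_iff.mpr ⟨g⁻¹, by group⟩ : IsConj y.1 (g⁻¹ * y.1 * g))).symm.trans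
        y.2.1.2
    · have h := CU.conj_comm g⁻¹ y.2.2
      simpa [mul_assoc] using h
    · exact (CU.orderOf_conj g y.1).trans y.2.1.1
    · exact (CI.cC_of_isConj (isConj_iff.mpr ⟨g, rfl⟩ : IsConj y.1 (g * y.1 * g⁻¹))).symm.trans
        y.2.1.2
  -- pairs of an element with centralizer of order 54 and an involution commuting with it
  obtain ⟨x, hx, h54⟩ := exists_x H
  have hcls : Nat.card {h : G // orderOf h = 3 ∧ cC h = 54} = 1760 := by
    rw [Nat.card_congr (Equiv.subtypeEquivRight fun h =>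
      (⟨fun hh => H.conj54 x h hx hh.1 h54 hh.2, fun hh => ⟨(CI.orderOf_of_isConj hh).symm.trans hx,
        (CI.cC_of_isConj hh).symm.trans h54⟩⟩ : orderOf h = 3 ∧ cC h = 54 ↔ IsConj x h))]
    have h := CI.card_class_mul x
    rw [h54, H.isM12.2] at h
    omega
  have hZ : Nat.card {t : G // orderOf t = 2 ∧ cC t = 192} = 495 := by
    rw [Nat.card_congr (Equiv.subtypeEquivRight fun t =>
      (⟨fun hh => hi.invol_conj z t hz hh.1 (h192.trans hh.2.symm),
        fun hh => ⟨(CI.orderOf_of_isConj hh).symm.trans hz,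
          (CI.cC_of_isConj hh).symm.trans h192⟩⟩ : orderOf t = 2 ∧ cC t = 192 ↔ IsConj z t))]
    have h := CI.card_class_mul z
    rw [h192, H.isM12.2] at h
    omega
  let Z := Finset.univ.filter fun t : G => orderOf t = 2 ∧ cC t = 192
  let X := Finset.univ.filter fun h : G => orderOf h = 3 ∧ cC h = 54
  have hXY : ∑ t ∈ Z, (X.filter fun h => t * h = h * t).card =
      ∑ h ∈ X, (Z.filter fun t => t * h = h * t).card :=
    Finset.sum_card_bipartiteAbove_eq_sum_card_bipartiteBelow (fun t h : G => t * h = h * t)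
  have hL : ∀ t ∈ Z, (X.filter fun h => t * h = h * t).card = n54 z := fun t ht => by
    rw [← hinv t (Finset.mem_filter.mp ht).2.1 (Finset.mem_filter.mp ht).2.2]
    simp only [n54, X, Finset.filter_filter, Nat.card_eq_fintype_card, Fintype.card_subtype]
  have hR : ∀ h ∈ X, (Z.filter fun t => t * h = h * t).card = 9 := fun h hh => by
    have h9 := card_inv54 H (Finset.mem_filter.mp hh).2.1 (Finset.mem_filter.mp hh).2.2
    rw [Nat.card_eq_fintype_card, Fintype.card_subtype] at h9
    rw [← h9]
    congr 1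
    ext t
    simp only [Z, Finset.mem_filter, Finset.mem_univ, true_and]
    exact ⟨fun ht => ⟨ht.1.1, ht.2.symm⟩, fun ht => ⟨⟨ht.1,
      (inv54 H (Finset.mem_filter.mp hh).2.1 (Finset.mem_filter.mp hh).2.2 ht.1 ht.2).1⟩, ht.2.symm⟩⟩
  rw [Finset.sum_congr rfl hL, Finset.sum_congr rfl hR, Finset.sum_const, Finset.sum_const,
    smul_eq_mul, smul_eq_mul] at hXY
  rw [Nat.card_eq_fintype_card, Fintype.card_subtype] at hcls hZ
  rw [show Z.card = 495 from hZ, show X.card = 1760 from hcls] at hXY
  have h32 : n54 z = 32 := by omega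
  -- all elements of order three in the centralizer
  obtain ⟨h0, hh0, hzh0⟩ := CT.exists_three hi hz
  obtain ⟨s, hs, hn⟩ := CT.card_three (H := centralizer ({z} : Set G))
    (CT.not_nine_dvd_card hi hz) (h := ⟨h0, CU.mem_cent.mpr hzh0⟩)
    (by rw [Subgroup.orderOf_mk]; exact hh0)
  rw [CT.card_inner_centralizer, show Nat.card (centralizer ({z} : Set G)) = 192 from h192] at hs
  have h6 : 6 ∣ Nat.card ↥(centralizer ({z} : Set G) ⊓ centralizer ({h0} : Set G)) := by
    have h : orderOf (z * h0) = 6 := by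
      rw [Commute.orderOf_mul_eq_mul_orderOf_of_coprime hzh0 (by rw [hh0, hz]; norm_num), hh0, hz]
    rw [← h]
    exact Subgroup.orderOf_dvd_natCard _
      ⟨CU.mem_cent.mpr (Commute.mul_right (Commute.refl z) hzh0).eq,
        CU.mem_cent.mpr (Commute.mul_right hzh0.symm (Commute.refl h0)).eq⟩
  have hs32 : s ≤ 32 := by
    obtain ⟨c, hc⟩ := h6
    rw [hc] at hs
    rcases Nat.eq_zero_or_pos c with rfl | hc0
    · omega
    · nlinarith
  let f : {h : G // (orderOf h = 3 ∧ cC h = 54) ∧ z * h = h * z} →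
      {y : centralizer ({z} : Set G) // orderOf y = 3} := fun h =>
    ⟨⟨h.1, CU.mem_cent.mpr h.2.2⟩, by rw [Subgroup.orderOf_mk]; exact h.2.1.1⟩
  have hf : Function.Injective f := fun a b e =>
    Subtype.ext (congrArg (fun y : {y : centralizer ({z} : Set G) // orderOf y = 3} => y.1.1) e)
  have hge := Nat.card_le_card_of_injective f hf
  change n54 z ≤ _ at hge
  have hd : 3 ∣ ∑ d ∈ Nat.divisors 3, sN (centralizer ({z} : Set G)) d :=
    dvd_sum_sN (by norm_num) (by rw [show Nat.card _ = 192 from h192]; norm_num)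
  rw [(by norm_num : (3 : ℕ).Prime).sum_divisors, sN_one] at hd
  have heq : sN (centralizer ({z} : Set G)) 3 = 32 := by
    unfold sN at hd ⊢
    obtain ⟨c, hc⟩ := h6
    rw [hc] at hs
    have : s * c = 32 := by nlinarith
    have hsd : s ∣ 32 := ⟨c, this.symm⟩
    have hsm : s ∈ Nat.divisors 32 := Nat.mem_divisors.mpr ⟨hsd, by norm_num⟩
    rw [show Nat.divisors 32 = {1, 2, 4, 8, 16, 32} by decide +kernel] at hsm
    simp only [Finset.mem_insert, Finset.mem_singleton] at hsm
    omega
  refine ⟨heq, fun h hh hzh => ?_⟩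
  have hbij : Function.Bijective f :=
    hf.bijective_of_nat_card_le (le_of_eq (heq.trans h32.symm))
  obtain ⟨⟨h', hh'⟩, e⟩ := hbij.2 ⟨⟨h, CU.mem_cent.mpr hzh⟩, by rw [Subgroup.orderOf_mk]; exact hh⟩
  have e' : h' = h :=
    congrArg (fun y : {y : centralizer ({z} : Set G) // orderOf y = 3} => y.1.1) e
  exact e' ▸ hh'.1.2

/-- Commuting elements of order three and involutions. -/
theorem even_cases {x t : G} (hx : orderOf x = 3) (ht : orderOf t = 2) (hxt : x * t = t * x) :
    (cC t = 192 ∧ cC x = 54) ∨ (cC t = 240 ∧ cC x = 36) := by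
  rcases (invols' H).invol t ht with h | h
  · exact Or.inl ⟨h, (three_z H ht h).2 x hx hxt.symm⟩
  · refine Or.inr ⟨h, ?_⟩
    have h12 : 12 ∣ cC x := H.uf.three t x ht h hx hxt.symm ▸ card_dvd_of_le inf_le_right
    have := cC_cases H hx
    simp only [Finset.mem_insert, Finset.mem_singleton] at this
    omega

theorem no_eighteen {x : G} (hx : orderOf x = 3) : cC x ≠ 18 := by
  intro h
  have : Fact (Nat.Prime 2) := ⟨Nat.prime_two⟩
  obtain ⟨⟨t, htC⟩, ht⟩ := exists_prime_orderOf_dvd_card' (G := centralizer ({x} : Set G)) 2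
    (by rw [show Nat.card _ = 18 from h]; norm_num)
  rw [Subgroup.orderOf_mk] at ht
  rcases even_cases H hx ht (CU.mem_cent.mp htC) with e | e <;> omega

/-- The elements with centralizer of order 36 form one class. -/
theorem conj36 {x y : G} (hx : orderOf x = 3) (hy : orderOf y = 3) (hx36 : cC x = 36)
    (hy36 : cC y = 36) : IsConj x y := by
  classical
  have : Fact (Nat.Prime 2) := ⟨Nat.prime_two⟩
  have hi := invols' H
  have getu : ∀ w : G, orderOf w = 3 → cC w = 36 →
      ∃ t : G, orderOf t = 2 ∧ cC t = 240 ∧ t * w = w * t := by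
    intro w hw h36
    obtain ⟨⟨t, htC⟩, ht⟩ := exists_prime_orderOf_dvd_card' (G := centralizer ({w} : Set G)) 2
      (by rw [show Nat.card _ = 36 from h36]; norm_num)
    rw [Subgroup.orderOf_mk] at ht
    rcases even_cases H hw ht (CU.mem_cent.mp htC) with e | e
    · omega
    · exact ⟨t, ht, e.1, (CU.mem_cent.mp htC).symm⟩
  obtain ⟨t, ht, ht240, htx⟩ := getu x hx hx36
  obtain ⟨t', ht', ht240', hty⟩ := getu y hy hy36
  obtain ⟨g, rfl⟩ := isConj_iff.mp (hi.invol_conj t t' ht ht' (ht240.trans ht240'.symm))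
  set y' := g⁻¹ * y * g with hy'
  have hty' : t * y' = y' * t := by
    have := CU.conj_comm g⁻¹ hty
    simpa [hy', mul_assoc] using this
  have hy'3 : orderOf y' = 3 := by
    have := CU.orderOf_conj g⁻¹ y
    rw [inv_inv] at this
    exact this.trans hy
  set K := centralizer ({t} : Set G) with hK
  set a : K := ⟨x, CU.mem_cent.mpr htx⟩
  have ha : orderOf a = 3 := by rw [Subgroup.orderOf_mk]; exact hx
  have h20 := CT.sN_three_u H.uf hi ht ht240
  have h := Involution.card_isConj_mul_card_centralizer a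
  rw [CT.card_inner_centralizer, H.uf.three t x ht ht240 hx htx,
    show Nat.card K = 240 from ht240] at h
  let f : {b : K // IsConj a b} → {b : K // orderOf b = 3} := fun b =>
    ⟨b.1, (CI.orderOf_of_isConj b.2).symm.trans ha⟩
  have hbij : Function.Bijective f :=
    (Nat.bijective_iff_injective_and_card _).mpr ⟨fun b c e =>
      Subtype.ext (congrArg (fun b : {b : K // orderOf b = 3} => b.1) e),
      by change Nat.card {b : K // orderOf b = 3} = 20 at h20; omega⟩
  obtain ⟨⟨b, hb⟩, e⟩ := hbij.2 ⟨⟨y', CU.mem_cent.mpr hty'⟩, by rw [Subgroup.orderOf_mk]; exact hy'3⟩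
  have hb' : b = ⟨y', CU.mem_cent.mpr hty'⟩ := congrArg (fun b : {b : K // orderOf b = 3} => b.1) e
  subst hb'
  obtain ⟨k, hk⟩ := isConj_iff.mp hb
  have hk' : (k : G) * x * (k : G)⁻¹ = y' := congrArg Subtype.val hk
  exact isConj_iff.mpr ⟨g * k, by
    rw [show g * (k : G) * x * (g * k)⁻¹ = g * ((k : G) * x * (k : G)⁻¹) * g⁻¹ by group, hk', hy']
    group⟩

theorem exists_y : ∃ y : G, orderOf y = 3 ∧ cC y = 36 := by
  obtain ⟨u, hu, h240⟩ := (invols' H).exists_u
  obtain ⟨y, hy, huy⟩ := CT.exists_three (invols' H) hu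
  rcases even_cases H hy hu huy.symm with e | e
  · omega
  · exact ⟨y, hy, e.2⟩

/-- No element of order three has centralizer of order nine. -/
theorem counts : sN G 3 = 4400 ∧ ∀ x : G, orderOf x = 3 → cC x ≠ 9 := by
  classical
  have := Fintype.ofFinite G
  obtain ⟨x, hx, h54⟩ := exists_x H
  obtain ⟨y, hy, h36⟩ := exists_y H
  let O := Finset.univ.filter fun g : G => orderOf g = 3
  let A := Finset.univ.filter fun g : G => IsConj x g
  let B := Finset.univ.filter fun g : G => IsConj y g
  let R := Finset.univ.filter fun g : G => orderOf g = 3 ∧ cC g = 9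
  have hA : A.card = 1760 := by
    have h := CI.card_class_mul x
    rw [h54, H.isM12.2, Nat.card_eq_fintype_card, Fintype.card_subtype] at h
    change A.card * 54 = 95040 at h
    omega
  have hB : B.card = 2640 := by
    have h := CI.card_class_mul y
    rw [h36, H.isM12.2, Nat.card_eq_fintype_card, Fintype.card_subtype] at h
    change B.card * 36 = 95040 at h
    omega
  have hsplit : O.card = A.card + B.card + R.card := by
    rw [← Finset.card_union_of_disjoint, ← Finset.card_union_of_disjoint]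
    · congr 1
      ext g
      simp only [O, A, B, R, Finset.mem_filter, Finset.mem_univ, true_and, Finset.mem_union]
      constructor
      · intro hg
        have hc := cC_cases H hg
        simp only [Finset.mem_insert, Finset.mem_singleton] at hc
        rcases hc with e | e | e | e
        · exact Or.inr ⟨hg, e⟩
        · exact absurd e (no_eighteen H hg)
        · exact Or.inl (Or.inr (conj36 H hy hg h36 e))
        · exact Or.inl (Or.inl (H.conj54 x g hx hg h54 e))
      · rintro ((hg | hg) | hg)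
        · exact (CI.orderOf_of_isConj hg).symm.trans hx
        · exact (CI.orderOf_of_isConj hg).symm.trans hy
        · exact hg.1
    · rw [Finset.disjoint_left]
      intro g hg hg'
      simp only [A, B, R, Finset.mem_filter, Finset.mem_univ, true_and, Finset.mem_union] at hg hg'
      rcases hg with hg | hg <;> have := CI.cC_of_isConj hg <;> omega
    · rw [Finset.disjoint_left]
      intro g hg hg'
      simp only [A, B, Finset.mem_filter, Finset.mem_univ, true_and] at hg hg'
      have h1 := CI.cC_of_isConj hg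
      have h2 := CI.cC_of_isConj hg'
      omega
  have hR : 10560 ∣ R.card := by
    rw [Finset.card_eq_sum_card_fiberwise (f := ConjClasses.mk) (t := R.image ConjClasses.mk)
      fun g hg => Finset.mem_image_of_mem _ hg]
    refine Finset.dvd_sum fun c hc => dvd_of_eq ?_
    obtain ⟨g, hg, rfl⟩ := Finset.mem_image.mp hc
    have hg' := (Finset.mem_filter.mp hg).2
    have h := CI.card_class_mul g
    rw [hg'.2, H.isM12.2, Nat.card_eq_fintype_card, Fintype.card_subtype] at h
    have e : (R.filter fun a => ConjClasses.mk a = ConjClasses.mk g) =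
        Finset.univ.filter fun a => IsConj g a := by
      ext a
      simp only [R, Finset.mem_filter, Finset.mem_univ, true_and,
        ConjClasses.mk_eq_mk_iff_isConj]
      exact ⟨fun ha => ha.2.symm, fun ha => ⟨⟨(CI.orderOf_of_isConj ha).symm.trans hg'.1,
        (CI.cC_of_isConj ha).symm.trans hg'.2⟩, ha.symm⟩⟩
    rw [e]
    omega
  have hO : sN G 3 = O.card := by
    simp only [sN, Nat.card_eq_fintype_card, Fintype.card_subtype, O]
  have hle : O.card < 95040 := by
    have h : Finset.card O < Finset.card (Finset.univ : Finset G) :=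
      Finset.card_lt_card ((Finset.filter_ssubset).mpr ⟨1, Finset.mem_univ _, by simp⟩)
    rwa [Finset.card_univ, ← Nat.card_eq_fintype_card, H.isM12.2] at h
  have h9 : sN G 9 = 0 := Nat.eq_zero_of_not_pos fun hp => by
    obtain ⟨g, hg⟩ := sN_pos.1 hp
    exact no_nine H g hg
  have h27' : sN G 27 = 0 := Nat.eq_zero_of_not_pos fun hp => by
    have := sN_pos_of_dvd (G := G) (show 9 ∣ 27 by norm_num) hp
    omega
  have h27 := dvd_sum_sN (G := G) (n := 27) (by norm_num) (by rw [H.isM12.2]; norm_num)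
  rw [show (27 : ℕ).divisors = {1, 3, 9, 27} by decide +kernel] at h27
  simp only [Finset.sum_insert, Finset.mem_insert, Finset.mem_singleton, Finset.sum_singleton,
    Nat.reduceEqDiff, or_self, not_false_eq_true, sN_one, h9, h27'] at h27
  obtain ⟨k, hk⟩ := hR
  refine ⟨by omega, fun g hg h => ?_⟩
  have hpos : 0 < R.card := Finset.card_pos.mpr ⟨g, by simp [R, hg, h]⟩
  omega

theorem s6 : sN G 6 = 23760 := by
  classical
  have := Fintype.ofFinite G
  have hi := invols' H
  obtain ⟨v, hv, h240⟩ := hi.exists_u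
  obtain ⟨z, hz, h192⟩ := hi.exists_z
  have hcard : ∀ a : G, orderOf a = 2 →
      (Finset.univ.filter fun t : G => orderOf t = 2 ∧ cC t = cC a).card * cC a = 95040 := by
    intro a ha
    have h := CI.card_class_mul a
    rw [H.isM12.2, Nat.card_eq_fintype_card, Fintype.card_subtype] at h
    have e : (Finset.univ.filter fun t : G => orderOf t = 2 ∧ cC t = cC a) =
        Finset.univ.filter fun t => IsConj a t := by
      ext t
      simp only [Finset.mem_filter, Finset.mem_univ, true_and]
      exact ⟨fun ht => hi.invol_conj a t ha ht.1 ht.2.symm,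
        fun ht => ⟨(CI.orderOf_of_isConj ht).symm.trans ha, (CI.cC_of_isConj ht).symm⟩⟩
    rw [e]
    exact h
  have hu := hcard v hv
  have hzc := hcard z hz
  rw [h240] at hu
  rw [h192] at hzc
  rw [CT.sN_six, finsum_eq_sum_of_fintype,
    ← Finset.sum_subtype (p := fun t : G => orderOf t = 2)
      (Finset.univ.filter fun t : G => orderOf t = 2) (fun x => by simp)
      (fun t : G => sN (centralizer ({t} : Set G)) 3),
    ← Finset.sum_filter_add_sum_filter_not _ (fun t : G => cC t = 240),
    Finset.filter_filter, Finset.filter_filter,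
    Finset.sum_congr rfl (fun t ht => CT.sN_three_u H.uf hi (Finset.mem_filter.mp ht).2.1
      (Finset.mem_filter.mp ht).2.2),
    Finset.sum_congr (s₁ := Finset.univ.filter fun t : G => orderOf t = 2 ∧ ¬ cC t = 240) rfl
      (fun t ht => (three_z H (Finset.mem_filter.mp ht).2.1
        ((hi.invol t (Finset.mem_filter.mp ht).2.1).resolve_right (Finset.mem_filter.mp ht).2.2)).1),
    Finset.sum_const, Finset.sum_const, smul_eq_mul, smul_eq_mul]
  have e : (Finset.univ.filter fun t : G => orderOf t = 2 ∧ ¬ cC t = 240) =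
      Finset.univ.filter fun t : G => orderOf t = 2 ∧ cC t = 192 := by
    ext t
    simp only [Finset.mem_filter, Finset.mem_univ, true_and]
    exact ⟨fun ht => ⟨ht.1, (hi.invol t ht.1).resolve_right ht.2⟩, fun ht => ⟨ht.1, by omega⟩⟩
  rw [e]
  omega

/-- The classes of elements of order three. -/
theorem threes_of : Threes G := by
  have hcases : ∀ x : G, orderOf x = 3 → cC x = 54 ∨ cC x = 36 := by
    intro x hx
    have hc := cC_cases H hx
    simp only [Finset.mem_insert, Finset.mem_singleton] at hc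
    rcases hc with e | e | e | e
    · exact absurd e ((counts H).2 x hx)
    · exact absurd e (no_eighteen H hx)
    · exact Or.inr e
    · exact Or.inl e
  refine ⟨hcases, exists_x H, exists_y H, fun a b ha hb hab => ?_,
    fun x t hx h ht hxt => (inv54 H hx h ht hxt).1, fun x t hx h ht hxt => ?_,
    fun z h hz h192 hh hzh => ?_⟩
  · rcases hcases a ha with e | e
    · exact H.conj54 a b ha hb e (hab ▸ e)
    · exact conj36 H ha hb e (hab ▸ e)
  · rcases even_cases H hx ht hxt with e | e
    · omega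
    · exact e.1
  · rw [inf_comm]
    exact (inv54 H hh ((three_z H hz h192).2 h hh hzh) hz hzh.symm).2

end OT

/-- Part O3 of `PLAN-Order.md`. -/
theorem threes_order {G : Type u} [Group G] [Finite G] (hG : Cfsg.IsM12 G) (hu : UFacts G)
    (hcases : ∀ w : G, orderOf w = 3 → 9 ∣ cC w → cC w ∈ ({9, 18, 36, 54} : Finset ℕ))
    (hconj : ∀ v w : G, orderOf v = 3 → orderOf w = 3 → cC v = 54 → cC w = 54 → IsConj v w) :
    Threes G ∧ (∀ g : G, orderOf g ≠ 9) ∧ sN G 3 = 4400 ∧ sN G 6 = 23760 :=
  have H : OT.Hyp G := ⟨hG, hu, hcases, hconj⟩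
  ⟨OT.threes_of H, OT.no_nine H, (OT.counts H).1, OT.s6 H⟩

end Cfsg.Agent.M12Uniq
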