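import Cfsg.Agent.M12Uniq.OrderRestThree
import Cfsg.Agent.M12Uniq.OrderRestCols
import Cfsg.Agent.M12Uniq.OrderThree

/-!
# `UFacts` and the classes of elements of order 3 from the order alone
-/

set_option autoImplicit false
set_option linter.unusedSectionVars false

namespace Cfsg.Agent.M12Uniq.OrderRest

open Subgroup MulAction CU

universe u

variable {G : Type u} [Group G] [Finite G]

/-- Some element of order 4 commutes with an involution centralising an element of order 5. -/
theorem exists_four_order (hG : Cfsg.IsM12 G) {q u : G} (hq : orderOf q = 5) (hu : orderOf u = 2)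
    (hqu : q * u = u * q) : ∃ g : G, orderOf g = 4 ∧ u * g = g * u := by
  have : Fact (Nat.Prime 5) := ⟨by norm_num⟩
  set Q := zpowers q with hQ
  set N := normalizer (Q : Set G) with hN
  -- an element of the normalizer squaring to neither `±1` on `Q`
  by_contra hno
  push Not at hno
  have hsub : N ≤ centralizer ({u} : Set G) := OrderInvol.normalizer_le_centralizer hG hq hu hqu
  have hsq : ∀ g ∈ N, g * g * q * (g * g)⁻¹ = q := by
    intro g hg
    have hcent : ∀ a : G, orderOf a = 5 → a * g = g * a → orderOf g ∣ 10 := fun a ha hag => by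
      rw [← (OrderFive.five_data hG).1 a ha,
        ← Subgroup.orderOf_mk g (mem_cent.mpr hag : g ∈ centralizer ({a} : Set G))]
      exact orderOf_dvd_natCard _
    have hcu : u * g = g * u := mem_cent.mp (hsub hg)
    have hd : orderOf g ∣ 40 := by
      rw [← (OrderFive.five_data hG).2 Q (by rw [hQ, Nat.card_zpowers, hq])]
      exact (Subgroup.orderOf_dvd_natCard _ (x := g) hg)
    have h4 : orderOf g ≠ 4 := fun h => hno g h hcu
    have h8 : orderOf g ≠ 8 := fun h => by
      refine hno (g ^ 2) ?_ ?_
      · rw [orderOf_pow' g (by norm_num), h]; rfl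
      · exact (Commute.pow_right hcu 2 : _)
    obtain ⟨i, hi⟩ := Subgroup.mem_zpowers_iff.mp (mem_norm_conj hg (mem_zpowers q))
    have h10 : orderOf g ∣ 10 := by
      have hm := Nat.mem_divisors.mpr ⟨hd, (by norm_num : (40 : ℕ) ≠ 0)⟩
      rw [show Nat.divisors 40 = {1, 2, 4, 5, 8, 10, 20, 40} by decide] at hm
      simp only [Finset.mem_insert, Finset.mem_singleton] at hm
      rcases hm with h | h | h | h | h | h | h | h
      · rw [h]; norm_num
      · rw [h]; norm_num
      · exact absurd h h4
      · rw [h]; norm_num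
      · exact absurd h h8
      · rw [h]
      · exact hcent (g ^ 4) (by rw [orderOf_pow' _ (by norm_num), h]; rfl)
          ((Commute.refl g).pow_left 4).eq
      · exact hcent (g ^ 8) (by rw [orderOf_pow' _ (by norm_num), h]; rfl)
          ((Commute.refl g).pow_left 8).eq
    have hg10 : g ^ 10 = 1 := orderOf_dvd_iff_pow_eq_one.mp h10
    have hconj : ∀ k : ℕ, g ^ k * q * (g ^ k)⁻¹ = q ^ (i ^ k) := by
      intro k
      induction k with
      | zero => simp
      | succ k ih =>
        rw [pow_succ' g k, show g * g ^ k * q * (g * g ^ k)⁻¹ = g * (g ^ k * q * (g ^ k)⁻¹) * g⁻¹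
          by group, ih, ← conj_zpow, ← hi, ← zpow_mul, pow_succ']
    have h1 : q ^ (i ^ 10) = q ^ (1 : ℤ) := by rw [← hconj 10, hg10]; simp
    rw [zpow_eq_zpow_iff_modEq, hq, ← (ZMod.intCast_eq_intCast_iff _ _ 5)] at h1
    push_cast at h1
    rw [← pow_two g, hconj 2]
    conv_rhs => rw [← zpow_one q]
    rw [zpow_eq_zpow_iff_modEq, hq, ← (ZMod.intCast_eq_intCast_iff _ _ 5)]
    push_cast
    exact zmod_five_ten _ h1
  -- all squares centralise `q`, so the normalizer has too small order
  have hcard : Nat.card N = 40 := (OrderFive.five_data hG).2 Q (by rw [hQ, Nat.card_zpowers, hq])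
  let C := (centralizer ({q} : Set G)).subgroupOf N
  have hC : Nat.card C ≤ 10 := by
    rw [← (OrderFive.five_data hG).1 q hq]
    exact Nat.card_le_card_of_injective (fun x => ⟨x.1.1, x.2⟩)
      fun a b h => Subtype.ext (Subtype.ext (congrArg
        (fun z : (centralizer ({q} : Set G) : Subgroup G) => (z : G)) h))
  -- `g ↦ g q g⁻¹` takes at most two values
  have hval : ∀ g ∈ N, g * q * g⁻¹ = q ∨ g * q * g⁻¹ = q⁻¹ := by
    intro g hg
    obtain ⟨i, hi⟩ := Subgroup.mem_zpowers_iff.mp (mem_norm_conj hg (mem_zpowers q))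
    have h2 := hsq g hg
    rw [show g * g * q * (g * g)⁻¹ = g * (g * q * g⁻¹) * g⁻¹ by group, ← hi, ← conj_zpow, ← hi,
      ← zpow_mul] at h2
    conv_rhs at h2 => rw [← zpow_one q]
    rw [zpow_eq_zpow_iff_modEq, hq, ← (ZMod.intCast_eq_intCast_iff _ _ 5)] at h2
    rw [← hi]
    conv => enter [1, 2]; rw [← zpow_one q]
    conv => enter [2, 2]; rw [← zpow_neg_one q]
    simp only [zpow_eq_zpow_iff_modEq, hq, ← (ZMod.intCast_eq_intCast_iff _ _ 5)]
    push_cast at h2 ⊢
    exact zmod_five_sq _ h2
  have hidx : C.index ≤ 2 := by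
    rw [Subgroup.index]
    refine le_trans (Nat.card_le_card_of_injective (β := ({q, q⁻¹} : Set G))
      (fun x : N ⧸ C => ⟨(x.out : G) * q * (x.out : G)⁻¹, by
        rcases hval _ x.out.2 with h | h <;> simp [h]⟩) ?_) ?_
    · intro x y h
      have e : (x.out : G) * q * (x.out : G)⁻¹ = (y.out : G) * q * (y.out : G)⁻¹ :=
        congrArg Subtype.val h
      rw [← x.out_eq, ← y.out_eq]
      refine Quotient.sound' (QuotientGroup.leftRel_apply.mpr ?_)
      refine Subgroup.mem_subgroupOf.mpr (mem_cent.mpr ?_)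
      push_cast
      calc q * ((x.out : G)⁻¹ * (y.out : G))
          = (x.out : G)⁻¹ * ((x.out : G) * q * (x.out : G)⁻¹) * (y.out : G) := by group
        _ = (x.out : G)⁻¹ * ((y.out : G) * q * (y.out : G)⁻¹) * (y.out : G) := by rw [e]
        _ = (x.out : G)⁻¹ * (y.out : G) * q := by group
    · rw [Nat.card_coe_set_eq]
      exact (Set.ncard_insert_le _ _).trans (by simp)
  have := C.card_mul_index
  rw [hcard] at this
  nlinarith

/-- `UFacts` from the order alone. -/
theorem uFacts_order (hG : Cfsg.IsM12 G) : UFacts G where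
  cC_u _ _ hq hu hqu := OrderInvol.five_comm hG hq hu hqu
  three u x hu h240 hx hux := by
    obtain ⟨q, hq, hqu⟩ := exists_q h240
    exact three_twelve hG hq hu hqu h240 hx hux
  four u hu h240 := by
    obtain ⟨q, hq, hqu⟩ := exists_q h240
    exact exists_four_order hG hq hu hqu
where
  exists_q {u : G} (h : cC u = 240) : ∃ q : G, orderOf q = 5 ∧ q * u = u * q := by
    have : Fact (Nat.Prime 5) := ⟨by norm_num⟩
    obtain ⟨⟨q, hq⟩, hord⟩ := exists_prime_orderOf_dvd_card'
      (G := centralizer ({u} : Set G)) 5 (by rw [show Nat.card _ = 240 from h]; norm_num)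
    rw [Subgroup.orderOf_mk] at hord
    exact ⟨q, hord, (mem_cent.mp hq).symm⟩

/-- The elements of order 3 and 6, from the order alone. -/
theorem threes_all (hG : Cfsg.IsM12 G) :
    Threes G ∧ (∀ g : G, orderOf g ≠ 9) ∧ sN G 3 = 4400 ∧ sN G 6 = 23760 := by
  have := Fintype.ofFinite G
  obtain ⟨R⟩ := exists_rows hG
  exact threes_order hG (uFacts_order hG)
    (fun w hw _ => cC_three_cases_of hG R (threeCols hG R) hw)
    (fun v w hv hw hvC hwC => three_conj_54_of hG R (threeCols hG R) hv hw hvC hwC)

end Cfsg.Agent.M12Uniq.OrderRest
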