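import Cfsg.Agent.M12Uniq.Defs
import Cfsg.Agent.Lib.Involution.Counting
import Cfsg.Agent.Lib.CharCore.Complete
import Cfsg.Agent.S0158

/-!
# Square roots from indicators
-/

set_option autoImplicit false
set_option linter.unusedSectionVars false

open scoped ComplexConjugate

namespace Cfsg.Agent.M12Uniq.OrderRoots


universe u

variable {G : Type u} [Group G] [Fintype G]

theorem class_mul (x : G) : Nat.card {y : G // IsConj x y} * cC x = Nat.card G :=
  Involution.card_isConj_mul_card_centralizer x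

theorem cC_conj {a b : G} (h : IsConj a b) : cC a = cC b := by
  have hclass : Nat.card {y : G // IsConj a y} = Nat.card {y : G // IsConj b y} :=
    Nat.card_congr (Equiv.subtypeEquivRight fun y => ⟨fun hy => h.symm.trans hy, fun hy => h.trans hy⟩)
  have ha := class_mul a
  rw [hclass, ← class_mul b] at ha
  exact Nat.eq_of_mul_eq_mul_left (Nat.card_pos_iff.2 ⟨⟨⟨b, IsConj.refl b⟩⟩, inferInstance⟩) ha

/-- The Frobenius–Schur indicator. -/
theorem exists_ind (χ : Cfsg.IrrCharacter G) :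
    ∃ ν : ℤ, (ν = 0 ∨ ν = 1 ∨ ν = -1) ∧
      ∑ s : G, (χ : G → ℂ) (s * s) = (ν : ℂ) * Nat.card G ∧
        (ν = 0 ↔ ∃ g : G, ((χ : G → ℂ) g).im ≠ 0) := by
  obtain ⟨n, ρ, hρ, he⟩ := χ.2
  have := hρ
  have hne : (Nat.card G : ℂ) ≠ 0 := Nat.cast_ne_zero.2 Nat.card_pos.ne'
  obtain ⟨h, h0⟩ := Cfsg.Agent.S0158.result ρ
  rw [← he, ← h0]
  rcases h with h | h | h <;> rw [inv_mul_eq_iff_eq_mul₀ hne] at h <;> rw [h]
  · exact ⟨0, Or.inl rfl, by simp, by simp⟩
  · exact ⟨1, Or.inr (Or.inl rfl), by simp, by simp [hne]⟩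
  · exact ⟨-1, Or.inr (Or.inr rfl), by simp, by simp [hne]⟩

/-- The indicator, an integer. -/
noncomputable def ind (χ : Cfsg.IrrCharacter G) : ℤ := (exists_ind χ).choose

theorem ind_cases (χ : Cfsg.IrrCharacter G) : ind χ = 0 ∨ ind χ = 1 ∨ ind χ = -1 :=
  (exists_ind χ).choose_spec.1

theorem sum_ind (χ : Cfsg.IrrCharacter G) :
    ∑ s : G, (χ : G → ℂ) (s * s) = (ind χ : ℂ) * Nat.card G :=
  (exists_ind χ).choose_spec.2.1

theorem ind_eq_zero_iff (χ : Cfsg.IrrCharacter G) :
    ind χ = 0 ↔ ∃ g : G, ((χ : G → ℂ) g).im ≠ 0 :=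
  (exists_ind χ).choose_spec.2.2

theorem ind_le_one (χ : Cfsg.IrrCharacter G) : ind χ ≤ 1 := by
  rcases ind_cases χ with h | h | h <;> rw [h] <;> norm_num

/-- The elements with square conjugate to `g` are `|g^G|` times the square roots of `g`. -/
theorem card_roots_isConj (g : G) :
    Nat.card {s : G // IsConj (s * s) g} =
      Nat.card {y : G // IsConj g y} * Nat.card {s : G // s * s = g} := by
  classical
  rw [← Nat.card_prod]
  choose c hc using fun y : {y : G // IsConj g y} => isConj_iff.mp y.2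
  refine Nat.card_congr (Equiv.ofBijective
    (fun p : {y : G // IsConj g y} × {s : G // s * s = g} =>
      (⟨c p.1 * p.2.1 * (c p.1)⁻¹, by
        rw [show c p.1 * p.2.1 * (c p.1)⁻¹ * (c p.1 * p.2.1 * (c p.1)⁻¹) =
          c p.1 * (p.2.1 * p.2.1) * (c p.1)⁻¹ by group, p.2.2, hc]
        exact p.1.2.symm⟩ : {s : G // IsConj (s * s) g})) ⟨?_, ?_⟩).symm
  · rintro ⟨y, s, hs⟩ ⟨y', s', hs'⟩ h
    simp only [Subtype.mk.injEq] at h
    have hy : y = y' := by
      apply Subtype.ext
      have e1 := congrArg (fun a : G => a * a) h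
      rw [show c y * s * (c y)⁻¹ * (c y * s * (c y)⁻¹) = c y * (s * s) * (c y)⁻¹ by group,
        show c y' * s' * (c y')⁻¹ * (c y' * s' * (c y')⁻¹) = c y' * (s' * s') * (c y')⁻¹ by group,
        hs, hs', hc, hc] at e1
      exact e1
    subst hy
    exact Prod.ext rfl (Subtype.ext (by simpa using h))
  · rintro ⟨s, hs⟩
    refine ⟨(⟨s * s, hs.symm⟩, ⟨(c ⟨s * s, hs.symm⟩)⁻¹ * s * c ⟨s * s, hs.symm⟩, ?_⟩), ?_⟩
    · have h := hc ⟨s * s, hs.symm⟩
      simp only at h
      set d := c ⟨s * s, hs.symm⟩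
      calc d⁻¹ * s * d * (d⁻¹ * s * d) = d⁻¹ * (s * s) * d := by group
        _ = d⁻¹ * (d * g * d⁻¹) * d := by rw [h]
        _ = g := by group
    · apply Subtype.ext
      simp [mul_assoc]

/-- The number of square roots of an element. -/
theorem card_roots (g : G) :
    ∑ χ : Cfsg.IrrCharacter G, (ind χ : ℂ) * conj ((χ : G → ℂ) g) =
      (Nat.card {s : G // s * s = g} : ℂ) := by
  classical
  have hne : (Nat.card G : ℂ) ≠ 0 := Nat.cast_ne_zero.2 Nat.card_pos.ne'
  apply mul_left_cancel₀ hne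
  calc (Nat.card G : ℂ) * ∑ χ : Cfsg.IrrCharacter G, (ind χ : ℂ) * conj ((χ : G → ℂ) g)
      = ∑ s : G, ∑ χ : Cfsg.IrrCharacter G, (χ : G → ℂ) (s * s) * conj ((χ : G → ℂ) g) := by
        rw [Finset.sum_comm, Finset.mul_sum]
        refine Finset.sum_congr rfl fun χ _ => ?_
        rw [← Finset.sum_mul, sum_ind]
        ring
    _ = ∑ s : G, if IsConj (s * s) g then (cC g : ℂ) else 0 := by
        refine Finset.sum_congr rfl fun s _ => ?_
        rw [CharCore.sum_apply_mul_conj]
        split_ifs with h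
        · rw [show (Nat.card (Subgroup.centralizer ({s * s} : Set G)) : ℂ) = (cC (s * s) : ℂ) from rfl,
            cC_conj h]
        · rfl
    _ = _ := by
        rw [← Finset.sum_filter, Finset.sum_const, nsmul_eq_mul,
          ← Fintype.card_subtype, ← Nat.card_eq_fintype_card, card_roots_isConj]
        have := class_mul g
        rw [← this]
        push_cast
        ring

end Cfsg.Agent.M12Uniq.OrderRoots
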