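import Cfsg.Agent.M12Uniq.OrderRestU
import Cfsg.Agent.M12Uniq.OrderRestRows
import Cfsg.Agent.M12Uniq.OrderRestGalois
import Mathlib.GroupTheory.FixedPointFree

/-!
# The element orders of a simple group of order 95040 (`PLAN-Order.md`, part O4)

No element of order 12: the Sylow 2-subgroup of `C(y)`, `cC y = 36`, would be cyclic.  No element of
order 16: over `u` the degree 16 row forbids it; over `z` an element `h` of order 3 of `C(z)` acts
fixed point freely on the normal 2-subgroup, so `a φ(a) φ²(a) = 1` modulo `⟨z⟩`.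
-/

set_option autoImplicit false
set_option linter.unusedSectionVars false

namespace Cfsg.Agent.M12Uniq.OrderRest

open Subgroup
open Cfsg.Agent.SmallGroups
open Cfsg.Agent.SmallGroups.SelfCent.Setup (deg deg_spec triv deg_triv)

universe u

variable {G : Type u} [Group G]

/-- All the inputs of the row norms, from the order alone. -/
theorem hyp [Fintype G] (hG : Cfsg.IsM12 G) (R : Rows G) : Hyp R where
  card := hG.2
  five := (OrderFive.five_data hG).1
  inv := involData hG R
  cols := threeCols hG R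
  loc := threeLocal hG (involData hG R) (threeCols hG R)
  tools := genTools hG
  s2 := OrderInvol.s2 hG
  s5 := OrderInvol.s5 hG
  s10 := OrderInvol.s10 hG
  s11 := OrderInvol.s11 hG

/-- No element of order 12. -/
theorem not_twelve [Finite G] (hG : Cfsg.IsM12 G) (g : G) : orderOf g ≠ 12 := by
  intro hg
  classical
  have := Fintype.ofFinite G
  have : Fact (Nat.Prime 2) := ⟨Nat.prime_two⟩
  obtain ⟨R⟩ := exists_rows hG
  have hI := involData hG R
  have hT := threeCols hG R
  set y := g ^ 4 with hydef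
  set h := g ^ 3 with hhdef
  have hy : orderOf y = 3 := by rw [hydef, orderOf_pow' _ (by norm_num), hg]; rfl
  have hh : orderOf h = 4 := by rw [hhdef, orderOf_pow' _ (by norm_num), hg]; rfl
  have hyh : Commute y h := ((Commute.refl g).pow_pow 4 3)
  set K := centralizer ({y} : Set G) with hK
  have hhK : h ∈ K := CU.mem_cent.mpr hyh.eq
  have h4 : 4 ∣ cC y := by
    rw [← hh]
    exact Subgroup.orderOf_dvd_natCard K hhK
  obtain ⟨hth, -⟩ := threes_all hG
  rcases hth.three y hy with e | e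
  · rw [e] at h4; norm_num at h4
  · set t := h * h with htdef
    have ht : orderOf t = 2 := by
      rw [htdef, ← pow_two, orderOf_pow' _ (by norm_num), hh]; rfl
    have hyt : y * t = t * y := (hyh.mul_right hyh).eq
    have h12 := card_inf_twelve hG hI hT hy e ht hyt
    have hKc : Nat.card K = 36 := e
    have hPc : ∀ P : Sylow 2 K, Nat.card ↥(P : Subgroup K) = 4 := fun P => by
      rw [card_sylow_eq (a := 2) (m := 9) (by rw [hKc]; norm_num) (by norm_num) P]; norm_num
    set a : K := ⟨h, hhK⟩ with hadef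
    have ha : orderOf a = 4 := by rw [hadef, Subgroup.orderOf_mk, hh]
    obtain ⟨P, haP⟩ := (IsPGroup.of_card (n := 2) (by rw [Nat.card_zpowers, ha]; norm_num) :
      IsPGroup 2 (zpowers a)).exists_le_sylow
    have hP : (P : Subgroup K) = zpowers a :=
      (eq_of_le_of_card_ge haP (by rw [Nat.card_zpowers, hPc P, ha])).symm
    -- the involutions of `K` are conjugates of `t`
    have hconj : ∀ s : G, orderOf s = 2 → y * s = s * y → ∃ k : K, (k : G) * t * (k : G)⁻¹ = s := by
      intro s hs hys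
      obtain ⟨Q, hsQ⟩ := exists_mem_sylow (p := 2) (y := (⟨s, CU.mem_cent.mpr hys⟩ : K))
        (by rw [Subgroup.orderOf_mk, hs])
      obtain ⟨k, hk⟩ := MulAction.exists_smul_eq K P Q
      rw [← hk, Sylow.coe_subgroup_smul, Subgroup.mem_pointwise_smul_iff_inv_smul_mem] at hsQ
      set s' : K := k⁻¹ * ⟨s, CU.mem_cent.mpr hys⟩ * k with hs'def
      have hs' : s' ∈ zpowers a := by
        rw [← hP]; simpa [hs'def, MulAut.smul_def] using hsQ
      have hs'2 : orderOf s' = 2 := by
        have h' := CU.orderOf_conj k⁻¹ (⟨s, CU.mem_cent.mpr hys⟩ : K)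
        rw [inv_inv] at h'
        rw [hs'def, h', Subgroup.orderOf_mk, hs]
      obtain ⟨n, hn⟩ := (IsOfFinOrder.mem_powers_iff_mem_zpowers
        (isOfFinOrder_of_finite a)).mpr hs'
      simp only at hn
      rw [← pow_mod_orderOf, ha] at hn
      have hn2 : s' = a ^ 2 := by
        have hlt : n % 4 < 4 := Nat.mod_lt _ (by norm_num)
        have hord := congrArg orderOf hn
        rw [hs'2] at hord
        interval_cases hm : n % 4
        · rw [pow_zero, orderOf_one] at hord; norm_num at hord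
        · rw [pow_one, ha] at hord; norm_num at hord
        · exact hn.symm
        · rw [orderOf_pow' a (by norm_num), ha] at hord; norm_num at hord
      refine ⟨k, ?_⟩
      have hval := congrArg Subtype.val hn2
      simp only [hs'def, hadef, Subgroup.coe_mul, Subgroup.coe_inv, Subgroup.coe_pow] at hval
      rw [htdef, ← pow_two, ← hval]
      group
    have hle : Nat.card {s : G // orderOf s = 2 ∧ y * s = s * y} ≤ 3 := by
      set M := (centralizer ({t} : Set G) ⊓ centralizer ({y} : Set G)).subgroupOf K with hM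
      have hMc : Nat.card M = 12 := by
        rw [hM, Nat.card_congr (subgroupOfEquivOfLe inf_le_right).toEquiv, h12]
      have hMi : M.index = 3 := by
        have h := M.card_mul_index
        rw [hMc, hKc] at h
        omega
      rw [← hMi, Subgroup.index]
      refine Nat.card_le_card_of_surjective (fun c : K ⧸ M =>
        (⟨(c.out : G) * t * (c.out : G)⁻¹, (CU.orderOf_conj _ t).trans ht, ?_⟩ :
          {s : G // orderOf s = 2 ∧ y * s = s * y})) ?_
      · exact CU.mem_cent.mp (mul_mem (mul_mem c.out.2 (CU.mem_cent.mpr hyt)) (inv_mem c.out.2))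
      · rintro ⟨s, hs, hys⟩
        obtain ⟨k, hk⟩ := hconj s hs hys
        refine ⟨(k : K ⧸ M), Subtype.ext ?_⟩
        show ((k : K ⧸ M).out : G) * t * ((k : K ⧸ M).out : G)⁻¹ = s
        obtain ⟨m, hm⟩ := QuotientGroup.mk_out_eq_mul M k
        rw [hm]
        have hmt : t * ((m : K) : G) = ((m : K) : G) * t :=
          CU.mem_cent.mp (Subgroup.mem_inf.mp (Subgroup.mem_subgroupOf.mp m.2)).1
        push_cast
        calc (k : G) * ((m : K) : G) * t * ((k : G) * ((m : K) : G))⁻¹
            = (k : G) * (((m : K) : G) * t) * ((m : K) : G)⁻¹ * (k : G)⁻¹ := by group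
          _ = (k : G) * (t * ((m : K) : G)) * ((m : K) : G)⁻¹ * (k : G)⁻¹ := by rw [hmt]
          _ = (k : G) * t * (k : G)⁻¹ := by group
          _ = s := hk
    exact y_four_aux hG hI hT hy e (le_antisymm hle (y_card_aux hG hI hT hy e)) hh hyh.eq

/-- Fixed point free action of order 3 modulo a central involution: an element whose fourth power
is that involution cannot exist. -/
theorem no_fourth_root [Finite G] (O : Subgroup G) {z h : G} (hz : z ∈ O) (hz2 : z ^ 2 = 1)
    (hzne : z ≠ 1) (hzc : ∀ o ∈ O, z * o = o * z) (hhO : ∀ o ∈ O, h * o * h⁻¹ ∈ O) (hh : h ^ 3 = 1)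
    (hhz : h * z = z * h) (hfix : ∀ o ∈ O, h * o = o * h → o ∈ zpowers z) {x : G} (hx : x ∈ O) :
    x ^ 4 ≠ z := by
  intro hx4
  set Z : Subgroup O := zpowers (⟨z, hz⟩ : O) with hZdef
  have hmemZ : ∀ o : O, o ∈ Z → (o : G) = 1 ∨ (o : G) = z := by
    intro o ho
    obtain ⟨k, hk⟩ := mem_zpowers_iff.mp ho
    have hk' : z ^ k = (o : G) := by
      rw [← hk]; simp
    rcases Int.even_or_odd k with ⟨j, rfl⟩ | ⟨j, rfl⟩
    · left
      rw [← hk', ← two_mul, zpow_mul, zpow_ofNat, hz2, one_zpow]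
    · right
      rw [← hk', zpow_add, zpow_mul, zpow_ofNat, hz2, one_zpow, one_mul, zpow_one]
  have : Z.Normal := ⟨fun n hn g => by
    have : g * n * g⁻¹ = n := by
      refine Subtype.ext ?_
      push_cast
      rcases hmemZ n hn with e | e <;> rw [e]
      · group
      · rw [← hzc _ g.2, mul_inv_cancel_right]
    rwa [this]⟩
  let f : O →* O :=
    { toFun := fun o => ⟨h * o * h⁻¹, hhO o o.2⟩
      map_one' := Subtype.ext (by simp)
      map_mul' := fun a b => Subtype.ext (by push_cast; group) }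
  have hfv : ∀ o : O, (f o : G) = h * o * h⁻¹ := fun o => rfl
  have hfZ : Z ≤ Z.comap f := by
    intro o ho
    have : f o = o := by
      refine Subtype.ext ?_
      rw [hfv]
      rcases hmemZ o ho with e | e <;> rw [e]
      · group
      · rw [hhz, mul_inv_cancel_right]
    rwa [Subgroup.mem_comap, this]
  let φ : O ⧸ Z →* O ⧸ Z := QuotientGroup.map Z Z f hfZ
  have hφ : ∀ o : O, φ o = (f o : O ⧸ Z) := fun o => QuotientGroup.map_mk Z Z f hfZ o
  have hfree : MonoidHom.FixedPointFree φ := by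
    intro q hq
    obtain ⟨o, rfl⟩ := QuotientGroup.mk_surjective q
    rw [hφ, QuotientGroup.eq] at hq
    have hc := hmemZ _ hq
    push_cast at hc
    rw [hfv] at hc
    have hfo : h * (o : G) * h⁻¹ = o := by
      rcases hc with e | e
      · rw [inv_mul_eq_one] at e; exact e
      · exfalso
        have e1 : h * (o : G) * h⁻¹ = o * z := by
          rw [inv_mul_eq_iff_eq_mul] at e
          calc h * (o : G) * h⁻¹ = h * o * h⁻¹ * z * z := by
                rw [mul_assoc _ z z, ← pow_two, hz2, mul_one]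
            _ = o * z := by rw [← e]
        have e2 : h * (o * z) * h⁻¹ = o := by
          calc h * ((o : G) * z) * h⁻¹ = h * o * (z * h⁻¹) := by group
            _ = h * o * (h⁻¹ * z) := by rw [(show Commute h z from hhz).inv_left.eq]
            _ = h * o * h⁻¹ * z := by group
            _ = o := by rw [e1, mul_assoc, ← pow_two, hz2, mul_one]
        have e3 : h ^ 3 * (o : G) * (h ^ 3)⁻¹ = o * z := by
          calc h ^ 3 * (o : G) * (h ^ 3)⁻¹ = h * (h * (h * o * h⁻¹) * h⁻¹) * h⁻¹ := by simp only [pow_succ, pow_zero, one_mul, mul_assoc, mul_inv_rev]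
            _ = o * z := by rw [e1, e2, e1]
        rw [hh, one_mul, inv_one, mul_one] at e3
        exact hzne (left_eq_mul.mp e3)
    rw [QuotientGroup.eq_one_iff]
    obtain ⟨k, hk⟩ := mem_zpowers_iff.mp (hfix o o.2 (mul_inv_eq_iff_eq_mul.mp hfo))
    exact mem_zpowers_iff.mpr ⟨k, Subtype.ext (by simpa using hk)⟩
  have hiter : (⇑φ)^[3] = _root_.id := by
    funext q
    obtain ⟨o, rfl⟩ := QuotientGroup.mk_surjective q
    simp only [Function.iterate_succ, Function.iterate_zero, Function.comp_apply, id_eq, hφ]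
    congr 1
    refine Subtype.ext ?_
    rw [hfv, hfv, hfv]
    calc h * (h * (h * (o : G) * h⁻¹) * h⁻¹) * h⁻¹ = h ^ 3 * (o : G) * (h ^ 3)⁻¹ := by simp only [pow_succ, pow_zero, one_mul, mul_assoc, mul_inv_rev]
      _ = o := by rw [hh, one_mul, inv_one, mul_one]
  -- `a φ(a) φ²(a) = 1` in the quotient, for `a = x` and `a = x⁻¹`
  have key : ∀ o : O, (o : G) * (h * o * h⁻¹) * (h * (h * o * h⁻¹) * h⁻¹) = 1 ∨
      (o : G) * (h * o * h⁻¹) * (h * (h * o * h⁻¹) * h⁻¹) = z := by
    intro o
    have h1 := hfree.prod_pow_eq_one hiter (o : O ⧸ Z)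
    simp only [List.range_succ, List.range_zero, List.nil_append, List.map_append, List.map_cons,
      List.map_nil, List.prod_append, List.prod_cons, List.prod_nil, mul_one,
      Function.iterate_succ, Function.iterate_zero, Function.comp_apply, id_eq, hφ,
      ← QuotientGroup.mk_mul, QuotientGroup.eq_one_iff] at h1
    have h2 := hmemZ _ h1
    push_cast at h2
    rwa [hfv, hfv, hfv] at h2
  set y := h * x * h⁻¹ with hydef
  set w := h * y * h⁻¹ with hwdef
  have hy : y ∈ O := hhO x hx
  have hy4 : y ^ 4 = z := by rw [hydef, conj_pow, hx4, hhz, mul_inv_cancel_right]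
  have hw4 : w ^ 4 = z := by rw [hwdef, conj_pow, hy4, hhz, mul_inv_cancel_right]
  have hzz : z * z = 1 := by rw [← pow_two, hz2]
  have hzinv : z⁻¹ = z := inv_eq_of_mul_eq_one_right hzz
  obtain ⟨c₁, hc₁, hxyw⟩ : ∃ c, (c = 1 ∨ c = z) ∧ x * y * w = c := by
    rcases key ⟨x, hx⟩ with e | e
    · exact ⟨1, Or.inl rfl, e⟩
    · exact ⟨z, Or.inr rfl, e⟩
  obtain ⟨c₂, hc₂, hwyx⟩ : ∃ c, (c = 1 ∨ c = z) ∧ w * y * x = c := by
    have h1 := key ⟨x⁻¹, inv_mem hx⟩
    have e' : ∀ c : G, x⁻¹ * (h * x⁻¹ * h⁻¹) * (h * (h * x⁻¹ * h⁻¹) * h⁻¹) = c →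
        w * y * x = c⁻¹ := by
      intro c hc
      rw [← hc, hwdef, hydef]
      simp only [mul_inv_rev, inv_inv, mul_assoc]
    rcases h1 with e | e
    · exact ⟨1, Or.inl rfl, (e' 1 e).trans inv_one⟩
    · exact ⟨z, Or.inr rfl, (e' z e).trans hzinv⟩
  have hcz : ∀ c : G, c = 1 ∨ c = z → (∀ o ∈ O, c * o = o * c) ∧ c ^ 4 = 1 ∧ c⁻¹ = c := by
    rintro c (rfl | rfl)
    · exact ⟨fun o _ => by simp, one_pow 4, inv_one⟩
    · exact ⟨hzc, by rw [show 4 = 2 * 2 from rfl, pow_mul, hz2, one_pow], hzinv⟩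
  obtain ⟨hc₁c, hc₁4, hc₁i⟩ := hcz c₁ hc₁
  obtain ⟨hc₂c, hc₂4, -⟩ := hcz c₂ hc₂
  have hxy : x * y ∈ O := mul_mem hx hy
  -- `y x = x y d` with `d` central of exponent 2
  have hyx : y * x = x * y * (c₁ * c₂) := by
    have hw' : w = (x * y)⁻¹ * c₁ := by rw [← hxyw]; group
    have e : (x * y)⁻¹ * (y * x) * c₁ = c₂ := by
      rw [← hwyx, hw']
      calc (x * y)⁻¹ * (y * x) * c₁ = (x * y)⁻¹ * ((y * x) * c₁) := by group
        _ = (x * y)⁻¹ * (c₁ * (y * x)) := by rw [hc₁c _ (mul_mem hy hx)]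
        _ = (x * y)⁻¹ * c₁ * y * x := by group
    have hcc : c₂ * c₁ = c₁ * c₂ := by
      rcases hc₁ with rfl | rfl <;> rcases hc₂ with rfl | rfl <;> simp
    rw [← hcc, ← e]
    calc y * x = x * y * ((x * y)⁻¹ * (y * x) * (c₁ * c₁)) := by
          rw [show c₁ * c₁ = 1 by rw [← eq_inv_iff_mul_eq_one, hc₁i]]
          group
      _ = _ := by group
  set d := c₁ * c₂ with hd
  have hdc : ∀ o ∈ O, d * o = o * d := fun o ho =>
    (Commute.mul_left (hc₁c o ho : Commute c₁ o) (hc₂c o ho)).eq
  have hd2 : d * d = 1 := by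
    rcases hc₁ with e | e <;> rcases hc₂ with e' | e' <;> rw [hd, e, e'] <;> simp [hzz]
  -- hence `(x y) ^ 4 = x ^ 4 y ^ 4 = 1`
  have hsq : (x * y) ^ 2 = x ^ 2 * y ^ 2 * d := by
    calc (x * y) ^ 2 = x * (y * x) * y := by simp only [pow_succ, pow_zero, one_mul, mul_assoc, mul_inv_rev]
      _ = x * (x * y * d) * y := by rw [hyx]
      _ = x * x * y * (d * y) := by group
      _ = x * x * y * (y * d) := by rw [hdc y hy]
      _ = x ^ 2 * y ^ 2 * d := by simp only [pow_succ, pow_zero, one_mul, mul_assoc, mul_inv_rev]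
  have hyx2 : y * x ^ 2 = x ^ 2 * y := by
    calc y * x ^ 2 = y * x * x := by simp only [pow_succ, pow_zero, one_mul, mul_assoc, mul_inv_rev]
      _ = x * y * d * x := by rw [hyx]
      _ = x * y * (d * x) := by group
      _ = x * y * (x * d) := by rw [hdc x hx]
      _ = x * (y * x) * d := by group
      _ = x * (x * y * d) * d := by rw [hyx]
      _ = x * x * y * (d * d) := by group
      _ = x ^ 2 * y := by rw [hd2, mul_one, pow_two]
  have hcm : Commute (x ^ 2) (y ^ 2) := ((show Commute y (x ^ 2) from hyx2).pow_left 2).symm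
  have hxy4 : (x * y) ^ 4 = 1 := by
    have hdm : Commute (x ^ 2 * y ^ 2) d := (hdc _ (mul_mem (pow_mem hx 2) (pow_mem hy 2))).symm
    rw [show 4 = 2 * 2 from rfl, pow_mul, hsq, hdm.mul_pow, hcm.mul_pow, ← pow_mul, ← pow_mul,
      show 2 * 2 = 4 from rfl, hx4, hy4, pow_two d, hd2, hzz, mul_one]
  have hw' : w = (x * y)⁻¹ * c₁ := by rw [← hxyw]; group
  have hcm' : Commute (x * y)⁻¹ c₁ := (show Commute c₁ (x * y) from hc₁c _ hxy).symm.inv_left
  rw [hw', hcm'.mul_pow, inv_pow, hxy4, hc₁4, inv_one, mul_one] at hw4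
  exact hzne hw4.symm

/-- No element of order 16. -/
theorem not_sixteen [Finite G] (hG : Cfsg.IsM12 G) (g : G) : orderOf g ≠ 16 := by
  intro hg
  classical
  have := Fintype.ofFinite G
  have : Fact (Nat.Prime 2) := ⟨Nat.prime_two⟩
  have : Fact (Nat.Prime 3) := ⟨by norm_num⟩
  obtain ⟨R⟩ := exists_rows hG
  have hH := hyp hG R
  set t := g ^ 8 with htdef
  have ht : orderOf t = 2 := by rw [htdef, orderOf_pow' _ (by norm_num), hg]; rfl
  rcases OrderInvol.invol hG ht with hC | hC
  · -- `C(z)`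
    set K := centralizer ({t} : Set G) with hK
    have hKc : Nat.card K = 192 := hC
    obtain ⟨⟨h, hhK⟩, hh⟩ := exists_prime_orderOf_dvd_card' (G := K) 3 (by rw [hKc]; norm_num)
    rw [Subgroup.orderOf_mk] at hh
    obtain ⟨hth, -⟩ := threes_all hG
    have h6 := hth.z_three t h ht hC hh (CU.mem_cent.mp hhK)
    have hgK : g ∈ K := CU.mem_cent.mpr ((Commute.refl g).pow_left 8).eq
    obtain ⟨P⟩ := (inferInstance : Nonempty (Sylow 2 K))
    set N := (P : Subgroup K).normalCore with hN
    have hPc : Nat.card ↥(P : Subgroup K) = 64 := by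
      rw [card_sylow_eq (a := 6) (m := 3) (by rw [hKc]; norm_num) (by norm_num) P]; norm_num
    have hPi : (P : Subgroup K).index = 3 := by
      have h := (P : Subgroup K).card_mul_index
      rw [hPc, hKc] at h
      omega
    have hNi : N.index ∣ 6 := by
      rw [hN, Subgroup.normalCore_eq_ker, Subgroup.index_ker]
      refine (Subgroup.card_subgroup_dvd_card _).trans ?_
      rw [Nat.card_perm, ← Subgroup.index_eq_card, hPi]
      rfl
    -- `g ^ 2` and `t` lie in `N`
    set x : K := ⟨g, hgK⟩ ^ 2 with hxdef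
    have hx : x ∈ N := by
      rw [hxdef, ← QuotientGroup.eq_one_iff, QuotientGroup.mk_pow]
      refine orderOf_dvd_iff_pow_eq_one.mp ?_
      have h1 : orderOf ((⟨g, hgK⟩ : K) : K ⧸ N) ∣ 16 :=
        (orderOf_map_dvd (QuotientGroup.mk' N) _).trans (by rw [Subgroup.orderOf_mk, hg])
      have h2 : orderOf ((⟨g, hgK⟩ : K) : K ⧸ N) ∣ 6 :=
        (show _ ∣ N.index from _root_.orderOf_dvd_natCard _).trans hNi
      have h3 := Nat.dvd_gcd h1 h2
      norm_num at h3
      exact h3
    set O := N.map K.subtype with hO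
    have hOK : O ≤ K := Subgroup.map_subtype_le _
    have hOp : IsPGroup 2 O := (P.2.to_le (Subgroup.normalCore_le _)).map _
    have hxO : g ^ 2 ∈ O := ⟨x, hx, by simp [hxdef]⟩
    have htO : t ∈ O := by
      have := pow_mem hxO 4
      rwa [← pow_mul] at this
    refine no_fourth_root O htO (ht ▸ pow_orderOf_eq_one t)
      (fun e => by rw [e, orderOf_one] at ht; norm_num at ht)
      (fun o ho => CU.mem_cent.mp (hOK ho)) ?_ (hh ▸ pow_orderOf_eq_one h)
      (CU.mem_cent.mp hhK).symm ?_ hxO (by rw [← pow_mul])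
    · rintro _ ⟨o, ho, rfl⟩
      exact ⟨⟨h, hhK⟩ * o * ⟨h, hhK⟩⁻¹, (Subgroup.normalCore_normal _).conj_mem o ho _, by simp⟩
    · intro o ho hho
      by_cases ho1 : o = 1
      · rw [ho1]; exact one_mem _
      have hd : orderOf o ∣ 6 := h6 ▸ orderOf_dvd_inf (CU.mem_cent.mp (hOK ho)) hho
      obtain ⟨i, hi⟩ := hOp ⟨o, ho⟩
      have hd' : orderOf o ∣ 2 ^ i :=
        orderOf_dvd_of_pow_eq_one (by simpa using congrArg Subtype.val hi)
      have h2 : orderOf o ∣ 2 := by
        refine Nat.Coprime.dvd_of_dvd_mul_left (k := orderOf o) (m := 3) (n := 2) ?_ hd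
        exact Nat.Coprime.coprime_dvd_left hd' (Nat.Coprime.pow_left i (by norm_num))
      -- an involution of `C(t, h)`, a cyclic group of order 6
      have ho2 : orderOf o = 2 := ((Nat.dvd_prime Nat.prime_two).mp h2).resolve_left
        (fun e => ho1 (orderOf_eq_one_iff.mp e))
      have hth6 : orderOf (t * h) = 6 := by
        rw [Commute.orderOf_mul_eq_mul_orderOf_of_coprime
          (CU.mem_cent.mp hhK : Commute t h) (by rw [ht, hh]; norm_num), ht, hh]
      have hcyc : zpowers (t * h) =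
          centralizer ({t} : Set G) ⊓ centralizer ({h} : Set G) := by
        refine eq_of_le_of_card_ge (zpowers_le.mpr ⟨CU.mem_cent.mpr ?_, CU.mem_cent.mpr ?_⟩)
          (by rw [h6, Nat.card_zpowers, hth6])
        · exact (Commute.mul_right (Commute.refl t) (CU.mem_cent.mp hhK)).eq
        · exact (Commute.mul_right (CU.mem_cent.mp hhK).symm (Commute.refl h)).eq
      have hom : o ∈ zpowers (t * h) :=
        hcyc ▸ ⟨CU.mem_cent.mpr (CU.mem_cent.mp (hOK ho)), CU.mem_cent.mpr hho⟩
      obtain ⟨k, hk⟩ := mem_zpowers_iff.mp hom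
      refine mem_zpowers_iff.mpr ⟨k, ?_⟩
      have h3 : (t * h) ^ (3 : ℤ) = t := by
        rw [(show Commute t h from CU.mem_cent.mp hhK).mul_zpow, zpow_ofNat, zpow_ofNat,
          show h ^ 3 = 1 from hh ▸ pow_orderOf_eq_one h, mul_one, pow_succ,
          show t ^ 2 = 1 from ht ▸ pow_orderOf_eq_one t, one_mul]
      rw [← h3, ← zpow_mul, mul_comm, zpow_mul, hk, zpow_ofNat, pow_succ,
        show o ^ 2 = 1 from ho2 ▸ pow_orderOf_eq_one o, one_mul]
  · -- `C(u)`: the multiplicity of 1 in the degree 16 row is not an integer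
    obtain ⟨-, -, -, -, -, -, hzero, -⟩ := E_facts hH
    obtain ⟨m, hm⟩ := hH.tools.mult_one _ g (isCharacter_irr R.E)
    have hsum : ∑ k ∈ Finset.range 16, (R.E : G → ℂ) (g ^ k) = 16 + (R.E : G → ℂ) t := by
      have hsub : ({0, 8} : Finset ℕ) ⊆ Finset.range 16 := by decide
      rw [← Finset.sum_subset hsub ?_, Finset.sum_pair (by norm_num), pow_zero, value_one, R.deg_E₁,
        ← htdef]
      · norm_num
      · intro k hk hk'
        simp only [Finset.mem_range] at hk
        simp only [Finset.mem_insert, Finset.mem_singleton, not_or] at hk'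
        refine hzero _ ?_
        rw [orderOf_pow' g hk'.1, hg]
        interval_cases k <;> revert hk' <;> decide
    rw [hg, hsum] at hm
    rcases (hH.inv.u_col t ht hC).2.2 with e | e <;> rw [e] at hm
    · have : ((16 * m : ℕ) : ℂ) = ((20 : ℕ) : ℂ) := by push_cast; linear_combination -1 * hm
      have := Nat.cast_injective this
      omega
    · have : ((16 * m : ℕ) : ℂ) = ((12 : ℕ) : ℂ) := by push_cast; linear_combination -1 * hm
      have := Nat.cast_injective this
      omega

/-- The element orders. -/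
theorem spec_order [Finite G] (hG : Cfsg.IsM12 G) (g : G) :
    orderOf g ∈ ({1, 2, 3, 4, 5, 6, 8, 10, 11} : Finset ℕ) := by
  have := hG.1
  have := Fintype.ofFinite G
  have : Fact (Nat.Prime 5) := ⟨by norm_num⟩
  have hd : orderOf g ∣ 95040 := hG.2 ▸ _root_.orderOf_dvd_natCard g
  have hpow : ∀ d : ℕ, d ∣ orderOf g → d ≠ 0 → orderOf (g ^ (orderOf g / d)) = d := fun d hd' _ =>
    orderOf_pow_orderOf_div (orderOf_pos g).ne' hd'
  have h5 : 5 ∣ orderOf g → orderOf g ∣ 10 := fun h => by
    have hq := hpow 5 h (by norm_num)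
    have hdv : orderOf g ∣ cC (g ^ (orderOf g / 5)) := Subgroup.orderOf_dvd_natCard
      (centralizer ({g ^ (orderOf g / 5)} : Set G)) (CU.mem_cent.mpr ((Commute.refl g).pow_left _).eq)
    rwa [(OrderFive.five_data hG).1 _ hq] at hdv
  have h11 : 11 ∣ orderOf g → orderOf g ∣ 11 := fun h => by
    have hx := hpow 11 h (by norm_num)
    have hle := centralizer_le_of_eleven hG.2 (OrderEleven.sylow11_normalizer hG) hx
      (CU.mem_cent.mpr ((Commute.refl g).pow_left _).eq)
    have := Subgroup.orderOf_dvd_natCard _ hle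
    rwa [Nat.card_zpowers, hx] at this
  have h9 : ¬ 9 ∣ orderOf g := fun h => (threes_all hG).2.1 _ (hpow 9 h (by norm_num))
  have h12 : ¬ 12 ∣ orderOf g := fun h => not_twelve hG _ (hpow 12 h (by norm_num))
  have h16 : ¬ 16 ∣ orderOf g := fun h => not_sixteen hG _ (hpow 16 h (by norm_num))
  by_cases hd5 : 5 ∣ orderOf g
  · exact ten_check _ (Nat.mem_divisors.mpr ⟨h5 hd5, by norm_num⟩)
  by_cases hd11 : 11 ∣ orderOf g
  · have h : orderOf g = 11 := Nat.dvd_antisymm (h11 hd11) hd11
    rw [h]; decide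
  have hd' : orderOf g ∣ 1728 := by
    refine Nat.Coprime.dvd_of_dvd_mul_right (k := orderOf g) (n := 55) ?_ hd
    rw [show (55 : ℕ) = 5 * 11 by norm_num]
    exact Nat.Coprime.mul_right
      ((Nat.Prime.coprime_iff_not_dvd (by norm_num)).mpr hd5).symm
      ((Nat.Prime.coprime_iff_not_dvd (by norm_num)).mpr hd11).symm
  exact small_check _ (Nat.mem_divisors.mpr ⟨hd', by norm_num⟩) h9 h12 h16
where
  ten_check : ∀ n ∈ (10 : ℕ).divisors, n ∈ ({1, 2, 3, 4, 5, 6, 8, 10, 11} : Finset ℕ) := by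
    decide
  small_check : ∀ n ∈ (1728 : ℕ).divisors, ¬ 9 ∣ n → ¬ 12 ∣ n → ¬ 16 ∣ n →
      n ∈ ({1, 2, 3, 4, 5, 6, 8, 10, 11} : Finset ℕ) := by
    decide +kernel

end Cfsg.Agent.M12Uniq.OrderRest
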