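import Cfsg.Agent.M12Uniq.OrderRestInvol

/-!
# One class of elements of order 3 with centraliser of order 54, none of order 72

Orthogonality certificates on the columns of the principal 11-block: for pairwise non-conjugate
`w i` and scalars `c i`, `∑ χ, |∑ i, c i χ(w i)|² = ∑ i, |c i|² C(w i)`.
-/

set_option autoImplicit false
set_option linter.unusedSectionVars false

open scoped ComplexConjugate

namespace Cfsg.Agent.M12Uniq.OrderRest

open Subgroup
open Cfsg.Agent.SmallGroups
open Cfsg.Agent.SmallGroups.SelfCent.Setup (deg deg_spec triv deg_triv)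

universe u

variable {G : Type u} [Group G] [Fintype G]

/-- The certificate inequality. -/
theorem cert_le {n : ℕ} (w : Fin n → G) (hw : ∀ i j, i ≠ j → ¬ IsConj (w i) (w j)) (c : Fin n → ℂ)
    (l : List (Cfsg.IrrCharacter G)) (hl : l.Nodup) :
    (l.map fun χ : Cfsg.IrrCharacter G =>
      Complex.normSq (∑ i, c i * (χ : G → ℂ) (w i))).sum ≤
      ∑ i, Complex.normSq (c i) * (cC (w i) : ℝ) := by
  classical
  have h : ∑ χ : Cfsg.IrrCharacter G, Complex.normSq (∑ i, c i * (χ : G → ℂ) (w i)) =
      ∑ i, Complex.normSq (c i) * (cC (w i) : ℝ) := by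
    apply Complex.ofReal_injective
    push_cast
    simp only [← Complex.mul_conj, map_sum, map_mul, Finset.sum_mul, Finset.mul_sum]
    rw [Finset.sum_comm]
    refine Finset.sum_congr rfl fun i _ => ?_
    rw [Finset.sum_comm]
    have key : ∀ j, ∑ χ : Cfsg.IrrCharacter G,
        c j * (χ : G → ℂ) (w j) * (conj (c i) * conj ((χ : G → ℂ) (w i))) =
        c j * conj (c i) * if IsConj (w j) (w i) then (cC (w j) : ℂ) else 0 := by
      intro j
      have h := CharCore.sum_apply_mul_conj (w j) (w i)
      rw [show (cC (w j) : ℂ) = (Nat.card (centralizer ({w j} : Set G)) : ℂ) from rfl, ← h,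
        Finset.mul_sum]
      exact Finset.sum_congr rfl fun χ _ => by ring
    simp only [key]
    rw [Finset.sum_eq_single i (fun j _ hj => by rw [if_neg (hw j i hj), mul_zero])
      (fun h => absurd (Finset.mem_univ i) h), if_pos (IsConj.refl _)]
  rw [← List.sum_toFinset _ hl, ← h]
  exact Finset.sum_le_univ_sum_of_nonneg fun χ => Complex.normSq_nonneg _

theorem not_isConj_of_orderOf {a b : G} (h : orderOf a ≠ orderOf b) : ¬ IsConj a b := fun hc => by
  obtain ⟨g, rfl⟩ := isConj_iff.mp hc
  exact h (by rw [← MulAut.conj_apply, MulEquiv.orderOf_eq])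

theorem triv_apply (g : G) : ((triv : Cfsg.IrrCharacter G) : G → ℂ) g = 1 := by
  simp [triv]

theorem cC_one (hG : Cfsg.IsM12 G) : cC (1 : G) = 95040 := by
  have : centralizer ({(1 : G)} : Set G) = ⊤ :=
    eq_top_iff.mpr fun x _ => mem_centralizer_singleton_iff.mpr (by rw [one_mul, mul_one])
  rw [cC, this, card_top, hG.2]

/-- The remaining values from the relation. -/
theorem B_value (R : Rows G) {g : G} (hg : orderOf g ≠ 11) :
    (R.B : G → ℂ) g = 1 + (R.A : G → ℂ) g - (R.C : G → ℂ) g + (R.D : G → ℂ) g -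
      (R.E : G → ℂ) g := by
  have h := R.block.rel g hg
  rw [R.degs, R.cs_eq] at h
  simp only [List.map_cons, List.map_nil, List.sum_cons, List.sum_nil, add_zero, R.deg_A, R.deg_B,
    R.deg_C, R.deg_D] at h
  rw [show excSign [45, 54, 120, 144] = 1 by decide, show sgn 45 = 1 by decide,
    show sgn 54 = -1 by decide, show sgn 120 = -1 by decide, show sgn 144 = 1 by decide] at h
  push_cast at h
  linear_combination -1 * h

theorem list_nodup (R : Rows G) :
    [triv, R.block.f₁, R.block.f₂, R.A, R.B, R.C, R.D].Nodup := by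
  have h := R.block.nodup
  rwa [R.cs_eq] at h

/-- No element of order 3 has a centraliser of order 72; so the orders are 9, 18, 36 or 54. -/
theorem cC_three_cases_of (hG : Cfsg.IsM12 G) (R : Rows G) (hT : ThreeCols R) {w : G}
    (hw : orderOf w = 3) : cC w ∈ ({9, 18, 36, 54} : Finset ℕ) := by
  rcases hT.cols w hw with h | h | h | ⟨h72, hA, hC, hD, hE⟩ | ⟨h, -⟩
  · rw [h.1]; decide
  · rw [h.1]; decide
  · rw [h.1]; decide
  · exfalso
    obtain ⟨u, hu, huC⟩ := OrderInvol.exists_u hG
    obtain ⟨e, he, uA, uB, uC, uD, uE⟩ := u_column hG R hu huC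
    have hw11 : orderOf w ≠ 11 := by omega
    have hB := B_value R hw11
    rw [hA, hC, hD, hE] at hB
    norm_num at hB
    have hE₂ := (R.block.eq_f w hw11).trans hE
    have uE₂ := (R.block.eq_f u (by omega)).trans uE
    have hne : ∀ i j : Fin 3, i ≠ j → ¬ IsConj (![1, u, w] i) (![1, u, w] j) := fun i j hij => by
      apply not_isConj_of_orderOf
      fin_cases i <;> fin_cases j <;>
        first | exact absurd rfl hij | simp [hu, hw]
    rcases he with rfl | rfl
    · have h := cert_le ![1, u, w] hne ![-21, -363, 869] _ (list_nodup R)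
      simp only [List.map_cons, List.map_nil, List.sum_cons, List.sum_nil, Fin.sum_univ_three,
        Matrix.cons_val_zero, Matrix.cons_val_one, Matrix.cons_val_two, Matrix.head_cons,
        Matrix.tail_cons, triv_apply, (deg_spec _).2.2, deg_triv, R.deg_A, R.deg_B, R.deg_C,
        R.deg_D, R.deg_E₁, R.deg_E₂, hA, hB, hC, hD, hE, hE₂, uA, uB, uC, uD, uE, uE₂,
        cC_one hG, huC, h72] at h
      norm_num [Complex.normSq_apply] at h
    · have h := cert_le ![1, u, w] hne ![-317, 9009, 20042] _ (list_nodup R)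
      simp only [List.map_cons, List.map_nil, List.sum_cons, List.sum_nil, Fin.sum_univ_three,
        Matrix.cons_val_zero, Matrix.cons_val_one, Matrix.cons_val_two, Matrix.head_cons,
        Matrix.tail_cons, triv_apply, (deg_spec _).2.2, deg_triv, R.deg_A, R.deg_B, R.deg_C,
        R.deg_D, R.deg_E₁, R.deg_E₂, hA, hB, hC, hD, hE, hE₂, uA, uB, uC, uD, uE, uE₂,
        cC_one hG, huC, h72] at h
      norm_num [Complex.normSq_apply] at h
  · rcases h with h | h <;> rw [h] <;> decide

/-- The elements of order 3 with a centraliser of order 54 are conjugate. -/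
theorem three_conj_54_of (hG : Cfsg.IsM12 G) (R : Rows G) (hT : ThreeCols R) {v w : G}
    (hv : orderOf v = 3) (hw : orderOf w = 3) (hvC : cC v = 54) (hwC : cC w = 54) :
    IsConj v w := by
  by_contra hne'
  have := hG.1
  have col : ∀ x : G, orderOf x = 3 → cC x = 54 →
      (R.A : G → ℂ) x = 0 ∧ (R.B : G → ℂ) x = 0 ∧ (R.C : G → ℂ) x = 3 ∧ (R.D : G → ℂ) x = 0 ∧
        (R.E : G → ℂ) x = -2 ∧ (R.block.f₂ : G → ℂ) x = -2 := by
    intro x hx hxC
    have hx11 : orderOf x ≠ 11 := by omega
    rcases hT.cols x hx with ⟨-, hA, hC, hD, hE⟩ | h | h | h | ⟨h, -⟩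
    · refine ⟨hA, ?_, hC, hD, hE, (R.block.eq_f x hx11).trans hE⟩
      rw [B_value R hx11, hA, hC, hD, hE]
      norm_num
    all_goals omega
  obtain ⟨vA, vB, vC, vD, vE, vE₂⟩ := col v hv hvC
  obtain ⟨wA, wB, wC, wD, wE, wE₂⟩ := col w hw hwC
  obtain ⟨z, hz, hzC⟩ := OrderInvol.exists_z hG
  obtain ⟨a, b, c, d, hcs⟩ := R.block.exists_four
  obtain ⟨-, zA, zB, zC, zD, zE⟩ :=
    (OrderInvol.invol_column hG R.block R.degs R.cs_eq hz).resolve_left (by omega)
  have zE₂ := (R.block.eq_f z (by omega)).trans zE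
  have hne : ∀ i j : Fin 4, i ≠ j → ¬ IsConj (![1, z, v, w] i) (![1, z, v, w] j) := fun i j hij => by
    fin_cases i <;> fin_cases j <;>
      first
      | exact absurd rfl hij
      | exact hne'
      | exact fun h => hne' h.symm
      | (apply not_isConj_of_orderOf; simp [hz, hv, hw])
  have h := cert_le ![1, z, v, w] hne ![239, -8415, 12232, 9768] _ (list_nodup R)
  simp only [List.map_cons, List.map_nil, List.sum_cons, List.sum_nil, Fin.sum_univ_four,
    Matrix.cons_val_zero, Matrix.cons_val_one, Matrix.cons_val_two, Matrix.cons_val_three,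
    Matrix.head_cons, Matrix.tail_cons, triv_apply, (deg_spec _).2.2, deg_triv, R.deg_A, R.deg_B,
    R.deg_C, R.deg_D, R.deg_E₁, R.deg_E₂, vA, vB, vC, vD, vE, vE₂, wA, wB, wC, wD, wE, wE₂, zA, zB,
    zC, zD, zE, zE₂, cC_one hG, hzC, hvC, hwC] at h
  norm_num [Complex.normSq_apply] at h

end Cfsg.Agent.M12Uniq.OrderRest
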